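import Cfsg.Agent.Invol.StrongEmbedded
import Cfsg.Agent.Invol.Isolated
import Cfsg.Agent.BlocksB.RankOneInvolution.Tools
import Mathlib.GroupTheory.QuotientGroup.Basic

/-!
# A subgroup with the Held fusion pattern containing `C(t)` is everything

`G` is a finite group, `H` a subgroup containing the centralizer of the involution `t`,
and `u, u'` are involutions of `H` of the other class, whose four group has the local structure
found in the Held group. Then `H = ⊤`.
-/

set_option autoImplicit false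
set_option linter.style.haveILetI false

namespace CfsgLib.HeldEnd

open Subgroup

variable {G : Type*} [Group G]

/-- What is used about `H`, `t` and the four group `⟨u, u'⟩`. -/
structure Facts (H : Subgroup G) (t u u' : G) : Prop where
  ht : orderOf t = 2
  hu : orderOf u = 2
  hu' : orderOf u' = 2
  le : centralizer ({t} : Set G) ≤ H
  memu : u ∈ H
  memu' : u' ∈ H
  tu : Commute t u
  tu' : Commute t u'
  uu' : Commute u u'
  ne : u' ≠ u
  tnu : ¬ IsConj t u
  tnu' : ¬ IsConj t u'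
  tnuu' : ¬ IsConj t (u * u')
  tntu : ¬ IsConj t (t * u)
  ttu' : IsConj t (t * u')
  ttuu' : IsConj t (t * (u * u'))
  classes : ∀ x ∈ H, orderOf x = 2 → (∃ h ∈ H, h * t * h⁻¹ = x) ∨ ∃ h ∈ H, h * u * h⁻¹ = x
  stable : ∀ g ∈ H, Commute g u → g * u' * g⁻¹ = u' ∨ g * u' * g⁻¹ = u * u'
  meet : ∀ x ∈ H, orderOf x = 2 → Commute x u →
    ∃ k ∈ H, Commute k u ∧ Commute x (k * t * k⁻¹)
  pair : ∀ x ∈ H, orderOf x = 2 → Commute x t → Commute x u → IsConj t (t * x) →
    IsConj t x ∨ IsConj t (x * u) ∨ x = u' ∨ x = u * u'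
  coset : ∀ x ∈ H, Commute x u → Commute x u' → x ∉ closure ({u, u'} : Set G) →
    x * x ∈ closure ({u, u'} : Set G) → ∃ e ∈ closure ({u, u'} : Set G), IsConj t (x * e)
  cardH : Nat.card ↥(H ⊓ centralizer ({u, u'} : Set G)) = 80640
  cardT : Nat.card ↥(centralizer ({t} : Set G) ⊓ centralizer ({u, u'} : Set G)) = 256
  exL : ∃ L : Subgroup G, L ≤ H ⊓ centralizer ({u, u'} : Set G) ∧
    closure ({u, u'} : Set G) ≤ L ∧ Nat.card L = 3840 ∧
    ∀ x ∈ L, x ^ 15 ∈ closure ({u, u'} : Set G) →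
      x ^ 3 ∈ closure ({u, u'} : Set G) ∨ x ^ 5 ∈ closure ({u, u'} : Set G)

/-- The four elements of the subgroup generated by two commuting involutions. -/
theorem mem_four {u v : G} (hu : u * u = 1) (hv : v * v = 1) (h : Commute u v) {x : G} :
    x ∈ closure ({u, v} : Set G) ↔ x = 1 ∨ x = u ∨ x = v ∨ x = u * v := by
  constructor
  · intro hx
    induction hx using closure_induction with
    | mem y hy => rcases hy with rfl | rfl <;> simp
    | one => simp
    | mul y z _ _ hy hz =>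
      have h1 : v * u = u * v := h.eq.symm
      have h2 : u * (u * v) = v := by rw [← mul_assoc, hu, one_mul]
      have h3 : v * (u * v) = u := by rw [← mul_assoc, h1, mul_assoc, hv, mul_one]
      have h4 : u * v * u = v := by rw [mul_assoc, h1, h2]
      have h5 : u * v * v = u := by rw [mul_assoc, hv, mul_one]
      have h6 : u * v * (u * v) = 1 := by rw [← mul_assoc, h4, hv]
      rcases hy with rfl | rfl | rfl | rfl <;> rcases hz with rfl | rfl | rfl | rfl <;>
        simp [hu, hv, h1, h2, h3, h4, h5, h6]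
    | inv y _ hy =>
      have h1 : u⁻¹ = u := inv_eq_of_mul_eq_one_right hu
      have h2 : v⁻¹ = v := inv_eq_of_mul_eq_one_right hv
      rcases hy with rfl | rfl | rfl | rfl <;> simp [mul_inv_rev, h1, h2, h.eq]
  · have h1 : u ∈ closure ({u, v} : Set G) := subset_closure (by simp)
    have h2 : v ∈ closure ({u, v} : Set G) := subset_closure (by simp)
    rintro (rfl | rfl | rfl | rfl)
    exacts [one_mem _, h1, h2, mul_mem h1 h2]

theorem card_four {u v : G} (hu : u * u = 1) (hv : v * v = 1) (h : Commute u v) (hu1 : u ≠ 1)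
    (hv1 : v ≠ 1) (hne : v ≠ u) : Nat.card ↥(closure ({u, v} : Set G)) = 4 := by
  classical
  have he : (closure ({u, v} : Set G) : Set G) = (({1, u, v, u * v} : Finset G) : Set G) := by
    ext x
    simp [mem_four hu hv h]
  show Nat.card ↥(closure ({u, v} : Set G) : Set G) = 4
  rw [he, Nat.card_coe_set_eq, Set.ncard_coe_finset]
  have n1 : u * v ≠ 1 := fun e => hne (by
    rw [← inv_eq_of_mul_eq_one_right hu]; exact (inv_eq_of_mul_eq_one_right e).symm)
  have n2 : u * v ≠ u := fun e => hv1 (mul_left_cancel (e.trans (mul_one u).symm))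
  have n3 : u * v ≠ v := fun e => hu1 (mul_right_cancel (e.trans (one_mul v).symm))
  simp [Finset.card_insert_of_notMem, hu1.symm, hv1.symm, n1.symm, hne.symm, n2.symm, n3.symm]

theorem card_map_mk [Finite G] (N : Subgroup G) [N.Normal] {M : Subgroup G} (h : N ≤ M) :
    Nat.card ↥(M.map (QuotientGroup.mk' N)) * Nat.card N = Nat.card M := by
  let f := (QuotientGroup.mk' N).comp M.subtype
  have hr : f.range = M.map (QuotientGroup.mk' N) := by
    rw [MonoidHom.range_comp, Subgroup.range_subtype]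
  have hk : Nat.card f.ker = Nat.card N := by
    have e : f.ker = N.subgroupOf M := by ext x; simp [f, mem_subgroupOf]
    rw [e]
    exact Nat.card_congr (subgroupOfEquivOfLe h).toEquiv
  rw [← hr, ← hk, Subgroup.card_eq_card_quotient_mul_card_subgroup f.ker,
    Nat.card_congr (QuotientGroup.quotientKerEquivRange f).toEquiv]

theorem card_subgroupOf_eq (A K : Subgroup G) : Nat.card ↥(A.subgroupOf K) = Nat.card ↥(A ⊓ K) := by
  rw [← inf_subgroupOf_right]
  exact Nat.card_congr (subgroupOfEquivOfLe inf_le_right).toEquiv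

variable {H : Subgroup G} {t u u' : G}

theorem mem_cent {x : G} : x ∈ centralizer ({t} : Set G) ↔ Commute x t := by
  rw [mem_centralizer_iff]
  simp only [Set.mem_singleton_iff, forall_eq]
  exact ⟨fun h => h.symm, fun h => h.symm⟩

theorem mem_cent_pair {x : G} :
    x ∈ centralizer ({u, u'} : Set G) ↔ Commute x u ∧ Commute x u' := by
  rw [mem_centralizer_iff]
  simp only [Set.mem_insert_iff, Set.mem_singleton_iff, forall_eq_or_imp, forall_eq]
  exact ⟨fun h => ⟨h.1.symm, h.2.symm⟩, fun h => ⟨h.1.symm, h.2.symm⟩⟩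

namespace Facts

variable (F : Facts H t u u')

include F

theorem memt : t ∈ H := F.le (mem_cent.2 (Commute.refl t))

theorem mem_of_commute_t {y : G} (h : Commute y t) : y ∈ H := F.le (mem_cent.2 h)

/-- `H` controls fusion of `t`. -/
theorem mem_of_conj {g : G} (h : g * t * g⁻¹ ∈ H) : g ∈ H := by
  rcases F.classes _ h (by rw [Invol.orderOf_conj_eq, F.ht]) with ⟨k, hk, e⟩ | ⟨k, hk, e⟩
  · have h1 : (k⁻¹ * g) * t * (k⁻¹ * g)⁻¹ = t := by
      rw [show (k⁻¹ * g) * t * (k⁻¹ * g)⁻¹ = k⁻¹ * (g * t * g⁻¹) * k by group, ← e]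
      group
    have h2 := F.mem_of_commute_t (y := k⁻¹ * g) (mul_inv_eq_iff_eq_mul.1 h1)
    simpa using mul_mem hk h2
  · refine absurd (isConj_iff.2 ⟨k⁻¹ * g, ?_⟩) F.tnu
    rw [show (k⁻¹ * g) * t * (k⁻¹ * g)⁻¹ = k⁻¹ * (g * t * g⁻¹) * k by group, ← e]
    group

theorem cent_le {x y : G} (hx : x ∈ H) (hc : IsConj t x) (h : Commute y x) : y ∈ H := by
  obtain ⟨g, rfl⟩ := isConj_iff.1 hc
  have hg := F.mem_of_conj hx
  have h1 : g⁻¹ * y * g ∈ H := F.mem_of_commute_t (by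
    show (g⁻¹ * y * g) * t = t * (g⁻¹ * y * g)
    have e := h.eq
    calc (g⁻¹ * y * g) * t = g⁻¹ * (y * (g * t * g⁻¹)) * g := by group
      _ = g⁻¹ * ((g * t * g⁻¹) * y) * g := by rw [e]
      _ = t * (g⁻¹ * y * g) := by group)
  simpa [mul_assoc] using mul_mem (mul_mem hg h1) (inv_mem hg)

theorem u_sq : u * u = 1 := Invol.mul_self_eq_one F.hu

theorem u'_sq : u' * u' = 1 := Invol.mul_self_eq_one F.hu'

theorem four_le : closure ({u, u'} : Set G) ≤ H := by
  rw [closure_le]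
  rintro x (rfl | rfl)
  exacts [F.memu, F.memu']

theorem not_isConj_four {e : G} (he : e ∈ closure ({u, u'} : Set G)) (he1 : e ≠ 1) :
    ¬ IsConj t e := by
  rcases (mem_four F.u_sq F.u'_sq F.uu').1 he with rfl | rfl | rfl | rfl
  exacts [absurd rfl he1, F.tnu, F.tnu', F.tnuu']

/-- An element of the centralizer of the four group fixing the coset of `t` fixes `t`. -/
theorem commute_of_coset {x : G} (hu : Commute x u) (hu' : Commute x u')
    (h : t⁻¹ * (x * t * x⁻¹) ∈ closure ({u, u'} : Set G)) : Commute x t := by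
  have hxu : x * u * x⁻¹ = u := mul_inv_eq_iff_eq_mul.2 hu.eq
  have key : ∀ e, x * t * x⁻¹ = t * e → x * (t * u) * x⁻¹ = t * (e * u) := fun e h => by
    rw [show x * (t * u) * x⁻¹ = (x * t * x⁻¹) * (x * u * x⁻¹) by group, h, hxu, mul_assoc]
  have hc : ∀ e, t⁻¹ * (x * t * x⁻¹) = e → x * t * x⁻¹ = t * e := fun e h => by
    rw [← h]; group
  rcases (mem_four F.u_sq F.u'_sq F.uu').1 h with h | h | h | h
  · exact mul_inv_eq_iff_eq_mul.1 (inv_mul_eq_one.1 h).symm
  · exact absurd (isConj_iff.2 ⟨x, hc _ h⟩) F.tntu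
  · refine absurd (F.ttuu'.trans (isConj_iff.2 ⟨x⁻¹, ?_⟩)) F.tntu
    rw [F.uu'.eq, ← key _ (hc _ h)]
    group
  · refine absurd (F.ttu'.trans (isConj_iff.2 ⟨x⁻¹, ?_⟩)) F.tntu
    have e : t * u' = t * (u * u' * u) := by
      rw [F.uu'.eq, mul_assoc u' u u, F.u_sq, mul_one]
    rw [e, ← key _ (hc _ h)]
    group

variable [Finite G]

/-- The centralizer of the four group lies in `H`. -/
theorem cent_four_le : centralizer ({u, u'} : Set G) ≤ H := by
  by_contra hnot
  set K := centralizer ({u, u'} : Set G) with hK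
  set V := closure ({u, u'} : Set G) with hV
  have hmemV : ∀ x, x ∈ V ↔ x = 1 ∨ x = u ∨ x = u' ∨ x = u * u' := fun x =>
    mem_four F.u_sq F.u'_sq F.uu'
  have hVK : V ≤ K := by
    rw [hV, closure_le]
    rintro x (rfl | rfl)
    exacts [mem_cent_pair.2 ⟨Commute.refl _, F.uu'⟩, mem_cent_pair.2 ⟨F.uu'.symm, Commute.refl _⟩]
  have hcent : ∀ x ∈ K, ∀ e ∈ V, Commute x e := by
    intro x hx e he
    obtain ⟨h1, h2⟩ := mem_cent_pair.1 hx
    rcases (hmemV e).1 he with rfl | rfl | rfl | rfl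
    exacts [Commute.one_right x, h1, h2, h1.mul_right h2]
  let N : Subgroup K := V.subgroupOf K
  haveI : N.Normal := ⟨fun n hn g => by
    have h : g * n * g⁻¹ = n :=
      mul_inv_eq_iff_eq_mul.2 (Subtype.ext (hcent g g.2 n (mem_subgroupOf.1 hn)).eq)
    rwa [h]⟩
  have hVH : V ≤ H := F.four_le
  let π := QuotientGroup.mk' N
  let M : Subgroup K := H.subgroupOf K
  let Y := M.map π
  have hNM : N ≤ M := fun x hx => mem_subgroupOf.2 (hVH (mem_subgroupOf.1 hx))
  have hYc : Y.comap π = M := by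
    rw [comap_map_eq_self]
    rwa [QuotientGroup.ker_mk']
  have hYmem : ∀ a : K, π a ∈ Y ↔ (a : G) ∈ H := fun a => by
    rw [← mem_comap, hYc]
    exact mem_subgroupOf
  have hYne : Y ≠ ⊤ := fun h => hnot fun x hx => (hYmem ⟨x, hx⟩).1 (h ▸ mem_top _)
  have hN4 : Nat.card N = 4 := by
    rw [card_subgroupOf_eq, inf_eq_left.2 hVK]
    exact card_four F.u_sq F.u'_sq F.uu' (Invol.ne_one F.hu) (Invol.ne_one F.hu') F.ne
  have htK : t ∈ K := mem_cent_pair.2 ⟨F.tu, F.tu'⟩
  have hmk : ∀ a : K, π a = 1 ↔ (a : G) ∈ V := fun a =>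
    (QuotientGroup.eq_one_iff a).trans mem_subgroupOf
  let tb := π ⟨t, htK⟩
  have htY : tb ∈ Y := (hYmem _).2 F.memt
  have htV : t ∉ V := fun h =>
    F.not_isConj_four h (Invol.ne_one F.ht) (IsConj.refl t)
  have htb : orderOf tb = 2 := by
    refine Invol.orderOf_eq_two ?_ fun h => htV ((hmk _).1 h)
    rw [← map_mul, hmk]
    show t * t ∈ V
    rw [Invol.mul_self_eq_one F.ht]
    exact one_mem V
  have hSE : Cfsg.IsStronglyEmbedded Y := by
    refine ⟨hYne, even_iff_two_dvd.2 (htb ▸ orderOf_dvd_natCard Y htY), fun g hg => ?_⟩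
    by_contra hev
    haveI : Fact (Nat.Prime 2) := ⟨Nat.prime_two⟩
    obtain ⟨a, ha⟩ := exists_prime_orderOf_dvd_card' 2
      (even_iff_two_dvd.1 (Nat.not_odd_iff_even.1 hev))
    rw [← Subgroup.orderOf_coe] at ha
    obtain ⟨haY, hag⟩ := StrongEmbed.mem_inf_conj_iff.1 a.2
    obtain ⟨a₀, ha₀⟩ := QuotientGroup.mk'_surjective N (a : K ⧸ N)
    obtain ⟨g₀, rfl⟩ := QuotientGroup.mk'_surjective N g
    rw [← ha₀] at ha haY hag
    have haV : (a₀ : G) ∉ V := fun h => by
      rw [(hmk a₀).2 h] at ha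
      simp at ha
    have ha2 : (a₀ : G) * a₀ ∈ V := by
      have := Invol.mul_self_eq_one ha
      rwa [← map_mul, hmk] at this
    obtain ⟨ha₁, ha₁'⟩ := mem_cent_pair.1 a₀.2
    have haH : (a₀ : G) ∈ H := (hYmem a₀).1 haY
    obtain ⟨e, he, hc⟩ := F.coset _ haH ha₁ ha₁' haV ha2
    have hgaH : (g₀ : G)⁻¹ * a₀ * g₀ ∈ H := by
      rw [← map_inv, ← map_mul, ← map_mul, hYmem] at hag
      simpa using hag
    obtain ⟨k, hk⟩ := isConj_iff.1 hc
    have hkH : k ∈ H := F.mem_of_conj (hk ▸ mul_mem haH (hVH he))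
    have hgk : (g₀ : G)⁻¹ * k ∈ H := F.mem_of_conj (by
      rw [show ((g₀ : G)⁻¹ * k) * t * ((g₀ : G)⁻¹ * k)⁻¹ = (g₀ : G)⁻¹ * (k * t * k⁻¹) * g₀ by
        group, hk, show (g₀ : G)⁻¹ * ((a₀ : G) * e) * g₀ =
          ((g₀ : G)⁻¹ * a₀ * g₀) * ((g₀ : G)⁻¹ * e * g₀) by group]
      refine mul_mem hgaH ?_
      rw [mul_assoc, ← (hcent g₀ g₀.2 e he).eq, inv_mul_cancel_left]
      exact hVH he)
    refine hg ((hYmem g₀).2 ?_)
    simpa using mul_mem hkH (inv_mem hgk)
  obtain ⟨g, -, hgY⟩ := SetLike.exists_of_lt (lt_top_iff_ne_top.2 hYne)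
  set k := g * tb * g⁻¹ with hk
  have hk2 : orderOf k = 2 := by rw [hk, Invol.orderOf_conj_eq, htb]
  have hkY : k ∉ Y := fun h => hgY (by
    have := StrongEmbed.mem_of_conj_mem hSE htY htb (g := g⁻¹) (by rwa [inv_inv])
    simpa using this)
  set D := Y ⊓ Y.map (MulAut.conj k).toMonoidHom with hD
  have hDodd : Odd (Nat.card D) := hSE.2.2 k hkY
  let C := ((centralizer ({t} : Set G)).subgroupOf K).map π
  have hVT : V ≤ centralizer ({t} : Set G) := fun e he =>
    mem_cent.2 (hcent t htK e he).symm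
  have hC : Nat.card C * 4 = 256 := by
    rw [← hN4, card_map_mk N fun x hx => mem_subgroupOf.2 (hVT (mem_subgroupOf.1 hx)),
      card_subgroupOf_eq]
    exact F.cardT
  have hY : Nat.card Y * 4 = 80640 := by
    rw [← hN4, card_map_mk N hNM, card_subgroupOf_eq]
    exact F.cardH
  have hDC : Nat.card Y ≤ Nat.card D * Nat.card C := by
    rw [← Nat.card_prod]
    have hmul : ∀ y : Y, ∃ p : D × C, (p.1 : K ⧸ N) * p.2 = y := by
      rintro ⟨y, hy⟩
      obtain ⟨d, hd, hde⟩ := StrongEmbed.exists_conj_in_stabilizer hSE hk2 hkY htb htY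
        (t := y * tb * y⁻¹) (by rw [Invol.orderOf_conj_eq, htb])
        (mul_mem (mul_mem hy htY) (inv_mem hy))
      obtain ⟨w, hw⟩ := QuotientGroup.mk'_surjective N (d⁻¹ * y)
      refine ⟨(⟨d, hd⟩, ⟨d⁻¹ * y, hw ▸ mem_map_of_mem π (mem_subgroupOf.2 (mem_cent.2 ?_))⟩), by simp⟩
      have hcomm : π w * tb * (π w)⁻¹ = tb := by
        rw [hw, show (d⁻¹ * y) * tb * (d⁻¹ * y)⁻¹ = d⁻¹ * (y * tb * y⁻¹) * d by group, ← hde]
        group
      rw [← map_inv, ← map_mul, ← map_mul] at hcomm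
      obtain ⟨hw1, hw2⟩ := mem_cent_pair.1 w.2
      refine F.commute_of_coset hw1 hw2 ?_
      have := mem_subgroupOf.1 (QuotientGroup.eq.1 hcomm.symm)
      simpa using this
    choose p hp using hmul
    exact Nat.card_le_card_of_injective p fun a b h => Subtype.ext (by rw [← hp a, ← hp b, h])
  have hC64 : Nat.card C = 64 := by omega
  have hY' : Nat.card Y = 20160 := by omega
  rw [hC64, hY'] at hDC
  have hD20160 : Nat.card D ∣ 64 * 315 := by
    rw [show 64 * 315 = 20160 from rfl, ← hY']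
    exact card_dvd_of_le inf_le_left
  have hD315 : Nat.card D = 315 := by
    have hcop : (Nat.card D).Coprime 64 := by
      rw [show 64 = 2 ^ 6 from rfl]
      exact Nat.Coprime.pow_right _ (Nat.coprime_two_right.2 hDodd)
    exact le_antisymm (Nat.le_of_dvd (by norm_num) (hcop.dvd_of_dvd_mul_left hD20160)) (by omega)
  obtain ⟨L, hLle, hVL, hLcard, hLx⟩ := F.exL
  let Lb := (L.subgroupOf K).map π
  have hLb : Nat.card Lb * 4 = 3840 := by
    rw [← hN4, card_map_mk N fun x hx => mem_subgroupOf.2 (hVL (mem_subgroupOf.1 hx)),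
      card_subgroupOf_eq, inf_eq_left.2 (hLle.trans inf_le_right)]
    exact hLcard
  have hLY : Lb ≤ Y := map_mono fun x hx =>
    mem_subgroupOf.2 (hLle.trans inf_le_left (mem_subgroupOf.1 hx))
  have hrel : Lb.relIndex Y = 21 := by
    have h := (Lb.subgroupOf Y).card_mul_index
    rw [card_subgroupOf_eq, inf_eq_left.2 hLY, hY'] at h
    rw [Subgroup.relIndex]
    have : Nat.card Lb = 960 := by omega
    rw [this] at h
    omega
  have hrelD : Lb.relIndex D ≤ 21 :=
    hrel ▸ relIndex_le_of_le_right inf_le_left (by rw [hrel]; norm_num)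
  have hE := (Lb.subgroupOf D).card_mul_index
  rw [card_subgroupOf_eq, hD315] at hE
  have hE1 : Nat.card ↥(Lb ⊓ D) ∣ 315 := Dvd.intro _ hE
  have hE2 : Nat.card ↥(Lb ⊓ D) ∣ 960 := by
    rw [show 960 = Nat.card Lb by omega]
    exact card_dvd_of_le inf_le_left
  have hE15 : Nat.card ↥(Lb ⊓ D) ∣ 15 := Nat.dvd_gcd hE1 hE2
  have hEge : 15 ≤ Nat.card ↥(Lb ⊓ D) := by
    have h2 : Nat.card ↥(Lb ⊓ D) * (Lb.subgroupOf D).index ≤ Nat.card ↥(Lb ⊓ D) * 21 :=
      Nat.mul_le_mul_left _ hrelD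
    omega
  have hEcard : Nat.card ↥(Lb ⊓ D) = 15 :=
    le_antisymm (Nat.le_of_dvd (by norm_num) hE15) hEge
  haveI : Fact (Nat.Prime 3) := ⟨Nat.prime_three⟩
  haveI : Fact (Nat.Prime 5) := ⟨by decide⟩
  obtain ⟨a, ha⟩ := exists_prime_orderOf_dvd_card' (G := ↥(Lb ⊓ D)) 3 (by rw [hEcard]; norm_num)
  obtain ⟨b, hb⟩ := exists_prime_orderOf_dvd_card' (G := ↥(Lb ⊓ D)) 5 (by rw [hEcard]; norm_num)
  have hab : orderOf (a * b) = 15 := by
    rw [Commute.orderOf_mul_eq_mul_orderOf_of_coprime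
      (AbTwoOne.comm_of_dvd_fifteen (hEcard ▸ dvd_rfl) a b) (by rw [ha, hb]; norm_num), ha, hb]
  rw [← Subgroup.orderOf_coe] at hab
  obtain ⟨x, hx, hxe⟩ := (a * b).2.1
  rw [← hxe] at hab
  have hpow : ∀ n : ℕ, (π x) ^ n = 1 ↔ (x : G) ^ n ∈ V := fun n => by
    rw [← map_pow, hmk]
    exact Iff.rfl
  rcases hLx _ (mem_subgroupOf.1 hx) ((hpow 15).1 (hab ▸ pow_orderOf_eq_one _)) with h | h
  all_goals
    have := orderOf_dvd_of_pow_eq_one ((hpow _).2 h)
    rw [hab] at this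
    norm_num at this

/-- An element of `C(u)` carrying `u'` into `H` lies in `H`. -/
theorem mem_of_conj_u' {g : G} (hg : Commute g u) (h : g * u' * g⁻¹ ∈ H) : g ∈ H := by
  have hgu : g⁻¹ * u * g = u := by rw [mul_assoc, ← hg.eq, inv_mul_cancel_left]
  have hvu : Commute (g * u' * g⁻¹) u := (hg.mul_left F.uu'.symm).mul_left hg.inv_left
  obtain ⟨k, hk, hku, hkv⟩ := F.meet _ h (by rw [Invol.orderOf_conj_eq, F.hu']) hvu
  have hs : Commute (k * t * k⁻¹) u := (hku.mul_left F.tu).mul_left hku.inv_left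
  have h1 : g⁻¹ * (k * t * k⁻¹) * g ∈ H := by
    refine F.cent_four_le (mem_cent_pair.2 ⟨(hg.inv_left.mul_left hs).mul_left hg, ?_⟩)
    show g⁻¹ * (k * t * k⁻¹) * g * u' = u' * (g⁻¹ * (k * t * k⁻¹) * g)
    calc g⁻¹ * (k * t * k⁻¹) * g * u' = g⁻¹ * ((k * t * k⁻¹) * (g * u' * g⁻¹)) * g := by group
      _ = g⁻¹ * ((g * u' * g⁻¹) * (k * t * k⁻¹)) * g := by rw [hkv.eq]
      _ = _ := by group
  have h2 : g⁻¹ * k ∈ H := F.mem_of_conj (by
    rwa [show (g⁻¹ * k) * t * (g⁻¹ * k)⁻¹ = g⁻¹ * (k * t * k⁻¹) * g by group])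
  simpa using mul_mem hk (inv_mem h2)

/-- The centralizer of the second involution lies in `H`. -/
theorem cent_u_le {g : G} (hg : Commute g u) : g ∈ H := by
  refine F.mem_of_conj_u' hg ?_
  set v := g * u' * g⁻¹ with hv
  by_contra hvH
  have hv2 : orderOf v = 2 := by rw [hv, Invol.orderOf_conj_eq, F.hu']
  have hvu : Commute v u := (hg.mul_left F.uu'.symm).mul_left hg.inv_left
  have htv : ¬ IsConj t v := fun h =>
    F.tnu' (h.trans (isConj_iff.2 ⟨g, hv.symm⟩ : IsConj u' v).symm)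
  obtain ⟨hc2, hct, hcv⟩ :=
    Invol.half_props F.ht hv2 (Invol.even_orderOf_mul_of_not_isConj F.ht hv2 htv)
  set c := (t * v) ^ (orderOf (t * v) / 2) with hc
  have hcH : c ∈ H := F.mem_of_commute_t hct
  have hcu : Commute c u := (F.tu.mul_left hvu).pow_left _
  have hno : ∀ x ∈ H, IsConj t x → Commute v x → False :=
    fun x hx h1 h2 => hvH (F.cent_le hx h1 h2)
  let K := centralizer ({u} : Set G)
  let t₁ : K := ⟨t, mem_cent.2 F.tu⟩
  let v₁ : K := ⟨v, mem_cent.2 hvu⟩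
  have ho : orderOf (t₁ * v₁) = orderOf (t * v) := (Subgroup.orderOf_coe (t₁ * v₁)).symm
  have hco : ((t₁ * (t₁ * v₁) ^ (orderOf (t₁ * v₁) / 2) : K) : G) = t * c := by
    rw [hc, ho]; simp [t₁, v₁]
  rcases Invol.mul_half_isConj (x := t₁) (y := v₁) ((Subgroup.orderOf_coe t₁).symm.trans F.ht)
    ((Subgroup.orderOf_coe v₁).symm.trans hv2)
    (ho ▸ Invol.even_orderOf_mul_of_not_isConj F.ht hv2 htv) with h | h <;>
    obtain ⟨k, hk⟩ := isConj_iff.1 h <;>
    have hk' := congrArg Subtype.val hk <;>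
    rw [hco] at hk'
  · rcases F.pair c hcH hc2 hct hcu (isConj_iff.2 ⟨k, hk'⟩) with h1 | h1 | h1 | h1
    · exact hno c hcH h1 hcv.symm
    · exact hno _ (mul_mem hcH F.memu) h1 (hcv.symm.mul_right hvu)
    · exact hvH (F.cent_four_le (mem_cent_pair.2 ⟨hvu, h1 ▸ hcv.symm⟩))
    · have h3 := hvu.mul_right (h1 ▸ hcv.symm : Commute v (u * u'))
      rw [← mul_assoc, F.u_sq, one_mul] at h3
      exact hvH (F.cent_four_le (mem_cent_pair.2 ⟨hvu, h3⟩))
  · have hkg : Commute ((k : G) * g) u := (mem_cent.1 k.2).mul_left hg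
    have e : (k : G) * g * u' * ((k : G) * g)⁻¹ = t * c := by
      rw [← hk']; simp [v₁, hv, mul_assoc]
    have hmem := F.mem_of_conj_u' hkg (e ▸ mul_mem F.memt hcH)
    have hs := F.stable _ hmem hkg
    rw [e] at hs
    have htc : c = t * (t * c) := by rw [← mul_assoc, Invol.mul_self_eq_one F.ht, one_mul]
    rcases hs with h1 | h1 <;> rw [h1] at htc
    · exact hno c hcH (htc ▸ F.ttu') hcv.symm
    · exact hno c hcH (htc ▸ F.ttuu') hcv.symm

/-- The group with these facts is `H`. -/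
theorem eq_top : H = ⊤ := by
  have hall : ∀ b : G, IsConj u b → b ∈ H := by
    intro b hb
    obtain ⟨g, rfl⟩ := isConj_iff.1 hb
    have hb2 : orderOf (g * u * g⁻¹) = 2 := by rw [Invol.orderOf_conj_eq, F.hu]
    obtain ⟨hc2, hct, hcb⟩ := Invol.half_props F.ht hb2
      (Invol.even_orderOf_mul_of_not_isConj F.ht hb2 fun h => F.tnu (h.trans hb.symm))
    have hcH := F.mem_of_commute_t hct
    rcases F.classes _ hcH hc2 with ⟨k, -, e⟩ | ⟨k, hk, e⟩
    · exact F.cent_le hcH (isConj_iff.2 ⟨k, e⟩) hcb.symm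
    · have h1 : k⁻¹ * (g * u * g⁻¹) * k ∈ H := F.cent_u_le (by
        rw [← e] at hcb
        show k⁻¹ * (g * u * g⁻¹) * k * u = u * (k⁻¹ * (g * u * g⁻¹) * k)
        calc k⁻¹ * (g * u * g⁻¹) * k * u = k⁻¹ * ((g * u * g⁻¹) * (k * u * k⁻¹)) * k := by group
          _ = k⁻¹ * ((k * u * k⁻¹) * (g * u * g⁻¹)) * k := by rw [hcb.eq]
          _ = u * (k⁻¹ * (g * u * g⁻¹) * k) := by group)
      simpa [mul_assoc] using mul_mem (mul_mem hk h1) (inv_mem hk)
  refine eq_top_iff.2 fun g _ => ?_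
  have hgu := hall _ (isConj_iff.2 ⟨g, rfl⟩)
  rcases F.classes _ hgu (by rw [Invol.orderOf_conj_eq, F.hu]) with ⟨k, -, e⟩ | ⟨k, hk, e⟩
  · refine absurd (isConj_iff.2 ⟨g⁻¹ * k, ?_⟩) F.tnu
    rw [show (g⁻¹ * k) * t * (g⁻¹ * k)⁻¹ = g⁻¹ * (k * t * k⁻¹) * g by group, e]
    group
  · have h1 : k⁻¹ * g ∈ H := F.cent_u_le (mul_inv_eq_iff_eq_mul.1 (by
      rw [show (k⁻¹ * g) * u * (k⁻¹ * g)⁻¹ = k⁻¹ * (g * u * g⁻¹) * k by group, ← e]
      group))
    simpa using mul_mem hk h1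

end Facts

end CfsgLib.HeldEnd
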