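import Cfsg.Agent.HeldU.Frame.ToModel
import Cfsg.Agent.HeldU.Module.Main

/-!
# The centralizer `2^(1+6).L3(2)` with more than sixteen conjugates of the involution in it

The uniserial shapes keep all conjugates inside a subgroup of order 16, so in a simple group such a
centralizer is the model; no order of the group is needed.
-/

set_option autoImplicit false
set_option linter.unusedSectionVars false
set_option maxRecDepth 4000

namespace CfsgLib.HeldFrame

open CfsgLib.HeldMod

/-- In a uniserial shape at most sixteen conjugates of `t` centralize `t`. -/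
theorem card_conj_le {G : Type*} [Group G] [Finite G] {t : G} (ht : orderOf t = 2)
    {Q : Subgroup (Subgroup.centralizer ({t} : Set G))}
    {K : Chart (⟨t, Subgroup.mem_centralizer_singleton_iff.2 rfl⟩ :
        Subgroup.centralizer ({t} : Set G)) Q}
    {D : Dat} {s w : Subgroup.centralizer ({t} : Set G)} (R : Real K D s w) :
    Nat.card {x : Subgroup.centralizer ({t} : Set G) // IsConj t (x : G)} ≤ 16 := by
  classical
  set z : Subgroup.centralizer ({t} : Set G) := ⟨t, Subgroup.mem_centralizer_singleton_iff.2 rfl⟩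
  obtain ⟨E, hEset, hEn, hzE, hE16, hEsq, hEcomm, horb, htrans⟩ := R.exists_piece
  have htt : t * t = 1 := by rw [← sq, ← ht]; exact pow_orderOf_eq_one t
  have t1 : t ≠ 1 := fun h => by rw [h, orderOf_one] at ht; norm_num at ht
  have hsq : ∀ a : G, a * t * a⁻¹ * (a * t * a⁻¹) = 1 := fun a => by
    calc a * t * a⁻¹ * (a * t * a⁻¹) = a * (t * t) * a⁻¹ := by group
      _ = 1 := by rw [htt]; group
  have hne1 : ∀ a : G, a * t * a⁻¹ ≠ 1 := fun a h => t1 (conj_eq_one_iff.1 h)
  -- every conjugate of `t` in the centraliser lies in the piece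
  have inE : ∀ g : G, ∀ hc : g * t * g⁻¹ ∈ Subgroup.centralizer ({t} : Set G),
      (⟨_, hc⟩ : Subgroup.centralizer ({t} : Set G)) ∈ E := by
    intro g hc
    by_contra hx
    set x := g * t * g⁻¹ with hxdef
    set y := g⁻¹ * t * g with hydef
    have hxt : x * t = t * x := Subgroup.mem_centralizer_singleton_iff.1 hc
    have hyt : y * t = t * y := by
      rw [hydef]
      calc g⁻¹ * t * g * t = g⁻¹ * (t * x) * g := by rw [hxdef]; group
        _ = g⁻¹ * (x * t) * g := by rw [hxt]
        _ = t * (g⁻¹ * t * g) := by rw [hxdef]; group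
    have hyc : y ∈ Subgroup.centralizer ({t} : Set G) := Subgroup.mem_centralizer_singleton_iff.2 hyt
    have hy' : y = g⁻¹ * t * g⁻¹⁻¹ := by rw [inv_inv]
    set X : Subgroup.centralizer ({t} : Set G) := ⟨x, hc⟩
    set Y : Subgroup.centralizer ({t} : Set G) := ⟨y, hyc⟩
    have hX := R.outside (x := X) (Subtype.ext (hsq g)) (fun h => hx (hEset ▸ h : X ∈ (E : Set _)))
    have sub : ∀ (v : Subgroup.centralizer ({t} : Set G)),
        nCent v = Nat.card {u : G // u * t = t * u ∧ u * v.1 = v.1 * u} := fun v =>
      Nat.card_congr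
        { toFun := fun u => ⟨u.1.1, Subgroup.mem_centralizer_singleton_iff.1 u.1.2,
            congrArg Subtype.val (Subgroup.mem_centralizer_singleton_iff.1 u.2)⟩
          invFun := fun u => ⟨⟨u.1, Subgroup.mem_centralizer_singleton_iff.2 u.2.1⟩,
            Subgroup.mem_centralizer_singleton_iff.2 (Subtype.ext u.2.2)⟩
          left_inv := fun u => rfl
          right_inv := fun u => rfl }
    have sub1 : ∀ (v : Subgroup.centralizer ({t} : Set G)),
        nRoots v = Nat.card {u : G // u * t = t * u ∧ u * v.1 = v.1 * u ∧ u * u = v.1} := fun v =>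
      Nat.card_congr
        { toFun := fun u => ⟨u.1.1, Subgroup.mem_centralizer_singleton_iff.1 u.1.2, by
            have h := congrArg Subtype.val u.2
            simp only [Subgroup.coe_mul] at h
            exact ⟨by rw [← h]; group, h⟩⟩
          invFun := fun u => ⟨⟨u.1, Subgroup.mem_centralizer_singleton_iff.2 u.2.1⟩, Subtype.ext u.2.2.2⟩
          left_inv := fun u => rfl
          right_inv := fun u => rfl }
    have sub2 : ∀ (v : Subgroup.centralizer ({t} : Set G)),
        nRootsComm z v = Nat.card {u : G // u * t = t * u ∧ u * v.1 = v.1 * u ∧ u * u = t} := fun v =>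
      Nat.card_congr
        { toFun := fun u => ⟨u.1.1, Subgroup.mem_centralizer_singleton_iff.1 u.1.2,
            congrArg Subtype.val u.2.2, congrArg Subtype.val u.2.1⟩
          invFun := fun u => ⟨⟨u.1, Subgroup.mem_centralizer_singleton_iff.2 u.2.1⟩,
            Subtype.ext u.2.2.2, Subtype.ext u.2.2.1⟩
          left_inv := fun u => rfl
          right_inv := fun u => rfl }
    have e : ∀ a b : G, g * a * g⁻¹ * (g * b * g⁻¹) = g * (a * b) * g⁻¹ := fun a b => by group
    have hgy : g * y * g⁻¹ = t := by rw [hydef]; group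
    have moved : ∀ (P : G → Prop),
        Nat.card {u : G // P (g * u * g⁻¹)} = Nat.card {u : G // P u} := fun P =>
      Nat.card_congr ((MulAut.conj g).toEquiv.subtypeEquiv fun u => Iff.rfl)
    have hcent : nCent X = nCent Y := by
      rw [sub, sub]
      show Nat.card {u : G // u * t = t * u ∧ u * x = x * u} =
        Nat.card {u : G // u * t = t * u ∧ u * y = y * u}
      rw [← moved (fun u => u * t = t * u ∧ u * x = x * u)]
      refine Nat.card_congr (Equiv.subtypeEquivRight fun u => ?_)
      conv_lhs => rw [← hgy, hxdef]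
      simp only [e, mul_left_inj, mul_right_inj]
      exact and_comm
    by_cases hyE : Y ∈ E
    · by_cases hYz : Y = z
      · have : y = t := congrArg Subtype.val hYz
        refine hx ?_
        have hxeq : X = z := Subtype.ext (by
          show x = t
          rw [hxdef]; nth_rw 1 [← this]; rw [hgy])
        rw [hxeq]; exact hzE
      · have hY1 : Y ≠ 1 := fun h => hne1 g⁻¹ (by
          rw [← hy']; exact congrArg Subtype.val h)
        have h14 := horb Y hyE hY1 hYz
        have h1 := nCent_mul_orbit Y
        have h2 := hX.2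
        rw [hcent, ← h1] at h2
        have hpos : 0 < nCent Y := Nat.card_pos
        have := Nat.le_of_mul_le_mul_left h2 hpos
        omega
    · have hY := R.outside (x := Y) (Subtype.ext (by show y * y = 1; rw [hy']; exact hsq g⁻¹))
        (fun h => hyE (hEset ▸ h : Y ∈ (E : Set _)))
      have h1 := hX.1
      have h2 := hY.1
      rw [sub1, sub2] at h1 h2
      have e1 : Nat.card {u : G // u * t = t * u ∧ u * y = y * u ∧ u * u = y} =
          Nat.card {u : G // u * t = t * u ∧ u * x = x * u ∧ u * u = t} := by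
        rw [← moved (fun u => u * t = t * u ∧ u * x = x * u ∧ u * u = t)]
        refine Nat.card_congr (Equiv.subtypeEquivRight fun u => ?_)
        conv_rhs => rw [← hgy, hxdef]
        simp only [e, mul_left_inj, mul_right_inj]
        exact and_left_comm
      have e2 : Nat.card {u : G // u * t = t * u ∧ u * y = y * u ∧ u * u = t} =
          Nat.card {u : G // u * t = t * u ∧ u * x = x * u ∧ u * u = x} := by
        rw [← moved (fun u => u * t = t * u ∧ u * x = x * u ∧ u * u = x)]
        refine Nat.card_congr (Equiv.subtypeEquivRight fun u => ?_)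
        conv_rhs => rw [← hgy, hxdef]
        simp only [e, mul_left_inj, mul_right_inj]
        exact and_left_comm
      change Nat.card {u : G // u * t = t * u ∧ u * x = x * u ∧ u * u = x} < _ at h1
      change Nat.card {u : G // u * t = t * u ∧ u * y = y * u ∧ u * u = y} < _ at h2
      rw [e1] at h2
      exact absurd (h1.trans_le (le_of_eq rfl)) (not_lt_of_gt (lt_of_lt_of_eq h2 e2))
  rw [← hE16]
  refine Nat.card_le_card_of_injective (fun x => (⟨x.1, ?_⟩ : E)) fun x y h =>
    Subtype.ext (congrArg (fun v : E => (v : Subgroup.centralizer ({t} : Set G))) h)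
  obtain ⟨g, hg⟩ := isConj_iff.1 x.2
  have hm := inE g (hg.symm ▸ x.1.2)
  have e : (⟨g * t * g⁻¹, hg.symm ▸ x.1.2⟩ : Subgroup.centralizer ({t} : Set G)) = x.1 :=
    Subtype.ext hg
  rwa [e] at hm

/-- A simple group with more than sixteen conjugates of `t` centralizing `t` has a frame. -/
theorem exists_frame_of_count {G : Type*} [Group G] [Finite G] [IsSimpleGroup G] (t : G)
    (ht : orderOf t = 2)
    (Q : Subgroup (Subgroup.centralizer ({t} : Set G))) [Q.Normal] (hQ : Cfsg.IsExtraspecial 2 Q)
    (hcard : Nat.card Q = 2 ^ 7)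
    (h2c : Subgroup.centralizer (Q : Set (Subgroup.centralizer ({t} : Set G))) ≤ Q)
    (e : (Subgroup.centralizer ({t} : Set G)) ⧸ Q ≃* Matrix.SpecialLinearGroup (Fin 3) (ZMod 2))
    (hcount : 16 < Nat.card {x : Subgroup.centralizer ({t} : Set G) // IsConj t (x : G)}) :
    Nonempty (CfsgLib.HeldUniq.Frame t) := by
  obtain ⟨K, s, r, w₀, hg⟩ := exists_gens ht Q hQ hcard h2c e
  obtain ⟨w, hw, hgen⟩ := normalise K hg
  rcases hw with hw | hw | hw
  · obtain ⟨E₁, E₂, n1, n2, a1, a2, c1, c2, hmeet, hjoin⟩ := split_pair K hg.s_T hw hgen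
    have sq : ∀ {E : Subgroup (Subgroup.centralizer ({t} : Set G))}, Cfsg.IsElementaryAbelian 2 E →
        ∀ x ∈ E, x * x = 1 := fun hE x hx => by
      rw [← sq]
      exact hE.2 x hx
    exact CfsgLib.HeldC.frame_of_pieces ht rfl
      (CfsgLib.HeldC.pieces_of ht Q hQ h2c e n1 n2 (sq a1) (sq a2) c1 c2 _ rfl hmeet hjoin)
  · exact absurd (card_conj_le ht (D := dat1) ⟨dat1_ok, hg.s_T, hw, hgen⟩) (not_le.2 hcount)
  · exact absurd (card_conj_le ht (D := dat2) ⟨dat2_ok, hg.s_T, hw, hgen⟩) (not_le.2 hcount)

end CfsgLib.HeldFrame
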