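import Cfsg.Agent.Coset.Prim

/-! Data for the fusion of involutions in `Cfsg.Spor.He`. -/

set_option autoImplicit false
set_option maxRecDepth 100000

namespace CfsgLib.HeldEnd.HeF

/-- The third involution. -/
def u2 : List Nat := [2,3,2,3,2,5,3,2,3,2,5,3,2,3,5]

/-- Generators of a Sylow 2-subgroup. -/
def sGen : List (List Nat) := [[1,0,1],[5,3,2,3,5],[6,3,2,3,6],[1,5,3,2,3,5,4,3,6,3,4,5,3,2,3,5,1]]

/-- The index of the unit. -/
def sOne : Nat := 6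

def sI_0 : CfsgLib.Coset.Tr (List Nat) := (.node (.node (.node (.node (.node (.node (.node (.leaf [0,2,3,2,0,2,3,2]) (.leaf [0,2,0,2,3,2,1,0,2])) (.node (.leaf [2,1,2,0,1,2,1,2]) (.leaf [3,2,1,2,3,2]))) (.node (.node (.leaf [2,0,2,3,2,0,2]) (.leaf [2,3,2,3])) (.node (.leaf [1,0,2,0,2,1,3]) (.leaf [0,1,0,2,0,1,0,2])))) (.node (.node (.node (.leaf [1,0,1,2,0,2]) (.leaf [0,1,3,2,1,2,0,2])) (.node (.leaf [1,2,0,1,2,0,2]) (.leaf [1,2,0]))) (.node (.node (.leaf [0,1,2,0,2,3,2,1,3]) (.leaf [0,2,3,2,1,2,0,1])) (.node (.leaf [2,0,2,1,0,1,2]) (.leaf [0,1,3,2,0,1,2,0]))))) (.node (.node (.node (.node (.leaf [3,2,0,2,3]) (.leaf [0,2,3,2])) (.node (.leaf [0,1,2,0,2,1,2,3]) (.leaf [1,3,2,1,2,0,2,3]))) (.node (.node (.leaf [1,2,3,2,1,2]) (.leaf [0,1,0,2,0,2,1,2])) (.node (.leaf [0,3,2,0,2,1,2,3,2]) (.leaf [0,2,0,1,3,2])))) (.node (.node (.node (.leaf [1,2,0,1,0]) (.leaf [2,1,0])) (.node (.leaf [1,2,0,2,3,2,1,0])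 (.leaf [3,2,0,1,2,0]))) (.node (.node (.leaf [1,0,2,3,2,0,3]) (.leaf [3,2,1,0,2])) (.node (.leaf [1,0,2,0,2]) (.leaf [1,3,2,1,2,3])))))) (.node (.node (.node (.node (.node (.leaf [0,1,2,1,3,2,0,2,3,2]) (.leaf [1,2,0,2,3,2])) (.node (.leaf [0,2,0,2,3,2]) (.leaf [1,2,0,2,3,2,1,3,2]))) (.node (.node (.leaf [3,2,1,2,0,1]) (.leaf [0,2,0,1,2,0,2,3,2])) (.node (.leaf [2,1]) (.leaf [2,0,2,1,0,3,2,0,2])))) (.node (.node (.node (.leaf [1,0,2,3,2,0,1,2]) (.leaf [3,2,0,1])) (.node (.leaf [2,1,0,2,0,2]) (.leaf [3,2,1,3,2]))) (.node (.node (.leaf [0,2,0,2,1,0,2,1,0,2]) (.leaf [2,1,0,1,2,1])) (.node (.leaf [1,0]) (.leaf [0,1,0,1,2,0,2,1,2]))))) (.node (.node (.node (.node (.leaf [0,2,1,3,2,1,2,0,2,3]) (.leaf [0,2,1,3,2,0,2])) (.node (.leaf [0,2,0,1,2,1,2,3,2]) (.leaf [0,1,0,2,0,2,1,0]))) (.node (.node (.leaf [0,1,0,2,3,2,0]) (.leaf [1,2,3,2,0,2,1])) (.node (.leaf [2,1,0,1,2,0,2]) (.leaf [0,1,0,1,2,0,1,2])))) (.node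 (.node (.node (.leaf [0,1,0,2,1,2]) (.leaf [0,1,0,2,3,2,0,3,2,1])) (.node (.leaf [2,0,2,1,3,2]) (.leaf [0,2,0,1,0,2]))) (.node (.node (.leaf [1,0,2,1,0,2]) (.leaf [0,2,1,0,2,0,3])) (.node (.leaf [0,1,0,1,2,3,2,0]) (.leaf [2,1,2,0,1,2,1]))))))) (.node (.node (.node (.node (.node (.node (.leaf [3,2,0,2]) (.leaf [0,2,0,1,2,0,3,2])) (.node (.leaf [1,0,2,0,2,1,2,3]) (.leaf [0,3,2,1,0,2,1,0]))) (.node (.node (.leaf [1,2,1,3,2]) (.leaf [0,2,1,2,3,2,3])) (.node (.leaf [2,1,2,0,1]) (.leaf [0,2,0,2,3,2,1,3])))) (.node (.node (.node (.leaf [0,2,0,2,1,2,3,2]) (.leaf [1,0,2,0,3])) (.node (.leaf [2,1,2,3,2,0]) (.leaf [2,0,2,1,0,2,1,0]))) (.node (.node (.leaf [2,3,2,1,0,2,0]) (.leaf [2,1,0,3,2])) (.node (.leaf [2,3,2,1,2,0,2,3]) (.leaf [1,0,2,1]))))) (.node (.node (.node (.node (.leaf [2,3,2,1,2,0,2,1]) (.leaf [0,3,2,0,1,2,3,2])) (.node (.leaf [0,1,0,3,2]) (.leaf [0,2,3,2,0,2,1,3,2]))) (.node (.node (.leaf [1,2,0,1,2,0,3])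 (.leaf [0,1,0,2,0,2,3])) (.node (.leaf [2,0,3,2,0,2,1,2,3]) (.leaf [2,1,3,2,1])))) (.node (.node (.node (.leaf [2,0]) (.leaf [0,3,2,0,2,1,2,3])) (.node (.leaf [0,1,0,1,3,2]) (.leaf [1,0,3,2,0,2,3,2]))) (.node (.node (.leaf [0,1,2,3,2,3]) (.leaf [0,1,2,0,3])) (.node (.leaf [1,0,2,3,2,1,2]) (.leaf [0,1,2,0,1,2,0,1])))))) (.node (.node (.node (.node (.node (.leaf [2,3,2,0,2,1]) (.leaf [1,2,1,3,2,0,2])) (.node (.leaf [3,2,0,2,1]) (.leaf [0,2,1,2,3,2,0,3]))) (.node (.node (.leaf [0,3,2,1,2,0,2,1]) (.leaf [1,2,0,1,2,0])) (.node (.leaf [0,1,2,3,2,0,3]) (.leaf [1,0,2,0,1,3])))) (.node (.node (.node (.leaf [0,1,2,3,2,0,2,1,0,2]) (.leaf [0,2,0,2,1,2,0,2])) (.node (.leaf [2,1,2,0,2,3]) (.leaf [0,2,3,2,0,1,2,3]))) (.node (.node (.leaf [1,2,1,3,2,0,3]) (.leaf [2,1,0,2,3,2,0,2])) (.node (.leaf [0,1,2,0,1,2,3]) (.leaf [0,2,0,3,2,3]))))) (.node (.node (.node (.node (.leaf [0,2,3,2,0,2,3]) (.leaf [2,1,2,3,2,1]))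 (.node (.leaf [2,0,1,2,3]) (.leaf [1,0,2,0,1,2,0,2]))) (.node (.node (.leaf [0,2,3,2,0,3,2,1]) (.leaf [1,0,3,2,0,2,3])) (.node (.leaf [0,1,2,1,3,2,0,2,3]) (.leaf [1,3,2,0,1,2])))) (.node (.node (.node (.leaf [0,1,0,1]) (.leaf [1,0,1,2,1,2])) (.node (.leaf [0,2,3]) (.leaf [0,1,0,2,1,2,3]))) (.node (.node (.leaf [1]) (.leaf [0,1,0,1,2,0,1,2,0])) (.node (.leaf [0,1,0,3,2,1]) (.leaf [1,2,0,3,2,1]))))))))

def sI_1 : CfsgLib.Coset.Tr (List Nat) := (.node (.node (.node (.node (.node (.node (.node (.leaf [0,1,2,1,2,0,1,2,1,2]) (.leaf [2,1,3,2,0])) (.node (.leaf [0,2,3,2,1,2,0]) (.leaf [0,2,0,2,1,0,3,2,0]))) (.node (.node (.leaf [1,2,3,2,0,1]) (.leaf [0,1,0,2,3,2,1,2,3])) (.node (.leaf [2,3,2,0,1,2,0]) (.leaf [3,2,1,0,2,3,2,0])))) (.node (.node (.node (.leaf [0,1,0,1,2,0,2,3]) (.leaf [0,1,0,3,2,0,2,1])) (.node (.leaf [1,2,0,2,3,2,0]) (.leaf [0,2,0,1,2,0,2]))) (.node (.node (.leaf [2,1,0,1,2,0,2,3]) (.leaf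 [0,2,0,1,3,2,0])) (.node (.leaf [0,1,0,2,0,1,0]) (.leaf [2,0,1,2,1,3]))))) (.node (.node (.node (.node (.leaf [0,1,3]) (.leaf [2,0,3,2,1,0,2])) (.node (.leaf [0,1,2,0,2,3]) (.leaf [2,0,1,0,3,2,0]))) (.node (.node (.leaf [0,3,2]) (.leaf [0,1,0,1,2,0,1])) (.node (.leaf [0,3,2,3]) (.leaf [0,2,0,3,2,0])))) (.node (.node (.node (.leaf [1,2,0,1,2,1,3,2]) (.leaf [2,1,2,0,2,1,0])) (.node (.leaf [1,0,1,2]) (.leaf [2,3,2,0,3]))) (.node (.node (.leaf [3,2,1,0,2,0,2,3]) (.leaf [2,0,3])) (.node (.leaf [0,2,1,3,2]) (.leaf [0,2,0,2,1,0,3,2,3])))))) (.node (.node (.node (.node (.node (.leaf [2,3,2,0,2,1,0]) (.leaf [0,2,0,1,3])) (.node (.leaf [0,2,0,2,1,2,0,2,3]) (.leaf [3,2,1,0,2,1]))) (.node (.node (.leaf [2,1,0,2,1,0,2]) (.leaf [0,1,0,2,0,1])) (.node (.leaf [3,2,0,2,1,3]) (.leaf [1,2,0,2,3,2,3])))) (.node (.node (.node (.leaf [1,0,3,2,1,2]) (.leaf [2,1,2])) (.node (.leaf [3,2,1,2,0]) (.leaf [0,2,0,1,2,3,2,0,2,3])))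 (.node (.node (.leaf [0,1,0,1,2,0,1,2,0,1]) (.leaf [0,2,1,0,3,2,0])) (.node (.leaf [1,3,2,0,2,1,2]) (.leaf [1,0,2,1,0]))))) (.node (.node (.node (.node (.leaf [0,1,2,3,2,1,3]) (.leaf [2,0,2,1,0,1,2,0])) (.node (.leaf [1,2,0,3,2]) (.leaf [3,2,0,2,3,2,1]))) (.node (.node (.leaf [1,3,2]) (.leaf [1,2,0,1,2,3,2,0])) (.node (.leaf [2,0,1,2,3,2,1]) (.leaf [3,2,1,0,2,3])))) (.node (.node (.node (.leaf [0,2,0,1,2,1]) (.leaf [2,3,2,1,0,2,3,2])) (.node (.leaf [0,2,0,2,1,2,0,3]) (.leaf [0,2,0,3,2,0,2,1,2]))) (.node (.node (.leaf [1,0,2,0,1,2,0]) (.leaf [1,3,2,1])) (.node (.leaf [2,0,3,2,1]) (.leaf [1,0,3,2,0,3]))))))) (.node (.node (.node (.node (.node (.node (.leaf [0,3,2,1,2,0,2]) (.leaf [0,2,0,2,1,0,3,2])) (.node (.leaf [2,3,2,0,1,0]) (.leaf [2,3,2,0,1,3,2]))) (.node (.node (.leaf [0,1,2,0,1,2,3,2,0,2]) (.leaf [2,0,2,3,2,0,1,2,3])) (.node (.leaf [0,2,0,2,1]) (.leaf [2,3,2,1,3])))) (.node (.node (.node (.leaf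 [0,2,1,0,1,2,0,2,3,2]) (.leaf [2,0,2,3,2,1])) (.node (.leaf [1,2,0,2,3,2,1]) (.leaf [2,0,1,0,3,2]))) (.node (.node (.leaf [0,2,0,1,0,3]) (.leaf [0,2,1,3,2,1,2])) (.node (.leaf [0,1,0,2,1,2,3,2]) (.leaf [2,1,2,3,2,0,3,2]))))) (.node (.node (.node (.node (.leaf [0,3,2,1,0,2,0,2]) (.leaf [2,1,2,0,2,3,2])) (.node (.leaf [2,0,2,3,2,0]) (.leaf [2,1,3,2,0,2,3,2]))) (.node (.node (.leaf [1,3,2,1,2,0]) (.leaf [1,2,0,2,1,3,2])) (.node (.leaf [1,2,0,3,2,3]) (.leaf [3,2,0,1,2])))) (.node (.node (.node (.leaf [0,1,2,3,2,0,1,3]) (.leaf [0,1,2,1,2,0,1])) (.node (.leaf [2,3,2,0,2,1,2]) (.leaf [1,0,2]))) (.node (.node (.leaf [0,2,0,2,3,2,3]) (.leaf [0,1,0,3,2,0,1])) (.node (.leaf [0,1,0,2,1,3,2,0,2]) (.leaf [2,3,2,1,2,3])))))) (.node (.node (.node (.node (.node (.leaf [0,1,2,1,2,0]) (.leaf [1,2,1,2,0,2,3])) (.node (.leaf [1,0,1,2,0]) (.leaf [0,1,0,1,3,2,0]))) (.node (.node (.leaf [0,1,3,2,0,2]) (.leaf [1,0,2,3,2,0,2,3]))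 (.node (.leaf [0,1,0,2,0,1,2]) (.leaf [0,2,1,2,0,1,2])))) (.node (.node (.node (.leaf [1,2,0,2,1,2,3,2]) (.leaf [0,1,2,0,2,1,2])) (.node (.leaf [0,1,0,2,1,2,3,2,0]) (.leaf [0,2,1,0,2,0]))) (.node (.node (.leaf [1,2,3,2,0,2,1,3,2]) (.leaf [1,0,3,2,0,1,2,0])) (.node (.leaf [0,2,3,2,1,0]) (.leaf [2,3,2,1,0,2,3]))))) (.node (.node (.node (.node (.leaf [2,0,2]) (.leaf [2,0,2,1,3,2,0])) (.node (.leaf [1,0,2,3,2]) (.leaf [0,1,2,0,1,2]))) (.node (.node (.leaf [2,3,2,1,0,2,1]) (.leaf [1,2,0,1,2,3,2])) (.node (.leaf [3,2,1,2,0,2,3]) (.leaf [0,1,2,0,1,0,2])))) (.node (.node (.node (.leaf [0,2,3,2,0,2,3,2,1]) (.leaf [2,1,0,1])) (.node (.leaf [2,0,1,2,0,2,3]) (.leaf [0,3,2,0,1,2,3]))) (.node (.node (.leaf [0,1,2,3,2]) (.leaf [2,0,2,1,2])) (.node (.leaf [1,3,2,0,2,3]) (.leaf [0,2,0,2,1,2,0]))))))))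

def sI_2 : CfsgLib.Coset.Tr (List Nat) := (.node (.node (.node (.node (.node (.node (.node (.leaf [0,1,0,2,3,2,0,1]) (.leaf [0,3,2,1,0,2,0])) (.node (.leaf [1,2,3,2,0,2,3,2]) (.leaf [0,2,1,2,3]))) (.node (.node (.leaf [0,1,0,1,3,2,0,2]) (.leaf [2,0,1,2,1,2])) (.node (.leaf [2,0,1,3,2,0,2]) (.leaf [2,1,0,1,2,1,2])))) (.node (.node (.node (.leaf [0,2,1,2,0,2,1,2]) (.leaf [2,3,2,0,3,2])) (.node (.leaf [0,1,0,2,3,2,0,2]) (.leaf [3,2,1,0,2,3,2]))) (.node (.node (.leaf [0,2,3,2,1,2]) (.leaf [1,2,3,2,0,2,1,0])) (.node (.leaf [2,1,3,2,1,2,0,2]) (.leaf [2,1,0,2,3,2,3]))))) (.node (.node (.node (.node (.leaf [2,0,2,1,0,1]) (.leaf [3,2,0,1,0])) (.node (.leaf [2,3,2,0,1]) (.leaf [0,2,1,3,2,1,2,0]))) (.node (.node (.leaf [0,1,0,2,0,2,3,2,0]) (.leaf [2,1,3,2,0,3,2])) (.node (.leaf [1,2,3,2,0]) (.leaf [0,1,2,3,2,0,2,1,3])))) (.node (.node (.node (.leaf [0,2,0,2,1,2,3]) (.leaf [0,3,2,0,1,3,2])) (.node (.leaf [2,0,2,1,2,0,1])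 (.leaf [1,2,1,3,2,0,3,2]))) (.node (.node (.leaf [0,1,2,0,3,2,1,3]) (.leaf [0,2,1,0,2,0,2,3,2])) (.node (.leaf [2,0,2,1,3,2,0,2]) (.leaf [0,2,1,2,0,1,2,0])))))) (.node (.node (.node (.node (.node (.leaf [2,0,2,3]) (.leaf [1,3,2,0])) (.node (.leaf [1,0,2,1,3,2,0]) (.leaf [3,2,0,2,1,3,2]))) (.node (.node (.leaf [1,0,1,3]) (.leaf [0,2,0,1,2,1,3,2,3])) (.node (.leaf [0,1,0,2,1,0,2,0]) (.leaf [0,2,1,0,2,3])))) (.node (.node (.node (.leaf [0,2,0,2,1,2,3,2,0]) (.leaf [1,0,2,0,2,1,0,2])) (.node (.leaf [3,2,1,3]) (.leaf [0,1,2,1,2,3,2,3]))) (.node (.node (.leaf [1,2,3,2,1,2,3]) (.leaf [0,2,0,3,2])) (.node (.leaf [0,1,0,3,2,0,2]) (.leaf [0,2,0,3,2,1,3,2]))))) (.node (.node (.node (.node (.leaf [3,2,0,2,3,2]) (.leaf [1,3,2,0,2,1,2,3])) (.node (.leaf [1,2,0,2]) (.leaf [2,0,1,0,1]))) (.node (.node (.leaf [0,1,2,0,1]) (.leaf [1,2,0,2,1,3])) (.node (.leaf [2,3,2,0,2]) (.leaf [0,1,0,2,3,2,0,3,2])))) (.node (.node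 (.node (.leaf [0,3,2,0,3]) (.leaf [0,1,2,1,2,0,2])) (.node (.leaf [2,3,2,1,0,2]) (.leaf [0,1,3,2,3]))) (.node (.node (.leaf [1,2,1,2,3]) (.leaf [1,2,1,2,3,2,1])) (.node (.leaf [1,0,1,2,3]) (.leaf [0,2,0,1,0]))))))) (.node (.node (.node (.node (.node (.node (.leaf [0,1,2,3,2,1]) (.leaf [2,0,3,2,0,2])) (.node (.leaf [1,0,2,0,2,3,2,0,2]) (.leaf [1,2,1,0]))) (.node (.node (.leaf [0,3,2,0]) (.leaf [1,2,0,1,2,1,2])) (.node (.leaf [1,2,1,0,2]) (.leaf [3,2,1,0,2,0,3])))) (.node (.node (.node (.leaf [0,3]) (.leaf [0,1,2,1,3,2,1,2])) (.node (.leaf [2,1,0,2,0,2,3]) (.leaf [0,2,1,0,2]))) (.node (.node (.leaf [2,1,0,2,3,2,0]) (.leaf [1,2,0,3,2,0])) (.node (.leaf [1,2]) (.leaf [2,0,1,0,3,2,3]))))) (.node (.node (.node (.node (.leaf [0,2,1,0,3]) (.leaf [0,2,0,1,2,3,2,0,2])) (.node (.leaf [0,1,0,1,2,3,2,0,2]) (.leaf [2,1,2,0]))) (.node (.node (.leaf [2,0,3,2,1,0]) (.leaf [0,1,3,2,0,2,1])) (.node (.leaf [0,2,0,1,0,1,2])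 (.leaf [0,1,2,0,3,2,0,2,1])))) (.node (.node (.node (.leaf [0,1,0,2,3,2,0,1,3]) (.leaf [0,2,0,2,3,2,1,3,2])) (.node (.leaf [0,2,1,0,2,3,2,0,1]) (.leaf [2,1,0,2,3,2,0,3]))) (.node (.node (.leaf [0,1,0,3,2,0,2,1,2]) (.leaf [1,2,0,2,3,2,0,1])) (.node (.leaf [0,2,3,2,1]) (.leaf [1,2,0,1,2,1])))))) (.node (.node (.node (.node (.node (.leaf [1,2,1,2]) (.leaf [2,0,2,3,2,1,0])) (.node (.leaf [0,2,1,0,2,1,2]) (.leaf [0,2,0,1,2,1,3,2]))) (.node (.node (.leaf [0,1,2,1,3,2,0]) (.leaf [0,2,0,1,2,1,2,3,2,3])) (.node (.leaf [0,1,3,2,0,1,2,3]) (.leaf [0,1,2,0,2,1,3,2,0,2])))) (.node (.node (.node (.leaf [1,2,3,2,1,2,0,2]) (.leaf [0,2,3,2,0,2,1,3])) (.node (.leaf [2,0,2,3,2,0,1]) (.leaf [2,0,2,1,0,2,1]))) (.node (.node (.leaf [0,1,2,1,2,0,2,1,2]) (.leaf [1,2,0,1,3,2])) (.node (.leaf [0,1,3,2,1,2]) (.leaf [0,2,0,1]))))) (.node (.node (.node (.node (.leaf [0,1,0,2,3,2,0,1,3,2]) (.leaf [1,0,2,3])) (.node (.leaf [0,3,2,0,2,1,0])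 (.leaf [0,3,2,0,3,2]))) (.node (.node (.leaf [0,3,2,1]) (.leaf [1,2,3,2,0,1,2])) (.node (.leaf [0,1,2,0,2,1,2,0]) (.leaf [2,3,2,1,3,2])))) (.node (.node (.node (.leaf [0,1,2,1,3,2,3]) (.leaf [1,3,2,0,3,2])) (.node (.leaf [0,1,0,2,3,2,0,2,1]) (.leaf [1,0,3,2,0,1,2]))) (.node (.node (.leaf [1,2,0,1,2,0,2,3]) (.leaf [0,2,0,1,2,0])) (.node (.leaf [0,2,1,0,1,2,0,1]) (.leaf [0,1,2,0,1,2,0,2,3,2]))))))))

def sI_3 : CfsgLib.Coset.Tr (List Nat) := (.node (.node (.node (.node (.node (.node (.node (.leaf []) (.leaf [0,2,0,1,2,0,3])) (.node (.leaf [0,1,0,2,0,1,2,0,3]) (.leaf [0,3,2,1,2]))) (.node (.node (.leaf [0,1,0,3]) (.leaf [0,1,2,1,2,0,2,1])) (.node (.leaf [3,2,0,2,1,2,0]) (.leaf [0,2,0,1,2,0,1,2])))) (.node (.node (.node (.leaf [1,0,2,3,2,1]) (.leaf [0,1,2,1,3,2,1])) (.node (.leaf [2,0,3,2,0,2,1]) (.leaf [0,1,2,0,2,1]))) (.node (.node (.leaf [3,2,0,2,1,2]) (.leaf [0,2,0,2,3,2,0,1,2])) (.node (.leaf [0,2,3,2,0,1,2,3,2])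 (.leaf [2,1,0,1,2,0]))))) (.node (.node (.node (.node (.leaf [0,2,0,2,1,2,3,2,1]) (.leaf [1,0,1,2,1])) (.node (.leaf [1,2,0,2,1,3,2,0]) (.leaf [1,0,2,1,3]))) (.node (.node (.leaf [0,2,3,2,1,2,0,2]) (.leaf [0,2,0,1,2])) (.node (.leaf [0,2,0,3,2,1,3]) (.leaf [1,2,0,2,3,2,1,0,2])))) (.node (.node (.node (.leaf [0,1,2,1,2,0,1,2,1]) (.leaf [1,3,2,1,2,3,2])) (.node (.leaf [2,3,2,0,1,2]) (.leaf [2,1,3,2,0,3]))) (.node (.node (.leaf [2,0,1,2,0,1]) (.leaf [0,3,2,0,2,1,0,2])) (.node (.leaf [2,0,1,2,0,2,1]) (.leaf [1,2,3,2,0,3,2])))))) (.node (.node (.node (.node (.node (.leaf [2,0,1,2,3,2,0]) (.leaf [0,2,1,0,3,2,0,2])) (.node (.leaf [1,2,0,2,3,2,0,1,2]) (.leaf [1,0,3,2,1,2,3]))) (.node (.node (.leaf [0,1,0,2,0,2,3,2]) (.leaf [1,2,3,2,1,2,3,2])) (.node (.leaf [0,1,0,2,0,2,1,2,0]) (.leaf [0,2,1,2,3,2,1,2])))) (.node (.node (.node (.leaf [1,2,0,2,3,2,0,2]) (.leaf [1,0,2,3,2,1,2,3,2])) (.node (.leaf [0,2,0,2,1,0,3])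 (.leaf [1,2,0,2,1,0]))) (.node (.node (.leaf [1,0,2,3,2,3]) (.leaf [2,1,2,0,3])) (.node (.leaf [1,2,3,2,1,2,0]) (.leaf [1,0,2,0,1,2,0,1]))))) (.node (.node (.node (.node (.leaf [0,1,0,2,3,2,1,3]) (.leaf [0,2,0,2,1,2,0,1,2])) (.node (.leaf [1,2,0,3,2,0,2,1,2]) (.leaf [0,1,2,0,1,2,0,1,2]))) (.node (.node (.leaf [2,1,0,2,3,2]) (.leaf [0,2,3,2,0,1,3])) (.node (.leaf [1,2,1]) (.leaf [3,2,0,2,3,2,1,0])))) (.node (.node (.node (.leaf [0,2,0,2,1,0]) (.leaf [0,2,0,1,2,0,2,3,2,3])) (.node (.leaf [2,1,2,3,2]) (.leaf [0,1,2,0,3,2,1,0]))) (.node (.node (.leaf [2,3,2,1,2,3,2]) (.leaf [2,0,1,0,3,2,0,2])) (.node (.leaf [0,1,2,0,1,3]) (.leaf [0,2,0,2,1,0,2]))))))) (.node (.node (.node (.node (.node (.node (.leaf [0,1,2,3,2,1,2,0,2,3]) (.leaf [0,1,2,3])) (.node (.leaf [1,2,0,3,2,1,0,2]) (.leaf [0,3,2,0,1,3]))) (.node (.node (.leaf [0,2,3,2,1,0,2,0,2]) (.leaf [2,1,2,0,2,1])) (.node (.leaf [1,2,0,2,1,2,0,2]) (.leaf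 [2,1,0,3,2,3])))) (.node (.node (.node (.leaf [1,0,2,0,1,2,3]) (.leaf [0,2,0,1,2,1,2,3])) (.node (.leaf [0,2,0,1,2,0,3,2,3]) (.leaf [0,1,0,2,0,2,1]))) (.node (.node (.leaf [1,0,3,2,0,2,1,2,3]) (.leaf [0,1,2,0,1,2,1,3])) (.node (.leaf [2,1,3,2,0,2,3]) (.leaf [0,2,1,0,1,2]))))) (.node (.node (.node (.node (.leaf [0,2,1,3]) (.leaf [0,1,2,1,2,3,2,0])) (.node (.leaf [0,1,0,2,1,3,2]) (.leaf [0,1,2,0,2,1,0,2]))) (.node (.node (.leaf [1,2,1,2,0,3]) (.leaf [1,2,1,2,3,2,1,2])) (.node (.leaf [0,1,2,1,2,0,1,2]) (.leaf [2,1,3,2,3])))) (.node (.node (.node (.leaf [2]) (.leaf [0,1,2,1,2,3,2,0,3])) (.node (.leaf [1,2,3,2,0,2]) (.leaf [1,3,2,0,3]))) (.node (.node (.leaf [1,0,1,2,0,2,1]) (.leaf [0,2,3,2,0])) (.node (.leaf [0,1,0,1,2,3,2]) (.leaf [1,2,3,2,0,2,3])))))) (.node (.node (.node (.node (.node (.leaf [0,1,2,3,2,1,3,2]) (.leaf [1,3,2,0,1])) (.node (.leaf [0,1,0,3,2,0]) (.leaf [1,2,0,3,2,0,2]))) (.node (.node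 (.leaf [1,3,2,0,2,1,2,0]) (.leaf [0,1,2,0,1,2,0,2,1])) (.node (.leaf [0,3,2,0,3,2,1]) (.leaf [0,2,1,2,3,2,1,2,0])))) (.node (.node (.node (.leaf [2,0,1,2,3,2]) (.leaf [1,2,0,3,2,1,3,2])) (.node (.leaf [2,0,2,1,3]) (.leaf [0,1,0,2,0,2,1,2,0,2]))) (.node (.node (.leaf [0,1,0,3,2,0,1,2,3]) (.leaf [0,1,2,1,2,3,2])) (.node (.leaf [1,0,1,2,0,3]) (.leaf [2,1,0,2,1,0]))))) (.node (.node (.node (.node (.leaf [0,1,2,3,2,0,2,3,2,1]) (.leaf [0,1,0,1,2,0,2,3,2])) (.node (.leaf [0,3,2,1,0]) (.leaf [0,1,2,1,2,3,2,0,3,2]))) (.node (.node (.leaf [0,1,0,3,2,1,2,3,2]) (.leaf [0,1,2,0,2,1,2,0,2,3])) (.node (.leaf [3,2,1,2,3]) (.leaf [1,3,2,0,2,3,2])))) (.node (.node (.node (.leaf [0,1,3,2,0,2,1,2,3,2]) (.leaf [1,0,2,3,2,0,2,1,3])) (.node (.leaf [0,1,2,1,3]) (.leaf [0,2,1,0,2,1]))) (.node (.node (.leaf [2,1,2,0,2]) (.leaf [0,1,0,2,0])) (.node (.leaf [0,2,3,2,0,2,1,0,2]) (.leaf [1,0,3,2,3]))))))))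

def sI_4 : CfsgLib.Coset.Tr (List Nat) := (.node (.node (.node (.node (.node (.node (.node (.leaf [2,3,2,0,2,3,2]) (.leaf [2,0,2,3,2,1,0,2])) (.node (.leaf [0,2,1,2,0,1,2,1,2]) (.leaf [0,3,2,1,2,3,2]))) (.node (.node (.leaf [0,2,0,2,3,2,0,2]) (.leaf [0,2,3,2,3])) (.node (.leaf [0,1,0,2,0,2,1,3]) (.leaf [1,0,2,0,1,0,2])))) (.node (.node (.node (.leaf [0,1,0,1,2,0,2]) (.leaf [1,3,2,1,2,0,2])) (.node (.leaf [0,1,2,0,1,2,0,2]) (.leaf [0,1,2,0]))) (.node (.node (.leaf [1,2,0,2,3,2,1,3]) (.leaf [2,3,2,1,2,0,1])) (.node (.leaf [0,2,0,2,1,0,1,2]) (.leaf [1,3,2,0,1,2,0]))))) (.node (.node (.node (.node (.leaf [0,3,2,0,2,3]) (.leaf [2,3,2])) (.node (.leaf [1,2,0,2,1,2,3]) (.leaf [0,1,3,2,1,2,0,2,3]))) (.node (.node (.leaf [0,1,2,3,2,1,2]) (.leaf [1,0,2,0,2,1,2])) (.node (.leaf [3,2,0,2,1,2,3,2]) (.leaf [2,0,1,3,2])))) (.node (.node (.node (.leaf [0,1,2,0,1,0]) (.leaf [0,2,1,0])) (.node (.leaf [0,1,2,0,2,3,2,1,0])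 (.leaf [0,3,2,0,1,2,0]))) (.node (.node (.leaf [0,1,0,2,3,2,0,3]) (.leaf [0,3,2,1,0,2])) (.node (.leaf [0,1,0,2,0,2]) (.leaf [0,1,3,2,1,2,3])))))) (.node (.node (.node (.node (.node (.leaf [1,2,1,3,2,0,2,3,2]) (.leaf [0,1,2,0,2,3,2])) (.node (.leaf [2,0,2,3,2]) (.leaf [0,1,2,0,2,3,2,1,3,2]))) (.node (.node (.leaf [0,3,2,1,2,0,1]) (.leaf [2,0,1,2,0,2,3,2])) (.node (.leaf [0,2,1]) (.leaf [0,2,0,2,1,0,3,2,0,2])))) (.node (.node (.node (.leaf [0,1,0,2,3,2,0,1,2]) (.leaf [0,3,2,0,1])) (.node (.leaf [0,2,1,0,2,0,2]) (.leaf [0,3,2,1,3,2]))) (.node (.node (.leaf [2,0,2,1,0,2,1,0,2]) (.leaf [0,2,1,0,1,2,1])) (.node (.leaf [0,1,0]) (.leaf [1,0,1,2,0,2,1,2]))))) (.node (.node (.node (.node (.leaf [2,1,3,2,1,2,0,2,3]) (.leaf [2,1,3,2,0,2])) (.node (.leaf [2,0,1,2,1,2,3,2]) (.leaf [1,0,2,0,2,1,0]))) (.node (.node (.leaf [1,0,2,3,2,0]) (.leaf [0,1,2,3,2,0,2,1])) (.node (.leaf [0,2,1,0,1,2,0,2]) (.leaf [1,0,1,2,0,1,2]))))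 (.node (.node (.node (.leaf [1,0,2,1,2]) (.leaf [1,0,2,3,2,0,3,2,1])) (.node (.leaf [0,2,0,2,1,3,2]) (.leaf [2,0,1,0,2]))) (.node (.node (.leaf [0,1,0,2,1,0,2]) (.leaf [2,1,0,2,0,3])) (.node (.leaf [1,0,1,2,3,2,0]) (.leaf [0,2,1,2,0,1,2,1]))))))) (.node (.node (.node (.node (.node (.node (.leaf [0,3,2,0,2]) (.leaf [2,0,1,2,0,3,2])) (.node (.leaf [0,1,0,2,0,2,1,2,3]) (.leaf [3,2,1,0,2,1,0]))) (.node (.node (.leaf [0,1,2,1,3,2]) (.leaf [2,1,2,3,2,3])) (.node (.leaf [0,2,1,2,0,1]) (.leaf [2,0,2,3,2,1,3])))) (.node (.node (.node (.leaf [2,0,2,1,2,3,2]) (.leaf [0,1,0,2,0,3])) (.node (.leaf [0,2,1,2,3,2,0]) (.leaf [0,2,0,2,1,0,2,1,0]))) (.node (.node (.leaf [0,2,3,2,1,0,2,0]) (.leaf [0,2,1,0,3,2])) (.node (.leaf [0,2,3,2,1,2,0,2,3]) (.leaf [0,1,0,2,1]))))) (.node (.node (.node (.node (.leaf [0,2,3,2,1,2,0,2,1]) (.leaf [3,2,0,1,2,3,2])) (.node (.leaf [1,0,3,2]) (.leaf [2,3,2,0,2,1,3,2]))) (.node (.node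 (.leaf [0,1,2,0,1,2,0,3]) (.leaf [1,0,2,0,2,3])) (.node (.leaf [0,2,0,3,2,0,2,1,2,3]) (.leaf [0,2,1,3,2,1])))) (.node (.node (.node (.leaf [0,2,0]) (.leaf [3,2,0,2,1,2,3])) (.node (.leaf [1,0,1,3,2]) (.leaf [0,1,0,3,2,0,2,3,2]))) (.node (.node (.leaf [1,2,3,2,3]) (.leaf [1,2,0,3])) (.node (.leaf [0,1,0,2,3,2,1,2]) (.leaf [1,2,0,1,2,0,1])))))) (.node (.node (.node (.node (.node (.leaf [0,2,3,2,0,2,1]) (.leaf [0,1,2,1,3,2,0,2])) (.node (.leaf [0,3,2,0,2,1]) (.leaf [2,1,2,3,2,0,3]))) (.node (.node (.leaf [3,2,1,2,0,2,1]) (.leaf [0,1,2,0,1,2,0])) (.node (.leaf [1,2,3,2,0,3]) (.leaf [0,1,0,2,0,1,3])))) (.node (.node (.node (.leaf [1,2,3,2,0,2,1,0,2]) (.leaf [2,0,2,1,2,0,2])) (.node (.leaf [0,2,1,2,0,2,3]) (.leaf [2,3,2,0,1,2,3]))) (.node (.node (.leaf [0,1,2,1,3,2,0,3]) (.leaf [0,2,1,0,2,3,2,0,2])) (.node (.leaf [1,2,0,1,2,3]) (.leaf [2,0,3,2,3]))))) (.node (.node (.node (.node (.leaf [2,3,2,0,2,3]) (.leaf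 [0,2,1,2,3,2,1])) (.node (.leaf [0,2,0,1,2,3]) (.leaf [0,1,0,2,0,1,2,0,2]))) (.node (.node (.leaf [2,3,2,0,3,2,1]) (.leaf [0,1,0,3,2,0,2,3])) (.node (.leaf [1,2,1,3,2,0,2,3]) (.leaf [0,1,3,2,0,1,2])))) (.node (.node (.node (.leaf [1,0,1]) (.leaf [0,1,0,1,2,1,2])) (.node (.leaf [2,3]) (.leaf [1,0,2,1,2,3]))) (.node (.node (.leaf [0,1]) (.leaf [1,0,1,2,0,1,2,0])) (.node (.leaf [1,0,3,2,1]) (.leaf [0,1,2,0,3,2,1]))))))))

def sI_5 : CfsgLib.Coset.Tr (List Nat) := (.node (.node (.node (.node (.node (.node (.node (.leaf [1,2,1,2,0,1,2,1,2]) (.leaf [0,2,1,3,2,0])) (.node (.leaf [2,3,2,1,2,0]) (.leaf [2,0,2,1,0,3,2,0]))) (.node (.node (.leaf [0,1,2,3,2,0,1]) (.leaf [1,0,2,3,2,1,2,3])) (.node (.leaf [0,2,3,2,0,1,2,0]) (.leaf [0,3,2,1,0,2,3,2,0])))) (.node (.node (.node (.leaf [1,0,1,2,0,2,3]) (.leaf [1,0,3,2,0,2,1])) (.node (.leaf [0,1,2,0,2,3,2,0]) (.leaf [2,0,1,2,0,2]))) (.node (.node (.leaf [0,2,1,0,1,2,0,2,3])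 (.leaf [2,0,1,3,2,0])) (.node (.leaf [1,0,2,0,1,0]) (.leaf [0,2,0,1,2,1,3]))))) (.node (.node (.node (.node (.leaf [1,3]) (.leaf [0,2,0,3,2,1,0,2])) (.node (.leaf [1,2,0,2,3]) (.leaf [0,2,0,1,0,3,2,0]))) (.node (.node (.leaf [3,2]) (.leaf [1,0,1,2,0,1])) (.node (.leaf [3,2,3]) (.leaf [2,0,3,2,0])))) (.node (.node (.node (.leaf [0,1,2,0,1,2,1,3,2]) (.leaf [0,2,1,2,0,2,1,0])) (.node (.leaf [0,1,0,1,2]) (.leaf [0,2,3,2,0,3]))) (.node (.node (.leaf [0,3,2,1,0,2,0,2,3]) (.leaf [0,2,0,3])) (.node (.leaf [2,1,3,2]) (.leaf [2,0,2,1,0,3,2,3])))))) (.node (.node (.node (.node (.node (.leaf [0,2,3,2,0,2,1,0]) (.leaf [2,0,1,3])) (.node (.leaf [2,0,2,1,2,0,2,3]) (.leaf [0,3,2,1,0,2,1]))) (.node (.node (.leaf [0,2,1,0,2,1,0,2]) (.leaf [1,0,2,0,1])) (.node (.leaf [0,3,2,0,2,1,3]) (.leaf [0,1,2,0,2,3,2,3])))) (.node (.node (.node (.leaf [0,1,0,3,2,1,2]) (.leaf [0,2,1,2])) (.node (.leaf [0,3,2,1,2,0]) (.leaf [2,0,1,2,3,2,0,2,3])))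 (.node (.node (.leaf [1,0,1,2,0,1,2,0,1]) (.leaf [2,1,0,3,2,0])) (.node (.leaf [0,1,3,2,0,2,1,2]) (.leaf [0,1,0,2,1,0]))))) (.node (.node (.node (.node (.leaf [1,2,3,2,1,3]) (.leaf [0,2,0,2,1,0,1,2,0])) (.node (.leaf [0,1,2,0,3,2]) (.leaf [0,3,2,0,2,3,2,1]))) (.node (.node (.leaf [0,1,3,2]) (.leaf [0,1,2,0,1,2,3,2,0])) (.node (.leaf [0,2,0,1,2,3,2,1]) (.leaf [0,3,2,1,0,2,3])))) (.node (.node (.node (.leaf [2,0,1,2,1]) (.leaf [0,2,3,2,1,0,2,3,2])) (.node (.leaf [2,0,2,1,2,0,3]) (.leaf [2,0,3,2,0,2,1,2]))) (.node (.node (.leaf [0,1,0,2,0,1,2,0]) (.leaf [0,1,3,2,1])) (.node (.leaf [0,2,0,3,2,1]) (.leaf [0,1,0,3,2,0,3]))))))) (.node (.node (.node (.node (.node (.node (.leaf [3,2,1,2,0,2]) (.leaf [2,0,2,1,0,3,2])) (.node (.leaf [0,2,3,2,0,1,0]) (.leaf [0,2,3,2,0,1,3,2]))) (.node (.node (.leaf [1,2,0,1,2,3,2,0,2]) (.leaf [0,2,0,2,3,2,0,1,2,3])) (.node (.leaf [2,0,2,1]) (.leaf [0,2,3,2,1,3])))) (.node (.node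 (.node (.leaf [2,1,0,1,2,0,2,3,2]) (.leaf [0,2,0,2,3,2,1])) (.node (.leaf [0,1,2,0,2,3,2,1]) (.leaf [0,2,0,1,0,3,2]))) (.node (.node (.leaf [2,0,1,0,3]) (.leaf [2,1,3,2,1,2])) (.node (.leaf [1,0,2,1,2,3,2]) (.leaf [0,2,1,2,3,2,0,3,2]))))) (.node (.node (.node (.node (.leaf [3,2,1,0,2,0,2]) (.leaf [0,2,1,2,0,2,3,2])) (.node (.leaf [0,2,0,2,3,2,0]) (.leaf [0,2,1,3,2,0,2,3,2]))) (.node (.node (.leaf [0,1,3,2,1,2,0]) (.leaf [0,1,2,0,2,1,3,2])) (.node (.leaf [0,1,2,0,3,2,3]) (.leaf [0,3,2,0,1,2])))) (.node (.node (.node (.leaf [1,2,3,2,0,1,3]) (.leaf [1,2,1,2,0,1])) (.node (.leaf [0,2,3,2,0,2,1,2]) (.leaf [0,1,0,2]))) (.node (.node (.leaf [2,0,2,3,2,3]) (.leaf [1,0,3,2,0,1])) (.node (.leaf [1,0,2,1,3,2,0,2]) (.leaf [0,2,3,2,1,2,3])))))) (.node (.node (.node (.node (.node (.leaf [1,2,1,2,0]) (.leaf [0,1,2,1,2,0,2,3])) (.node (.leaf [0,1,0,1,2,0]) (.leaf [1,0,1,3,2,0]))) (.node (.node (.leaf [1,3,2,0,2])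 (.leaf [0,1,0,2,3,2,0,2,3])) (.node (.leaf [1,0,2,0,1,2]) (.leaf [2,1,2,0,1,2])))) (.node (.node (.node (.leaf [0,1,2,0,2,1,2,3,2]) (.leaf [1,2,0,2,1,2])) (.node (.leaf [1,0,2,1,2,3,2,0]) (.leaf [2,1,0,2,0]))) (.node (.node (.leaf [0,1,2,3,2,0,2,1,3,2]) (.leaf [0,1,0,3,2,0,1,2,0])) (.node (.leaf [2,3,2,1,0]) (.leaf [0,2,3,2,1,0,2,3]))))) (.node (.node (.node (.node (.leaf [0,2,0,2]) (.leaf [0,2,0,2,1,3,2,0])) (.node (.leaf [0,1,0,2,3,2]) (.leaf [1,2,0,1,2]))) (.node (.node (.leaf [0,2,3,2,1,0,2,1]) (.leaf [0,1,2,0,1,2,3,2])) (.node (.leaf [0,3,2,1,2,0,2,3]) (.leaf [1,2,0,1,0,2])))) (.node (.node (.node (.leaf [2,3,2,0,2,3,2,1]) (.leaf [0,2,1,0,1])) (.node (.leaf [0,2,0,1,2,0,2,3]) (.leaf [3,2,0,1,2,3]))) (.node (.node (.leaf [1,2,3,2]) (.leaf [0,2,0,2,1,2])) (.node (.leaf [0,1,3,2,0,2,3]) (.leaf [2,0,2,1,2,0]))))))))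

def sI_6 : CfsgLib.Coset.Tr (List Nat) := (.node (.node (.node (.node (.node (.node (.node (.leaf [1,0,2,3,2,0,1]) (.leaf [3,2,1,0,2,0])) (.node (.leaf [0,1,2,3,2,0,2,3,2]) (.leaf [2,1,2,3]))) (.node (.node (.leaf [1,0,1,3,2,0,2]) (.leaf [0,2,0,1,2,1,2])) (.node (.leaf [0,2,0,1,3,2,0,2]) (.leaf [0,2,1,0,1,2,1,2])))) (.node (.node (.node (.leaf [2,1,2,0,2,1,2]) (.leaf [0,2,3,2,0,3,2])) (.node (.leaf [1,0,2,3,2,0,2]) (.leaf [0,3,2,1,0,2,3,2]))) (.node (.node (.leaf [2,3,2,1,2]) (.leaf [0,1,2,3,2,0,2,1,0])) (.node (.leaf [0,2,1,3,2,1,2,0,2]) (.leaf [0,2,1,0,2,3,2,3]))))) (.node (.node (.node (.node (.leaf [0,2,0,2,1,0,1]) (.leaf [0,3,2,0,1,0])) (.node (.leaf [0,2,3,2,0,1]) (.leaf [2,1,3,2,1,2,0]))) (.node (.node (.leaf [1,0,2,0,2,3,2,0]) (.leaf [0,2,1,3,2,0,3,2])) (.node (.leaf [0,1,2,3,2,0]) (.leaf [1,2,3,2,0,2,1,3])))) (.node (.node (.node (.leaf [2,0,2,1,2,3]) (.leaf [3,2,0,1,3,2])) (.node (.leaf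 [0,2,0,2,1,2,0,1]) (.leaf [0,1,2,1,3,2,0,3,2]))) (.node (.node (.leaf [1,2,0,3,2,1,3]) (.leaf [2,1,0,2,0,2,3,2])) (.node (.leaf [0,2,0,2,1,3,2,0,2]) (.leaf [2,1,2,0,1,2,0])))))) (.node (.node (.node (.node (.node (.leaf [0,2,0,2,3]) (.leaf [0,1,3,2,0])) (.node (.leaf [0,1,0,2,1,3,2,0]) (.leaf [0,3,2,0,2,1,3,2]))) (.node (.node (.leaf [0,1,0,1,3]) (.leaf [2,0,1,2,1,3,2,3])) (.node (.leaf [1,0,2,1,0,2,0]) (.leaf [2,1,0,2,3])))) (.node (.node (.node (.leaf [2,0,2,1,2,3,2,0]) (.leaf [0,1,0,2,0,2,1,0,2])) (.node (.leaf [0,3,2,1,3]) (.leaf [1,2,1,2,3,2,3]))) (.node (.node (.leaf [0,1,2,3,2,1,2,3]) (.leaf [2,0,3,2])) (.node (.leaf [1,0,3,2,0,2]) (.leaf [2,0,3,2,1,3,2]))))) (.node (.node (.node (.node (.leaf [0,3,2,0,2,3,2]) (.leaf [0,1,3,2,0,2,1,2,3])) (.node (.leaf [0,1,2,0,2]) (.leaf [0,2,0,1,0,1]))) (.node (.node (.leaf [1,2,0,1]) (.leaf [0,1,2,0,2,1,3])) (.node (.leaf [0,2,3,2,0,2]) (.leaf [1,0,2,3,2,0,3,2]))))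 (.node (.node (.node (.leaf [3,2,0,3]) (.leaf [1,2,1,2,0,2])) (.node (.leaf [0,2,3,2,1,0,2]) (.leaf [1,3,2,3]))) (.node (.node (.leaf [0,1,2,1,2,3]) (.leaf [0,1,2,1,2,3,2,1])) (.node (.leaf [0,1,0,1,2,3]) (.leaf [2,0,1,0]))))))) (.node (.node (.node (.node (.node (.node (.leaf [1,2,3,2,1]) (.leaf [0,2,0,3,2,0,2])) (.node (.leaf [0,1,0,2,0,2,3,2,0,2]) (.leaf [0,1,2,1,0]))) (.node (.node (.leaf [3,2,0]) (.leaf [0,1,2,0,1,2,1,2])) (.node (.leaf [0,1,2,1,0,2]) (.leaf [0,3,2,1,0,2,0,3])))) (.node (.node (.node (.leaf [3]) (.leaf [1,2,1,3,2,1,2])) (.node (.leaf [0,2,1,0,2,0,2,3]) (.leaf [2,1,0,2]))) (.node (.node (.leaf [0,2,1,0,2,3,2,0]) (.leaf [0,1,2,0,3,2,0])) (.node (.leaf [0,1,2]) (.leaf [0,2,0,1,0,3,2,3]))))) (.node (.node (.node (.node (.leaf [2,1,0,3]) (.leaf [2,0,1,2,3,2,0,2])) (.node (.leaf [1,0,1,2,3,2,0,2]) (.leaf [0,2,1,2,0]))) (.node (.node (.leaf [0,2,0,3,2,1,0]) (.leaf [1,3,2,0,2,1])) (.node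 (.leaf [2,0,1,0,1,2]) (.leaf [1,2,0,3,2,0,2,1])))) (.node (.node (.node (.leaf [1,0,2,3,2,0,1,3]) (.leaf [2,0,2,3,2,1,3,2])) (.node (.leaf [2,1,0,2,3,2,0,1]) (.leaf [0,2,1,0,2,3,2,0,3]))) (.node (.node (.leaf [1,0,3,2,0,2,1,2]) (.leaf [0,1,2,0,2,3,2,0,1])) (.node (.leaf [2,3,2,1]) (.leaf [0,1,2,0,1,2,1])))))) (.node (.node (.node (.node (.node (.leaf [0,1,2,1,2]) (.leaf [0,2,0,2,3,2,1,0])) (.node (.leaf [2,1,0,2,1,2]) (.leaf [2,0,1,2,1,3,2]))) (.node (.node (.leaf [1,2,1,3,2,0]) (.leaf [2,0,1,2,1,2,3,2,3])) (.node (.leaf [1,3,2,0,1,2,3]) (.leaf [1,2,0,2,1,3,2,0,2])))) (.node (.node (.node (.leaf [0,1,2,3,2,1,2,0,2]) (.leaf [2,3,2,0,2,1,3])) (.node (.leaf [0,2,0,2,3,2,0,1]) (.leaf [0,2,0,2,1,0,2,1]))) (.node (.node (.leaf [1,2,1,2,0,2,1,2]) (.leaf [0,1,2,0,1,3,2])) (.node (.leaf [1,3,2,1,2]) (.leaf [2,0,1]))))) (.node (.node (.node (.node (.leaf [1,0,2,3,2,0,1,3,2]) (.leaf [0,1,0,2,3])) (.node (.leaf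 [3,2,0,2,1,0]) (.leaf [3,2,0,3,2]))) (.node (.node (.leaf [3,2,1]) (.leaf [0,1,2,3,2,0,1,2])) (.node (.leaf [1,2,0,2,1,2,0]) (.leaf [0,2,3,2,1,3,2])))) (.node (.node (.node (.leaf [1,2,1,3,2,3]) (.leaf [0,1,3,2,0,3,2])) (.node (.leaf [1,0,2,3,2,0,2,1]) (.leaf [0,1,0,3,2,0,1,2]))) (.node (.node (.leaf [0,1,2,0,1,2,0,2,3]) (.leaf [2,0,1,2,0])) (.node (.leaf [2,1,0,1,2,0,1]) (.leaf [1,2,0,1,2,0,2,3,2]))))))))

def sI_7 : CfsgLib.Coset.Tr (List Nat) := (.node (.node (.node (.node (.node (.node (.node (.leaf [0]) (.leaf [2,0,1,2,0,3])) (.node (.leaf [1,0,2,0,1,2,0,3]) (.leaf [3,2,1,2]))) (.node (.node (.leaf [1,0,3]) (.leaf [1,2,1,2,0,2,1])) (.node (.leaf [0,3,2,0,2,1,2,0]) (.leaf [2,0,1,2,0,1,2])))) (.node (.node (.node (.leaf [0,1,0,2,3,2,1]) (.leaf [1,2,1,3,2,1])) (.node (.leaf [0,2,0,3,2,0,2,1]) (.leaf [1,2,0,2,1]))) (.node (.node (.leaf [0,3,2,0,2,1,2]) (.leaf [2,0,2,3,2,0,1,2])) (.node (.leaf [2,3,2,0,1,2,3,2])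 (.leaf [0,2,1,0,1,2,0]))))) (.node (.node (.node (.node (.leaf [2,0,2,1,2,3,2,1]) (.leaf [0,1,0,1,2,1])) (.node (.leaf [0,1,2,0,2,1,3,2,0]) (.leaf [0,1,0,2,1,3]))) (.node (.node (.leaf [2,3,2,1,2,0,2]) (.leaf [2,0,1,2])) (.node (.leaf [2,0,3,2,1,3]) (.leaf [0,1,2,0,2,3,2,1,0,2])))) (.node (.node (.node (.leaf [1,2,1,2,0,1,2,1]) (.leaf [0,1,3,2,1,2,3,2])) (.node (.leaf [0,2,3,2,0,1,2]) (.leaf [0,2,1,3,2,0,3]))) (.node (.node (.leaf [0,2,0,1,2,0,1]) (.leaf [3,2,0,2,1,0,2])) (.node (.leaf [0,2,0,1,2,0,2,1]) (.leaf [0,1,2,3,2,0,3,2])))))) (.node (.node (.node (.node (.node (.leaf [0,2,0,1,2,3,2,0]) (.leaf [2,1,0,3,2,0,2])) (.node (.leaf [0,1,2,0,2,3,2,0,1,2]) (.leaf [0,1,0,3,2,1,2,3]))) (.node (.node (.leaf [1,0,2,0,2,3,2]) (.leaf [0,1,2,3,2,1,2,3,2])) (.node (.leaf [1,0,2,0,2,1,2,0]) (.leaf [2,1,2,3,2,1,2])))) (.node (.node (.node (.leaf [0,1,2,0,2,3,2,0,2]) (.leaf [0,1,0,2,3,2,1,2,3,2])) (.node (.leaf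 [2,0,2,1,0,3]) (.leaf [0,1,2,0,2,1,0]))) (.node (.node (.leaf [0,1,0,2,3,2,3]) (.leaf [0,2,1,2,0,3])) (.node (.leaf [0,1,2,3,2,1,2,0]) (.leaf [0,1,0,2,0,1,2,0,1]))))) (.node (.node (.node (.node (.leaf [1,0,2,3,2,1,3]) (.leaf [2,0,2,1,2,0,1,2])) (.node (.leaf [0,1,2,0,3,2,0,2,1,2]) (.leaf [1,2,0,1,2,0,1,2]))) (.node (.node (.leaf [0,2,1,0,2,3,2]) (.leaf [2,3,2,0,1,3])) (.node (.leaf [0,1,2,1]) (.leaf [0,3,2,0,2,3,2,1,0])))) (.node (.node (.node (.leaf [2,0,2,1,0]) (.leaf [2,0,1,2,0,2,3,2,3])) (.node (.leaf [0,2,1,2,3,2]) (.leaf [1,2,0,3,2,1,0]))) (.node (.node (.leaf [0,2,3,2,1,2,3,2]) (.leaf [0,2,0,1,0,3,2,0,2])) (.node (.leaf [1,2,0,1,3]) (.leaf [2,0,2,1,0,2]))))))) (.node (.node (.node (.node (.node (.node (.leaf [1,2,3,2,1,2,0,2,3]) (.leaf [1,2,3])) (.node (.leaf [0,1,2,0,3,2,1,0,2]) (.leaf [3,2,0,1,3]))) (.node (.node (.leaf [2,3,2,1,0,2,0,2]) (.leaf [0,2,1,2,0,2,1])) (.node (.leaf [0,1,2,0,2,1,2,0,2])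 (.leaf [0,2,1,0,3,2,3])))) (.node (.node (.node (.leaf [0,1,0,2,0,1,2,3]) (.leaf [2,0,1,2,1,2,3])) (.node (.leaf [2,0,1,2,0,3,2,3]) (.leaf [1,0,2,0,2,1]))) (.node (.node (.leaf [0,1,0,3,2,0,2,1,2,3]) (.leaf [1,2,0,1,2,1,3])) (.node (.leaf [0,2,1,3,2,0,2,3]) (.leaf [2,1,0,1,2]))))) (.node (.node (.node (.node (.leaf [2,1,3]) (.leaf [1,2,1,2,3,2,0])) (.node (.leaf [1,0,2,1,3,2]) (.leaf [1,2,0,2,1,0,2]))) (.node (.node (.leaf [0,1,2,1,2,0,3]) (.leaf [0,1,2,1,2,3,2,1,2])) (.node (.leaf [1,2,1,2,0,1,2]) (.leaf [0,2,1,3,2,3])))) (.node (.node (.node (.leaf [0,2]) (.leaf [1,2,1,2,3,2,0,3])) (.node (.leaf [0,1,2,3,2,0,2]) (.leaf [0,1,3,2,0,3]))) (.node (.node (.leaf [0,1,0,1,2,0,2,1]) (.leaf [2,3,2,0])) (.node (.leaf [1,0,1,2,3,2]) (.leaf [0,1,2,3,2,0,2,3])))))) (.node (.node (.node (.node (.node (.leaf [1,2,3,2,1,3,2]) (.leaf [0,1,3,2,0,1])) (.node (.leaf [1,0,3,2,0]) (.leaf [0,1,2,0,3,2,0,2]))) (.node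 (.node (.leaf [0,1,3,2,0,2,1,2,0]) (.leaf [1,2,0,1,2,0,2,1])) (.node (.leaf [3,2,0,3,2,1]) (.leaf [2,1,2,3,2,1,2,0])))) (.node (.node (.node (.leaf [0,2,0,1,2,3,2]) (.leaf [0,1,2,0,3,2,1,3,2])) (.node (.leaf [0,2,0,2,1,3]) (.leaf [1,0,2,0,2,1,2,0,2]))) (.node (.node (.leaf [1,0,3,2,0,1,2,3]) (.leaf [1,2,1,2,3,2])) (.node (.leaf [0,1,0,1,2,0,3]) (.leaf [0,2,1,0,2,1,0]))))) (.node (.node (.node (.node (.leaf [1,2,3,2,0,2,3,2,1]) (.leaf [1,0,1,2,0,2,3,2])) (.node (.leaf [3,2,1,0]) (.leaf [1,2,1,2,3,2,0,3,2]))) (.node (.node (.leaf [1,0,3,2,1,2,3,2]) (.leaf [1,2,0,2,1,2,0,2,3])) (.node (.leaf [0,3,2,1,2,3]) (.leaf [0,1,3,2,0,2,3,2])))) (.node (.node (.node (.leaf [1,3,2,0,2,1,2,3,2]) (.leaf [0,1,0,2,3,2,0,2,1,3])) (.node (.leaf [1,2,1,3]) (.leaf [2,1,0,2,1]))) (.node (.node (.leaf [0,2,1,2,0,2]) (.leaf [1,0,2,0])) (.node (.leaf [2,3,2,0,2,1,0,2]) (.leaf [0,1,0,3,2,3]))))))))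

/-- Its elements as products of generators. -/
def sI : CfsgLib.Coset.Tr (List Nat) := (.node (.node (.node sI_0 sI_1) (.node sI_2 sI_3)) (.node (.node sI_4 sI_5) (.node sI_6 sI_7)))

def sK_0 : CfsgLib.Coset.Tr (List Nat) := (.node (.node (.node (.node (.node (.node (.node (.leaf [2,3,29,23]) (.leaf [872,1114,1898,975])) (.node (.leaf [19,83,25,533]) (.leaf [66,261,15,1468]))) (.node (.node (.leaf [73,93,2018,338]) (.leaf [37,54,135,1227])) (.node (.leaf [845,740,1694,725]) (.leaf [2,4,24,1697])))) (.node (.node (.node (.leaf [22,27,101,206]) (.leaf [845,738,1441,1104])) (.node (.leaf [39,105,101,630]) (.leaf [117,216,47,1587]))) (.node (.node (.leaf [39,105,222,425]) (.leaf [133,164,794,1372])) (.node (.leaf [39,87,82,836]) (.leaf [1860,1802,1381,1857]))))) (.node (.node (.node (.node (.leaf [2,3,169,127]) (.leaf [1170,738,1912,1020])) (.node (.leaf [133,35,1739,578]) (.leaf [68,54,30,1524])))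 (.node (.node (.leaf [845,978,1957,370]) (.leaf [68,44,25,1285])) (.node (.leaf [20,80,24,771]) (.leaf [470,1519,1648,1786])))) (.node (.node (.node (.leaf [21,106,143,276]) (.leaf [9,102,47,1159])) (.node (.leaf [2022,1868,1732,684]) (.leaf [1253,182,1194,1645]))) (.node (.node (.leaf [20,80,167,479]) (.leaf [872,1114,1110,1422])) (.node (.leaf [66,333,213,906]) (.leaf [2,4,24,1914])))))) (.node (.node (.node (.node (.node (.leaf [37,44,15,72]) (.leaf [697,449,1526,1007])) (.node (.leaf [1170,1259,1648,561]) (.leaf [40,60,138,1500]))) (.node (.node (.leaf [133,62,1885,357]) (.leaf [697,1445,1935,1256])) (.node (.leaf [20,55,24,754]) (.leaf [324,635,1772,1734])))) (.node (.node (.node (.leaf [1170,1259,1648,243]) (.leaf [470,1534,1546,1120])) (.node (.leaf [66,261,213,661]) (.leaf [20,86,135,1614]))) (.node (.node (.leaf [21,87,143,457]) (.leaf [117,220,79,1403])) (.node (.leaf [9,139,47,874]) (.leaf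 [9,83,57,1890]))))) (.node (.node (.node (.node (.leaf [68,77,29,187]) (.leaf [697,1114,1977,1052])) (.node (.leaf [119,109,1648,606]) (.leaf [37,54,135,1562]))) (.node (.node (.leaf [1164,700,1381,385]) (.leaf [132,165,1546,1317])) (.node (.leaf [22,60,101,811]) (.leaf [117,260,99,1825])))) (.node (.node (.node (.leaf [21,87,143,306]) (.leaf [37,97,57,1190])) (.node (.leaf [470,635,1381,710]) (.leaf [19,102,30,1678]))) (.node (.node (.leaf [21,87,171,498]) (.leaf [835,287,1137,1444])) (.node (.leaf [2022,1870,1137,952]) (.leaf [9,83,79,1963]))))))) (.node (.node (.node (.node (.node (.node (.leaf [73,93,1110,51]) (.leaf [872,1445,1912,997])) (.node (.leaf [845,978,1694,554]) (.leaf [1860,1802,1381,1485]))) (.node (.node (.leaf [119,109,1944,351]) (.leaf [38,86,138,1237])) (.node (.leaf [39,88,145,742]) (.leaf [116,343,29,1718])))) (.node (.node (.node (.leaf [835,577,1648,234]) (.leaf [835,700,1694,1116]))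 (.node (.leaf [1302,182,1110,642]) (.leaf [22,50,142,1607]))) (.node (.node (.leaf [470,635,1441,437]) (.leaf [1302,267,1795,1390])) (.node (.leaf [9,139,47,850]) (.leaf [22,50,142,1878]))))) (.node (.node (.node (.node (.leaf [132,164,1772,162]) (.leaf [116,343,135,1034])) (.node (.leaf [1302,882,794,596]) (.leaf [66,343,12,1542]))) (.node (.node (.leaf [132,35,1194,378]) (.leaf [470,434,1546,1308])) (.node (.leaf [116,261,24,797]) (.leaf [845,1259,1441,1801])))) (.node (.node (.node (.leaf [5,4,30,295]) (.leaf [116,333,24,1172])) (.node (.leaf [132,62,1732,701]) (.leaf [20,45,135,1654]))) (.node (.node (.leaf [38,45,172,489]) (.leaf [697,449,1739,1432])) (.node (.leaf [132,62,1381,924]) (.leaf [9,146,79,1932])))))) (.node (.node (.node (.node (.node (.leaf [835,406,1367,113]) (.leaf [1170,740,1110,1015])) (.node (.leaf [835,577,1367,569]) (.leaf [19,146,147,1514]))) (.node (.node (.leaf [132,62,1732,363])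 (.leaf [40,60,141,1265])) (.node (.leaf [19,83,101,760]) (.leaf [73,151,1694,1754])))) (.node (.node (.node (.leaf [132,35,1871,250]) (.leaf [67,216,30,1147])) (.node (.leaf [872,1445,1912,674]) (.leaf [20,45,29,1631]))) (.node (.node (.leaf [5,8,79,466]) (.leaf [470,1519,1648,1411])) (.node (.leaf [132,35,1194,890]) (.leaf [37,54,12,1896]))))) (.node (.node (.node (.node (.leaf [2,8,29,197]) (.leaf [73,109,1441,1090])) (.node (.leaf [324,1534,1367,617]) (.leaf [2,6,47,1578]))) (.node (.node (.leaf [66,261,213,411]) (.leaf [116,228,135,1344])) (.node (.leaf [37,97,15,818]) (.leaf [2022,1807,1367,1842])))) (.node (.node (.node (.leaf [40,50,143,314]) (.leaf [67,214,25,1209])) (.node (.leaf [119,64,1526,721]) (.leaf [2022,1807,1977,1687]))) (.node (.node (.leaf [20,80,24,510]) (.leaf [116,261,167,1450])) (.node (.leaf [133,164,794,968]) (.leaf [2022,1870,1885,1979]))))))))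

def sK_1 : CfsgLib.Coset.Tr (List Nat) := (.node (.node (.node (.node (.node (.node (.node (.leaf [2,3,29,41]) (.leaf [872,1114,1110,988])) (.node (.leaf [1302,882,794,551]) (.leaf [835,700,1694,1475]))) (.node (.node (.leaf [133,165,1367,342]) (.leaf [40,32,143,1231])) (.node (.leaf [1253,598,1194,730]) (.leaf [116,343,29,1712])))) (.node (.node (.node (.leaf [133,165,1367,221]) (.leaf [1170,738,1912,1111])) (.node (.leaf [324,434,1817,638]) (.leaf [67,260,30,1597]))) (.node (.node (.leaf [133,35,1739,430]) (.leaf [872,1114,1898,1388])) (.node (.leaf [2,6,24,842]) (.leaf [1170,978,1110,1869]))))) (.node (.node (.node (.node (.leaf [1164,700,1885,158]) (.leaf [872,652,1732,1025])) (.node (.leaf [872,449,1194,586]) (.leaf [835,287,1137,1530]))) (.node (.node (.leaf [1170,1259,1935,374]) (.leaf [67,260,30,1294])) (.node (.leaf [37,77,47,789]) (.leaf [845,740,1898,1796])))) (.node (.node (.node (.leaf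 [1302,182,1110,282]) (.leaf [39,87,82,1165])) (.node (.leaf [39,87,219,690]) (.leaf [68,97,79,1649]))) (.node (.node (.leaf [20,55,24,487]) (.leaf [119,64,1795,1430])) (.node (.leaf [470,1519,1381,911]) (.leaf [19,139,137,1920])))))) (.node (.node (.node (.node (.node (.leaf [1302,182,1739,108]) (.leaf [1164,287,1817,1010])) (.node (.leaf [872,449,1795,565]) (.leaf [2022,1807,1367,1509]))) (.node (.node (.leaf [21,106,171,361]) (.leaf [2,6,47,1262])) (.node (.leaf [38,45,172,756]) (.leaf [117,216,99,1751])))) (.node (.node (.node (.leaf [133,62,1885,248]) (.leaf [116,261,24,1139])) (.node (.leaf [1302,267,1795,666]) (.leaf [9,146,57,1627]))) (.node (.node (.leaf [37,44,167,461]) (.leaf [835,287,1772,1408])) (.node (.leaf [1860,1807,1546,886]) (.leaf [22,50,82,1894]))))) (.node (.node (.node (.node (.leaf [2,3,169,191]) (.leaf [21,88,142,1076])) (.node (.leaf [872,449,1795,611]) (.leaf [38,86,138,1568])))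 (.node (.node (.leaf [470,635,1441,398]) (.leaf [132,165,1194,1341])) (.node (.leaf [73,109,1110,814]) (.leaf [67,214,169,1828])))) (.node (.node (.node (.leaf [37,44,167,310]) (.leaf [117,220,57,1200])) (.node (.leaf [697,449,1526,716]) (.leaf [324,1534,1871,1684]))) (.node (.node (.leaf [2,4,137,507]) (.leaf [845,738,1441,1448])) (.node (.leaf [324,635,1772,961]) (.leaf [38,80,15,1965]))))))) (.node (.node (.node (.node (.node (.node (.leaf [1253,267,1732,63]) (.leaf [1302,882,1912,1004])) (.node (.leaf [872,449,1194,558]) (.leaf [38,80,145,1490]))) (.node (.node (.leaf [132,35,1871,355]) (.leaf [20,86,29,1244])) (.node (.leaf [20,80,167,746]) (.leaf [116,228,135,1722])))) (.node (.node (.node (.leaf [133,165,2012,238]) (.leaf [324,1519,1137,1118])) (.node (.leaf [1860,1870,1381,647]) (.leaf [1302,267,794,1610]))) (.node (.node (.leaf [1253,267,1526,442]) (.leaf [73,151,1912,1401])) (.node (.leaf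 [2022,1868,1732,858]) (.leaf [9,146,57,1888]))))) (.node (.node (.node (.node (.leaf [1164,287,1381,176]) (.leaf [697,1445,1526,1044])) (.node (.leaf [845,978,1694,601]) (.leaf [67,214,25,1556]))) (.node (.node (.leaf [73,64,1935,380]) (.leaf [2022,1802,1137,1310])) (.node (.leaf [67,216,30,805]) (.leaf [1164,406,1546,1821])))) (.node (.node (.node (.leaf [22,27,101,300]) (.leaf [66,343,12,1185])) (.node (.leaf [324,1534,1367,707]) (.leaf [19,139,137,1669]))) (.node (.node (.leaf [37,77,12,491]) (.leaf [73,151,1912,1436])) (.node (.leaf [133,164,1137,928]) (.leaf [38,80,15,1947])))))) (.node (.node (.node (.node (.node (.leaf [68,77,29,123]) (.leaf [845,738,1526,1017])) (.node (.leaf [21,88,141,573]) (.leaf [132,62,1381,1521]))) (.node (.node (.leaf [697,652,794,367]) (.leaf [66,228,12,1277])) (.node (.leaf [2,4,137,768]) (.leaf [40,27,147,1783])))) (.node (.node (.node (.leaf [133,165,2012,253])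 (.leaf [22,60,101,1151])) (.node (.leaf [1860,1870,1381,678]) (.leaf [38,55,142,1635]))) (.node (.node (.leaf [39,88,145,475]) (.leaf [1170,978,1110,1414])) (.node (.leaf [697,652,794,894]) (.leaf [67,220,169,1908]))))) (.node (.node (.node (.node (.leaf [5,6,99,203]) (.leaf [872,652,1732,1097])) (.node (.leaf [1253,882,1526,623]) (.leaf [40,60,141,1581]))) (.node (.node (.leaf [2022,1868,1367,420]) (.leaf [132,165,1546,1363])) (.node (.leaf [9,102,47,828]) (.leaf [22,32,215,1851])))) (.node (.node (.node (.leaf [38,45,12,326]) (.leaf [40,32,145,1219])) (.node (.leaf [872,1445,1194,723]) (.leaf [20,86,135,1695]))) (.node (.node (.leaf [835,577,1367,519]) (.leaf [116,333,138,1464])) (.node (.leaf [117,220,79,971]) (.leaf [117,216,99,1993]))))))))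

def sK_2 : CfsgLib.Coset.Tr (List Nat) := (.node (.node (.node (.node (.node (.node (.node (.leaf [119,151,1526,28]) (.leaf [470,1519,1381,983])) (.node (.leaf [19,83,25,537]) (.leaf [324,1534,1871,1474]))) (.node (.node (.leaf [132,164,1381,341]) (.leaf [37,97,57,1229])) (.node (.leaf [697,1114,794,726]) (.leaf [67,220,25,1707])))) (.node (.node (.node (.leaf [22,27,222,211]) (.leaf [68,44,25,1106])) (.node (.leaf [470,635,1381,637]) (.leaf [117,214,57,1594]))) (.node (.node (.leaf [835,700,1137,429]) (.leaf [132,165,1194,1385])) (.node (.leaf [845,1259,1795,841]) (.leaf [9,102,99,1863]))))) (.node (.node (.node (.node (.leaf [40,50,171,130]) (.leaf [872,1445,1194,1021])) (.node (.leaf [470,434,1546,584]) (.leaf [73,151,1694,1529]))) (.node (.node (.leaf [1253,598,1194,372]) (.leaf [117,214,57,1291])) (.node (.leaf [1302,598,1110,775]) (.leaf [40,27,147,1794])))) (.node (.node (.node (.leaf [324,434,1817,280])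 (.leaf [38,55,15,1162])) (.node (.leaf [39,105,222,685]) (.leaf [5,3,25,1646]))) (.node (.node (.leaf [21,105,147,483]) (.leaf [1164,406,2012,1425])) (.node (.leaf [697,652,1977,907]) (.leaf [40,27,138,1917])))))) (.node (.node (.node (.node (.node (.leaf [119,151,1526,90]) (.leaf [872,652,1110,1009])) (.node (.leaf [133,62,794,564]) (.leaf [66,228,215,1502]))) (.node (.node (.leaf [132,164,1772,359]) (.leaf [5,3,12,1261])) (.node (.leaf [39,88,101,755]) (.leaf [1302,267,794,1750])))) (.node (.node (.node (.leaf [1302,598,1898,246]) (.leaf [37,77,47,1133])) (.node (.leaf [116,343,135,662]) (.leaf [5,3,25,1615]))) (.node (.node (.leaf [68,44,24,460]) (.leaf [1170,738,1648,1407])) (.node (.leaf [324,635,1137,884]) (.leaf [20,45,29,1893]))))) (.node (.node (.node (.node (.leaf [2,8,57,189]) (.leaf [39,87,219,1067])) (.node (.leaf [67,216,137,610]) (.leaf [40,32,143,1563]))) (.node (.node (.leaf [39,105,101,395])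 (.leaf [2022,1870,1137,1325])) (.node (.leaf [73,109,1110,813]) (.leaf [116,333,138,1826])))) (.node (.node (.node (.leaf [68,44,24,309]) (.leaf [68,54,29,1192])) (.node (.leaf [872,652,1110,712]) (.leaf [66,228,215,1682]))) (.node (.node (.leaf [1170,978,2005,506]) (.leaf [1164,577,1944,1447])) (.node (.leaf [1860,1807,1546,953]) (.leaf [9,102,99,1964]))))))) (.node (.node (.node (.node (.node (.node (.leaf [73,93,1110,52]) (.leaf [73,109,1441,1002])) (.node (.leaf [1302,598,1898,556]) (.leaf [68,54,30,1486]))) (.node (.node (.leaf [845,978,1957,353]) (.leaf [19,146,25,1238])) (.node (.leaf [68,77,99,745]) (.leaf [66,343,217,1720])))) (.node (.node (.node (.leaf [119,151,1795,236]) (.leaf [470,1534,1546,1117])) (.node (.leaf [470,1534,1694,646]) (.leaf [19,102,82,1609]))) (.node (.node (.leaf [1164,287,1817,440]) (.leaf [470,434,2005,1391])) (.node (.leaf [116,333,24,853]) (.leaf [19,102,82,1880])))))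 (.node (.node (.node (.node (.leaf [1253,267,1732,175]) (.leaf [1253,182,2020,1041])) (.node (.leaf [2022,1802,1137,600]) (.leaf [117,260,47,1554]))) (.node (.node (.leaf [697,652,1977,379]) (.leaf [1860,1868,794,1309])) (.node (.leaf [39,106,138,801]) (.leaf [119,93,1898,1820])))) (.node (.node (.node (.leaf [5,6,99,298]) (.leaf [20,86,29,1183])) (.node (.leaf [119,64,1795,705]) (.leaf [20,55,167,1655]))) (.node (.node (.leaf [119,64,1526,490]) (.leaf [1170,740,1817,1434])) (.node (.leaf [324,635,1137,927]) (.leaf [9,146,79,1938])))))) (.node (.node (.node (.node (.node (.leaf [37,44,15,118]) (.leaf [697,1114,794,1016])) (.node (.leaf [21,106,171,571]) (.leaf [119,93,1648,1518]))) (.node (.node (.leaf [119,109,1944,365]) (.leaf [5,8,12,1266])) (.node (.leaf [21,87,171,763]) (.leaf [1860,1868,1871,1774])))) (.node (.node (.node (.leaf [119,151,1795,252]) (.leaf [38,86,12,1149])) (.node (.leaf [470,1534,1694,676])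 (.leaf [22,50,82,1634]))) (.node (.node (.leaf [38,45,12,472]) (.leaf [1860,1802,1772,1413])) (.node (.leaf [73,64,1935,892]) (.leaf [20,55,167,1899]))))) (.node (.node (.node (.node (.leaf [5,4,30,200]) (.leaf [1302,882,1912,1092])) (.node (.leaf [1302,598,1110,621]) (.leaf [68,97,24,1580]))) (.node (.node (.leaf [324,1519,1772,418]) (.leaf [133,35,1367,1359])) (.node (.leaf [22,60,172,824]) (.leaf [20,45,135,1844])))) (.node (.node (.node (.leaf [5,8,79,316]) (.leaf [117,220,57,1214])) (.node (.leaf [845,738,1526,722]) (.leaf [845,1259,1441,1688]))) (.node (.node (.leaf [1860,1870,1739,517]) (.leaf [117,260,99,1463])) (.node (.leaf [67,216,137,970]) (.leaf [1860,1802,1772,1980]))))))))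

def sK_3 : CfsgLib.Coset.Tr (List Nat) := (.node (.node (.node (.node (.node (.node (.node (.leaf [5,6,15,42]) (.leaf [697,1445,1526,990])) (.node (.leaf [73,64,1694,552]) (.leaf [835,287,1772,1482]))) (.node (.node (.leaf [1253,882,1922,350]) (.leaf [66,228,12,1235])) (.node (.leaf [697,449,1739,732]) (.leaf [40,27,138,1714])))) (.node (.node (.node (.leaf [132,164,1381,224]) (.leaf [1164,406,1546,1113])) (.node (.leaf [835,406,1441,640]) (.leaf [21,105,141,1606]))) (.node (.node (.leaf [324,434,1367,436]) (.leaf [1164,406,2012,1389])) (.node (.leaf [116,228,29,846]) (.leaf [21,105,141,1877]))))) (.node (.node (.node (.node (.leaf [73,93,2018,160]) (.leaf [117,214,79,1028])) (.node (.leaf [1860,1807,794,590]) (.leaf [133,164,1137,1531]))) (.node (.node (.leaf [1253,882,1922,376]) (.leaf [116,261,167,1295])) (.node (.leaf [116,228,29,795]) (.leaf [2022,1807,1977,1800])))) (.node (.node (.node (.leaf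 [2,8,29,292]) (.leaf [2,6,24,1167])) (.node (.leaf [1164,577,1546,698]) (.leaf [67,214,169,1652]))) (.node (.node (.leaf [39,88,101,488]) (.leaf [1253,598,2013,1431])) (.node (.leaf [21,88,141,912]) (.leaf [9,83,57,1927])))))) (.node (.node (.node (.node (.node (.leaf [1302,182,1739,112]) (.leaf [324,1519,1772,1014])) (.node (.leaf [119,109,1648,566]) (.leaf [22,32,215,1510]))) (.node (.node (.leaf [1164,577,1546,362]) (.leaf [68,97,24,1264])) (.node (.leaf [37,77,12,757]) (.leaf [845,740,1898,1753])))) (.node (.node (.node (.leaf [835,577,1648,249]) (.leaf [39,106,138,1143])) (.node (.leaf [1253,882,1526,669]) (.leaf [39,106,82,1629]))) (.node (.node (.leaf [9,139,99,462]) (.leaf [697,1445,1935,1410])) (.node (.leaf [1170,1259,1935,887]) (.leaf [38,55,142,1895]))))) (.node (.node (.node (.node (.leaf [40,50,171,194]) (.leaf [40,60,138,1084])) (.node (.leaf [1170,978,2005,613]) (.leaf [19,146,25,1569])))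 (.node (.node (.leaf [1253,267,1526,400]) (.leaf [66,333,213,1343])) (.node (.leaf [37,97,15,816]) (.leaf [19,146,147,1833])))) (.node (.node (.node (.leaf [9,139,99,311]) (.leaf [117,260,47,1207])) (.node (.leaf [835,406,1441,717]) (.leaf [1860,1868,1871,1685]))) (.node (.node (.leaf [66,333,15,508]) (.leaf [324,1519,1137,1449])) (.node (.leaf [1860,1870,1739,965]) (.leaf [19,139,30,1966]))))))) (.node (.node (.node (.node (.node (.node (.leaf [5,6,15,70]) (.leaf [324,434,1367,1005])) (.node (.leaf [1860,1807,794,560]) (.leaf [66,261,15,1492]))) (.node (.node (.leaf [1164,700,1885,356]) (.leaf [21,88,142,1254])) (.node (.leaf [21,105,147,750]) (.leaf [19,102,30,1726])))) (.node (.node (.node (.leaf [73,64,1694,241]) (.leaf [1170,740,1817,1119])) (.node (.leaf [67,260,137,655]) (.leaf [68,97,79,1613]))) (.node (.node (.leaf [5,4,15,455]) (.leaf [1253,182,1194,1402])) (.node (.leaf [117,214,79,869])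 (.leaf [39,106,82,1889]))))) (.node (.node (.node (.node (.leaf [1164,287,1381,184]) (.leaf [119,93,1648,1046])) (.node (.leaf [133,62,794,604]) (.leaf [40,32,145,1561]))) (.node (.node (.leaf [845,1259,1795,382]) (.leaf [470,434,2005,1316])) (.node (.leaf [38,86,12,808]) (.leaf [66,343,217,1822])))) (.node (.node (.node (.leaf [5,4,15,304]) (.leaf [5,3,12,1189])) (.node (.leaf [1253,598,2013,708]) (.leaf [67,220,169,1675]))) (.node (.node (.leaf [19,83,101,495]) (.leaf [845,740,1694,1442])) (.node (.leaf [1860,1868,794,936]) (.leaf [9,83,79,1952])))))) (.node (.node (.node (.node (.node (.leaf [2,8,57,125]) (.leaf [2022,1868,1367,1019])) (.node (.leaf [835,700,1137,575]) (.leaf [1164,577,1944,1522]))) (.node (.node (.leaf [2022,1802,1194,369]) (.leaf [117,216,47,1278])) (.node (.leaf [66,333,15,769]) (.leaf [1170,738,1648,1785])))) (.node (.node (.node (.leaf [835,406,1367,269]) (.leaf [22,60,172,1155]))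 (.node (.leaf [1164,700,1381,682]) (.leaf [37,54,12,1636]))) (.node (.node (.leaf [68,77,99,478]) (.leaf [119,93,1898,1417])) (.node (.leaf [2022,1802,1194,898]) (.leaf [22,32,82,1913]))))) (.node (.node (.node (.node (.leaf [22,27,222,205]) (.leaf [133,35,1367,1100])) (.node (.leaf [697,1114,1977,628]) (.leaf [5,8,12,1582]))) (.node (.node (.leaf [21,106,143,424]) (.leaf [2022,1870,1885,1371])) (.node (.leaf [38,55,15,833]) (.leaf [67,220,25,1855])))) (.node (.node (.node (.leaf [40,50,143,331]) (.leaf [68,54,29,1224])) (.node (.leaf [1170,740,1110,724]) (.leaf [22,32,82,1696]))) (.node (.node (.leaf [67,260,137,531]) (.leaf [38,80,145,1467])) (.node (.leaf [1253,182,2020,973]) (.leaf [19,139,30,2044]))))))))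

def sK_4 : CfsgLib.Coset.Tr (List Nat) := (.node (.node (.node (.node (.node (.node (.node (.leaf [2,3,57,23]) (.leaf [872,1114,1922,975])) (.node (.leaf [19,83,147,533]) (.leaf [66,261,219,1468]))) (.node (.node (.leaf [73,93,2020,338]) (.leaf [37,54,137,1227])) (.node (.leaf [845,740,2013,725]) (.leaf [2,4,47,1697])))) (.node (.node (.node (.leaf [22,27,172,206]) (.leaf [845,738,1795,1104])) (.node (.leaf [39,105,145,630]) (.leaf [117,216,101,1587]))) (.node (.node (.leaf [39,105,259,425]) (.leaf [133,164,1885,1372])) (.node (.leaf [39,87,138,836]) (.leaf [1860,1802,1739,1857]))))) (.node (.node (.node (.node (.leaf [2,3,217,127]) (.leaf [1170,738,1944,1020])) (.node (.leaf [133,35,2012,578]) (.leaf [68,54,217,1524]))) (.node (.node (.leaf [845,978,2013,370]) (.leaf [68,44,213,1285])) (.node (.leaf [20,80,215,771]) (.leaf [470,1519,1885,1786])))) (.node (.node (.node (.leaf [21,106,172,276]) (.leaf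 [9,102,171,1159])) (.node (.leaf [2022,1868,2012,684]) (.leaf [1253,182,2013,1645]))) (.node (.node (.leaf [20,80,259,479]) (.leaf [872,1114,1732,1422])) (.node (.leaf [66,333,219,906]) (.leaf [2,4,47,1914])))))) (.node (.node (.node (.node (.node (.leaf [37,44,57,72]) (.leaf [697,449,1940,1007])) (.node (.leaf [1170,1259,1912,561]) (.leaf [40,60,147,1500]))) (.node (.node (.leaf [133,62,1922,357]) (.leaf [697,1445,1940,1256])) (.node (.leaf [20,55,259,754]) (.leaf [324,635,2018,1734])))) (.node (.node (.node (.leaf [1170,1259,1912,243]) (.leaf [470,1534,2005,1120])) (.node (.leaf [66,261,225,661]) (.leaf [20,86,219,1614]))) (.node (.node (.leaf [21,87,225,457]) (.leaf [117,220,82,1403])) (.node (.leaf [9,139,226,874]) (.leaf [9,83,141,1890]))))) (.node (.node (.node (.node (.leaf [68,77,30,187]) (.leaf [697,1114,2013,1052])) (.node (.leaf [119,109,1898,606]) (.leaf [37,54,137,1562]))) (.node (.node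 (.leaf [1164,700,1817,385]) (.leaf [132,165,1940,1317])) (.node (.leaf [22,60,225,811]) (.leaf [117,260,101,1825])))) (.node (.node (.node (.leaf [21,87,225,306]) (.leaf [37,97,167,1190])) (.node (.leaf [470,635,1648,710]) (.leaf [19,102,143,1678]))) (.node (.node (.leaf [21,87,172,498]) (.leaf [835,287,1694,1444])) (.node (.leaf [2022,1870,1194,952]) (.leaf [9,83,222,1963]))))))) (.node (.node (.node (.node (.node (.node (.leaf [73,93,1441,51]) (.leaf [872,1445,2049,997])) (.node (.leaf [845,978,1898,554]) (.leaf [1860,1802,1739,1485]))) (.node (.node (.leaf [119,109,2013,351]) (.leaf [38,86,217,1237])) (.node (.leaf [39,88,222,742]) (.leaf [116,343,142,1718])))) (.node (.node (.node (.leaf [835,577,1871,234]) (.leaf [835,700,1772,1116])) (.node (.leaf [1302,182,1940,642]) (.leaf [22,50,226,1607]))) (.node (.node (.leaf [470,635,1885,437]) (.leaf [1302,267,1977,1390])) (.node (.leaf [9,139,226,850])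 (.leaf [22,50,226,1878]))))) (.node (.node (.node (.node (.leaf [132,164,1977,162]) (.leaf [116,343,145,1034])) (.node (.leaf [1302,882,1795,596]) (.leaf [66,343,215,1542]))) (.node (.node (.leaf [132,35,1546,378]) (.leaf [470,434,1694,1308])) (.node (.leaf [116,261,138,797]) (.leaf [845,1259,1526,1801])))) (.node (.node (.node (.leaf [5,4,167,295]) (.leaf [116,333,172,1172])) (.node (.leaf [132,62,1772,701]) (.leaf [20,45,225,1654]))) (.node (.node (.leaf [38,45,217,489]) (.leaf [697,449,1935,1432])) (.node (.leaf [132,62,1977,924]) (.leaf [9,146,141,1932])))))) (.node (.node (.node (.node (.node (.leaf [835,406,1648,113]) (.leaf [1170,740,2005,1015])) (.node (.leaf [835,577,1441,569]) (.leaf [19,146,169,1514]))) (.node (.node (.leaf [132,62,1772,363]) (.leaf [40,60,219,1265])) (.node (.leaf [19,83,169,760]) (.leaf [73,151,1935,1754])))) (.node (.node (.node (.leaf [132,35,1940,250]) (.leaf [67,216,222,1147]))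 (.node (.leaf [872,1445,2049,674]) (.leaf [20,45,219,1631]))) (.node (.node (.leaf [5,8,135,466]) (.leaf [470,1519,1885,1411])) (.node (.leaf [132,35,1546,890]) (.leaf [37,54,47,1896]))))) (.node (.node (.node (.node (.leaf [2,8,169,197]) (.leaf [73,109,2020,1090])) (.node (.leaf [324,1534,1817,617]) (.leaf [2,6,213,1578]))) (.node (.node (.leaf [66,261,225,411]) (.leaf [116,228,142,1344])) (.node (.leaf [37,97,169,818]) (.leaf [2022,1807,1732,1842])))) (.node (.node (.node (.leaf [40,50,145,314]) (.leaf [67,214,226,1209])) (.node (.leaf [119,64,2005,721]) (.leaf [2022,1807,2012,1687]))) (.node (.node (.leaf [20,80,215,510]) (.leaf [116,261,172,1450])) (.node (.leaf [133,164,1885,968]) (.leaf [2022,1870,1940,1979]))))))))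

def sK_5 : CfsgLib.Coset.Tr (List Nat) := (.node (.node (.node (.node (.node (.node (.node (.leaf [2,3,57,41]) (.leaf [872,1114,1732,988])) (.node (.leaf [1302,882,1795,551]) (.leaf [835,700,1772,1475]))) (.node (.node (.leaf [133,165,1739,342]) (.leaf [40,32,259,1231])) (.node (.leaf [1253,598,2020,730]) (.leaf [116,343,142,1712])))) (.node (.node (.node (.leaf [133,165,1739,221]) (.leaf [1170,738,1944,1111])) (.node (.leaf [324,434,1871,638]) (.leaf [67,260,141,1597]))) (.node (.node (.leaf [133,35,2012,430]) (.leaf [872,1114,1922,1388])) (.node (.leaf [2,6,137,842]) (.leaf [1170,978,1817,1869]))))) (.node (.node (.node (.node (.leaf [1164,700,1957,158]) (.leaf [872,652,1898,1025])) (.node (.leaf [872,449,1912,586]) (.leaf [835,287,1694,1530]))) (.node (.node (.leaf [1170,1259,1944,374]) (.leaf [67,260,141,1294])) (.node (.leaf [37,77,135,789]) (.leaf [845,740,1957,1796])))) (.node (.node (.node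 (.leaf [1302,182,1940,282]) (.leaf [39,87,138,1165])) (.node (.leaf [39,87,226,690]) (.leaf [68,97,213,1649]))) (.node (.node (.leaf [20,55,259,487]) (.leaf [119,64,1817,1430])) (.node (.leaf [470,1519,1441,911]) (.leaf [19,139,143,1920])))))) (.node (.node (.node (.node (.node (.leaf [1302,182,1898,108]) (.leaf [1164,287,1885,1010])) (.node (.leaf [872,449,2049,565]) (.leaf [2022,1807,1732,1509]))) (.node (.node (.leaf [21,106,225,361]) (.leaf [2,6,213,1262])) (.node (.leaf [38,45,217,756]) (.leaf [117,216,147,1751])))) (.node (.node (.node (.leaf [133,62,1922,248]) (.leaf [116,261,138,1139])) (.node (.leaf [1302,267,1977,666]) (.leaf [9,146,222,1627]))) (.node (.node (.leaf [37,44,169,461]) (.leaf [835,287,2005,1408])) (.node (.leaf [1860,1807,1922,886]) (.leaf [22,50,215,1894]))))) (.node (.node (.node (.node (.leaf [2,3,217,191]) (.leaf [21,88,147,1076])) (.node (.leaf [872,449,2049,611]) (.leaf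 [38,86,217,1568]))) (.node (.node (.leaf [470,635,1885,398]) (.leaf [132,165,1871,1341])) (.node (.leaf [73,109,2018,814]) (.leaf [67,214,171,1828])))) (.node (.node (.node (.leaf [37,44,169,310]) (.leaf [117,220,143,1200])) (.node (.leaf [697,449,1940,716]) (.leaf [324,1534,1957,1684]))) (.node (.node (.leaf [2,4,213,507]) (.leaf [845,738,1795,1448])) (.node (.leaf [324,635,2018,961]) (.leaf [38,80,142,1965]))))))) (.node (.node (.node (.node (.node (.node (.leaf [1253,267,1935,63]) (.leaf [1302,882,1977,1004])) (.node (.leaf [872,449,1912,558]) (.leaf [38,80,213,1490]))) (.node (.node (.leaf [132,35,1940,355]) (.leaf [20,86,225,1244])) (.node (.leaf [20,80,259,746]) (.leaf [116,228,142,1722])))) (.node (.node (.node (.leaf [133,165,2049,238]) (.leaf [324,1519,2018,1118])) (.node (.leaf [1860,1870,2049,647]) (.leaf [1302,267,1912,1610]))) (.node (.node (.leaf [1253,267,1922,442]) (.leaf [73,151,1957,1401]))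 (.node (.leaf [2022,1868,2012,858]) (.leaf [9,146,222,1888]))))) (.node (.node (.node (.node (.leaf [1164,287,1957,176]) (.leaf [697,1445,1739,1044])) (.node (.leaf [845,978,1898,601]) (.leaf [67,214,226,1556]))) (.node (.node (.leaf [73,64,1957,380]) (.leaf [2022,1802,1940,1310])) (.node (.leaf [67,216,222,805]) (.leaf [1164,406,1944,1821])))) (.node (.node (.node (.leaf [22,27,172,300]) (.leaf [66,343,215,1185])) (.node (.leaf [324,1534,1817,707]) (.leaf [19,139,143,1669]))) (.node (.node (.leaf [37,77,137,491]) (.leaf [73,151,1957,1436])) (.node (.leaf [133,164,1922,928]) (.leaf [38,80,142,1947])))))) (.node (.node (.node (.node (.node (.leaf [68,77,30,123]) (.leaf [845,738,2018,1017])) (.node (.leaf [21,88,215,573]) (.leaf [132,62,1977,1521]))) (.node (.node (.leaf [697,652,2013,367]) (.leaf [66,228,259,1277])) (.node (.leaf [2,4,213,768]) (.leaf [40,27,219,1783])))) (.node (.node (.node (.leaf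 [133,165,2049,253]) (.leaf [22,60,225,1151])) (.node (.leaf [1860,1870,2049,678]) (.leaf [38,55,213,1635]))) (.node (.node (.leaf [39,88,222,475]) (.leaf [1170,978,1817,1414])) (.node (.leaf [697,652,2013,894]) (.leaf [67,220,226,1908]))))) (.node (.node (.node (.node (.leaf [5,6,167,203]) (.leaf [872,652,1898,1097])) (.node (.leaf [1253,882,1732,623]) (.leaf [40,60,219,1581]))) (.node (.node (.leaf [2022,1868,1977,420]) (.leaf [132,165,1940,1363])) (.node (.leaf [9,102,171,828]) (.leaf [22,32,226,1851])))) (.node (.node (.node (.leaf [38,45,138,326]) (.leaf [40,32,171,1219])) (.node (.leaf [872,1445,1795,723]) (.leaf [20,86,219,1695]))) (.node (.node (.leaf [835,577,1441,519]) (.leaf [116,333,167,1464])) (.node (.leaf [117,220,82,971]) (.leaf [117,216,147,1993]))))))))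

def sK_6 : CfsgLib.Coset.Tr (List Nat) := (.node (.node (.node (.node (.node (.node (.node (.leaf [119,151,1817,28]) (.leaf [470,1519,1441,983])) (.node (.leaf [19,83,147,537]) (.leaf [324,1534,1957,1474]))) (.node (.node (.leaf [132,164,1732,341]) (.leaf [37,97,167,1229])) (.node (.leaf [697,1114,2020,726]) (.leaf [67,220,171,1707])))) (.node (.node (.node (.leaf [22,27,225,211]) (.leaf [68,44,213,1106])) (.node (.leaf [470,635,1648,637]) (.leaf [117,214,82,1594]))) (.node (.node (.leaf [835,700,2005,429]) (.leaf [132,165,1871,1385])) (.node (.leaf [845,1259,2018,841]) (.leaf [9,102,226,1863]))))) (.node (.node (.node (.node (.leaf [40,50,259,130]) (.leaf [872,1445,1795,1021])) (.node (.leaf [470,434,1694,584]) (.leaf [73,151,1935,1529]))) (.node (.node (.leaf [1253,598,2020,372]) (.leaf [117,214,82,1291])) (.node (.leaf [1302,598,1739,775]) (.leaf [40,27,219,1794])))) (.node (.node (.node (.leaf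 [324,434,1871,280]) (.leaf [38,55,145,1162])) (.node (.leaf [39,105,259,685]) (.leaf [5,3,135,1646]))) (.node (.node (.leaf [21,105,215,483]) (.leaf [1164,406,2018,1425])) (.node (.leaf [697,652,2020,907]) (.leaf [40,27,141,1917])))))) (.node (.node (.node (.node (.node (.leaf [119,151,1817,90]) (.leaf [872,652,1922,1009])) (.node (.leaf [133,62,1137,564]) (.leaf [66,228,217,1502]))) (.node (.node (.leaf [132,164,1977,359]) (.leaf [5,3,79,1261])) (.node (.leaf [39,88,259,755]) (.leaf [1302,267,1912,1750])))) (.node (.node (.node (.leaf [1302,598,1940,246]) (.leaf [37,77,135,1133])) (.node (.leaf [116,343,145,662]) (.leaf [5,3,135,1615]))) (.node (.node (.leaf [68,44,79,460]) (.leaf [1170,738,1935,1407])) (.node (.leaf [324,635,1944,884]) (.leaf [20,45,219,1893]))))) (.node (.node (.node (.node (.leaf [2,8,217,189]) (.leaf [39,87,226,1067])) (.node (.leaf [67,216,141,610]) (.leaf [40,32,259,1563])))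 (.node (.node (.leaf [39,105,145,395]) (.leaf [2022,1870,1194,1325])) (.node (.leaf [73,109,2018,813]) (.leaf [116,333,167,1826])))) (.node (.node (.node (.leaf [68,44,79,309]) (.leaf [68,54,99,1192])) (.node (.leaf [872,652,1922,712]) (.leaf [66,228,217,1682]))) (.node (.node (.leaf [1170,978,2020,506]) (.leaf [1164,577,2012,1447])) (.node (.leaf [1860,1807,1922,953]) (.leaf [9,102,226,1964]))))))) (.node (.node (.node (.node (.node (.node (.leaf [73,93,1441,52]) (.leaf [73,109,2020,1002])) (.node (.leaf [1302,598,1940,556]) (.leaf [68,54,217,1486]))) (.node (.node (.leaf [845,978,2013,353]) (.leaf [19,146,101,1238])) (.node (.leaf [68,77,217,745]) (.leaf [66,343,259,1720])))) (.node (.node (.node (.leaf [119,151,2005,236]) (.leaf [470,1534,2005,1117])) (.node (.leaf [470,1534,2012,646]) (.leaf [19,102,137,1609]))) (.node (.node (.leaf [1164,287,1885,440]) (.leaf [470,434,2012,1391])) (.node (.leaf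 [116,333,172,853]) (.leaf [19,102,137,1880]))))) (.node (.node (.node (.node (.leaf [1253,267,1935,175]) (.leaf [1253,182,2049,1041])) (.node (.leaf [2022,1802,1940,600]) (.leaf [117,260,147,1554]))) (.node (.node (.leaf [697,652,2020,379]) (.leaf [1860,1868,1546,1309])) (.node (.leaf [39,106,226,801]) (.leaf [119,93,1944,1820])))) (.node (.node (.node (.leaf [5,6,167,298]) (.leaf [20,86,225,1183])) (.node (.leaf [119,64,1817,705]) (.leaf [20,55,215,1655]))) (.node (.node (.leaf [119,64,2005,490]) (.leaf [1170,740,2020,1434])) (.node (.leaf [324,635,1944,927]) (.leaf [9,146,141,1938])))))) (.node (.node (.node (.node (.node (.leaf [37,44,57,118]) (.leaf [697,1114,2020,1016])) (.node (.leaf [21,106,225,571]) (.leaf [119,93,2013,1518]))) (.node (.node (.leaf [119,109,2013,365]) (.leaf [5,8,25,1266])) (.node (.leaf [21,87,172,763]) (.leaf [1860,1868,1922,1774])))) (.node (.node (.node (.leaf [119,151,2005,252])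 (.leaf [38,86,172,1149])) (.node (.leaf [470,1534,2012,676]) (.leaf [22,50,215,1634]))) (.node (.node (.leaf [38,45,138,472]) (.leaf [1860,1802,2049,1413])) (.node (.leaf [73,64,1957,892]) (.leaf [20,55,215,1899]))))) (.node (.node (.node (.node (.leaf [5,4,167,200]) (.leaf [1302,882,1977,1092])) (.node (.leaf [1302,598,1739,621]) (.leaf [68,97,25,1580]))) (.node (.node (.leaf [324,1519,1944,418]) (.leaf [133,35,2049,1359])) (.node (.leaf [22,60,222,824]) (.leaf [20,45,225,1844])))) (.node (.node (.node (.leaf [5,8,135,316]) (.leaf [117,220,143,1214])) (.node (.leaf [845,738,2018,722]) (.leaf [845,1259,1526,1688]))) (.node (.node (.leaf [1860,1870,1772,517]) (.leaf [117,260,101,1463])) (.node (.leaf [67,216,141,970]) (.leaf [1860,1802,2049,1980]))))))))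

def sK_7 : CfsgLib.Coset.Tr (List Nat) := (.node (.node (.node (.node (.node (.node (.node (.leaf [5,6,30,42]) (.leaf [697,1445,1739,990])) (.node (.leaf [73,64,1912,552]) (.leaf [835,287,2005,1482]))) (.node (.node (.leaf [1253,882,1935,350]) (.leaf [66,228,259,1235])) (.node (.leaf [697,449,1935,732]) (.leaf [40,27,141,1714])))) (.node (.node (.node (.leaf [132,164,1732,224]) (.leaf [1164,406,1944,1113])) (.node (.leaf [835,406,1871,640]) (.leaf [21,105,142,1606]))) (.node (.node (.leaf [324,434,1957,436]) (.leaf [1164,406,2018,1389])) (.node (.leaf [116,228,145,846]) (.leaf [21,105,142,1877]))))) (.node (.node (.node (.node (.leaf [73,93,2020,160]) (.leaf [117,214,143,1028])) (.node (.leaf [1860,1807,1871,590]) (.leaf [133,164,1922,1531]))) (.node (.node (.leaf [1253,882,1935,376]) (.leaf [116,261,172,1295])) (.node (.leaf [116,228,145,795]) (.leaf [2022,1807,2012,1800])))) (.node (.node (.node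 (.leaf [2,8,169,292]) (.leaf [2,6,137,1167])) (.node (.leaf [1164,577,2018,698]) (.leaf [67,214,171,1652]))) (.node (.node (.leaf [39,88,259,488]) (.leaf [1253,598,2049,1431])) (.node (.leaf [21,88,215,912]) (.leaf [9,83,141,1927])))))) (.node (.node (.node (.node (.node (.leaf [1302,182,1898,112]) (.leaf [324,1519,1944,1014])) (.node (.leaf [119,109,1898,566]) (.leaf [22,32,226,1510]))) (.node (.node (.leaf [1164,577,2018,362]) (.leaf [68,97,25,1264])) (.node (.leaf [37,77,137,757]) (.leaf [845,740,1957,1753])))) (.node (.node (.node (.leaf [835,577,1871,249]) (.leaf [39,106,226,1143])) (.node (.leaf [1253,882,1732,669]) (.leaf [39,106,219,1629]))) (.node (.node (.leaf [9,139,171,462]) (.leaf [697,1445,1940,1410])) (.node (.leaf [1170,1259,1944,887]) (.leaf [38,55,213,1895]))))) (.node (.node (.node (.node (.leaf [40,50,259,194]) (.leaf [40,60,147,1084])) (.node (.leaf [1170,978,2020,613]) (.leaf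 [19,146,101,1569]))) (.node (.node (.leaf [1253,267,1922,400]) (.leaf [66,333,219,1343])) (.node (.leaf [37,97,169,816]) (.leaf [19,146,169,1833])))) (.node (.node (.node (.leaf [9,139,171,311]) (.leaf [117,260,147,1207])) (.node (.leaf [835,406,1871,717]) (.leaf [1860,1868,1922,1685]))) (.node (.node (.leaf [66,333,225,508]) (.leaf [324,1519,2018,1449])) (.node (.leaf [1860,1870,1772,965]) (.leaf [19,139,82,1966]))))))) (.node (.node (.node (.node (.node (.node (.leaf [5,6,30,70]) (.leaf [324,434,1957,1005])) (.node (.leaf [1860,1807,1871,560]) (.leaf [66,261,219,1492]))) (.node (.node (.leaf [1164,700,1957,356]) (.leaf [21,88,147,1254])) (.node (.leaf [21,105,215,750]) (.leaf [19,102,143,1726])))) (.node (.node (.node (.leaf [73,64,1912,241]) (.leaf [1170,740,2020,1119])) (.node (.leaf [67,260,222,655]) (.leaf [68,97,213,1613]))) (.node (.node (.leaf [5,4,99,455]) (.leaf [1253,182,2013,1402]))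 (.node (.leaf [117,214,143,869]) (.leaf [39,106,219,1889]))))) (.node (.node (.node (.node (.leaf [1164,287,1957,184]) (.leaf [119,93,2013,1046])) (.node (.leaf [133,62,1137,604]) (.leaf [40,32,171,1561]))) (.node (.node (.leaf [845,1259,2018,382]) (.leaf [470,434,2012,1316])) (.node (.leaf [38,86,172,808]) (.leaf [66,343,259,1822])))) (.node (.node (.node (.leaf [5,4,99,304]) (.leaf [5,3,79,1189])) (.node (.leaf [1253,598,2049,708]) (.leaf [67,220,226,1675]))) (.node (.node (.leaf [19,83,169,495]) (.leaf [845,740,2013,1442])) (.node (.leaf [1860,1868,1546,936]) (.leaf [9,83,222,1952])))))) (.node (.node (.node (.node (.node (.leaf [2,8,217,125]) (.leaf [2022,1868,1977,1019])) (.node (.leaf [835,700,2005,575]) (.leaf [1164,577,2012,1522]))) (.node (.node (.leaf [2022,1802,1885,369]) (.leaf [117,216,101,1278])) (.node (.leaf [66,333,225,769]) (.leaf [1170,738,1935,1785])))) (.node (.node (.node (.leaf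 [835,406,1648,269]) (.leaf [22,60,222,1155])) (.node (.leaf [1164,700,1817,682]) (.leaf [37,54,47,1636]))) (.node (.node (.leaf [68,77,217,478]) (.leaf [119,93,1944,1417])) (.node (.leaf [2022,1802,1885,898]) (.leaf [22,32,142,1913]))))) (.node (.node (.node (.node (.leaf [22,27,225,205]) (.leaf [133,35,2049,1100])) (.node (.leaf [697,1114,2013,628]) (.leaf [5,8,25,1582]))) (.node (.node (.leaf [21,106,172,424]) (.leaf [2022,1870,1940,1371])) (.node (.leaf [38,55,145,833]) (.leaf [67,220,171,1855])))) (.node (.node (.node (.leaf [40,50,145,331]) (.leaf [68,54,99,1224])) (.node (.leaf [1170,740,2005,724]) (.leaf [22,32,142,1696]))) (.node (.node (.leaf [67,260,222,531]) (.leaf [38,80,213,1467])) (.node (.leaf [1253,182,2049,973]) (.leaf [19,139,82,2044]))))))))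

/-- Their keys. -/
def sK : CfsgLib.Coset.Tr (List Nat) := (.node (.node (.node sK_0 sK_1) (.node sK_2 sK_3)) (.node (.node sK_4 sK_5) (.node sK_6 sK_7)))

def sN_0 : CfsgLib.Coset.Tr (List Nat) := (.node (.node (.node (.node (.node (.node (.node (.leaf [1,124,56,128]) (.leaf [728,935,539,812])) (.node (.leaf [218,67,1008,82]) (.leaf [836,210,446,587]))) (.node (.node (.leaf [129,86,300,0]) (.leaf [868,908,421,545])) (.node (.leaf [580,681,437,847]) (.leaf [993,610,452,173])))) (.node (.node (.node (.leaf [65,238,284,69]) (.leaf [536,200,173,801])) (.node (.leaf [191,671,664,250]) (.leaf [458,179,306,745]))) (.node (.node (.leaf [149,917,785,333]) (.leaf [492,260,145,858])) (.node (.leaf [564,675,34,270]) (.leaf [953,518,348,231]))))) (.node (.node (.node (.node (.leaf [33,404,50,8]) (.leaf [750,490,376,641])) (.node (.leaf [698,22,93,604]) (.leaf [440,786,222,577]))) (.node (.node (.leaf [470,587,11,210])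 (.leaf [406,337,846,265])) (.node (.leaf [456,14,616,143]) (.leaf [708,175,532,620])))) (.node (.node (.node (.leaf [179,879,957,543]) (.leaf [400,636,843,43])) (.node (.leaf [332,548,934,148]) (.leaf [940,168,329,1001]))) (.node (.node (.leaf [214,107,947,177]) (.leaf [515,788,319,948])) (.node (.leaf [306,847,767,681]) (.leaf [897,446,614,475])))))) (.node (.node (.node (.node (.node (.leaf [49,424,440,310]) (.leaf [324,332,293,916])) (.node (.leaf [301,589,19,236]) (.leaf [567,852,193,140]))) (.node (.node (.leaf [85,340,705,956]) (.leaf [885,1018,381,630])) (.node (.leaf [608,110,596,47]) (.leaf [482,927,773,455])))) (.node (.node (.node (.leaf [265,759,3,406]) (.leaf [546,139,940,783])) (.node (.leaf [254,673,861,330]) (.leaf [1002,123,338,583]))) (.node (.node (.leaf [220,813,841,934]) (.leaf [908,975,898,477])) (.node (.leaf [248,121,876,135]) (.leaf [856,994,239,389]))))) (.node (.node (.node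 (.node (.leaf [17,808,638,451]) (.leaf [534,469,517,463])) (.node (.leaf [279,739,590,666]) (.leaf [846,696,595,581]))) (.node (.node (.leaf [317,2,322,225]) (.leaf [706,366,169,931])) (.node (.leaf [606,823,966,196]) (.leaf [760,403,676,556])))) (.node (.node (.node (.leaf [392,633,969,888]) (.leaf [638,946,213,747])) (.node (.leaf [572,540,350,647]) (.leaf [446,956,1010,340]))) (.node (.node (.leaf [403,949,980,789]) (.leaf [914,79,588,860])) (.node (.leaf [494,269,298,967]) (.leaf [954,925,256,742]))))))) (.node (.node (.node (.node (.node (.node (.leaf [9,280,139,32]) (.leaf [346,298,518,334])) (.node (.leaf [81,330,38,673]) (.leaf [789,556,332,403]))) (.node (.node (.leaf [155,583,383,123]) (.leaf [792,30,943,375])) (.node (.leaf [112,810,925,730]) (.leaf [674,236,618,589])))) (.node (.node (.node (.leaf [82,38,98,218]) (.leaf [570,920,501,767])) (.node (.leaf [374,698,865,793]) (.leaf [858,996,209,492])))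 (.node (.node (.leaf [370,576,143,787]) (.leaf [725,84,43,910])) (.node (.leaf [416,127,996,167]) (.leaf [980,876,113,806]))))) (.node (.node (.node (.node (.leaf [41,167,153,127]) (.leaf [462,595,892,535])) (.node (.leaf [286,504,134,1023]) (.leaf [812,48,602,728]))) (.node (.node (.leaf [473,864,689,664]) (.leaf [292,385,150,481])) (.node (.leaf [630,16,228,885]) (.leaf [964,485,717,395])))) (.node (.node (.node (.leaf [110,987,60,740]) (.leaf [670,440,416,199])) (.node (.leaf [796,42,147,637]) (.leaf [1006,867,696,798]))) (.node (.node (.leaf [408,52,882,252]) (.leaf [526,502,309,833])) (.node (.leaf [152,182,70,645]) (.leaf [892,665,822,865])))))) (.node (.node (.node (.node (.node (.leaf [20,434,364,603]) (.leaf [576,198,155,441])) (.node (.leaf [315,8,198,404]) (.leaf [648,443,973,329]))) (.node (.node (.leaf [488,12,41,815]) (.leaf [829,1001,320,168])) (.node (.leaf [232,108,999,419]) (.leaf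 [748,584,175,661])))) (.node (.node (.node (.leaf [141,510,707,566]) (.leaf [246,399,1020,276])) (.node (.leaf [330,684,556,254]) (.leaf [976,622,454,359]))) (.node (.node (.leaf [123,893,866,155]) (.leaf [512,451,202,808])) (.node (.leaf [169,718,701,828]) (.leaf [827,422,236,722]))))) (.node (.node (.node (.node (.leaf [50,602,0,435]) (.leaf [436,374,919,31])) (.node (.leaf [519,964,94,679]) (.leaf [614,780,244,803]))) (.node (.node (.leaf [334,579,983,346]) (.leaf [508,816,872,467])) (.node (.leaf [800,616,16,537]) (.leaf [961,516,542,411])))) (.node (.node (.node (.leaf [121,465,357,147]) (.leaf [620,113,550,708])) (.node (.leaf [741,46,544,111]) (.leaf [730,709,460,112]))) (.node (.node (.leaf [464,6,458,37]) (.leaf [944,212,874,365])) (.node (.leaf [806,296,85,980]) (.leaf [887,308,479,227]))))))))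

def sN_1 : CfsgLib.Coset.Tr (List Nat) := (.node (.node (.node (.node (.node (.node (.node (.leaf [5,218,102,38]) (.leaf [485,952,561,870])) (.node (.leaf [194,704,166,1015]) (.leaf [524,802,913,781]))) (.node (.node (.leaf [133,418,698,109]) (.leaf [814,963,599,489])) (.node (.leaf [358,692,83,977]) (.leaf [834,406,652,759])))) (.node (.node (.node (.leaf [69,314,574,65]) (.leaf [384,466,234,817])) (.node (.leaf [528,746,86,947]) (.leaf [768,487,762,381]))) (.node (.node (.leaf [574,20,77,432]) (.leaf [928,889,387,632])) (.node (.leaf [660,1012,896,749]) (.leaf [936,312,795,117]))))) (.node (.node (.node (.node (.leaf [134,74,181,249]) (.leaf [322,352,170,959])) (.node (.leaf [680,691,529,307]) (.leaf [844,263,758,982]))) (.node (.node (.leaf [138,186,74,420]) (.leaf [782,285,944,547])) (.node (.leaf [114,339,641,164]) (.leaf [722,715,523,827])))) (.node (.node (.node (.leaf [326,574,719,951])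 (.leaf [654,835,54,294])) (.node (.leaf [284,550,121,498]) (.leaf [640,695,578,751]))) (.node (.node (.leaf [444,206,424,45]) (.leaf [377,533,723,104])) (.node (.leaf [517,937,46,943]) (.leaf [781,840,456,524])))))) (.node (.node (.node (.node (.node (.leaf [24,196,511,823]) (.leaf [204,741,928,986])) (.node (.leaf [686,702,391,600]) (.leaf [777,736,188,241]))) (.node (.node (.leaf [193,959,990,352]) (.leaf [452,766,412,921])) (.node (.leaf [238,32,786,280]) (.leaf [947,193,428,528])))) (.node (.node (.node (.leaf [145,712,505,790]) (.leaf [810,26,400,771])) (.node (.leaf [775,144,13,880]) (.leaf [652,784,951,554]))) (.node (.node (.leaf [222,760,625,733]) (.leaf [713,172,534,611])) (.node (.leaf [158,561,683,562]) (.leaf [968,1023,240,504]))))) (.node (.node (.node (.node (.leaf [53,232,30,10]) (.leaf [448,334,63,298])) (.node (.leaf [714,1016,745,428]) (.leaf [950,50,907,327]))) (.node (.node (.leaf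 [530,756,37,883]) (.leaf [700,388,141,995])) (.node (.leaf [568,94,385,103]) (.leaf [906,241,834,736])))) (.node (.node (.node (.leaf [394,678,643,965]) (.leaf [454,598,988,483])) (.node (.leaf [98,348,269,1020]) (.leaf [657,311,327,425]))) (.node (.node (.leaf [413,982,824,263]) (.leaf [382,180,475,779])) (.node (.leaf [170,723,585,423]) (.leaf [1022,452,414,287]))))))) (.node (.node (.node (.node (.node (.node (.leaf [44,152,341,445]) (.leaf [772,492,342,996])) (.node (.leaf [290,497,373,507]) (.leaf [997,824,695,773]))) (.node (.node (.leaf [89,554,693,784]) (.leaf [852,830,900,711])) (.node (.leaf [118,61,765,351]) (.leaf [720,640,954,491])))) (.node (.node (.node (.leaf [77,266,197,63]) (.leaf [538,273,752,905])) (.node (.leaf [352,528,776,193]) (.leaf [804,274,205,970]))) (.node (.node (.leaf [532,796,845,1010]) (.leaf [802,194,937,615])) (.node (.leaf [348,572,888,282]) (.leaf [618,566,793,510])))))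 (.node (.node (.node (.node (.leaf [12,234,514,229]) (.leaf [365,776,344,944])) (.node (.leaf [273,346,128,579]) (.leaf [808,209,462,512]))) (.node (.node (.leaf [475,724,577,897]) (.leaf [294,344,690,654])) (.node (.leaf [414,227,916,308]) (.leaf [864,155,592,893])))) (.node (.node (.node (.leaf [109,408,486,133]) (.leaf [632,28,430,928])) (.node (.leaf [557,732,24,761]) (.leaf [767,968,464,570]))) (.node (.node (.leaf [578,904,984,272]) (.leaf [920,286,891,453])) (.node (.leaf [704,524,275,840]) (.leaf [1014,614,246,195])))))) (.node (.node (.node (.node (.node (.leaf [27,620,626,175]) (.leaf [590,368,79,627])) (.node (.leaf [356,677,64,478]) (.leaf [360,204,130,819]))) (.node (.node (.leaf [466,682,531,509]) (.leaf [958,638,124,323])) (.node (.leaf [245,860,660,79]) (.leaf [994,1009,393,701])))) (.node (.node (.node (.leaf [93,82,289,67]) (.leaf [442,651,838,288])) (.node (.leaf [460,372,960,355])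 (.leaf [842,412,337,752]))) (.node (.node (.leaf [208,630,931,1018]) (.leaf [890,364,559,213])) (.node (.leaf [490,494,371,721]) (.leaf [787,191,628,370]))))) (.node (.node (.node (.node (.leaf [61,397,104,18]) (.leaf [368,460,482,899])) (.node (.leaf [177,70,570,214]) (.leaf [665,1003,178,472]))) (.node (.node (.leaf [250,370,788,191]) (.leaf [692,742,473,925])) (.node (.leaf [228,814,971,13]) (.leaf [791,880,97,144])))) (.node (.node (.node (.leaf [258,0,668,86]) (.leaf [818,608,975,361])) (.node (.leaf [586,158,657,837]) (.leaf [1000,217,552,941]))) (.node (.node (.leaf [419,10,526,232]) (.leaf [1021,642,397,99])) (.node (.leaf [696,855,958,157]) (.leaf [765,355,600,372]))))))))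

def sN_2 : CfsgLib.Coset.Tr (List Nat) := (.node (.node (.node (.node (.node (.node (.node (.leaf [3,176,81,106]) (.leaf [737,891,44,907])) (.node (.leaf [124,63,1006,266]) (.leaf [727,243,375,597]))) (.node (.node (.leaf [131,342,796,35]) (.leaf [626,764,117,591])) (.node (.leaf [758,294,709,835]) (.leaf [646,283,720,573])))) (.node (.node (.node (.leaf [67,257,655,93]) (.leaf [236,185,868,301])) (.node (.leaf [548,378,176,669]) (.leaf [900,613,948,387]))) (.node (.node (.leaf [260,716,490,1005]) (.leaf [688,162,89,903])) (.node (.leaf [310,729,803,49]) (.leaf [874,645,910,182]))))) (.node (.node (.node (.node (.leaf [35,119,448,131]) (.leaf [592,478,727,677])) (.node (.leaf [268,751,358,695]) (.leaf [716,772,451,825]))) (.node (.node (.leaf [150,706,267,999]) (.leaf [904,449,870,539])) (.node (.leaf [253,132,366,409]) (.leaf [902,1007,221,689])))) (.node (.node (.node (.leaf [372,590,72,765])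 (.leaf [910,896,782,725])) (.node (.leaf [283,1021,567,349]) (.leaf [658,873,216,938]))) (.node (.node (.leaf [426,429,607,1017]) (.leaf [511,305,331,619])) (.node (.leaf [912,923,572,629]) (.leaf [924,976,403,693])))))) (.node (.node (.node (.node (.node (.leaf [19,350,273,60]) (.leaf [180,542,157,878])) (.node (.leaf [303,844,493,990]) (.leaf [989,800,404,201]))) (.node (.node (.leaf [147,135,361,121]) (.leaf [866,978,666,794])) (.node (.leaf [241,945,995,777]) (.leaf [752,302,183,842])))) (.node (.node (.node (.leaf [72,92,389,256]) (.leaf [210,553,817,470])) (.node (.leaf [550,421,848,187]) (.leaf [622,955,122,734]))) (.node (.node (.leaf [594,768,662,160]) (.leaf [932,501,741,984])) (.node (.leaf [156,580,286,697]) (.leaf [998,658,422,151]))))) (.node (.node (.node (.node (.leaf [56,820,32,523]) (.leaf [486,462,127,468])) (.node (.leaf [480,839,832,293]) (.leaf [636,1011,427,797]))) (.node (.node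 (.leaf [97,833,828,502]) (.leaf [682,293,684,839])) (.node (.leaf [522,24,751,57]) (.leaf [917,624,225,325])))) (.node (.node (.node (.leaf [420,782,826,138]) (.leaf [642,646,28,541])) (.node (.leaf [200,188,477,988]) (.leaf [879,778,232,181]))) (.node (.node (.leaf [174,771,735,26]) (.leaf [742,735,686,954])) (.node (.leaf [478,319,495,356]) (.leaf [986,819,880,204]))))))) (.node (.node (.node (.node (.node (.node (.leaf [11,252,161,52]) (.leaf [434,326,933,51])) (.node (.leaf [86,76,163,258]) (.leaf [438,882,394,757]))) (.node (.node (.leaf [164,593,9,114]) (.leaf [430,605,1002,23])) (.node (.leaf [116,943,778,937]) (.leaf [948,223,821,515])))) (.node (.node (.node (.leaf [75,36,164,7]) (.leaf [380,161,582,769])) (.node (.leaf [344,264,739,336]) (.leaf [860,894,609,914]))) (.node (.node (.leaf [182,363,728,874]) (.leaf [308,933,798,414])) (.node (.leaf [832,438,248,527]) (.leaf [982,990,445,844])))))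 (.node (.node (.node (.node (.leaf [46,360,713,609]) (.leaf [711,140,23,852])) (.node (.leaf [270,520,496,564]) (.leaf [596,392,254,726]))) (.node (.node (.leaf [500,887,548,635]) (.leaf [690,156,469,854])) (.node (.leaf [226,634,819,886]) (.leaf [794,799,311,866])))) (.node (.node (.node (.leaf [107,225,58,2]) (.leaf [972,666,904,739])) (.node (.leaf [235,203,927,58]) (.leaf [962,59,760,202]))) (.node (.node (.leaf [363,44,580,207]) (.leaf [378,324,278,625])) (.node (.leaf [476,544,194,909]) (.leaf [848,829,650,719])))))) (.node (.node (.node (.node (.node (.leaf [29,596,438,242]) (.leaf [588,270,513,675])) (.node (.leaf [355,899,894,460]) (.leaf [938,151,965,658]))) (.node (.node (.leaf [137,941,537,217]) (.leaf [831,618,658,304])) (.node (.leaf [231,871,858,953]) (.leaf [703,483,295,598])))) (.node (.node (.node (.leaf [91,142,470,15]) (.leaf [822,56,808,25])) (.node (.leaf [520,300,711,184])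 (.leaf [840,1015,410,704]))) (.node (.node (.leaf [256,4,646,72]) (.leaf [888,726,503,392])) (.node (.leaf [173,774,757,993]) (.leaf [1010,105,678,532]))))) (.node (.node (.node (.node (.leaf [206,875,106,362]) (.leaf [584,806,316,876])) (.node (.leaf [281,68,742,239]) (.leaf [985,414,114,933]))) (.node (.node (.leaf [318,164,774,339]) (.leaf [288,328,132,442])) (.node (.leaf [604,793,399,698]) (.leaf [1008,851,908,754])))) (.node (.node (.node (.leaf [217,849,850,137]) (.leaf [422,426,878,171])) (.node (.leaf [746,322,263,639]) (.leaf [732,515,749,223]))) (.node (.node (.leaf [188,390,1019,320]) (.leaf [678,231,836,518])) (.node (.leaf [694,967,670,269]) (.leaf [934,656,251,220]))))))))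

def sN_3 : CfsgLib.Coset.Tr (List Nat) := (.node (.node (.node (.node (.node (.node (.node (.leaf [7,248,110,75]) (.leaf [313,960,520,762])) (.node (.leaf [79,805,379,245]) (.leaf [341,474,186,447]))) (.node (.node (.leaf [36,147,296,465]) (.leaf [898,626,218,369])) (.node (.leaf [198,250,277,671]) (.leaf [930,998,231,707])))) (.node (.node (.node (.leaf [71,316,488,55]) (.leaf [718,137,586,849])) (.node (.leaf [100,522,885,821]) (.leaf [855,307,604,691]))) (.node (.node (.leaf [390,536,280,617]) (.leaf [555,279,347,653])) (.node (.leaf [628,862,856,913]) (.leaf [975,507,432,497]))))) (.node (.node (.node (.node (.leaf [39,72,264,4]) (.leaf [338,356,632,319])) (.node (.leaf [684,386,923,612]) (.leaf [504,570,303,968]))) (.node (.node (.leaf [142,41,260,457]) (.leaf [762,116,986,313])) (.node (.leaf [634,984,978,501]) (.leaf [1018,513,352,208])))) (.node (.node (.node (.leaf [30,430,4,437]) (.leaf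 [824,1004,992,717])) (.node (.leaf [388,559,290,857]) (.leaf [942,411,674,516]))) (.node (.node (.leaf [411,763,903,961]) (.leaf [754,700,314,1008])) (.node (.leaf [562,837,108,158]) (.leaf [978,902,409,163])))))) (.node (.node (.node (.node (.node (.leaf [94,288,555,651]) (.leaf [560,470,724,553])) (.node (.leaf [305,711,746,830]) (.leaf [957,910,191,84]))) (.node (.node (.leaf [162,795,680,979]) (.leaf [863,246,210,919])) (.node (.leaf [672,900,862,80]) (.leaf [926,687,569,663])))) (.node (.node (.node (.leaf [266,128,324,124]) (.leaf [398,628,645,922])) (.node (.leaf [351,130,524,118]) (.leaf [839,509,815,682]))) (.node (.node (.leaf [224,55,1022,316]) (.leaf [771,730,547,810])) (.node (.leaf [160,534,90,594]) (.leaf [970,244,185,804]))))) (.node (.node (.node (.node (.leaf [55,215,612,71]) (.leaf [785,972,355,88])) (.node (.leaf [450,885,939,16]) (.leaf [602,433,1000,21]))) (.node (.node (.leaf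 [202,488,915,962]) (.leaf [506,869,781,291])) (.node (.leaf [778,458,26,383]) (.leaf [820,607,853,101])))) (.node (.node (.node (.leaf [396,35,1014,342]) (.leaf [424,220,334,656])) (.node (.leaf [328,568,771,649]) (.leaf [1017,171,271,426]))) (.node (.node (.leaf [600,662,1004,686]) (.leaf [386,81,804,901])) (.node (.leaf [542,744,731,178]) (.leaf [1004,859,118,261]))))))) (.node (.node (.node (.node (.node (.node (.leaf [15,416,206,91]) (.leaf [744,382,252,459])) (.node (.leaf [298,538,887,448]) (.leaf [676,114,610,593]))) (.node (.node (.leaf [166,90,201,417]) (.leaf [612,254,67,684])) (.node (.leaf [598,601,443,703]) (.leaf [610,790,962,712])))) (.node (.node (.node (.leaf [263,753,541,413]) (.leaf [540,98,304,643])) (.node (.leaf [184,564,630,520]) (.leaf [816,481,672,385]))) (.node (.node (.leaf [58,228,14,235]) (.leaf [582,472,101,1003])) (.node (.leaf [552,562,812,561]) (.leaf [967,721,637,494])))))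 (.node (.node (.node (.node (.leaf [42,376,484,401]) (.leaf [734,359,733,622])) (.node (.leaf [275,914,807,894]) (.leaf [644,444,855,153]))) (.node (.node (.leaf [242,929,921,29]) (.leaf [276,919,754,246])) (.node (.leaf [650,102,620,95]) (.leaf [870,395,649,485])))) (.node (.node (.node (.leaf [104,400,6,377]) (.leaf [850,856,830,558])) (.node (.leaf [798,688,418,1006]) (.leaf [883,97,634,530]))) (.node (.node (.leaf [404,64,977,315]) (.leaf [544,291,435,869])) (.node (.leaf [496,476,499,974]) (.leaf [872,931,258,366])))))) (.node (.node (.node (.node (.node (.leaf [102,648,52,569]) (.leaf [502,530,952,97])) (.node (.leaf [296,748,466,1013]) (.leaf [366,939,714,872]))) (.node (.node (.leaf [468,380,703,486]) (.leaf [616,321,506,391])) (.node (.leaf [428,826,1012,714]) (.leaf [918,913,363,862])))) (.node (.node (.node (.leaf [22,436,312,431]) (.leaf [432,951,227,574])) (.node (.leaf [343,18,368,397])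 (.leaf [663,454,406,926]))) (.node (.node (.leaf [212,907,800,891]) (.leaf [558,755,243,850])) (.node (.leaf [498,546,1017,284]) (.leaf [895,970,148,274]))))) (.node (.node (.node (.node (.leaf [63,259,565,77]) (.leaf [196,100,68,606])) (.node (.leaf [186,499,737,551]) (.leaf [667,652,622,278]))) (.node (.node (.leaf [321,989,791,189]) (.leaf [923,276,159,399])) (.node (.leaf [880,992,768,775]) (.leaf [668,149,508,549])))) (.node (.node (.node (.leaf [127,457,563,41]) (.leaf [624,668,48,379])) (.node (.leaf [756,526,137,439]) (.leaf [991,842,282,302]))) (.node (.node (.leaf [336,654,810,344]) (.leaf [877,660,481,585])) (.node (.leaf [739,88,21,972]) (.leaf [1012,981,214,297]))))))))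

def sN_4 : CfsgLib.Coset.Tr (List Nat) := (.node (.node (.node (.node (.node (.node (.node (.leaf [0,125,57,129]) (.leaf [729,934,538,813])) (.node (.leaf [219,66,1009,83]) (.leaf [837,211,447,586]))) (.node (.node (.leaf [128,87,301,1]) (.leaf [869,909,420,544])) (.node (.leaf [581,680,436,846]) (.leaf [992,611,453,172])))) (.node (.node (.node (.leaf [64,239,285,68]) (.leaf [537,201,172,800])) (.node (.leaf [190,670,665,251]) (.leaf [459,178,307,744]))) (.node (.node (.leaf [148,916,784,332]) (.leaf [493,261,144,859])) (.node (.leaf [565,674,35,271]) (.leaf [952,519,349,230]))))) (.node (.node (.node (.node (.leaf [32,405,51,9]) (.leaf [751,491,377,640])) (.node (.leaf [699,23,92,605]) (.leaf [441,787,223,576]))) (.node (.node (.leaf [471,586,10,211]) (.leaf [407,336,847,264])) (.node (.leaf [457,15,617,142]) (.leaf [709,174,533,621])))) (.node (.node (.node (.leaf [178,878,956,542]) (.leaf [401,637,842,42]))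 (.node (.leaf [333,549,935,149]) (.leaf [941,169,328,1000]))) (.node (.node (.leaf [215,106,946,176]) (.leaf [514,789,318,949])) (.node (.leaf [307,846,766,680]) (.leaf [896,447,615,474])))))) (.node (.node (.node (.node (.node (.leaf [48,425,441,311]) (.leaf [325,333,292,917])) (.node (.leaf [300,588,18,237]) (.leaf [566,853,192,141]))) (.node (.node (.leaf [84,341,704,957]) (.leaf [884,1019,380,631])) (.node (.leaf [609,111,597,46]) (.leaf [483,926,772,454])))) (.node (.node (.node (.leaf [264,758,2,407]) (.leaf [547,138,941,782])) (.node (.leaf [255,672,860,331]) (.leaf [1003,122,339,582]))) (.node (.node (.leaf [221,812,840,935]) (.leaf [909,974,899,476])) (.node (.leaf [249,120,877,134]) (.leaf [857,995,238,388]))))) (.node (.node (.node (.node (.leaf [16,809,639,450]) (.leaf [535,468,516,462])) (.node (.leaf [278,738,591,667]) (.leaf [847,697,594,580]))) (.node (.node (.leaf [316,3,323,224])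 (.leaf [707,367,168,930])) (.node (.leaf [607,822,967,197]) (.leaf [761,402,677,557])))) (.node (.node (.node (.leaf [393,632,968,889]) (.leaf [639,947,212,746])) (.node (.leaf [573,541,351,646]) (.leaf [447,957,1011,341]))) (.node (.node (.leaf [402,948,981,788]) (.leaf [915,78,589,861])) (.node (.leaf [495,268,299,966]) (.leaf [955,924,257,743]))))))) (.node (.node (.node (.node (.node (.node (.leaf [8,281,138,33]) (.leaf [347,299,519,335])) (.node (.leaf [80,331,39,672]) (.leaf [788,557,333,402]))) (.node (.node (.leaf [154,582,382,122]) (.leaf [793,31,942,374])) (.node (.leaf [113,811,924,731]) (.leaf [675,237,619,588])))) (.node (.node (.node (.leaf [83,39,99,219]) (.leaf [571,921,500,766])) (.node (.leaf [375,699,864,792]) (.leaf [859,997,208,493]))) (.node (.node (.leaf [371,577,142,786]) (.leaf [724,85,42,911])) (.node (.leaf [417,126,997,166]) (.leaf [981,877,112,807]))))) (.node (.node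 (.node (.node (.leaf [40,166,152,126]) (.leaf [463,594,893,534])) (.node (.leaf [287,505,135,1022]) (.leaf [813,49,603,729]))) (.node (.node (.leaf [472,865,688,665]) (.leaf [293,384,151,480])) (.node (.leaf [631,17,229,884]) (.leaf [965,484,716,394])))) (.node (.node (.node (.leaf [111,986,61,741]) (.leaf [671,441,417,198])) (.node (.leaf [797,43,146,636]) (.leaf [1007,866,697,799]))) (.node (.node (.leaf [409,53,883,253]) (.leaf [527,503,308,832])) (.node (.leaf [153,183,71,644]) (.leaf [893,664,823,864])))))) (.node (.node (.node (.node (.node (.leaf [21,435,365,602]) (.leaf [577,199,154,440])) (.node (.leaf [314,9,199,405]) (.leaf [649,442,972,328]))) (.node (.node (.leaf [489,13,40,814]) (.leaf [828,1000,321,169])) (.node (.leaf [233,109,998,418]) (.leaf [749,585,174,660])))) (.node (.node (.node (.leaf [140,511,706,567]) (.leaf [247,398,1021,277])) (.node (.leaf [331,685,557,255]) (.leaf [977,623,455,358])))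 (.node (.node (.leaf [122,892,867,154]) (.leaf [513,450,203,809])) (.node (.leaf [168,719,700,829]) (.leaf [826,423,237,723]))))) (.node (.node (.node (.node (.leaf [51,603,1,434]) (.leaf [437,375,918,30])) (.node (.leaf [518,965,95,678]) (.leaf [615,781,245,802]))) (.node (.node (.leaf [335,578,982,347]) (.leaf [509,817,873,466])) (.node (.leaf [801,617,17,536]) (.leaf [960,517,543,410])))) (.node (.node (.node (.leaf [120,464,356,146]) (.leaf [621,112,551,709])) (.node (.leaf [740,47,545,110]) (.leaf [731,708,461,113]))) (.node (.node (.leaf [465,7,459,36]) (.leaf [945,213,875,364])) (.node (.leaf [807,297,84,981]) (.leaf [886,309,478,226]))))))))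

def sN_5 : CfsgLib.Coset.Tr (List Nat) := (.node (.node (.node (.node (.node (.node (.node (.leaf [4,219,103,39]) (.leaf [484,953,560,871])) (.node (.leaf [195,705,167,1014]) (.leaf [525,803,912,780]))) (.node (.node (.leaf [132,419,699,108]) (.leaf [815,962,598,488])) (.node (.leaf [359,693,82,976]) (.leaf [835,407,653,758])))) (.node (.node (.node (.leaf [68,315,575,64]) (.leaf [385,467,235,816])) (.node (.leaf [529,747,87,946]) (.leaf [769,486,763,380]))) (.node (.node (.leaf [575,21,76,433]) (.leaf [929,888,386,633])) (.node (.leaf [661,1013,897,748]) (.leaf [937,313,794,116]))))) (.node (.node (.node (.node (.leaf [135,75,180,248]) (.leaf [323,353,171,958])) (.node (.leaf [681,690,528,306]) (.leaf [845,262,759,983]))) (.node (.node (.leaf [139,187,75,421]) (.leaf [783,284,945,546])) (.node (.leaf [115,338,640,165]) (.leaf [723,714,522,826])))) (.node (.node (.node (.leaf [327,575,718,950])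 (.leaf [655,834,55,295])) (.node (.leaf [285,551,120,499]) (.leaf [641,694,579,750]))) (.node (.node (.leaf [445,207,425,44]) (.leaf [376,532,722,105])) (.node (.leaf [516,936,47,942]) (.leaf [780,841,457,525])))))) (.node (.node (.node (.node (.node (.leaf [25,197,510,822]) (.leaf [205,740,929,987])) (.node (.leaf [687,703,390,601]) (.leaf [776,737,189,240]))) (.node (.node (.leaf [192,958,991,353]) (.leaf [453,767,413,920])) (.node (.leaf [239,33,787,281]) (.leaf [946,192,429,529])))) (.node (.node (.node (.leaf [144,713,504,791]) (.leaf [811,27,401,770])) (.node (.leaf [774,145,12,881]) (.leaf [653,785,950,555]))) (.node (.node (.leaf [223,761,624,732]) (.leaf [712,173,535,610])) (.node (.leaf [159,560,682,563]) (.leaf [969,1022,241,505]))))) (.node (.node (.node (.node (.leaf [52,233,31,11]) (.leaf [449,335,62,299])) (.node (.leaf [715,1017,744,429]) (.leaf [951,51,906,326]))) (.node (.node (.leaf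 [531,757,36,882]) (.leaf [701,389,140,994])) (.node (.leaf [569,95,384,102]) (.leaf [907,240,835,737])))) (.node (.node (.node (.leaf [395,679,642,964]) (.leaf [455,599,989,482])) (.node (.leaf [99,349,268,1021]) (.leaf [656,310,326,424]))) (.node (.node (.leaf [412,983,825,262]) (.leaf [383,181,474,778])) (.node (.leaf [171,722,584,422]) (.leaf [1023,453,415,286]))))))) (.node (.node (.node (.node (.node (.node (.leaf [45,153,340,444]) (.leaf [773,493,343,997])) (.node (.leaf [291,496,372,506]) (.leaf [996,825,694,772]))) (.node (.node (.leaf [88,555,692,785]) (.leaf [853,831,901,710])) (.node (.leaf [119,60,764,350]) (.leaf [721,641,955,490])))) (.node (.node (.node (.leaf [76,267,196,62]) (.leaf [539,272,753,904])) (.node (.leaf [353,529,777,192]) (.leaf [805,275,204,971]))) (.node (.node (.leaf [533,797,844,1011]) (.leaf [803,195,936,614])) (.node (.leaf [349,573,889,283]) (.leaf [619,567,792,511])))))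 (.node (.node (.node (.node (.leaf [13,235,515,228]) (.leaf [364,777,345,945])) (.node (.leaf [272,347,129,578]) (.leaf [809,208,463,513]))) (.node (.node (.leaf [474,725,576,896]) (.leaf [295,345,691,655])) (.node (.leaf [415,226,917,309]) (.leaf [865,154,593,892])))) (.node (.node (.node (.leaf [108,409,487,132]) (.leaf [633,29,431,929])) (.node (.leaf [556,733,25,760]) (.leaf [766,969,465,571]))) (.node (.node (.leaf [579,905,985,273]) (.leaf [921,287,890,452])) (.node (.leaf [705,525,274,841]) (.leaf [1015,615,247,194])))))) (.node (.node (.node (.node (.node (.leaf [26,621,627,174]) (.leaf [591,369,78,626])) (.node (.leaf [357,676,65,479]) (.leaf [361,205,131,818]))) (.node (.node (.leaf [467,683,530,508]) (.leaf [959,639,125,322])) (.node (.leaf [244,861,661,78]) (.leaf [995,1008,392,700])))) (.node (.node (.node (.leaf [92,83,288,66]) (.leaf [443,650,839,289])) (.node (.leaf [461,373,961,354])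 (.leaf [843,413,336,753]))) (.node (.node (.leaf [209,631,930,1019]) (.leaf [891,365,558,212])) (.node (.leaf [491,495,370,720]) (.leaf [786,190,629,371]))))) (.node (.node (.node (.node (.leaf [60,396,105,19]) (.leaf [369,461,483,898])) (.node (.leaf [176,71,571,215]) (.leaf [664,1002,179,473]))) (.node (.node (.leaf [251,371,789,190]) (.leaf [693,743,472,924])) (.node (.leaf [229,815,970,12]) (.leaf [790,881,96,145])))) (.node (.node (.node (.leaf [259,1,669,87]) (.leaf [819,609,974,360])) (.node (.leaf [587,159,656,836]) (.leaf [1001,216,553,940]))) (.node (.node (.leaf [418,11,527,233]) (.leaf [1020,643,396,98])) (.node (.leaf [697,854,959,156]) (.leaf [764,354,601,373]))))))))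

def sN_6 : CfsgLib.Coset.Tr (List Nat) := (.node (.node (.node (.node (.node (.node (.node (.leaf [2,177,80,107]) (.leaf [736,890,45,906])) (.node (.leaf [125,62,1007,267]) (.leaf [726,242,374,596]))) (.node (.node (.leaf [130,343,797,34]) (.leaf [627,765,116,590])) (.node (.leaf [759,295,708,834]) (.leaf [647,282,721,572])))) (.node (.node (.node (.leaf [66,256,654,92]) (.leaf [237,184,869,300])) (.node (.leaf [549,379,177,668]) (.leaf [901,612,949,386]))) (.node (.node (.leaf [261,717,491,1004]) (.leaf [689,163,88,902])) (.node (.leaf [311,728,802,48]) (.leaf [875,644,911,183]))))) (.node (.node (.node (.node (.leaf [34,118,449,130]) (.leaf [593,479,726,676])) (.node (.leaf [269,750,359,694]) (.leaf [717,773,450,824]))) (.node (.node (.leaf [151,707,266,998]) (.leaf [905,448,871,538])) (.node (.leaf [252,133,367,408]) (.leaf [903,1006,220,688])))) (.node (.node (.node (.leaf [373,591,73,764])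 (.leaf [911,897,783,724])) (.node (.leaf [282,1020,566,348]) (.leaf [659,872,217,939]))) (.node (.node (.leaf [427,428,606,1016]) (.leaf [510,304,330,618])) (.node (.leaf [913,922,573,628]) (.leaf [925,977,402,692])))))) (.node (.node (.node (.node (.node (.leaf [18,351,272,61]) (.leaf [181,543,156,879])) (.node (.leaf [302,845,492,991]) (.leaf [988,801,405,200]))) (.node (.node (.leaf [146,134,360,120]) (.leaf [867,979,667,795])) (.node (.leaf [240,944,994,776]) (.leaf [753,303,182,843])))) (.node (.node (.node (.leaf [73,93,388,257]) (.leaf [211,552,816,471])) (.node (.leaf [551,420,849,186]) (.leaf [623,954,123,735]))) (.node (.node (.leaf [595,769,663,161]) (.leaf [933,500,740,985])) (.node (.leaf [157,581,287,696]) (.leaf [999,659,423,150]))))) (.node (.node (.node (.node (.leaf [57,821,33,522]) (.leaf [487,463,126,469])) (.node (.leaf [481,838,833,292]) (.leaf [637,1010,426,796]))) (.node (.node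 (.leaf [96,832,829,503]) (.leaf [683,292,685,838])) (.node (.leaf [523,25,750,56]) (.leaf [916,625,224,324])))) (.node (.node (.node (.leaf [421,783,827,139]) (.leaf [643,647,29,540])) (.node (.leaf [201,189,476,989]) (.leaf [878,779,233,180]))) (.node (.node (.leaf [175,770,734,27]) (.leaf [743,734,687,955])) (.node (.leaf [479,318,494,357]) (.leaf [987,818,881,205]))))))) (.node (.node (.node (.node (.node (.node (.leaf [10,253,160,53]) (.leaf [435,327,932,50])) (.node (.leaf [87,77,162,259]) (.leaf [439,883,395,756]))) (.node (.node (.leaf [165,592,8,115]) (.leaf [431,604,1003,22])) (.node (.leaf [117,942,779,936]) (.leaf [949,222,820,514])))) (.node (.node (.node (.leaf [74,37,165,6]) (.leaf [381,160,583,768])) (.node (.leaf [345,265,738,337]) (.leaf [861,895,608,915]))) (.node (.node (.leaf [183,362,729,875]) (.leaf [309,932,799,415])) (.node (.leaf [833,439,249,526]) (.leaf [983,991,444,845])))))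 (.node (.node (.node (.node (.leaf [47,361,712,608]) (.leaf [710,141,22,853])) (.node (.leaf [271,521,497,565]) (.leaf [597,393,255,727]))) (.node (.node (.leaf [501,886,549,634]) (.leaf [691,157,468,855])) (.node (.leaf [227,635,818,887]) (.leaf [795,798,310,867])))) (.node (.node (.node (.leaf [106,224,59,3]) (.leaf [973,667,905,738])) (.node (.leaf [234,202,926,59]) (.leaf [963,58,761,203]))) (.node (.node (.leaf [362,45,581,206]) (.leaf [379,325,279,624])) (.node (.leaf [477,545,195,908]) (.leaf [849,828,651,718])))))) (.node (.node (.node (.node (.node (.leaf [28,597,439,243]) (.leaf [589,271,512,674])) (.node (.leaf [354,898,895,461]) (.leaf [939,150,964,659]))) (.node (.node (.leaf [136,940,536,216]) (.leaf [830,619,659,305])) (.node (.leaf [230,870,859,952]) (.leaf [702,482,294,599])))) (.node (.node (.node (.leaf [90,143,471,14]) (.leaf [823,57,809,24])) (.node (.leaf [521,301,710,185])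 (.leaf [841,1014,411,705]))) (.node (.node (.leaf [257,5,647,73]) (.leaf [889,727,502,393])) (.node (.leaf [172,775,756,992]) (.leaf [1011,104,679,533]))))) (.node (.node (.node (.node (.leaf [207,874,107,363]) (.leaf [585,807,317,877])) (.node (.leaf [280,69,743,238]) (.leaf [984,415,115,932]))) (.node (.node (.leaf [319,165,775,338]) (.leaf [289,329,133,443])) (.node (.leaf [605,792,398,699]) (.leaf [1009,850,909,755])))) (.node (.node (.node (.leaf [216,848,851,136]) (.leaf [423,427,879,170])) (.node (.leaf [747,323,262,638]) (.leaf [733,514,748,222]))) (.node (.node (.leaf [189,391,1018,321]) (.leaf [679,230,837,519])) (.node (.leaf [695,966,671,268]) (.leaf [935,657,250,221]))))))))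

def sN_7 : CfsgLib.Coset.Tr (List Nat) := (.node (.node (.node (.node (.node (.node (.node (.leaf [6,249,111,74]) (.leaf [312,961,521,763])) (.node (.leaf [78,804,378,244]) (.leaf [340,475,187,446]))) (.node (.node (.leaf [37,146,297,464]) (.leaf [899,627,219,368])) (.node (.leaf [199,251,276,670]) (.leaf [931,999,230,706])))) (.node (.node (.node (.leaf [70,317,489,54]) (.leaf [719,136,587,848])) (.node (.leaf [101,523,884,820]) (.leaf [854,306,605,690]))) (.node (.node (.leaf [391,537,281,616]) (.leaf [554,278,346,652])) (.node (.leaf [629,863,857,912]) (.leaf [974,506,433,496]))))) (.node (.node (.node (.node (.leaf [38,73,265,5]) (.leaf [339,357,633,318])) (.node (.leaf [685,387,922,613]) (.leaf [505,571,302,969]))) (.node (.node (.leaf [143,40,261,456]) (.leaf [763,117,987,312])) (.node (.leaf [635,985,979,500]) (.leaf [1019,512,353,209])))) (.node (.node (.node (.leaf [31,431,5,436]) (.leaf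 [825,1005,993,716])) (.node (.leaf [389,558,291,856]) (.leaf [943,410,675,517]))) (.node (.node (.leaf [410,762,902,960]) (.leaf [755,701,315,1009])) (.node (.leaf [563,836,109,159]) (.leaf [979,903,408,162])))))) (.node (.node (.node (.node (.node (.leaf [95,289,554,650]) (.leaf [561,471,725,552])) (.node (.leaf [304,710,747,831]) (.leaf [956,911,190,85]))) (.node (.node (.leaf [163,794,681,978]) (.leaf [862,247,211,918])) (.node (.leaf [673,901,863,81]) (.leaf [927,686,568,662])))) (.node (.node (.node (.leaf [267,129,325,125]) (.leaf [399,629,644,923])) (.node (.leaf [350,131,525,119]) (.leaf [838,508,814,683]))) (.node (.node (.leaf [225,54,1023,317]) (.leaf [770,731,546,811])) (.node (.leaf [161,535,91,595]) (.leaf [971,245,184,805]))))) (.node (.node (.node (.node (.leaf [54,214,613,70]) (.leaf [784,973,354,89])) (.node (.leaf [451,884,938,17]) (.leaf [603,432,1001,20]))) (.node (.node (.leaf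 [203,489,914,963]) (.leaf [507,868,780,290])) (.node (.leaf [779,459,27,382]) (.leaf [821,606,852,100])))) (.node (.node (.node (.leaf [397,34,1015,343]) (.leaf [425,221,335,657])) (.node (.leaf [329,569,770,648]) (.leaf [1016,170,270,427]))) (.node (.node (.leaf [601,663,1005,687]) (.leaf [387,80,805,900])) (.node (.leaf [543,745,730,179]) (.leaf [1005,858,119,260]))))))) (.node (.node (.node (.node (.node (.node (.leaf [14,417,207,90]) (.leaf [745,383,253,458])) (.node (.leaf [299,539,886,449]) (.leaf [677,115,611,592]))) (.node (.node (.leaf [167,91,200,416]) (.leaf [613,255,66,685])) (.node (.leaf [599,600,442,702]) (.leaf [611,791,963,713])))) (.node (.node (.node (.leaf [262,752,540,412]) (.leaf [541,99,305,642])) (.node (.leaf [185,565,631,521]) (.leaf [817,480,673,384]))) (.node (.node (.leaf [59,229,15,234]) (.leaf [583,473,100,1002])) (.node (.leaf [553,563,813,560]) (.leaf [966,720,636,495])))))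 (.node (.node (.node (.node (.leaf [43,377,485,400]) (.leaf [735,358,732,623])) (.node (.leaf [274,915,806,895]) (.leaf [645,445,854,152]))) (.node (.node (.leaf [243,928,920,28]) (.leaf [277,918,755,247])) (.node (.leaf [651,103,621,94]) (.leaf [871,394,648,484])))) (.node (.node (.node (.leaf [105,401,7,376]) (.leaf [851,857,831,559])) (.node (.leaf [799,689,419,1007]) (.leaf [882,96,635,531]))) (.node (.node (.leaf [405,65,976,314]) (.leaf [545,290,434,868])) (.node (.leaf [497,477,498,975]) (.leaf [873,930,259,367])))))) (.node (.node (.node (.node (.node (.leaf [103,649,53,568]) (.leaf [503,531,953,96])) (.node (.leaf [297,749,467,1012]) (.leaf [367,938,715,873]))) (.node (.node (.leaf [469,381,702,487]) (.leaf [617,320,507,390])) (.node (.leaf [429,827,1013,715]) (.leaf [919,912,362,863])))) (.node (.node (.node (.leaf [23,437,313,430]) (.leaf [433,950,226,575])) (.node (.leaf [342,19,369,396])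 (.leaf [662,455,407,927]))) (.node (.node (.leaf [213,906,801,890]) (.leaf [559,754,242,851])) (.node (.leaf [499,547,1016,285]) (.leaf [894,971,149,275]))))) (.node (.node (.node (.node (.leaf [62,258,564,76]) (.leaf [197,101,69,607])) (.node (.leaf [187,498,736,550]) (.leaf [666,653,623,279]))) (.node (.node (.leaf [320,988,790,188]) (.leaf [922,277,158,398])) (.node (.leaf [881,993,769,774]) (.leaf [669,148,509,548])))) (.node (.node (.node (.leaf [126,456,562,40]) (.leaf [625,669,49,378])) (.node (.leaf [757,527,136,438]) (.leaf [990,843,283,303]))) (.node (.node (.leaf [337,655,811,345]) (.leaf [876,661,480,584])) (.node (.leaf [738,89,20,973]) (.leaf [1013,980,215,296]))))))))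

/-- Products with the generators. -/
def sN : CfsgLib.Coset.Tr (List Nat) := (.node (.node (.node sN_0 sN_1) (.node sN_2 sN_3)) (.node (.node sN_4 sN_5) (.node sN_6 sN_7)))

def sC_0 : CfsgLib.Coset.Tr (List Nat) := (.node (.node (.node (.node (.node (.node (.node (.leaf [0]) (.leaf [])) (.node (.leaf []) (.leaf []))) (.node (.node (.leaf [0,1,2,3,6,3,4,2]) (.leaf [0,2,3,6,3,4,2])) (.node (.leaf []) (.leaf [0,4,1,2,3,5,2,3,2,3,5,2,3,1,2,3,1,2])))) (.node (.node (.node (.leaf []) (.leaf [])) (.node (.leaf []) (.leaf []))) (.node (.node (.leaf []) (.leaf [])) (.node (.leaf []) (.leaf []))))) (.node (.node (.node (.node (.leaf [1,5,4,3,6,5,3,2,1]) (.leaf [])) (.node (.leaf []) (.leaf []))) (.node (.node (.leaf []) (.leaf [])) (.node (.leaf [0,5,2,3,2]) (.leaf [])))) (.node (.node (.node (.leaf []) (.leaf [])) (.node (.leaf []) (.leaf []))) (.node (.node (.leaf []) (.leaf [])) (.node (.leaf []) (.leaf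 [0,4,1,2,3,6,2,3,2,3,6,2,3,1,2,3,1,2])))))) (.node (.node (.node (.node (.node (.leaf [1,2,3,5,1,2,3,1,2,3,5,3,2,3,2,1]) (.leaf [])) (.node (.leaf []) (.leaf []))) (.node (.node (.leaf []) (.leaf [])) (.node (.leaf []) (.leaf [])))) (.node (.node (.node (.leaf []) (.leaf [])) (.node (.leaf []) (.leaf []))) (.node (.node (.leaf [0,4,3,6,1,2,3,5,4,3,2,3,0,1,2,3,2]) (.leaf [])) (.node (.leaf []) (.leaf []))))) (.node (.node (.node (.node (.leaf [1,4,2,3,5,2,3,6,1,2,3,5,4,3,2,1]) (.leaf [])) (.node (.leaf []) (.leaf [1,5,3,6,4,2,3,1,2,3,5,4,3,2,1]))) (.node (.node (.leaf []) (.leaf [])) (.node (.leaf []) (.leaf [])))) (.node (.node (.node (.leaf [0,4,3,1,2,3,5,4,3,2,3,1,2,3,2]) (.leaf [])) (.node (.leaf []) (.leaf []))) (.node (.node (.leaf []) (.leaf [])) (.node (.leaf [0,4,3,2,3,0,1,2,3,5,3,2]) (.leaf []))))))) (.node (.node (.node (.node (.node (.node (.leaf []) (.leaf [])) (.node (.leaf []) (.leaf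 []))) (.node (.node (.leaf []) (.leaf [])) (.node (.leaf []) (.leaf [])))) (.node (.node (.node (.leaf []) (.leaf [])) (.node (.leaf []) (.leaf []))) (.node (.node (.leaf []) (.leaf [])) (.node (.leaf []) (.leaf []))))) (.node (.node (.node (.node (.leaf []) (.leaf [])) (.node (.leaf []) (.leaf [0,1,2,3,5,3,4,3,2,3,0,1,2,3,6,3,5]))) (.node (.node (.leaf []) (.leaf [])) (.node (.leaf [0,4,2,3,5,3,4,3,2]) (.leaf [])))) (.node (.node (.node (.leaf []) (.leaf [])) (.node (.leaf []) (.leaf []))) (.node (.node (.leaf []) (.leaf [])) (.node (.leaf []) (.leaf [])))))) (.node (.node (.node (.node (.node (.leaf []) (.leaf [])) (.node (.leaf []) (.leaf []))) (.node (.node (.leaf []) (.leaf [])) (.node (.leaf []) (.leaf [])))) (.node (.node (.node (.leaf []) (.leaf [])) (.node (.leaf []) (.leaf []))) (.node (.node (.leaf []) (.leaf [])) (.node (.leaf []) (.leaf [0,5,3,1,2,3,5,4,3,2,3,1,2,3,5,3,2]))))) (.node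 (.node (.node (.node (.leaf [0,6,3,1,2,3,6,4,3,2,3,0,1,2,3,2]) (.leaf [])) (.node (.leaf []) (.leaf []))) (.node (.node (.leaf []) (.leaf [])) (.node (.leaf [0,4,2,3,6,3,4,3,2]) (.leaf [])))) (.node (.node (.node (.leaf [1,1,2,3,2,3,5,3,2,3,2,1]) (.leaf [])) (.node (.leaf []) (.leaf []))) (.node (.node (.leaf [1,2,3,5,3,2,3,6,1,2,3,5,4,3,2,1]) (.leaf [])) (.node (.leaf []) (.leaf [1,4,3,2,3,6,4,3,0,1,2,3,6,5,3,2,1]))))))))

def sC_1 : CfsgLib.Coset.Tr (List Nat) := (.node (.node (.node (.node (.node (.node (.node (.leaf [1,5,3,6,1,2,3,5,4,3,2,1]) (.leaf [])) (.node (.leaf []) (.leaf []))) (.node (.node (.leaf []) (.leaf [])) (.node (.leaf []) (.leaf [])))) (.node (.node (.node (.leaf [0,4,1,2,3,5,3,2]) (.leaf [0,5,3,2,3,1,2,3,5,4,2])) (.node (.leaf []) (.leaf []))) (.node (.node (.leaf []) (.leaf [])) (.node (.leaf [1,2,3,2,3,5,1,2,3,6,4,3,2,1]) (.leaf []))))) (.node (.node (.node (.node (.leaf [])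 (.leaf [])) (.node (.leaf []) (.leaf []))) (.node (.node (.leaf []) (.leaf [])) (.node (.leaf []) (.leaf [1,6,5,3,2,3,4,1,2,3,2,3,5,1,2,3,2,1])))) (.node (.node (.node (.leaf []) (.leaf [])) (.node (.leaf []) (.leaf []))) (.node (.node (.leaf []) (.leaf [])) (.node (.leaf []) (.leaf [])))))) (.node (.node (.node (.node (.node (.leaf []) (.leaf [])) (.node (.leaf []) (.leaf []))) (.node (.node (.leaf []) (.leaf [])) (.node (.leaf []) (.leaf [])))) (.node (.node (.node (.leaf []) (.leaf [1,6,3,5,4,3,2,3,1,2,3,6,4,3,2,1])) (.node (.leaf []) (.leaf []))) (.node (.node (.leaf [0,4,3,5,1,2,3,6,4,3,2,3,0,1,2,3,2]) (.leaf [])) (.node (.leaf []) (.leaf []))))) (.node (.node (.node (.node (.leaf [1,4,3,2,3,6,4,3,2,1]) (.leaf [])) (.node (.leaf []) (.leaf []))) (.node (.node (.leaf []) (.leaf [])) (.node (.leaf []) (.leaf [])))) (.node (.node (.node (.leaf [0,4,3,1,2,3,6,4,3,2,3,1,2,3,2]) (.leaf [])) (.node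 (.leaf []) (.leaf []))) (.node (.node (.leaf []) (.leaf [])) (.node (.leaf []) (.leaf []))))))) (.node (.node (.node (.node (.node (.node (.leaf []) (.leaf [])) (.node (.leaf []) (.leaf []))) (.node (.node (.leaf []) (.leaf [0,5,3,1,2,3,6,4,3,2,3,1,2,3,6,4,2])) (.node (.leaf []) (.leaf [])))) (.node (.node (.node (.leaf [1,6,3,1,2,3,6,5,3,2,1]) (.leaf [])) (.node (.leaf []) (.leaf [0,6,3,5,4,1,2,3,1,2,3,6,4,3,0,1,2,3,1,2]))) (.node (.node (.leaf []) (.leaf [])) (.node (.leaf []) (.leaf []))))) (.node (.node (.node (.node (.leaf []) (.leaf [])) (.node (.leaf []) (.leaf []))) (.node (.node (.leaf []) (.leaf [])) (.node (.leaf []) (.leaf [])))) (.node (.node (.node (.leaf []) (.leaf [0,1,2,3,4,2,3,5,2,3,1,2,3,5,4,3,1,2])) (.node (.leaf []) (.leaf []))) (.node (.node (.leaf [0,1,2,3,2,3,6,3,2,3,4,1,2,3,1,2]) (.leaf [0,4,2,3,5,2,3,6,3,1,2,3,5,4,3,2,3,1,2])) (.node (.leaf []) (.leaf [])))))) (.node (.node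 (.node (.node (.node (.leaf [0,4,2,3,2]) (.leaf [])) (.node (.leaf []) (.leaf [0,6,3,0,1,2,3,6,5,3,2,3,0,1,2,3,2]))) (.node (.node (.leaf []) (.leaf [])) (.node (.leaf []) (.leaf [])))) (.node (.node (.node (.leaf []) (.leaf [])) (.node (.leaf []) (.leaf []))) (.node (.node (.leaf []) (.leaf [])) (.node (.leaf []) (.leaf []))))) (.node (.node (.node (.node (.leaf [1,6,3,2,1]) (.leaf [])) (.node (.leaf []) (.leaf []))) (.node (.node (.leaf []) (.leaf [])) (.node (.leaf []) (.leaf [])))) (.node (.node (.node (.leaf [0,5,3,1,2,3,5,4,3,2,3,0,1,2,3,2]) (.leaf [])) (.node (.leaf []) (.leaf []))) (.node (.node (.leaf []) (.leaf [])) (.node (.leaf []) (.leaf []))))))))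

def sC_2 : CfsgLib.Coset.Tr (List Nat) := (.node (.node (.node (.node (.node (.node (.node (.leaf [0,4,3,2,3,5,4,3,2,3,1,2,3,5,4,2]) (.leaf [])) (.node (.leaf []) (.leaf []))) (.node (.node (.leaf [0,1,2,3,5,3,4,2]) (.leaf [])) (.node (.leaf []) (.leaf [])))) (.node (.node (.node (.leaf [0,4,3,6,3,5]) (.leaf [])) (.node (.leaf []) (.leaf []))) (.node (.node (.leaf []) (.leaf [])) (.node (.leaf []) (.leaf []))))) (.node (.node (.node (.node (.leaf []) (.leaf [])) (.node (.leaf []) (.leaf []))) (.node (.node (.leaf []) (.leaf [])) (.node (.leaf []) (.leaf [])))) (.node (.node (.node (.leaf []) (.leaf [0,2,3,5,2])) (.node (.leaf []) (.leaf []))) (.node (.node (.leaf [1,6,3,5,4,2,3,1,2,3,6,4,3,2,1]) (.leaf [])) (.node (.leaf [0,5,1,2,3,2,3,6,3,5,3,1,2,3,1,2]) (.leaf [])))))) (.node (.node (.node (.node (.node (.leaf []) (.leaf [])) (.node (.leaf []) (.leaf []))) (.node (.node (.leaf [1,6,3,0,1,2,3,6,5,3,2,1])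 (.leaf [0,6,3,1,2,3,5,4,3,2,3,1,2,3,5,4,2])) (.node (.leaf []) (.leaf [])))) (.node (.node (.node (.leaf []) (.leaf [])) (.node (.leaf []) (.leaf []))) (.node (.node (.leaf [0,2,3,2,3,5,3,6]) (.leaf [])) (.node (.leaf []) (.leaf []))))) (.node (.node (.node (.node (.leaf []) (.leaf [])) (.node (.leaf []) (.leaf []))) (.node (.node (.leaf []) (.leaf [])) (.node (.leaf []) (.leaf [])))) (.node (.node (.node (.leaf [1,2,3,2,3,1,2,3,6,4,3,2,1]) (.leaf [0,1,2,3,4,2,3,6,2,3,1,2,3,6,4,3,1,2])) (.node (.leaf []) (.leaf []))) (.node (.node (.leaf []) (.leaf [])) (.node (.leaf [0,5,3,6,1,2,3,2,3,5,4,3,1,2,3,1,2]) (.leaf []))))))) (.node (.node (.node (.node (.node (.node (.leaf [0,5,3,2,3,5,4,3,2,3,1,2,3,5,3,2]) (.leaf [])) (.node (.leaf []) (.leaf []))) (.node (.node (.leaf []) (.leaf [])) (.node (.leaf []) (.leaf [])))) (.node (.node (.node (.leaf [1,5,3,6,1,2,3,1,2,3,5,4,3,2,1]) (.leaf [])) (.node (.leaf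 []) (.leaf []))) (.node (.node (.leaf []) (.leaf [])) (.node (.leaf []) (.leaf []))))) (.node (.node (.node (.node (.leaf []) (.leaf [])) (.node (.leaf [0,6,1,2,3,2,3,5,3,6,3,0,1,2,3,1,2]) (.leaf []))) (.node (.node (.leaf []) (.leaf [1,5,6,3,2,3,4,1,2,3,2,3,6,1,2,3,2,1])) (.node (.leaf []) (.leaf [0,5,3,6,3,2,3,4,1,2,3,5,4,3,1,2,3,0,1,2])))) (.node (.node (.node (.leaf [1,2,3,2,3,6,3,2,3,2,1]) (.leaf [0,5,3,1,2,3,5,4,3,2,3,1,2,3,5,4,2])) (.node (.leaf []) (.leaf []))) (.node (.node (.leaf []) (.leaf [])) (.node (.leaf []) (.leaf [])))))) (.node (.node (.node (.node (.node (.leaf [0,2,3,4,2]) (.leaf [])) (.node (.leaf []) (.leaf []))) (.node (.node (.leaf []) (.leaf [1,1,2,3,5,4,3,2,3,1,2,3,4,2,3,1,2,3,5,4,3,2,1])) (.node (.leaf []) (.leaf [])))) (.node (.node (.node (.leaf []) (.leaf [])) (.node (.leaf []) (.leaf []))) (.node (.node (.leaf [0,5,3,6,1,2,3,5,4,3,2,3,1,2,3,2]) (.leaf [])) (.node (.leaf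 []) (.leaf []))))) (.node (.node (.node (.node (.leaf []) (.leaf [])) (.node (.leaf []) (.leaf [0,4,3,1,2,3,5,4,3,2,3,1,2,3,5,4,2]))) (.node (.node (.leaf []) (.leaf [])) (.node (.leaf []) (.leaf [])))) (.node (.node (.node (.leaf []) (.leaf [])) (.node (.leaf [0,5,3,6,0,1,2,3,1,2,3,5,4,3,1,2,3,1,2]) (.leaf []))) (.node (.node (.leaf []) (.leaf [])) (.node (.leaf []) (.leaf []))))))))

def sC_3 : CfsgLib.Coset.Tr (List Nat) := (.node (.node (.node (.node (.node (.node (.node (.leaf []) (.leaf [])) (.node (.leaf []) (.leaf []))) (.node (.node (.leaf [0,5,3,1,2,3,5,6,3,2,3,1,2,3,2]) (.leaf [])) (.node (.leaf []) (.leaf [])))) (.node (.node (.node (.leaf []) (.leaf [])) (.node (.leaf []) (.leaf []))) (.node (.node (.leaf []) (.leaf [])) (.node (.leaf [0,1,2,3,2,3,5,3,2,3,4,1,2,3,1,2]) (.leaf []))))) (.node (.node (.node (.node (.leaf []) (.leaf [])) (.node (.leaf []) (.leaf []))) (.node (.node (.leaf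 []) (.leaf [])) (.node (.leaf [0,2,3,2,3,1,2,3,5,4,3,2,3,1,2,3,2]) (.leaf [])))) (.node (.node (.node (.leaf [0,6,3,5,1,2,3,6,4,3,2,3,1,2,3,2]) (.leaf [0,2,3,6,2])) (.node (.leaf []) (.leaf []))) (.node (.node (.leaf []) (.leaf [])) (.node (.leaf []) (.leaf [])))))) (.node (.node (.node (.node (.node (.leaf []) (.leaf [])) (.node (.leaf []) (.leaf []))) (.node (.node (.leaf []) (.leaf [0,4,3,1,2,3,6,4,3,2,3,1,2,3,6,4,2])) (.node (.leaf [0,2,3,2,3,1,2,3,6,4,3,2,3,1,2,3,2]) (.leaf [])))) (.node (.node (.node (.leaf [0,5,3,0,1,2,3,5,6,3,2,3,0,1,2,3,2]) (.leaf [])) (.node (.leaf []) (.leaf []))) (.node (.node (.leaf []) (.leaf [])) (.node (.leaf []) (.leaf []))))) (.node (.node (.node (.node (.leaf []) (.leaf [])) (.node (.leaf []) (.leaf []))) (.node (.node (.leaf []) (.leaf [])) (.node (.leaf [1,5,3,6,4,3,2,3,1,2,3,5,4,3,2,1]) (.leaf [])))) (.node (.node (.node (.leaf []) (.leaf [])) (.node (.leaf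 []) (.leaf [1,4,3,2,3,6,4,3,1,2,3,6,5,3,2,1]))) (.node (.node (.leaf [1,2,3,2,3,1,2,3,5,4,3,2,1]) (.leaf [])) (.node (.leaf []) (.leaf []))))))) (.node (.node (.node (.node (.node (.node (.leaf [1]) (.leaf [])) (.node (.leaf []) (.leaf []))) (.node (.node (.leaf []) (.leaf [])) (.node (.leaf [0,2,3,5,3,4,2]) (.leaf [])))) (.node (.node (.node (.leaf []) (.leaf [])) (.node (.leaf []) (.leaf []))) (.node (.node (.leaf [0,6,2,3,2]) (.leaf [0,6,3,5,1,2,3,0,1,2,3,6,4,3,1,2,3,1,2])) (.node (.leaf []) (.leaf []))))) (.node (.node (.node (.node (.leaf []) (.leaf [])) (.node (.leaf []) (.leaf []))) (.node (.node (.leaf []) (.leaf [0,6,3,5,1,2,3,2,3,6,4,3,1,2,3,1,2])) (.node (.leaf []) (.leaf [])))) (.node (.node (.node (.leaf [1,6,2,3,5,2,3,6,1,2,3,5,4,3,2,1]) (.leaf [0,6,3,1,2,3,6,4,3,2,3,1,2,3,6,4,2])) (.node (.leaf []) (.leaf []))) (.node (.node (.leaf []) (.leaf [0,6,3,2,3,1,2,3,6,4,2])) (.node (.leaf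 []) (.leaf [])))))) (.node (.node (.node (.node (.node (.leaf []) (.leaf [])) (.node (.leaf []) (.leaf []))) (.node (.node (.leaf []) (.leaf [])) (.node (.leaf [0,2,3,2,3,6,3,5]) (.leaf [0,4,3,2,3,0,1,2,3,6,3,2])))) (.node (.node (.node (.leaf []) (.leaf [])) (.node (.leaf []) (.leaf [0,6,3,1,2,3,6,4,3,2,3,1,2,3,6,3,2]))) (.node (.node (.leaf []) (.leaf [])) (.node (.leaf []) (.leaf []))))) (.node (.node (.node (.node (.leaf [1,4,3,1,2,3,5,4,3,2,1]) (.leaf [0,6,3,1,2,3,6,5,3,2,3,0,1,2,3,2])) (.node (.leaf []) (.leaf [1,1,2,3,5,4,3,2,3,4,1,2,3,2,3,1,2,3,5,4,3,2,1]))) (.node (.node (.leaf []) (.leaf [])) (.node (.leaf [1,2,3,2,3,6,1,2,3,5,4,3,2,1]) (.leaf [])))) (.node (.node (.node (.leaf [0,5,4]) (.leaf [0,1,2,3,6,3,4,3,2,3,0,1,2,3,5,3,6])) (.node (.leaf [0,5,3,6,1,2,3,1,2,3,5,4,3,1,2,3,1,2]) (.leaf []))) (.node (.node (.leaf []) (.leaf [])) (.node (.leaf []) (.leaf []))))))))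

def sC_4 : CfsgLib.Coset.Tr (List Nat) := (.node (.node (.node (.node (.node (.node (.node (.leaf [1,5,3,6,2,3,5,4,3,2,1]) (.leaf [])) (.node (.leaf [0,5,3,6,1,2,3,5,4,3,2,3,0,1,2,3,2]) (.leaf []))) (.node (.node (.leaf [1,5,3,6,0,1,2,3,1,2,3,5,4,3,2,1]) (.leaf [])) (.node (.leaf [0,5,3,2,3,4,1,2,3,5,2]) (.leaf [])))) (.node (.node (.node (.leaf []) (.leaf [])) (.node (.leaf []) (.leaf []))) (.node (.node (.leaf []) (.leaf [])) (.node (.leaf []) (.leaf []))))) (.node (.node (.node (.node (.leaf [1,4,3,1,2,3,6,4,3,2,1]) (.leaf [0,6,3,2,3,4,1,2,3,6,2])) (.node (.leaf []) (.leaf [0,2,3,6,4,3,2]))) (.node (.node (.leaf []) (.leaf [0,6,1,2,3,4,2,3,6,3,4,2,3,1,2,3,1,2])) (.node (.leaf []) (.leaf [])))) (.node (.node (.node (.leaf []) (.leaf [])) (.node (.leaf []) (.leaf []))) (.node (.node (.leaf []) (.leaf [])) (.node (.leaf []) (.leaf [])))))) (.node (.node (.node (.node (.node (.leaf []) (.leaf []))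 (.node (.leaf []) (.leaf [0,1,2,3,5,2,3,2,3,5,3,1,2,3,1,2]))) (.node (.node (.leaf []) (.leaf [])) (.node (.leaf []) (.leaf [0,5,1,2,3,2,3,6,3,5,3,0,1,2,3,1,2])))) (.node (.node (.node (.leaf []) (.leaf [])) (.node (.leaf []) (.leaf []))) (.node (.node (.leaf []) (.leaf [])) (.node (.leaf [1,6,3,5,2,3,4,2,3,1,2,3,6,4,3,2,1]) (.leaf []))))) (.node (.node (.node (.node (.leaf []) (.leaf [])) (.node (.leaf []) (.leaf []))) (.node (.node (.leaf []) (.leaf [])) (.node (.leaf []) (.leaf [])))) (.node (.node (.node (.leaf []) (.leaf [0,1,2,3,6,3,4,3,2,3,1,2,3,5,3,6])) (.node (.leaf []) (.leaf [1,4,2,3,1,2,3,1,2,3,5,3,2,3,2,1]))) (.node (.node (.leaf []) (.leaf [])) (.node (.leaf []) (.leaf []))))))) (.node (.node (.node (.node (.node (.node (.leaf []) (.leaf [])) (.node (.leaf []) (.leaf []))) (.node (.node (.leaf []) (.leaf [])) (.node (.leaf [0,4,3,1,2,3,5,4,3,2,3,0,1,2,3,2]) (.leaf [])))) (.node (.node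 (.node (.leaf []) (.leaf [])) (.node (.leaf []) (.leaf []))) (.node (.node (.leaf []) (.leaf [])) (.node (.leaf [0,5,2,3,4,3,2]) (.leaf []))))) (.node (.node (.node (.node (.leaf []) (.leaf [])) (.node (.leaf []) (.leaf []))) (.node (.node (.leaf []) (.leaf [])) (.node (.leaf []) (.leaf [])))) (.node (.node (.node (.leaf [1,5,3,6,2,3,4,2,3,1,2,3,5,4,3,2,1]) (.leaf [])) (.node (.leaf [0,6,3,0,1,2,3,6,5,3,2,3,1,2,3,2]) (.leaf []))) (.node (.node (.leaf []) (.leaf [])) (.node (.leaf []) (.leaf [])))))) (.node (.node (.node (.node (.node (.leaf []) (.leaf [])) (.node (.leaf []) (.leaf []))) (.node (.node (.leaf []) (.leaf [])) (.node (.leaf []) (.leaf [0,2,3,6,5,2,3,6,1,2,3,5,4,3,2,3,0,1,2])))) (.node (.node (.node (.leaf []) (.leaf [1,2,3,4,3,2,3,1,2,3,5,4,3,2,1])) (.node (.leaf []) (.leaf []))) (.node (.node (.leaf [0,1,2,3,6,2,3,2,3,6,3,1,2,3,1,2]) (.leaf [])) (.node (.leaf []) (.leaf []))))) (.node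 (.node (.node (.node (.leaf []) (.leaf [])) (.node (.leaf []) (.leaf [0,4,2,3,6,4,2]))) (.node (.node (.leaf []) (.leaf [])) (.node (.leaf []) (.leaf [])))) (.node (.node (.node (.leaf [1,5,3,2,1]) (.leaf [0,1,2,3,2,3,5,3,2,3,1,2,3,5,4,3,1,2])) (.node (.leaf []) (.leaf []))) (.node (.node (.leaf []) (.leaf [])) (.node (.leaf []) (.leaf []))))))))

def sC_5 : CfsgLib.Coset.Tr (List Nat) := (.node (.node (.node (.node (.node (.node (.node (.leaf [1,4,3,2,1]) (.leaf [0,6,3,5,3,2,3,4,1,2,3,6,4,3,1,2,3,0,1,2])) (.node (.leaf []) (.leaf []))) (.node (.node (.leaf []) (.leaf [])) (.node (.leaf []) (.leaf [])))) (.node (.node (.node (.leaf [1,6,3,5,1,2,3,1,2,3,6,4,3,2,1]) (.leaf [])) (.node (.leaf []) (.leaf []))) (.node (.node (.leaf [0,6,3,1,2,3,6,5,3,2,3,1,2,3,2]) (.leaf [])) (.node (.leaf []) (.leaf []))))) (.node (.node (.node (.node (.leaf [0,5,3,1,2,3,5,6,3,2,3,0,1,2,3,2]) (.leaf [])) (.node (.leaf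 []) (.leaf [0,6,3,5,0,1,2,3,1,2,3,6,4,3,1,2,3,1,2]))) (.node (.node (.leaf []) (.leaf [])) (.node (.leaf [1,2,3,4,3,2,3,1,2,3,6,4,3,2,1]) (.leaf [])))) (.node (.node (.node (.leaf []) (.leaf [])) (.node (.leaf []) (.leaf [0,4,2,3,6,3,2]))) (.node (.node (.leaf []) (.leaf [])) (.node (.leaf [0,6,3,5,4,1,2,3,1,2,3,6,4,3,1,2,3,1,2]) (.leaf [])))))) (.node (.node (.node (.node (.node (.leaf []) (.leaf [])) (.node (.leaf [0,5,0,1,2,3,2,3,6,3,5,3,1,2,3,1,2]) (.leaf []))) (.node (.node (.leaf []) (.leaf [1,4,2,3,1,2,3,1,2,3,6,3,2,3,2,1])) (.node (.leaf []) (.leaf [])))) (.node (.node (.node (.leaf []) (.leaf [])) (.node (.leaf []) (.leaf [0,5,3,1,2,3,6,4,3,2,3,4,1,2,3,6,2]))) (.node (.node (.leaf []) (.leaf [])) (.node (.leaf []) (.leaf []))))) (.node (.node (.node (.node (.leaf [0,4,3,5,3,6]) (.leaf [])) (.node (.leaf []) (.leaf []))) (.node (.node (.leaf []) (.leaf [])) (.node (.leaf []) (.leaf []))))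 (.node (.node (.node (.leaf []) (.leaf [0,1,2,3,2,3,5,3,2,3,1,2,3,0,1,2])) (.node (.leaf []) (.leaf []))) (.node (.node (.leaf [0,4,3,1,2,3,6,4,3,5,2,3,6,4,1,2,3,2]) (.leaf [0,5,3,6,1,2,3,0,1,2,3,5,4,3,1,2,3,1,2])) (.node (.leaf []) (.leaf []))))))) (.node (.node (.node (.node (.node (.node (.leaf []) (.leaf [])) (.node (.leaf []) (.leaf []))) (.node (.node (.leaf []) (.leaf [])) (.node (.leaf []) (.leaf [])))) (.node (.node (.node (.leaf [1,5,3,0,1,2,3,5,6,3,2,1]) (.leaf [])) (.node (.leaf []) (.leaf []))) (.node (.node (.leaf []) (.leaf [])) (.node (.leaf []) (.leaf [0,4,3,1,2,3,5,4,3,2,3,1,2,3,5,3,2]))))) (.node (.node (.node (.node (.leaf []) (.leaf [0,2,3,5,6,2,3,5,1,2,3,6,4,3,2,3,0,1,2])) (.node (.leaf []) (.leaf [0,1,2,3,5,3,4,3,2,3,1,2,3,6,3,5]))) (.node (.node (.leaf []) (.leaf [])) (.node (.leaf [0,4,3,6,3,5,2,3,4,2]) (.leaf [])))) (.node (.node (.node (.leaf []) (.leaf [])) (.node (.leaf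 [0,4,2,3,6,2,3,5,3,1,2,3,6,4,3,2,3,1,2]) (.leaf []))) (.node (.node (.leaf []) (.leaf [])) (.node (.leaf []) (.leaf [])))))) (.node (.node (.node (.node (.node (.leaf []) (.leaf [])) (.node (.leaf []) (.leaf []))) (.node (.node (.leaf []) (.leaf [])) (.node (.leaf [0,2,3,1,2,3,2,3,5,3,6,2,3,1,2,3,1,2]) (.leaf [])))) (.node (.node (.node (.leaf []) (.leaf [])) (.node (.leaf []) (.leaf []))) (.node (.node (.leaf [0,4,3,6,1,2,3,5,4,3,2,3,1,2,3,2]) (.leaf [])) (.node (.leaf []) (.leaf []))))) (.node (.node (.node (.node (.leaf [1,1,2,3,2,3,6,3,2,3,2,1]) (.leaf [])) (.node (.leaf []) (.leaf []))) (.node (.node (.leaf []) (.leaf [])) (.node (.leaf []) (.leaf [0,2,3,1,2,3,2,3,6,3,5,2,3,1,2,3,1,2])))) (.node (.node (.node (.leaf []) (.leaf [])) (.node (.leaf []) (.leaf []))) (.node (.node (.leaf []) (.leaf [])) (.node (.leaf []) (.leaf []))))))))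

def sC_6 : CfsgLib.Coset.Tr (List Nat) := (.node (.node (.node (.node (.node (.node (.node (.leaf [0,4,3,2,3,6,4,3,2,3,1,2,3,6,4,2]) (.leaf [])) (.node (.leaf [0,5,3,1,2,3,5,4,3,2,3,1,2,3,2]) (.leaf []))) (.node (.node (.leaf [1,6,3,5,0,1,2,3,1,2,3,6,4,3,2,1]) (.leaf [0,1,2,3,2,3,6,3,2,3,1,2,3,6,4,3,1,2])) (.node (.leaf []) (.leaf [])))) (.node (.node (.node (.leaf [1,4,3,2,3,5,4,3,2,1]) (.leaf [0,1,2,3,2,3,6,3,2,3,1,2,3,0,1,2])) (.node (.leaf []) (.leaf []))) (.node (.node (.leaf []) (.leaf [])) (.node (.leaf []) (.leaf []))))) (.node (.node (.node (.node (.leaf []) (.leaf [])) (.node (.leaf []) (.leaf []))) (.node (.node (.leaf []) (.leaf [])) (.node (.leaf []) (.leaf [])))) (.node (.node (.node (.leaf []) (.leaf [])) (.node (.leaf []) (.leaf [0,6,3,1,2,3,5,4,3,2,3,4,1,2,3,5,2]))) (.node (.node (.leaf []) (.leaf [])) (.node (.leaf []) (.leaf [])))))) (.node (.node (.node (.node (.node (.leaf [])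 (.leaf [])) (.node (.leaf []) (.leaf []))) (.node (.node (.leaf [1,5,3,1,2,3,5,6,3,2,1]) (.leaf [])) (.node (.leaf []) (.leaf [])))) (.node (.node (.node (.leaf []) (.leaf [0,4,3,5,3,6,2,3,4,2])) (.node (.leaf []) (.leaf [0,4,3,1,2,3,6,4,3,2,3,1,2,3,6,3,2]))) (.node (.node (.leaf []) (.leaf [1,6,5,3,2,3,1,2,3,4,2,3,5,1,2,3,2,1])) (.node (.leaf []) (.leaf []))))) (.node (.node (.node (.node (.leaf [0,6,3,1,2,3,6,4,3,2,3,1,2,3,2]) (.leaf [])) (.node (.leaf []) (.leaf []))) (.node (.node (.leaf []) (.leaf [1,5,6,3,2,3,1,2,3,4,2,3,6,1,2,3,2,1])) (.node (.leaf []) (.leaf [])))) (.node (.node (.node (.leaf []) (.leaf [])) (.node (.leaf []) (.leaf []))) (.node (.node (.leaf []) (.leaf [])) (.node (.leaf []) (.leaf []))))))) (.node (.node (.node (.node (.node (.node (.leaf [0,6,3,2,3,6,4,3,2,3,1,2,3,6,3,2]) (.leaf [])) (.node (.leaf [0,5,3,0,1,2,3,5,6,3,2,3,1,2,3,2]) (.leaf [1,5,3,6,3,4,3,2,3,1,2,3,5,4,3,2,1])))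 (.node (.node (.leaf []) (.leaf [])) (.node (.leaf [0,4,3,1,2,3,6,4,3,2,3,0,1,2,3,2]) (.leaf [])))) (.node (.node (.node (.leaf [0,4,1,2,3,6,3,2]) (.leaf [])) (.node (.leaf []) (.leaf []))) (.node (.node (.leaf []) (.leaf [])) (.node (.leaf []) (.leaf []))))) (.node (.node (.node (.node (.leaf []) (.leaf [])) (.node (.leaf []) (.leaf [1,6,3,5,3,4,3,2,3,1,2,3,6,4,3,2,1]))) (.node (.node (.leaf []) (.leaf [])) (.node (.leaf [1,6,3,5,2,3,1,2,3,6,4,3,2,1]) (.leaf [])))) (.node (.node (.node (.leaf [0,6,4]) (.leaf [])) (.node (.leaf []) (.leaf []))) (.node (.node (.leaf []) (.leaf [0,5,3,6,4,1,2,3,1,2,3,5,4,3,0,1,2,3,1,2])) (.node (.leaf []) (.leaf [])))))) (.node (.node (.node (.node (.node (.leaf []) (.leaf [])) (.node (.leaf []) (.leaf [0,5,3,6,4,1,2,3,1,2,3,5,4,3,1,2,3,1,2]))) (.node (.node (.leaf []) (.leaf [])) (.node (.leaf []) (.leaf [1,4,3,2,3,5,4,3,1,2,3,5,6,3,2,1])))) (.node (.node (.node (.leaf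 []) (.leaf [])) (.node (.leaf []) (.leaf []))) (.node (.node (.leaf []) (.leaf [])) (.node (.leaf []) (.leaf []))))) (.node (.node (.node (.node (.leaf [0,6,2,3,4,3,2]) (.leaf [])) (.node (.leaf []) (.leaf []))) (.node (.node (.leaf []) (.leaf [])) (.node (.leaf []) (.leaf [])))) (.node (.node (.node (.leaf [0,1,2,3,6,2,3,2,3,6,3,0,1,2,3,1,2]) (.leaf [0,5,1,2,3,4,2,3,5,3,4,2,3,1,2,3,1,2])) (.node (.leaf []) (.leaf []))) (.node (.node (.leaf []) (.leaf [])) (.node (.leaf []) (.leaf []))))))))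

def sC_7 : CfsgLib.Coset.Tr (List Nat) := (.node (.node (.node (.node (.node (.node (.node (.leaf [1,1]) (.leaf [])) (.node (.leaf []) (.leaf []))) (.node (.node (.leaf []) (.leaf [])) (.node (.leaf []) (.leaf [])))) (.node (.node (.node (.leaf []) (.leaf [0,6,3,5,1,2,3,1,2,3,6,4,3,1,2,3,1,2])) (.node (.leaf []) (.leaf [1,5,3,2,3,5,6,3,2,1]))) (.node (.node (.leaf []) (.leaf [])) (.node (.leaf []) (.leaf [1,6,3,4,2,3,6,5,3,2,1]))))) (.node (.node (.node (.node (.leaf []) (.leaf [])) (.node (.leaf []) (.leaf []))) (.node (.node (.leaf []) (.leaf [])) (.node (.leaf []) (.leaf [])))) (.node (.node (.node (.leaf []) (.leaf [])) (.node (.leaf []) (.leaf []))) (.node (.node (.leaf []) (.leaf [])) (.node (.leaf []) (.leaf [])))))) (.node (.node (.node (.node (.node (.leaf []) (.leaf [])) (.node (.leaf []) (.leaf [0,4,3,1,2,3,5,4,3,6,2,3,5,4,1,2,3,2]))) (.node (.node (.leaf []) (.leaf [])) (.node (.leaf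 []) (.leaf [0,4,3,2,3,1,2,3,6,3,2])))) (.node (.node (.node (.leaf []) (.leaf [0,4,2,3,5,3,2])) (.node (.leaf []) (.leaf [1,5,3,4,2,3,5,6,3,2,1]))) (.node (.node (.leaf []) (.leaf [])) (.node (.leaf []) (.leaf []))))) (.node (.node (.node (.node (.leaf []) (.leaf [0,1,2,3,5,2,3,2,3,5,3,0,1,2,3,1,2])) (.node (.leaf []) (.leaf []))) (.node (.node (.leaf []) (.leaf [])) (.node (.leaf []) (.leaf [])))) (.node (.node (.node (.leaf []) (.leaf [0,2,3,5,4,3,2])) (.node (.leaf []) (.leaf []))) (.node (.node (.leaf []) (.leaf [])) (.node (.leaf []) (.leaf []))))))) (.node (.node (.node (.node (.node (.node (.leaf [1,2,3,5,2,3,2,3,5,3,2,3,2,1]) (.leaf [])) (.node (.leaf [0,6,1,2,3,2,3,5,3,6,3,1,2,3,1,2]) (.leaf []))) (.node (.node (.leaf []) (.leaf [])) (.node (.leaf []) (.leaf [0,4,2,3,5,4,2])))) (.node (.node (.node (.leaf []) (.leaf [])) (.node (.leaf []) (.leaf [1,5,3,6,2,3,1,2,3,5,4,3,2,1]))) (.node (.node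 (.leaf []) (.leaf [])) (.node (.leaf []) (.leaf [1,6,3,2,3,6,5,3,2,1]))))) (.node (.node (.node (.node (.leaf []) (.leaf [])) (.node (.leaf []) (.leaf []))) (.node (.node (.leaf []) (.leaf [])) (.node (.leaf []) (.leaf [])))) (.node (.node (.node (.leaf []) (.leaf [])) (.node (.leaf []) (.leaf []))) (.node (.node (.leaf []) (.leaf [])) (.node (.leaf [0,4,3,2,3,1,2,3,5,3,2]) (.leaf [])))))) (.node (.node (.node (.node (.node (.leaf [0,6,3,5,1,2,3,6,4,3,2,3,0,1,2,3,2]) (.leaf [])) (.node (.leaf []) (.leaf []))) (.node (.node (.leaf []) (.leaf [])) (.node (.leaf []) (.leaf [])))) (.node (.node (.node (.leaf []) (.leaf [])) (.node (.leaf []) (.leaf []))) (.node (.node (.leaf [0,4,3,5,1,2,3,6,4,3,2,3,1,2,3,2]) (.leaf [])) (.node (.leaf [0,6,0,1,2,3,2,3,5,3,6,3,1,2,3,1,2]) (.leaf []))))) (.node (.node (.node (.node (.leaf [1,6,4,3,5,6,3,2,1]) (.leaf [])) (.node (.leaf []) (.leaf []))) (.node (.node (.leaf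 []) (.leaf [1,4,3,2,3,5,1,2,3,4,2,3,6,5,3,2,1])) (.node (.leaf []) (.leaf [])))) (.node (.node (.node (.leaf [1,2,3,2,3,5,3,2,3,2,1]) (.leaf [])) (.node (.leaf []) (.leaf []))) (.node (.node (.leaf []) (.leaf [])) (.node (.leaf []) (.leaf []))))))))

/-- Classes of the involutions. -/
def sC : CfsgLib.Coset.Tr (List Nat) := (.node (.node (.node sC_0 sC_1) (.node sC_2 sC_3)) (.node (.node sC_4 sC_5) (.node sC_6 sC_7)))

def pW_0 : CfsgLib.Coset.Tr (List Nat) := (.node (.node (.node (.node (.node (.node (.node (.leaf [3]) (.leaf [4,3,2,3,4,6,3,2,3,6,1,0,1])) (.node (.leaf [0,5,3,2,3,5,1,0,1,4,3,6,3,4]) (.leaf [4,3,2,3,4,4,3,6,3,4,5,3,2,3,5,1,0,1,4,3,6,3,4]))) (.node (.node (.leaf [3,5,3,2,3,5]) (.leaf [0,1,0,1,4,3,6,3,4,5,3,2,3,5,6,3,2,3,6])) (.node (.leaf [4,3,6,3,4,4,3,5,3,4,6,3,2,3,6]) (.leaf [0,3,6,3,2,3,6,4,3,5,3,4,5,3,2,3,5])))) (.node (.node (.node (.leaf [0,1,0,1,4,3,6,3,4]) (.leaf [4,3,2,3,4,4,3,5,3,4,6,3,2,3,6,4,3,5,3,4]))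 (.node (.leaf [4,3,2,3,4,4,3,5,3,4,4,3,6,3,4]) (.leaf [4,3,2,3,4,6,3,2,3,6,4,3,5,3,4,4,3,6,3,4,6,3,2,3,6]))) (.node (.node (.leaf [4,3,6,3,4,5,3,2,3,5]) (.leaf [0,6,3,2,3,6,4,3,5,3,4])) (.node (.leaf [1,0,1,5,3,2,3,5,4,3,6,3,4,5,3,2,3,5,6,3,2,3,6]) (.leaf [1,0,1,5,3,2,3,5,6,3,2,3,6,4,3,5,3,4]))))) (.node (.node (.node (.node (.leaf [0,1,0,1,3,4,3,6,3,4]) (.leaf [3,5,3,2,3,5,4,3,6,3,4,5,3,2,3,5])) (.node (.leaf [1,0,1,4,3,2,3,4,4,3,6,3,4]) (.leaf [4,3,2,3,4,4,3,6,3,4,5,3,2,3,5,1,0,1]))) (.node (.node (.leaf [3,4,3,2,3,4,4,3,5,3,4]) (.leaf [6,3,2,3,6,4,3,5,3,4,6,3,2,3,6,1,0,1,4,3,2,3,4])) (.node (.leaf [0,4,3,5,3,4,4,3,6,3,4,6,3,2,3,6]) (.leaf [0,4,3,2,3,4,4,3,6,3,4,5,3,2,3,5,1,0,1,4,3,6,3,4])))) (.node (.node (.node (.leaf [0,4,3,5,3,4,4,3,6,3,4]) (.leaf [1,0,1,4,3,6,3,4,4,3,5,3,4,6,3,2,3,6,5,3,2,3,5])) (.node (.leaf [0,4,3,6,3,4,5,3,2,3,5,1,0,1,4,3,6,3,4]) (.leaf [1,0,1,6,3,2,3,6,4,3,5,3,4,5,3,2,3,5,6,3,2,3,6])))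 (.node (.node (.leaf [5,3,2,3,5,4,3,6,3,4,5,3,2,3,5,1,0,1,4,3,2,3,4]) (.leaf [1,0,1,6,3,2,3,6,5,3,2,3,5,4,3,6,3,4,4,3,5,3,4])) (.node (.leaf [6,3,2,3,6,5,3,2,3,5,1,0,1]) (.leaf [4,3,6,3,4,5,3,2,3,5,4,3,6,3,4,6,3,2,3,6])))))) (.node (.node (.node (.node (.node (.leaf [0,3,4,3,2,3,4]) (.leaf [0,4,3,2,3,4,5,3,2,3,5,1,0,1])) (.node (.leaf [3,6,3,2,3,6,5,3,2,3,5,4,3,6,3,4]) (.leaf [4,3,2,3,4,1,0,1,5,3,2,3,5,4,3,6,3,4]))) (.node (.node (.leaf [6,3,2,3,6,5,3,2,3,5,4,3,6,3,4]) (.leaf [1,0,1,5,3,2,3,5,4,3,6,3,4,6,3,2,3,6])) (.node (.leaf [5,3,2,3,5,6,3,2,3,6]) (.leaf [1,0,1,6,3,2,3,6,4,3,5,3,4,5,3,2,3,5])))) (.node (.node (.node (.leaf [0,3,4,3,2,3,4,6,3,2,3,6,4,3,5,3,4]) (.leaf [4,3,2,3,4,4,3,5,3,4,6,3,2,3,6,4,3,5,3,4,6,3,2,3,6])) (.node (.leaf [4,3,5,3,4,6,3,2,3,6,1,0,1,4,3,5,3,4]) (.leaf [0,4,3,2,3,4,4,3,5,3,4,6,3,2,3,6,1,0,1]))) (.node (.node (.leaf [1,0,1,3,4,3,6,3,4,5,3,2,3,5]) (.leaf [4,3,5,3,4,6,3,2,3,6,4,3,5,3,4,6,3,2,3,6]))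 (.node (.leaf [4,3,6,3,4,5,3,2,3,5,1,0,1,4,3,6,3,4]) (.leaf [0,5,3,2,3,5,1,0,1,6,3,2,3,6]))))) (.node (.node (.node (.node (.leaf [1,0,1,3,4,3,6,3,4]) (.leaf [0,3,6,3,2,3,6,1,0,1,5,3,2,3,5])) (.node (.leaf [4,3,2,3,4,4,3,6,3,4,4,3,5,3,4]) (.leaf [0,1,0,1,5,3,2,3,5,6,3,2,3,6,4,3,5,3,4]))) (.node (.node (.leaf [4,3,2,3,4,5,3,2,3,5,4,3,6,3,4,5,3,2,3,5,1,0,1]) (.leaf [0,5,3,2,3,5,1,0,1,4,3,2,3,4])) (.node (.leaf [0,3,6,3,2,3,6,5,3,2,3,5,4,3,6,3,4]) (.leaf [0,4,3,2,3,4,4,3,5,3,4,4,3,6,3,4,6,3,2,3,6])))) (.node (.node (.node (.leaf [0,3,4,3,2,3,4,4,3,6,3,4]) (.leaf [0,3,5,3,2,3,5,4,3,6,3,4])) (.node (.leaf [0,3,4,3,2,3,4,6,3,2,3,6]) (.leaf [4,3,2,3,4,4,3,6,3,4,5,3,2,3,5]))) (.node (.node (.leaf [0,3,5,3,2,3,5,1,0,1]) (.leaf [0,4,3,2,3,4,4,3,5,3,4,5,3,2,3,5,4,3,6,3,4])) (.node (.leaf [0,5,3,2,3,5,6,3,2,3,6]) (.leaf [4,3,5,3,4,5,3,2,3,5,6,3,2,3,6,4,3,5,3,4]))))))) (.node (.node (.node (.node (.node (.node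 (.leaf []) (.leaf [1,0,1,5,3,2,3,5,6,3,2,3,6,4,3,5,3,4,6,3,2,3,6])) (.node (.leaf [5,3,2,3,5,1,0,1,4,3,2,3,4,6,3,2,3,6]) (.leaf [3,4,3,6,3,4,5,3,2,3,5,4,3,6,3,4,6,3,2,3,6]))) (.node (.node (.leaf [0,4,3,2,3,4,6,3,2,3,6,4,3,5,3,4,4,3,6,3,4]) (.leaf [4,3,6,3,4,6,3,2,3,6,5,3,2,3,5,4,3,6,3,4])) (.node (.leaf [3,4,3,6,3,4,5,3,2,3,5,4,3,6,3,4]) (.leaf [4,3,2,3,4,1,0,1,6,3,2,3,6,4,3,5,3,4,6,3,2,3,6])))) (.node (.node (.node (.leaf [4,3,5,3,4,4,3,6,3,4]) (.leaf [4,3,6,3,4,5,3,2,3,5,4,3,6,3,4,5,3,2,3,5])) (.node (.leaf [0,4,3,6,3,4,5,3,2,3,5,4,3,6,3,4]) (.leaf [0,3,5,3,2,3,5,6,3,2,3,6,1,0,1]))) (.node (.node (.leaf [0,6,3,2,3,6,5,3,2,3,5]) (.leaf [3,6,3,2,3,6,5,3,2,3,5,1,0,1])) (.node (.leaf [3,4,3,2,3,4,5,3,2,3,5]) (.leaf [3,4,3,2,3,4,4,3,6,3,4,5,3,2,3,5,4,3,6,3,4,5,3,2,3,5]))))) (.node (.node (.node (.node (.leaf [4,3,2,3,4]) (.leaf [6,3,2,3,6,4,3,5,3,4])) (.node (.leaf [3,6,3,2,3,6,4,3,5,3,4,6,3,2,3,6])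 (.leaf [4,3,6,3,4,6,3,2,3,6,5,3,2,3,5]))) (.node (.node (.leaf [3,4,3,2,3,4,4,3,6,3,4]) (.leaf [6,3,2,3,6,1,0,1,4,3,2,3,4])) (.node (.leaf [1,0,1,5,3,2,3,5,4,3,6,3,4,4,3,5,3,4]) (.leaf [1,0,1,4,3,5,3,4,4,3,6,3,4,5,3,2,3,5,6,3,2,3,6])))) (.node (.node (.node (.leaf [0,3,4,3,2,3,4,4,3,5,3,4]) (.leaf [0,3,4,3,2,3,4,4,3,6,3,4,5,3,2,3,5])) (.node (.leaf [6,3,2,3,6,4,3,5,3,4,4,3,6,3,4]) (.leaf [4,3,2,3,4,4,3,5,3,4,6,3,2,3,6]))) (.node (.node (.leaf [5,3,2,3,5]) (.leaf [4,3,5,3,4,5,3,2,3,5,4,3,6,3,4,5,3,2,3,5])) (.node (.leaf [0,4,3,6,3,4,4,3,5,3,4,6,3,2,3,6]) (.leaf [0,3,5,3,2,3,5,1,0,1,6,3,2,3,6])))))) (.node (.node (.node (.node (.node (.leaf [0,4,3,2,3,4]) (.leaf [0,6,3,2,3,6,1,0,1,4,3,5,3,4])) (.node (.leaf [0,1,0,1,4,3,5,3,4,6,3,2,3,6]) (.leaf [4,3,2,3,4,4,3,5,3,4,6,3,2,3,6,1,0,1,4,3,5,3,4]))) (.node (.node (.leaf [0,4,3,2,3,4,6,3,2,3,6,4,3,5,3,4]) (.leaf [4,3,2,3,4,6,3,2,3,6,4,3,5,3,4,6,3,2,3,6,1,0,1]))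 (.node (.leaf [5,3,2,3,5,1,0,1]) (.leaf [4,3,2,3,4,1,0,1,4,3,5,3,4,6,3,2,3,6])))) (.node (.node (.node (.leaf [6,3,2,3,6,1,0,1]) (.leaf [0,5,3,2,3,5,6,3,2,3,6,1,0,1])) (.node (.leaf [0,3,4,3,2,3,4,5,3,2,3,5]) (.leaf [0,4,3,2,3,4,4,3,6,3,4,5,3,2,3,5]))) (.node (.node (.leaf [4,3,5,3,4,4,3,6,3,4,5,3,2,3,5]) (.leaf [4,3,2,3,4,4,3,6,3,4,5,3,2,3,5,4,3,6,3,4,5,3,2,3,5])) (.node (.leaf [0,6,3,2,3,6,4,3,5,3,4,4,3,6,3,4]) (.leaf [0,4,3,2,3,4,5,3,2,3,5,1,0,1,4,3,6,3,4]))))) (.node (.node (.node (.node (.leaf [3,6,3,2,3,6]) (.leaf [4,3,2,3,4,4,3,6,3,4,5,3,2,3,5,4,3,6,3,4])) (.node (.leaf [0,3,4,3,5,3,4,6,3,2,3,6,4,3,5,3,4]) (.leaf [0,5,3,2,3,5,6,3,2,3,6,1,0,1,4,3,5,3,4]))) (.node (.node (.leaf [0,1,0,1,4,3,2,3,4,4,3,5,3,4]) (.leaf [6,3,2,3,6,1,0,1,4,3,5,3,4])) (.node (.leaf [4,3,6,3,4,4,3,5,3,4,6,3,2,3,6,1,0,1]) (.leaf [3,4,3,5,3,4,6,3,2,3,6,4,3,5,3,4,6,3,2,3,6])))) (.node (.node (.node (.leaf [0,4,3,5,3,4])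 (.leaf [3,4,3,2,3,4,4,3,6,3,4,5,3,2,3,5])) (.node (.leaf [0,6,3,2,3,6,5,3,2,3,5,1,0,1]) (.leaf [1,0,1,4,3,6,3,4,5,3,2,3,5,6,3,2,3,6]))) (.node (.node (.leaf [4,3,2,3,4,6,3,2,3,6,4,3,5,3,4,4,3,6,3,4]) (.leaf [4,3,2,3,4,5,3,2,3,5,4,3,6,3,4])) (.node (.leaf [0,4,3,2,3,4,5,3,2,3,5]) (.leaf [0,4,3,6,3,4,5,3,2,3,5,6,3,2,3,6,1,0,1]))))))))

def pW_1 : CfsgLib.Coset.Tr (List Nat) := (.node (.node (.node (.node (.node (.node (.node (.leaf [0,3]) (.leaf [0,4,3,2,3,4,6,3,2,3,6])) (.node (.leaf [4,3,2,3,4,4,3,6,3,4,6,3,2,3,6,4,3,5,3,4]) (.leaf [5,3,2,3,5,4,3,6,3,4,4,3,5,3,4,5,3,2,3,5]))) (.node (.node (.leaf [4,3,5,3,4]) (.leaf [0,1,0,1,5,3,2,3,5,4,3,6,3,4,6,3,2,3,6])) (.node (.leaf [3,4,3,2,3,4,4,3,5,3,4,6,3,2,3,6,4,3,5,3,4]) (.leaf [3,5,3,2,3,5,4,3,6,3,4,6,3,2,3,6])))) (.node (.node (.node (.leaf [0,3,4,3,5,3,4]) (.leaf [0,1,0,1,5,3,2,3,5,4,3,6,3,4,6,3,2,3,6,5,3,2,3,5])) (.node (.leaf [4,3,2,3,4,1,0,1,5,3,2,3,5,4,3,6,3,4,5,3,2,3,5])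 (.leaf [3,4,3,2,3,4,4,3,5,3,4,6,3,2,3,6,4,3,5,3,4,6,3,2,3,6]))) (.node (.node (.leaf [0,3,6,3,2,3,6,4,3,5,3,4,6,3,2,3,6]) (.leaf [3,6,3,2,3,6,1,0,1,5,3,2,3,5])) (.node (.leaf [0,4,3,5,3,4,6,3,2,3,6,1,0,1,4,3,5,3,4]) (.leaf [4,3,2,3,4,4,3,5,3,4,5,3,2,3,5,4,3,6,3,4,5,3,2,3,5]))))) (.node (.node (.node (.node (.leaf [4,3,6,3,4,4,3,5,3,4]) (.leaf [0,4,3,2,3,4,6,3,2,3,6,1,0,1])) (.node (.leaf [0,4,3,6,3,4,5,3,2,3,5]) (.leaf [0,3,5,3,2,3,5,4,3,6,3,4,6,3,2,3,6]))) (.node (.node (.leaf [0,4,3,5,3,4,6,3,2,3,6,4,3,5,3,4]) (.leaf [3,6,3,2,3,6,4,3,5,3,4,5,3,2,3,5])) (.node (.leaf [5,3,2,3,5,1,0,1,4,3,6,3,4]) (.leaf [4,3,6,3,4,6,3,2,3,6,4,3,5,3,4,6,3,2,3,6])))) (.node (.node (.node (.leaf [6,3,2,3,6]) (.leaf [0,4,3,5,3,4,6,3,2,3,6,1,0,1,5,3,2,3,5])) (.node (.leaf [0,3,6,3,2,3,6,5,3,2,3,5]) (.leaf [4,3,6,3,4,5,3,2,3,5,6,3,2,3,6,1,0,1]))) (.node (.node (.leaf [4,3,6,3,4,5,3,2,3,5,4,3,6,3,4]) (.leaf [4,3,5,3,4,6,3,2,3,6,1,0,1,5,3,2,3,5]))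 (.node (.leaf [4,3,5,3,4,6,3,2,3,6,4,3,5,3,4,5,3,2,3,5,6,3,2,3,6]) (.leaf [3,5,3,2,3,5,1,0,1,6,3,2,3,6])))))) (.node (.node (.node (.node (.node (.leaf [3,4,3,2,3,4]) (.leaf [1,0,1,4,3,5,3,4,4,3,6,3,4,5,3,2,3,5,4,3,6,3,4])) (.node (.leaf [4,3,2,3,4,6,3,2,3,6,4,3,5,3,4]) (.leaf [3,4,3,6,3,4,5,3,2,3,5,4,3,6,3,4,5,3,2,3,5]))) (.node (.node (.leaf [3,4,3,2,3,4,6,3,2,3,6,4,3,5,3,4]) (.leaf [4,3,5,3,4,6,3,2,3,6,4,3,5,3,4,5,3,2,3,5])) (.node (.leaf [1,0,1,4,3,5,3,4,6,3,2,3,6,5,3,2,3,5]) (.leaf [6,3,2,3,6,4,3,5,3,4,4,3,6,3,4,6,3,2,3,6])))) (.node (.node (.node (.leaf [0,3,6,3,2,3,6]) (.leaf [3,5,3,2,3,5,6,3,2,3,6])) (.node (.leaf [0,3,4,3,6,3,4,5,3,2,3,5,4,3,6,3,4]) (.leaf [3,4,3,5,3,4,6,3,2,3,6,4,3,5,3,4,5,3,2,3,5]))) (.node (.node (.leaf [3,4,3,5,3,4,6,3,2,3,6,4,3,5,3,4]) (.leaf [4,3,2,3,4,5,3,2,3,5,4,3,6,3,4,4,3,5,3,4,5,3,2,3,5])) (.node (.leaf [3,6,3,2,3,6,5,3,2,3,5]) (.leaf [1,0,1,5,3,2,3,5,6,3,2,3,6,4,3,5,3,4,4,3,6,3,4])))))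 (.node (.node (.node (.node (.leaf [0,4,3,6,3,4,4,3,5,3,4]) (.leaf [0,3,6,3,2,3,6,5,3,2,3,5,1,0,1])) (.node (.leaf [4,3,5,3,4,4,3,6,3,4,5,3,2,3,5,1,0,1]) (.leaf [0,1,0,1,6,3,2,3,6,4,3,5,3,4,5,3,2,3,5,6,3,2,3,6]))) (.node (.node (.leaf [0,3,5,3,2,3,5]) (.leaf [4,3,2,3,4,5,3,2,3,5,1,0,1])) (.node (.leaf [1,0,1,4,3,5,3,4,6,3,2,3,6]) (.leaf [0,4,3,2,3,4,1,0,1,5,3,2,3,5,4,3,6,3,4])))) (.node (.node (.node (.leaf [0,4,3,6,3,4,5,3,2,3,5,1,0,1]) (.leaf [3,5,3,2,3,5,1,0,1,4,3,6,3,4])) (.node (.leaf [1,0,1,3,6,3,2,3,6,4,3,5,3,4]) (.leaf [0,4,3,6,3,4,5,3,2,3,5,1,0,1,4,3,2,3,4]))) (.node (.node (.leaf [3,5,3,2,3,5,1,0,1]) (.leaf [0,1,0,1,5,3,2,3,5,4,3,6,3,4,5,3,2,3,5])) (.node (.leaf [0,4,3,2,3,4,4,3,6,3,4,5,3,2,3,5,4,3,6,3,4]) (.leaf [0,4,3,6,3,4,5,3,2,3,5,1,0,1,6,3,2,3,6]))))))) (.node (.node (.node (.node (.node (.node (.leaf [0]) (.leaf [5,3,2,3,5,1,0,1,4,3,2,3,4])) (.node (.leaf [0,6,3,2,3,6,5,3,2,3,5,4,3,6,3,4])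 (.leaf [4,3,2,3,4,4,3,5,3,4,4,3,6,3,4,6,3,2,3,6]))) (.node (.node (.leaf [0,4,3,2,3,4,4,3,6,3,4,6,3,2,3,6,4,3,5,3,4]) (.leaf [0,6,3,2,3,6,1,0,1,4,3,2,3,4])) (.node (.leaf [0,5,3,2,3,5,1,0,1]) (.leaf [3,5,3,2,3,5,6,3,2,3,6,1,0,1])))) (.node (.node (.node (.leaf [3,4,3,5,3,4]) (.leaf [4,3,2,3,4,4,3,6,3,4,6,3,2,3,6,4,3,5,3,4,6,3,2,3,6])) (.node (.leaf [0,5,3,2,3,5]) (.leaf [3,4,3,6,3,4,6,3,2,3,6,5,3,2,3,5,4,3,6,3,4]))) (.node (.node (.leaf [0,4,3,2,3,4,4,3,6,3,4,4,3,5,3,4]) (.leaf [1,0,1,5,3,2,3,5,4,3,6,3,4,6,3,2,3,6,5,3,2,3,5])) (.node (.leaf [1,0,1,6,3,2,3,6,4,3,5,3,4,6,3,2,3,6]) (.leaf [4,3,2,3,4,4,3,5,3,4,6,3,2,3,6,1,0,1]))))) (.node (.node (.node (.node (.leaf [3,6,3,2,3,6,1,0,1]) (.leaf [0,3,5,3,2,3,5,6,3,2,3,6])) (.node (.leaf [6,3,2,3,6,5,3,2,3,5]) (.leaf [5,3,2,3,5,1,0,1,6,3,2,3,6]))) (.node (.node (.leaf [4,3,6,3,4,5,3,2,3,5,1,0,1]) (.leaf [4,3,2,3,4,5,3,2,3,5])) (.node (.leaf [0,1,0,1,4,3,5,3,4,6,3,2,3,6,5,3,2,3,5])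 (.leaf [3,4,3,5,3,4,5,3,2,3,5,6,3,2,3,6,4,3,5,3,4])))) (.node (.node (.node (.leaf [4,3,5,3,4,6,3,2,3,6,4,3,5,3,4]) (.leaf [5,3,2,3,5,4,3,6,3,4])) (.node (.leaf [3,4,3,2,3,4,6,3,2,3,6]) (.leaf [0,4,3,2,3,4,4,3,5,3,4,6,3,2,3,6]))) (.node (.node (.leaf [0,5,3,2,3,5,1,0,1,4,3,2,3,4,6,3,2,3,6]) (.leaf [0,4,3,2,3,4,1,0,1,4,3,5,3,4,6,3,2,3,6])) (.node (.leaf [4,3,6,3,4,5,3,2,3,5,4,3,6,3,4,6,3,2,3,6,5,3,2,3,5]) (.leaf [0,1,0,1,6,3,2,3,6,4,3,5,3,4,5,3,2,3,5])))))) (.node (.node (.node (.node (.node (.leaf [0,3,6,3,2,3,6,1,0,1]) (.leaf [4,3,2,3,4,6,3,2,3,6])) (.node (.leaf [1,0,1,4,3,2,3,4,4,3,5,3,4]) (.leaf [1,0,1,5,3,2,3,5,4,3,6,3,4,5,3,2,3,5]))) (.node (.node (.leaf [0,6,3,2,3,6]) (.leaf [5,3,2,3,5,6,3,2,3,6,1,0,1,4,3,5,3,4])) (.node (.leaf [0,5,3,2,3,5,4,3,6,3,4]) (.leaf [4,3,2,3,4,4,3,5,3,4,5,3,2,3,5,4,3,6,3,4])))) (.node (.node (.node (.leaf [1,0,1,4,3,6,3,4]) (.leaf [1,0,1,4,3,5,3,4,6,3,2,3,6,4,3,5,3,4,4,3,6,3,4]))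 (.node (.leaf [0,1,0,1,6,3,2,3,6,4,3,5,3,4,6,3,2,3,6]) (.leaf [3,5,3,2,3,5,4,3,6,3,4]))) (.node (.node (.leaf [0,4,3,2,3,4,4,3,5,3,4,4,3,6,3,4]) (.leaf [5,3,2,3,5,6,3,2,3,6,1,0,1])) (.node (.leaf [6,3,2,3,6,1,0,1,4,3,5,3,4,4,3,6,3,4]) (.leaf [4,3,2,3,4,5,3,2,3,5,1,0,1,4,3,6,3,4]))))) (.node (.node (.node (.node (.leaf [0,6,3,2,3,6,1,0,1]) (.leaf [1,0,1,3,4,3,5,3,4,6,3,2,3,6])) (.node (.leaf [0,4,3,5,3,4,4,3,6,3,4,5,3,2,3,5]) (.leaf [0,4,3,2,3,4,5,3,2,3,5,4,3,6,3,4]))) (.node (.node (.leaf [0,1,0,1,4,3,2,3,4,4,3,6,3,4]) (.leaf [0,3,5,3,2,3,5,4,3,6,3,4,5,3,2,3,5])) (.node (.leaf [1,0,1,4,3,2,3,4,6,3,2,3,6,4,3,5,3,4,6,3,2,3,6]) (.leaf [0,4,3,6,3,4,6,3,2,3,6,5,3,2,3,5])))) (.node (.node (.node (.leaf [1,0,1,4,3,2,3,4,5,3,2,3,5,4,3,6,3,4,5,3,2,3,5]) (.leaf [4,3,6,3,4,5,3,2,3,5,1,0,1,4,3,2,3,4])) (.node (.leaf [3,4,3,2,3,4,4,3,6,3,4,5,3,2,3,5,4,3,6,3,4]) (.leaf [0,4,3,2,3,4,4,3,6,3,4,5,3,2,3,5,1,0,1])))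 (.node (.node (.leaf [4,3,5,3,4,4,3,6,3,4,6,3,2,3,6]) (.leaf [0,4,3,2,3,4,4,3,5,3,4,6,3,2,3,6,1,0,1,4,3,5,3,4])) (.node (.leaf [0,4,3,2,3,4,4,3,5,3,4,6,3,2,3,6,4,3,5,3,4]) (.leaf [4,3,6,3,4,5,3,2,3,5,1,0,1,6,3,2,3,6]))))))))

def pW_2 : CfsgLib.Coset.Tr (List Nat) := (.node (.node (.node (.node (.node (.node (.node (.leaf [1,0,1,3]) (.leaf [3,4,3,2,3,4,4,3,6,3,4,6,3,2,3,6])) (.node (.leaf [4,3,5,3,4,5,3,2,3,5,4,3,6,3,4]) (.leaf [4,3,2,3,4,4,3,5,3,4,4,3,6,3,4,5,3,2,3,5,4,3,6,3,4]))) (.node (.node (.leaf [1,0,1,3,5,3,2,3,5]) (.leaf [0,4,3,6,3,4,5,3,2,3,5,6,3,2,3,6])) (.node (.leaf [1,0,1,4,3,6,3,4,4,3,5,3,4,6,3,2,3,6]) (.leaf [6,3,2,3,6,1,0,1,4,3,5,3,4,4,3,6,3,4,5,3,2,3,5])))) (.node (.node (.node (.leaf [0,4,3,6,3,4]) (.leaf [1,0,1,4,3,2,3,4,4,3,5,3,4,6,3,2,3,6,4,3,5,3,4])) (.node (.leaf [1,0,1,4,3,2,3,4,4,3,5,3,4,4,3,6,3,4]) (.leaf [4,3,2,3,4,6,3,2,3,6,1,0,1,4,3,5,3,4,6,3,2,3,6]))) (.node (.node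 (.leaf [1,0,1,4,3,6,3,4,5,3,2,3,5]) (.leaf [0,1,0,1,6,3,2,3,6,4,3,5,3,4])) (.node (.leaf [5,3,2,3,5,4,3,6,3,4,5,3,2,3,5,6,3,2,3,6]) (.leaf [5,3,2,3,5,6,3,2,3,6,4,3,5,3,4]))))) (.node (.node (.node (.node (.leaf [0,3,4,3,6,3,4]) (.leaf [5,3,2,3,5,4,3,6,3,4,5,3,2,3,5,1,0,1])) (.node (.leaf [4,3,2,3,4,4,3,6,3,4]) (.leaf [4,3,2,3,4,4,3,5,3,4,4,3,6,3,4,5,3,2,3,5]))) (.node (.node (.leaf [0,4,3,2,3,4,1,0,1,4,3,5,3,4]) (.leaf [3,4,3,2,3,4,6,3,2,3,6,4,3,5,3,4,6,3,2,3,6])) (.node (.leaf [4,3,5,3,4,6,3,2,3,6,1,0,1]) (.leaf [3,6,3,2,3,6,4,3,5,3,4,5,3,2,3,5,6,3,2,3,6])))) (.node (.node (.node (.leaf [0,1,0,1,4,3,5,3,4,4,3,6,3,4]) (.leaf [4,3,6,3,4,4,3,5,3,4,6,3,2,3,6,5,3,2,3,5])) (.node (.leaf [4,3,6,3,4,4,3,5,3,4,5,3,2,3,5,4,3,6,3,4]) (.leaf [6,3,2,3,6,4,3,5,3,4,5,3,2,3,5,6,3,2,3,6]))) (.node (.node (.leaf [3,4,3,2,3,4,5,3,2,3,5,4,3,6,3,4,5,3,2,3,5]) (.leaf [6,3,2,3,6,5,3,2,3,5,4,3,6,3,4,4,3,5,3,4])) (.node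 (.leaf [4,3,6,3,4,6,3,2,3,6,4,3,5,3,4,5,3,2,3,5]) (.leaf [5,3,2,3,5,1,0,1,6,3,2,3,6,4,3,5,3,4])))))) (.node (.node (.node (.node (.node (.leaf [4,3,2,3,4,1,0,1]) (.leaf [0,3,4,3,2,3,4,4,3,5,3,4,5,3,2,3,5])) (.node (.leaf [0,4,3,5,3,4,6,3,2,3,6,5,3,2,3,5,1,0,1]) (.leaf [0,3,4,3,2,3,4,5,3,2,3,5,4,3,6,3,4]))) (.node (.node (.leaf [1,0,1,6,3,2,3,6,5,3,2,3,5,4,3,6,3,4]) (.leaf [5,3,2,3,5,4,3,6,3,4,6,3,2,3,6])) (.node (.leaf [1,0,1,5,3,2,3,5,6,3,2,3,6]) (.leaf [6,3,2,3,6,4,3,5,3,4,5,3,2,3,5])))) (.node (.node (.node (.leaf [4,3,2,3,4,1,0,1,6,3,2,3,6,4,3,5,3,4]) (.leaf [1,0,1,4,3,2,3,4,4,3,5,3,4,6,3,2,3,6,4,3,5,3,4,6,3,2,3,6])) (.node (.leaf [0,4,3,5,3,4,4,3,6,3,4,6,3,2,3,6,4,3,5,3,4]) (.leaf [0,4,3,2,3,4,4,3,6,3,4,4,3,5,3,4,6,3,2,3,6]))) (.node (.node (.leaf [3,4,3,6,3,4,5,3,2,3,5]) (.leaf [1,0,1,4,3,5,3,4,6,3,2,3,6,4,3,5,3,4,6,3,2,3,6])) (.node (.leaf [0,4,3,6,3,4,4,3,5,3,4,5,3,2,3,5,4,3,6,3,4]) (.leaf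 [4,3,5,3,4,5,3,2,3,5,6,3,2,3,6]))))) (.node (.node (.node (.node (.leaf [3,4,3,6,3,4]) (.leaf [3,4,3,6,3,4,6,3,2,3,6,5,3,2,3,5])) (.node (.leaf [1,0,1,4,3,2,3,4,4,3,6,3,4,4,3,5,3,4]) (.leaf [0,5,3,2,3,5,6,3,2,3,6,4,3,5,3,4]))) (.node (.node (.leaf [0,4,3,2,3,4,5,3,2,3,5,4,3,6,3,4,5,3,2,3,5]) (.leaf [4,3,2,3,4,4,3,5,3,4,5,3,2,3,5])) (.node (.leaf [4,3,5,3,4,6,3,2,3,6,5,3,2,3,5,1,0,1]) (.leaf [4,3,5,3,4,6,3,2,3,6,1,0,1,4,3,2,3,4])))) (.node (.node (.node (.leaf [4,3,2,3,4,1,0,1,4,3,6,3,4]) (.leaf [5,3,2,3,5,1,0,1,4,3,6,3,4,4,3,5,3,4])) (.node (.leaf [4,3,2,3,4,1,0,1,6,3,2,3,6]) (.leaf [1,0,1,4,3,2,3,4,4,3,6,3,4,5,3,2,3,5]))) (.node (.node (.leaf [3,4,3,5,3,4,5,3,2,3,5]) (.leaf [5,3,2,3,5,1,0,1,4,3,2,3,4,4,3,6,3,4])) (.node (.leaf [0,1,0,1,5,3,2,3,5,6,3,2,3,6]) (.leaf [0,5,3,2,3,5,1,0,1,6,3,2,3,6,4,3,5,3,4]))))))) (.node (.node (.node (.node (.node (.node (.leaf [1,0,1]) (.leaf [5,3,2,3,5,6,3,2,3,6,4,3,5,3,4,6,3,2,3,6]))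 (.node (.leaf [0,3,4,3,5,3,4,6,3,2,3,6,5,3,2,3,5]) (.leaf [3,5,3,2,3,5,1,0,1,6,3,2,3,6,4,3,5,3,4]))) (.node (.node (.leaf [0,4,3,2,3,4,6,3,2,3,6,1,0,1,4,3,5,3,4]) (.leaf [0,6,3,2,3,6,1,0,1,5,3,2,3,5,4,3,6,3,4])) (.node (.leaf [1,0,1,3,4,3,6,3,4,5,3,2,3,5,4,3,6,3,4]) (.leaf [0,3,4,3,2,3,4,6,3,2,3,6,4,3,5,3,4,6,3,2,3,6])))) (.node (.node (.node (.leaf [1,0,1,4,3,5,3,4,4,3,6,3,4]) (.leaf [1,0,1,4,3,6,3,4,5,3,2,3,5,4,3,6,3,4,5,3,2,3,5])) (.node (.leaf [0,1,0,1,4,3,6,3,4,5,3,2,3,5,4,3,6,3,4]) (.leaf [4,3,6,3,4,5,3,2,3,5,6,3,2,3,6,4,3,5,3,4]))) (.node (.node (.leaf [0,1,0,1,6,3,2,3,6,5,3,2,3,5]) (.leaf [6,3,2,3,6,4,3,5,3,4,4,3,6,3,4,5,3,2,3,5])) (.node (.leaf [0,4,3,2,3,4,1,0,1,5,3,2,3,5]) (.leaf [4,3,2,3,4,1,0,1,4,3,5,3,4,6,3,2,3,6,4,3,5,3,4,6,3,2,3,6]))))) (.node (.node (.node (.node (.leaf [1,0,1,4,3,2,3,4]) (.leaf [1,0,1,6,3,2,3,6,4,3,5,3,4])) (.node (.leaf [6,3,2,3,6,4,3,5,3,4,6,3,2,3,6,1,0,1]) (.leaf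 [0,6,3,2,3,6,1,0,1,5,3,2,3,5]))) (.node (.node (.leaf [0,4,3,2,3,4,1,0,1,4,3,6,3,4]) (.leaf [0,4,3,2,3,4,4,3,6,3,4,6,3,2,3,6])) (.node (.leaf [5,3,2,3,5,4,3,6,3,4,4,3,5,3,4]) (.leaf [4,3,5,3,4,4,3,6,3,4,5,3,2,3,5,6,3,2,3,6])))) (.node (.node (.node (.leaf [4,3,2,3,4,1,0,1,4,3,5,3,4]) (.leaf [4,3,2,3,4,1,0,1,4,3,6,3,4,5,3,2,3,5])) (.node (.leaf [1,0,1,6,3,2,3,6,4,3,5,3,4,4,3,6,3,4]) (.leaf [1,0,1,4,3,2,3,4,4,3,5,3,4,6,3,2,3,6]))) (.node (.node (.leaf [1,0,1,5,3,2,3,5]) (.leaf [0,5,3,2,3,5,1,0,1,4,3,6,3,4,5,3,2,3,5])) (.node (.leaf [3,4,3,5,3,4,6,3,2,3,6,1,0,1]) (.leaf [3,4,3,5,3,4,5,3,2,3,5,6,3,2,3,6])))))) (.node (.node (.node (.node (.node (.leaf [0,1,0,1,4,3,2,3,4]) (.leaf [4,3,6,3,4,6,3,2,3,6,4,3,5,3,4])) (.node (.leaf [0,4,3,5,3,4,6,3,2,3,6]) (.leaf [4,3,2,3,4,4,3,5,3,4,6,3,2,3,6,4,3,5,3,4,4,3,6,3,4]))) (.node (.node (.leaf [0,1,0,1,4,3,2,3,4,6,3,2,3,6,4,3,5,3,4]) (.leaf [0,4,3,2,3,4,6,3,2,3,6,4,3,5,3,4,6,3,2,3,6]))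 (.node (.leaf [0,4,3,5,3,4,5,3,2,3,5]) (.leaf [0,3,4,3,2,3,4,4,3,5,3,4,6,3,2,3,6])))) (.node (.node (.node (.leaf [0,4,3,6,3,4,6,3,2,3,6]) (.leaf [0,4,3,5,3,4,5,3,2,3,5,4,3,6,3,4,6,3,2,3,6])) (.node (.leaf [4,3,2,3,4,1,0,1,5,3,2,3,5]) (.leaf [0,1,0,1,4,3,2,3,4,4,3,6,3,4,5,3,2,3,5]))) (.node (.node (.leaf [1,0,1,4,3,5,3,4,4,3,6,3,4,5,3,2,3,5]) (.leaf [1,0,1,4,3,2,3,4,4,3,6,3,4,5,3,2,3,5,4,3,6,3,4,5,3,2,3,5])) (.node (.leaf [3,6,3,2,3,6,1,0,1,4,3,5,3,4]) (.leaf [0,4,3,2,3,4,5,3,2,3,5,4,3,6,3,4,4,3,5,3,4]))))) (.node (.node (.node (.node (.leaf [1,0,1,3,6,3,2,3,6]) (.leaf [1,0,1,4,3,2,3,4,4,3,6,3,4,5,3,2,3,5,4,3,6,3,4])) (.node (.leaf [4,3,5,3,4,6,3,2,3,6,1,0,1,4,3,5,3,4,4,3,6,3,4]) (.leaf [3,4,3,6,3,4,5,3,2,3,5,6,3,2,3,6]))) (.node (.node (.leaf [0,4,3,2,3,4,4,3,5,3,4]) (.leaf [0,4,3,6,3,4,6,3,2,3,6,4,3,5,3,4])) (.node (.leaf [0,3,4,3,5,3,4,6,3,2,3,6]) (.leaf [4,3,5,3,4,6,3,2,3,6,4,3,5,3,4,6,3,2,3,6,1,0,1]))))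 (.node (.node (.node (.leaf [0,1,0,1,4,3,5,3,4]) (.leaf [0,4,3,2,3,4,1,0,1,4,3,6,3,4,5,3,2,3,5])) (.node (.leaf [0,4,3,6,3,4,6,3,2,3,6,4,3,5,3,4,5,3,2,3,5]) (.leaf [4,3,6,3,4,5,3,2,3,5,6,3,2,3,6]))) (.node (.node (.leaf [4,3,2,3,4,6,3,2,3,6,1,0,1,4,3,5,3,4]) (.leaf [1,0,1,4,3,2,3,4,5,3,2,3,5,4,3,6,3,4])) (.node (.leaf [0,1,0,1,4,3,2,3,4,5,3,2,3,5]) (.leaf [3,5,3,2,3,5,6,3,2,3,6,4,3,5,3,4]))))))))

def pW_3 : CfsgLib.Coset.Tr (List Nat) := (.node (.node (.node (.node (.node (.node (.node (.leaf [0,1,0,1,3]) (.leaf [0,1,0,1,4,3,2,3,4,6,3,2,3,6])) (.node (.leaf [0,5,3,2,3,5,6,3,2,3,6,1,0,1,5,3,2,3,5]) (.leaf [6,3,2,3,6,1,0,1,4,3,5,3,4,6,3,2,3,6]))) (.node (.node (.leaf [1,0,1,4,3,5,3,4]) (.leaf [0,5,3,2,3,5,4,3,6,3,4,6,3,2,3,6])) (.node (.leaf [0,4,3,2,3,4,1,0,1,4,3,5,3,4,6,3,2,3,6,4,3,5,3,4]) (.leaf [1,0,1,3,5,3,2,3,5,4,3,6,3,4,6,3,2,3,6])))) (.node (.node (.node (.leaf [0,1,0,1,3,4,3,5,3,4]) (.leaf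 [0,5,3,2,3,5,4,3,6,3,4,6,3,2,3,6,5,3,2,3,5])) (.node (.leaf [0,3,4,3,2,3,4,5,3,2,3,5,4,3,6,3,4,5,3,2,3,5]) (.leaf [4,3,2,3,4,1,0,1,4,3,6,3,4,5,3,2,3,5,4,3,6,3,4,5,3,2,3,5]))) (.node (.node (.leaf [0,6,3,2,3,6,4,3,5,3,4,6,3,2,3,6,1,0,1]) (.leaf [0,3,4,3,6,3,4,6,3,2,3,6,5,3,2,3,5])) (.node (.leaf [4,3,5,3,4,4,3,6,3,4,6,3,2,3,6,4,3,5,3,4]) (.leaf [0,4,3,2,3,4,6,3,2,3,6,1,0,1,4,3,5,3,4,6,3,2,3,6]))))) (.node (.node (.node (.node (.leaf [1,0,1,4,3,6,3,4,4,3,5,3,4]) (.leaf [0,3,4,3,2,3,4,4,3,6,3,4,6,3,2,3,6])) (.node (.leaf [0,1,0,1,4,3,6,3,4,5,3,2,3,5]) (.leaf [5,3,2,3,5,1,0,1,4,3,6,3,4,4,3,5,3,4,6,3,2,3,6]))) (.node (.node (.leaf [0,1,0,1,4,3,5,3,4,6,3,2,3,6,4,3,5,3,4]) (.leaf [1,0,1,3,6,3,2,3,6,4,3,5,3,4,5,3,2,3,5])) (.node (.leaf [0,4,3,5,3,4,5,3,2,3,5,4,3,6,3,4]) (.leaf [0,6,3,2,3,6,1,0,1,4,3,5,3,4,6,3,2,3,6])))) (.node (.node (.node (.leaf [1,0,1,6,3,2,3,6]) (.leaf [4,3,5,3,4,4,3,6,3,4,6,3,2,3,6,5,3,2,3,5]))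 (.node (.leaf [0,1,0,1,3,6,3,2,3,6,5,3,2,3,5]) (.leaf [0,3,5,3,2,3,5,6,3,2,3,6,4,3,5,3,4]))) (.node (.node (.leaf [1,0,1,4,3,6,3,4,5,3,2,3,5,4,3,6,3,4]) (.leaf [6,3,2,3,6,4,3,5,3,4,5,3,2,3,5,4,3,6,3,4])) (.node (.leaf [4,3,2,3,4,1,0,1,4,3,6,3,4,5,3,2,3,5,4,3,6,3,4]) (.leaf [0,3,4,3,5,3,4,5,3,2,3,5,6,3,2,3,6])))))) (.node (.node (.node (.node (.node (.leaf [0,4,3,2,3,4,1,0,1]) (.leaf [4,3,5,3,4,4,3,6,3,4,5,3,2,3,5,4,3,6,3,4])) (.node (.leaf [1,0,1,4,3,2,3,4,6,3,2,3,6,4,3,5,3,4]) (.leaf [4,3,6,3,4,5,3,2,3,5,4,3,6,3,4,5,3,2,3,5,1,0,1]))) (.node (.node (.leaf [0,4,3,2,3,4,1,0,1,6,3,2,3,6,4,3,5,3,4]) (.leaf [6,3,2,3,6,1,0,1,5,3,2,3,5,4,3,6,3,4])) (.node (.leaf [4,3,5,3,4,6,3,2,3,6,5,3,2,3,5]) (.leaf [5,3,2,3,5,1,0,1,4,3,6,3,4,5,3,2,3,5])))) (.node (.node (.node (.leaf [0,1,0,1,3,6,3,2,3,6]) (.leaf [1,0,1,3,5,3,2,3,5,6,3,2,3,6])) (.node (.leaf [4,3,5,3,4,4,3,6,3,4,5,3,2,3,5,1,0,1,4,3,6,3,4]) (.leaf [3,6,3,2,3,6,1,0,1,5,3,2,3,5,4,3,6,3,4])))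 (.node (.node (.leaf [1,0,1,3,4,3,5,3,4,6,3,2,3,6,4,3,5,3,4]) (.leaf [4,3,2,3,4,5,3,2,3,5,1,0,1,4,3,6,3,4,5,3,2,3,5])) (.node (.leaf [1,0,1,3,6,3,2,3,6,5,3,2,3,5]) (.leaf [5,3,2,3,5,6,3,2,3,6,4,3,5,3,4,4,3,6,3,4]))))) (.node (.node (.node (.node (.leaf [0,1,0,1,4,3,6,3,4,4,3,5,3,4]) (.leaf [4,3,5,3,4,6,3,2,3,6,5,3,2,3,5,4,3,6,3,4])) (.node (.leaf [0,3,4,3,6,3,4,5,3,2,3,5]) (.leaf [0,6,3,2,3,6,4,3,5,3,4,5,3,2,3,5,6,3,2,3,6]))) (.node (.node (.leaf [0,1,0,1,3,5,3,2,3,5]) (.leaf [3,4,3,2,3,4,4,3,5,3,4,5,3,2,3,5])) (.node (.leaf [4,3,5,3,4,6,3,2,3,6]) (.leaf [3,4,3,2,3,4,5,3,2,3,5,4,3,6,3,4])))) (.node (.node (.node (.leaf [4,3,6,3,4,4,3,5,3,4,5,3,2,3,5]) (.leaf [0,5,3,2,3,5,4,3,6,3,4,4,3,5,3,4])) (.node (.leaf [3,6,3,2,3,6,4,3,5,3,4]) (.leaf [4,3,2,3,4,4,3,6,3,4,4,3,5,3,4,5,3,2,3,5]))) (.node (.node (.leaf [0,3,4,3,5,3,4,5,3,2,3,5]) (.leaf [0,5,3,2,3,5,4,3,6,3,4,5,3,2,3,5])) (.node (.leaf [0,1,0,1,4,3,2,3,4,4,3,6,3,4,5,3,2,3,5,4,3,6,3,4])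 (.leaf [4,3,6,3,4,4,3,5,3,4,5,3,2,3,5,6,3,2,3,6]))))))) (.node (.node (.node (.node (.node (.node (.leaf [0,1,0,1]) (.leaf [0,4,3,2,3,4,4,3,5,3,4,5,3,2,3,5])) (.node (.leaf [0,1,0,1,6,3,2,3,6,5,3,2,3,5,4,3,6,3,4]) (.leaf [0,4,3,5,3,4,6,3,2,3,6,1,0,1,4,3,2,3,4]))) (.node (.node (.leaf [5,3,2,3,5,6,3,2,3,6,1,0,1,5,3,2,3,5]) (.leaf [4,3,2,3,4,4,3,6,3,4,6,3,2,3,6])) (.node (.leaf [4,3,5,3,4,5,3,2,3,5]) (.leaf [5,3,2,3,5,4,3,6,3,4,4,3,5,3,4,6,3,2,3,6])))) (.node (.node (.node (.leaf [1,0,1,3,4,3,5,3,4]) (.leaf [0,4,3,2,3,4,5,3,2,3,5,1,0,1,4,3,6,3,4,5,3,2,3,5])) (.node (.leaf [0,1,0,1,5,3,2,3,5]) (.leaf [5,3,2,3,5,1,0,1,4,3,2,3,4,6,3,2,3,6,4,3,5,3,4]))) (.node (.node (.leaf [4,3,2,3,4,1,0,1,4,3,5,3,4,4,3,6,3,4]) (.leaf [5,3,2,3,5,4,3,6,3,4,6,3,2,3,6,5,3,2,3,5])) (.node (.leaf [6,3,2,3,6,4,3,5,3,4,6,3,2,3,6]) (.leaf [4,3,2,3,4,4,3,6,3,4,4,3,5,3,4,6,3,2,3,6]))))) (.node (.node (.node (.node (.leaf [0,3,4,3,6,3,4,6,3,2,3,6])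 (.leaf [0,1,0,1,3,5,3,2,3,5,6,3,2,3,6])) (.node (.leaf [1,0,1,6,3,2,3,6,5,3,2,3,5]) (.leaf [0,4,3,5,3,4,5,3,2,3,5,6,3,2,3,6]))) (.node (.node (.leaf [0,4,3,6,3,4,4,3,5,3,4,5,3,2,3,5]) (.leaf [1,0,1,4,3,2,3,4,5,3,2,3,5])) (.node (.leaf [0,4,3,5,3,4,6,3,2,3,6,5,3,2,3,5]) (.leaf [5,3,2,3,5,6,3,2,3,6,1,0,1,4,3,5,3,4,4,3,6,3,4])))) (.node (.node (.node (.leaf [1,0,1,4,3,5,3,4,6,3,2,3,6,4,3,5,3,4]) (.leaf [1,0,1,5,3,2,3,5,4,3,6,3,4])) (.node (.leaf [0,4,3,2,3,4,1,0,1,6,3,2,3,6]) (.leaf [0,1,0,1,4,3,2,3,4,4,3,5,3,4,6,3,2,3,6]))) (.node (.node (.leaf [3,4,3,5,3,4,6,3,2,3,6,5,3,2,3,5]) (.leaf [3,4,3,2,3,4,4,3,5,3,4,6,3,2,3,6])) (.node (.leaf [4,3,2,3,4,1,0,1,4,3,5,3,4,6,3,2,3,6,4,3,5,3,4]) (.leaf [0,6,3,2,3,6,4,3,5,3,4,5,3,2,3,5])))))) (.node (.node (.node (.node (.node (.leaf [3,4,3,6,3,4,6,3,2,3,6]) (.leaf [1,0,1,4,3,2,3,4,6,3,2,3,6])) (.node (.leaf [4,3,2,3,4,4,3,5,3,4]) (.leaf [5,3,2,3,5,4,3,6,3,4,5,3,2,3,5])))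 (.node (.node (.leaf [0,1,0,1,6,3,2,3,6]) (.leaf [0,3,4,3,6,3,4,5,3,2,3,5,6,3,2,3,6])) (.node (.leaf [0,1,0,1,5,3,2,3,5,4,3,6,3,4]) (.leaf [0,5,3,2,3,5,1,0,1,4,3,2,3,4,4,3,6,3,4])))) (.node (.node (.node (.leaf [4,3,6,3,4]) (.leaf [4,3,5,3,4,6,3,2,3,6,4,3,5,3,4,4,3,6,3,4])) (.node (.leaf [0,6,3,2,3,6,4,3,5,3,4,6,3,2,3,6]) (.leaf [1,0,1,3,5,3,2,3,5,4,3,6,3,4]))) (.node (.node (.leaf [4,3,2,3,4,1,0,1,4,3,6,3,4,4,3,5,3,4]) (.leaf [4,3,5,3,4,5,3,2,3,5,4,3,6,3,4,6,3,2,3,6])) (.node (.leaf [0,3,6,3,2,3,6,4,3,5,3,4]) (.leaf [4,3,2,3,4,5,3,2,3,5,4,3,6,3,4,4,3,5,3,4]))))) (.node (.node (.node (.node (.leaf [4,3,6,3,4,6,3,2,3,6]) (.leaf [3,4,3,5,3,4,6,3,2,3,6])) (.node (.leaf [3,4,3,6,3,4,5,3,2,3,5,1,0,1]) (.leaf [0,1,0,1,4,3,2,3,4,5,3,2,3,5,4,3,6,3,4]))) (.node (.node (.leaf [0,4,3,2,3,4,4,3,6,3,4]) (.leaf [0,5,3,2,3,5,4,3,6,3,4,5,3,2,3,5,1,0,1])) (.node (.leaf [4,3,2,3,4,6,3,2,3,6,4,3,5,3,4,6,3,2,3,6]) (.leaf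 [6,3,2,3,6,1,0,1,5,3,2,3,5])))) (.node (.node (.node (.leaf [4,3,2,3,4,5,3,2,3,5,4,3,6,3,4,5,3,2,3,5]) (.leaf [0,4,3,2,3,4,4,3,6,3,4,4,3,5,3,4,5,3,2,3,5])) (.node (.leaf [0,4,3,2,3,4,1,0,1,4,3,6,3,4,5,3,2,3,5,4,3,6,3,4]) (.leaf [0,4,3,2,3,4,4,3,5,3,4,4,3,6,3,4,5,3,2,3,5]))) (.node (.node (.leaf [0,4,3,5,3,4,6,3,2,3,6,1,0,1]) (.leaf [3,5,3,2,3,5,4,3,6,3,4,6,3,2,3,6,5,3,2,3,5])) (.node (.leaf [0,1,0,1,4,3,2,3,4,4,3,5,3,4,6,3,2,3,6,4,3,5,3,4]) (.leaf [5,3,2,3,5,4,3,6,3,4,6,3,2,3,6,4,3,5,3,4]))))))))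

/-- The centralizer of the two involutions, as words. -/
def pW : CfsgLib.Coset.Tr (List Nat) := (.node (.node pW_0 pW_1) (.node pW_2 pW_3))

def pK_0 : CfsgLib.Coset.Tr (List Nat) := (.node (.node (.node (.node (.node (.node (.node (.leaf [2,3,29,23]) (.leaf [37,97,57,1190])) (.node (.leaf [67,216,137,610]) (.leaf [9,146,57,1627]))) (.node (.node (.leaf [38,45,12,326]) (.leaf [116,333,138,1464])) (.node (.leaf [39,87,82,836]) (.leaf [19,146,147,1833])))) (.node (.node (.node (.leaf [5,6,99,203]) (.leaf [5,3,12,1261])) (.node (.leaf [21,87,171,763]) (.leaf [22,32,82,1696]))) (.node (.node (.leaf [20,80,167,479]) (.leaf [40,32,143,1563])) (.node (.leaf [68,44,25,1106]) (.leaf [67,220,169,1908]))))) (.node (.node (.node (.node (.leaf [2,3,169,127]) (.leaf [37,54,135,1227])) (.node (.leaf [68,77,99,745]) (.leaf [67,214,169,1652]))) (.node (.node (.leaf [21,87,143,457]) (.leaf [22,32,215,1510])) (.node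 (.leaf [21,88,141,912]) (.leaf [9,146,57,1888])))) (.node (.node (.node (.leaf [22,27,101,300]) (.leaf [117,214,57,1291])) (.node (.leaf [67,216,30,805]) (.leaf [19,102,30,1726]))) (.node (.node (.leaf [2,4,137,507]) (.leaf [117,214,57,1594])) (.node (.leaf [9,102,47,1159]) (.leaf [38,80,15,1947])))))) (.node (.node (.node (.node (.node (.leaf [37,44,15,72]) (.leaf [67,214,25,1209])) (.node (.leaf [116,343,135,662]) (.leaf [38,55,142,1635]))) (.node (.node (.leaf [66,261,213,411]) (.leaf [38,80,145,1490])) (.node (.leaf [116,333,24,853]) (.leaf [9,102,99,1863])))) (.node (.node (.node (.leaf [21,106,143,276]) (.leaf [5,8,12,1266])) (.node (.leaf [37,77,47,789]) (.leaf [40,27,138,1714]))) (.node (.node (.leaf [38,45,172,489]) (.leaf [68,97,24,1580])) (.node (.leaf [67,216,30,1147]) (.leaf [19,139,137,1920]))))) (.node (.node (.node (.node (.leaf [2,3,169,191]) (.leaf [38,86,138,1237])) (.node (.leaf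 [39,88,101,755]) (.leaf [67,220,169,1675]))) (.node (.node (.leaf [5,8,79,466]) (.leaf [117,260,47,1554])) (.node (.leaf [116,343,135,1034]) (.leaf [22,50,82,1894])))) (.node (.node (.node (.leaf [37,44,167,310]) (.leaf [116,228,135,1344])) (.node (.leaf [37,97,15,818]) (.leaf [66,343,217,1822]))) (.node (.node (.leaf [19,83,25,533]) (.leaf [19,102,82,1609])) (.node (.leaf [116,333,24,1172]) (.leaf [38,80,15,1965]))))))) (.node (.node (.node (.node (.node (.node (.leaf [5,6,15,42]) (.leaf [117,220,57,1200])) (.node (.leaf [67,260,137,655]) (.leaf [20,45,29,1631]))) (.node (.node (.leaf [21,106,171,361]) (.leaf [66,261,15,1468])) (.node (.leaf [116,228,29,846]) (.leaf [22,32,215,1851])))) (.node (.node (.node (.leaf [22,27,101,206]) (.leaf [68,97,24,1264])) (.node (.leaf [66,333,15,769]) (.leaf [67,220,25,1707]))) (.node (.node (.leaf [20,55,24,487]) (.leaf [19,146,25,1569])) (.node (.leaf [116,261,24,1139])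 (.leaf [2,4,24,1914]))))) (.node (.node (.node (.node (.leaf [68,77,29,187]) (.leaf [40,32,143,1231])) (.node (.leaf [21,105,147,750]) (.leaf [20,55,167,1655]))) (.node (.node (.leaf [37,44,167,461]) (.leaf [68,54,30,1524])) (.node (.leaf [117,220,79,971]) (.leaf [9,83,57,1890])))) (.node (.node (.node (.leaf [21,87,143,306]) (.leaf [116,261,167,1295])) (.node (.leaf [22,60,101,811]) (.leaf [40,27,147,1783]))) (.node (.node (.leaf [20,80,24,510]) (.leaf [21,105,141,1606])) (.node (.leaf [39,87,82,1165]) (.leaf [9,83,79,1963])))))) (.node (.node (.node (.node (.node (.leaf [68,77,29,123]) (.leaf [40,32,145,1219])) (.node (.leaf [39,87,219,690]) (.leaf [5,3,25,1646]))) (.node (.node (.leaf [39,105,222,425]) (.leaf [40,60,138,1500])) (.node (.leaf [9,139,47,874]) (.leaf [22,50,142,1878])))) (.node (.node (.node (.leaf [5,4,30,295]) (.leaf [117,216,47,1278])) (.node (.leaf [116,261,24,797]) (.leaf [66,343,217,1720])))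 (.node (.node (.leaf [19,83,101,495]) (.leaf [5,8,12,1582])) (.node (.leaf [22,60,101,1151]) (.leaf [9,146,79,1932]))))) (.node (.node (.node (.node (.leaf [2,8,29,197]) (.leaf [20,86,29,1244])) (.node (.leaf [37,77,12,757]) (.leaf [66,228,215,1682]))) (.node (.node (.leaf [39,88,145,475]) (.leaf [40,32,145,1561])) (.node (.leaf [21,88,142,1076]) (.leaf [37,54,12,1896])))) (.node (.node (.node (.leaf [40,50,143,314]) (.leaf [116,261,167,1450])) (.node (.leaf [9,102,47,828]) (.leaf [116,333,138,1826]))) (.node (.node (.leaf [21,106,171,571]) (.leaf [20,86,135,1614])) (.node (.leaf [66,343,12,1185]) (.leaf [117,216,99,1993]))))))))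

def pK_1 : CfsgLib.Coset.Tr (List Nat) := (.node (.node (.node (.node (.node (.node (.node (.leaf [2,3,29,41]) (.leaf [68,54,29,1192])) (.node (.leaf [39,105,101,630]) (.leaf [39,106,82,1629]))) (.node (.node (.leaf [40,50,143,331]) (.leaf [38,80,145,1467])) (.node (.leaf [2,6,24,842]) (.leaf [20,45,135,1844])))) (.node (.node (.node (.leaf [22,27,222,205]) (.leaf [2,6,47,1262])) (.node (.leaf [2,4,137,768]) (.leaf [2,4,24,1697]))) (.node (.node (.leaf [21,105,147,483]) (.leaf [38,86,138,1568])) (.node (.leaf [37,77,47,1133]) (.leaf [22,32,82,1913]))))) (.node (.node (.node (.node (.leaf [40,50,171,130]) (.leaf [37,97,57,1229])) (.node (.leaf [20,80,167,746]) (.leaf [20,45,135,1654]))) (.node (.node (.leaf [68,44,24,460]) (.leaf [19,146,147,1514])) (.node (.leaf [67,216,137,970]) (.leaf [39,106,82,1889])))) (.node (.node (.node (.leaf [5,4,15,304]) (.leaf [67,260,30,1294])) (.node (.leaf [38,86,12,808])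 (.leaf [117,216,99,1751]))) (.node (.node (.leaf [66,333,15,508]) (.leaf [67,260,30,1597])) (.node (.leaf [38,55,15,1162]) (.leaf [9,83,79,1952])))))) (.node (.node (.node (.node (.node (.leaf [37,44,15,118]) (.leaf [117,220,57,1214])) (.node (.leaf [39,105,222,685]) (.leaf [37,54,12,1636]))) (.node (.node (.leaf [21,106,143,424]) (.leaf [66,261,15,1492])) (.node (.leaf [117,214,79,869]) (.leaf [21,105,141,1877])))) (.node (.node (.node (.leaf [2,8,29,292]) (.leaf [66,228,12,1277])) (.node (.leaf [116,228,29,795]) (.leaf [116,343,29,1718]))) (.node (.node (.leaf [37,77,12,491]) (.leaf [40,60,141,1581])) (.node (.leaf [38,86,12,1149]) (.leaf [9,83,57,1927]))))) (.node (.node (.node (.node (.leaf [40,50,171,194]) (.leaf [19,146,25,1238])) (.node (.leaf [38,45,172,756]) (.leaf [19,102,30,1678]))) (.node (.node (.leaf [38,45,12,472]) (.leaf [67,214,25,1556])) (.node (.leaf [39,87,219,1067]) (.leaf [38,55,142,1895]))))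 (.node (.node (.node (.leaf [9,139,99,311]) (.leaf [117,220,79,1403])) (.node (.leaf [22,60,172,824]) (.leaf [117,260,99,1825]))) (.node (.node (.leaf [19,83,25,537]) (.leaf [68,97,79,1613])) (.node (.leaf [20,86,29,1183]) (.leaf [19,139,30,1966]))))))) (.node (.node (.node (.node (.node (.node (.leaf [5,6,15,70]) (.leaf [117,260,47,1207])) (.node (.leaf [66,261,213,661]) (.leaf [22,50,82,1634]))) (.node (.node (.leaf [39,105,101,395]) (.leaf [68,54,30,1486])) (.node (.leaf [9,139,47,850]) (.leaf [67,220,25,1855])))) (.node (.node (.node (.leaf [22,27,222,211]) (.leaf [40,60,141,1265])) (.node (.leaf [20,80,24,771]) (.leaf [116,343,29,1712]))) (.node (.node (.leaf [39,88,101,488]) (.leaf [2,6,47,1578])) (.node (.leaf [39,106,138,1143]) (.leaf [40,27,138,1917]))))) (.node (.node (.node (.node (.leaf [2,8,57,189]) (.leaf [66,228,12,1235])) (.node (.leaf [20,55,24,754]) (.leaf [19,139,137,1669]))) (.node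 (.node (.leaf [9,139,99,462]) (.leaf [66,343,12,1542])) (.node (.leaf [117,214,79,1028]) (.leaf [20,45,29,1893])))) (.node (.node (.node (.leaf [68,44,24,309]) (.leaf [66,333,213,1343])) (.node (.leaf [37,97,15,816]) (.leaf [40,27,147,1794]))) (.node (.node (.leaf [67,260,137,531]) (.leaf [22,50,142,1607])) (.node (.leaf [2,6,24,1167]) (.leaf [9,102,99,1964])))))) (.node (.node (.node (.node (.node (.leaf [2,8,57,125]) (.leaf [68,54,29,1224])) (.node (.leaf [39,88,145,742]) (.leaf [68,97,79,1649]))) (.node (.node (.leaf [5,4,15,455]) (.leaf [66,228,215,1502])) (.node (.leaf [66,333,213,906]) (.leaf [19,102,82,1880])))) (.node (.node (.node (.leaf [5,6,99,298]) (.leaf [68,44,25,1285])) (.node (.leaf [39,106,138,801]) (.leaf [116,228,135,1722]))) (.node (.node (.leaf [21,87,171,498]) (.leaf [117,216,47,1587])) (.node (.leaf [22,60,172,1155]) (.leaf [9,146,79,1938]))))) (.node (.node (.node (.node (.leaf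 [5,4,30,200]) (.leaf [21,88,142,1254])) (.node (.leaf [19,83,101,760]) (.leaf [20,86,135,1695]))) (.node (.node (.leaf [68,77,99,478]) (.leaf [37,54,135,1562])) (.node (.leaf [40,60,138,1084]) (.leaf [20,55,167,1899])))) (.node (.node (.node (.leaf [5,8,79,316]) (.leaf [117,260,99,1463])) (.node (.leaf [38,55,15,833]) (.leaf [67,214,169,1828]))) (.node (.node (.leaf [21,88,141,573]) (.leaf [5,3,25,1615])) (.node (.leaf [5,3,12,1189]) (.leaf [19,139,30,2044]))))))))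

def pK_2 : CfsgLib.Coset.Tr (List Nat) := (.node (.node (.node (.node (.node (.node (.node (.leaf [2,3,57,23]) (.leaf [37,97,167,1190])) (.node (.leaf [67,216,141,610]) (.leaf [9,146,222,1627]))) (.node (.node (.leaf [38,45,138,326]) (.leaf [116,333,167,1464])) (.node (.leaf [39,87,138,836]) (.leaf [19,146,169,1833])))) (.node (.node (.node (.leaf [5,6,167,203]) (.leaf [5,3,79,1261])) (.node (.leaf [21,87,172,763]) (.leaf [22,32,142,1696]))) (.node (.node (.leaf [20,80,259,479]) (.leaf [40,32,259,1563])) (.node (.leaf [68,44,213,1106]) (.leaf [67,220,226,1908]))))) (.node (.node (.node (.node (.leaf [2,3,217,127]) (.leaf [37,54,137,1227])) (.node (.leaf [68,77,217,745]) (.leaf [67,214,171,1652]))) (.node (.node (.leaf [21,87,225,457]) (.leaf [22,32,226,1510])) (.node (.leaf [21,88,215,912]) (.leaf [9,146,222,1888])))) (.node (.node (.node (.leaf [22,27,172,300]) (.leaf [117,214,82,1291])) (.node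 (.leaf [67,216,222,805]) (.leaf [19,102,143,1726]))) (.node (.node (.leaf [2,4,213,507]) (.leaf [117,214,82,1594])) (.node (.leaf [9,102,171,1159]) (.leaf [38,80,142,1947])))))) (.node (.node (.node (.node (.node (.leaf [37,44,57,72]) (.leaf [67,214,226,1209])) (.node (.leaf [116,343,145,662]) (.leaf [38,55,213,1635]))) (.node (.node (.leaf [66,261,225,411]) (.leaf [38,80,213,1490])) (.node (.leaf [116,333,172,853]) (.leaf [9,102,226,1863])))) (.node (.node (.node (.leaf [21,106,172,276]) (.leaf [5,8,25,1266])) (.node (.leaf [37,77,135,789]) (.leaf [40,27,141,1714]))) (.node (.node (.leaf [38,45,217,489]) (.leaf [68,97,25,1580])) (.node (.leaf [67,216,222,1147]) (.leaf [19,139,143,1920]))))) (.node (.node (.node (.node (.leaf [2,3,217,191]) (.leaf [38,86,217,1237])) (.node (.leaf [39,88,259,755]) (.leaf [67,220,226,1675]))) (.node (.node (.leaf [5,8,135,466]) (.leaf [117,260,147,1554])) (.node (.leaf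 [116,343,145,1034]) (.leaf [22,50,215,1894])))) (.node (.node (.node (.leaf [37,44,169,310]) (.leaf [116,228,142,1344])) (.node (.leaf [37,97,169,818]) (.leaf [66,343,259,1822]))) (.node (.node (.leaf [19,83,147,533]) (.leaf [19,102,137,1609])) (.node (.leaf [116,333,172,1172]) (.leaf [38,80,142,1965]))))))) (.node (.node (.node (.node (.node (.node (.leaf [5,6,30,42]) (.leaf [117,220,143,1200])) (.node (.leaf [67,260,222,655]) (.leaf [20,45,219,1631]))) (.node (.node (.leaf [21,106,225,361]) (.leaf [66,261,219,1468])) (.node (.leaf [116,228,145,846]) (.leaf [22,32,226,1851])))) (.node (.node (.node (.leaf [22,27,172,206]) (.leaf [68,97,25,1264])) (.node (.leaf [66,333,225,769]) (.leaf [67,220,171,1707]))) (.node (.node (.leaf [20,55,259,487]) (.leaf [19,146,101,1569])) (.node (.leaf [116,261,138,1139]) (.leaf [2,4,47,1914]))))) (.node (.node (.node (.node (.leaf [68,77,30,187]) (.leaf [40,32,259,1231]))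 (.node (.leaf [21,105,215,750]) (.leaf [20,55,215,1655]))) (.node (.node (.leaf [37,44,169,461]) (.leaf [68,54,217,1524])) (.node (.leaf [117,220,82,971]) (.leaf [9,83,141,1890])))) (.node (.node (.node (.leaf [21,87,225,306]) (.leaf [116,261,172,1295])) (.node (.leaf [22,60,225,811]) (.leaf [40,27,219,1783]))) (.node (.node (.leaf [20,80,215,510]) (.leaf [21,105,142,1606])) (.node (.leaf [39,87,138,1165]) (.leaf [9,83,222,1963])))))) (.node (.node (.node (.node (.node (.leaf [68,77,30,123]) (.leaf [40,32,171,1219])) (.node (.leaf [39,87,226,690]) (.leaf [5,3,135,1646]))) (.node (.node (.leaf [39,105,259,425]) (.leaf [40,60,147,1500])) (.node (.leaf [9,139,226,874]) (.leaf [22,50,226,1878])))) (.node (.node (.node (.leaf [5,4,167,295]) (.leaf [117,216,101,1278])) (.node (.leaf [116,261,138,797]) (.leaf [66,343,259,1720]))) (.node (.node (.leaf [19,83,169,495]) (.leaf [5,8,25,1582])) (.node (.leaf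 [22,60,225,1151]) (.leaf [9,146,141,1932]))))) (.node (.node (.node (.node (.leaf [2,8,169,197]) (.leaf [20,86,225,1244])) (.node (.leaf [37,77,137,757]) (.leaf [66,228,217,1682]))) (.node (.node (.leaf [39,88,222,475]) (.leaf [40,32,171,1561])) (.node (.leaf [21,88,147,1076]) (.leaf [37,54,47,1896])))) (.node (.node (.node (.leaf [40,50,145,314]) (.leaf [116,261,172,1450])) (.node (.leaf [9,102,171,828]) (.leaf [116,333,167,1826]))) (.node (.node (.leaf [21,106,225,571]) (.leaf [20,86,219,1614])) (.node (.leaf [66,343,215,1185]) (.leaf [117,216,147,1993]))))))))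

def pK_3 : CfsgLib.Coset.Tr (List Nat) := (.node (.node (.node (.node (.node (.node (.node (.leaf [2,3,57,41]) (.leaf [68,54,99,1192])) (.node (.leaf [39,105,145,630]) (.leaf [39,106,219,1629]))) (.node (.node (.leaf [40,50,145,331]) (.leaf [38,80,213,1467])) (.node (.leaf [2,6,137,842]) (.leaf [20,45,225,1844])))) (.node (.node (.node (.leaf [22,27,225,205]) (.leaf [2,6,213,1262])) (.node (.leaf [2,4,213,768]) (.leaf [2,4,47,1697]))) (.node (.node (.leaf [21,105,215,483]) (.leaf [38,86,217,1568])) (.node (.leaf [37,77,135,1133]) (.leaf [22,32,142,1913]))))) (.node (.node (.node (.node (.leaf [40,50,259,130]) (.leaf [37,97,167,1229])) (.node (.leaf [20,80,259,746]) (.leaf [20,45,225,1654]))) (.node (.node (.leaf [68,44,79,460]) (.leaf [19,146,169,1514])) (.node (.leaf [67,216,141,970]) (.leaf [39,106,219,1889])))) (.node (.node (.node (.leaf [5,4,99,304]) (.leaf [67,260,141,1294])) (.node (.leaf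 [38,86,172,808]) (.leaf [117,216,147,1751]))) (.node (.node (.leaf [66,333,225,508]) (.leaf [67,260,141,1597])) (.node (.leaf [38,55,145,1162]) (.leaf [9,83,222,1952])))))) (.node (.node (.node (.node (.node (.leaf [37,44,57,118]) (.leaf [117,220,143,1214])) (.node (.leaf [39,105,259,685]) (.leaf [37,54,47,1636]))) (.node (.node (.leaf [21,106,172,424]) (.leaf [66,261,219,1492])) (.node (.leaf [117,214,143,869]) (.leaf [21,105,142,1877])))) (.node (.node (.node (.leaf [2,8,169,292]) (.leaf [66,228,259,1277])) (.node (.leaf [116,228,145,795]) (.leaf [116,343,142,1718]))) (.node (.node (.leaf [37,77,137,491]) (.leaf [40,60,219,1581])) (.node (.leaf [38,86,172,1149]) (.leaf [9,83,141,1927]))))) (.node (.node (.node (.node (.leaf [40,50,259,194]) (.leaf [19,146,101,1238])) (.node (.leaf [38,45,217,756]) (.leaf [19,102,143,1678]))) (.node (.node (.leaf [38,45,138,472]) (.leaf [67,214,226,1556])) (.node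 (.leaf [39,87,226,1067]) (.leaf [38,55,213,1895])))) (.node (.node (.node (.leaf [9,139,171,311]) (.leaf [117,220,82,1403])) (.node (.leaf [22,60,222,824]) (.leaf [117,260,101,1825]))) (.node (.node (.leaf [19,83,147,537]) (.leaf [68,97,213,1613])) (.node (.leaf [20,86,225,1183]) (.leaf [19,139,82,1966]))))))) (.node (.node (.node (.node (.node (.node (.leaf [5,6,30,70]) (.leaf [117,260,147,1207])) (.node (.leaf [66,261,225,661]) (.leaf [22,50,215,1634]))) (.node (.node (.leaf [39,105,145,395]) (.leaf [68,54,217,1486])) (.node (.leaf [9,139,226,850]) (.leaf [67,220,171,1855])))) (.node (.node (.node (.leaf [22,27,225,211]) (.leaf [40,60,219,1265])) (.node (.leaf [20,80,215,771]) (.leaf [116,343,142,1712]))) (.node (.node (.leaf [39,88,259,488]) (.leaf [2,6,213,1578])) (.node (.leaf [39,106,226,1143]) (.leaf [40,27,141,1917]))))) (.node (.node (.node (.node (.leaf [2,8,217,189]) (.leaf [66,228,259,1235]))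 (.node (.leaf [20,55,259,754]) (.leaf [19,139,143,1669]))) (.node (.node (.leaf [9,139,171,462]) (.leaf [66,343,215,1542])) (.node (.leaf [117,214,143,1028]) (.leaf [20,45,219,1893])))) (.node (.node (.node (.leaf [68,44,79,309]) (.leaf [66,333,219,1343])) (.node (.leaf [37,97,169,816]) (.leaf [40,27,219,1794]))) (.node (.node (.leaf [67,260,222,531]) (.leaf [22,50,226,1607])) (.node (.leaf [2,6,137,1167]) (.leaf [9,102,226,1964])))))) (.node (.node (.node (.node (.node (.leaf [2,8,217,125]) (.leaf [68,54,99,1224])) (.node (.leaf [39,88,222,742]) (.leaf [68,97,213,1649]))) (.node (.node (.leaf [5,4,99,455]) (.leaf [66,228,217,1502])) (.node (.leaf [66,333,219,906]) (.leaf [19,102,137,1880])))) (.node (.node (.node (.leaf [5,6,167,298]) (.leaf [68,44,213,1285])) (.node (.leaf [39,106,226,801]) (.leaf [116,228,142,1722]))) (.node (.node (.leaf [21,87,172,498]) (.leaf [117,216,101,1587])) (.node (.leaf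 [22,60,222,1155]) (.leaf [9,146,141,1938]))))) (.node (.node (.node (.node (.leaf [5,4,167,200]) (.leaf [21,88,147,1254])) (.node (.leaf [19,83,169,760]) (.leaf [20,86,219,1695]))) (.node (.node (.leaf [68,77,217,478]) (.leaf [37,54,137,1562])) (.node (.leaf [40,60,147,1084]) (.leaf [20,55,215,1899])))) (.node (.node (.node (.leaf [5,8,135,316]) (.leaf [117,260,101,1463])) (.node (.leaf [38,55,145,833]) (.leaf [67,214,171,1828]))) (.node (.node (.leaf [21,88,215,573]) (.leaf [5,3,135,1615])) (.node (.leaf [5,3,79,1189]) (.leaf [19,139,82,2044]))))))))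

/-- Their keys. -/
def pK : CfsgLib.Coset.Tr (List Nat) := (.node (.node pK_0 pK_1) (.node pK_2 pK_3))

def pC_0 : CfsgLib.Coset.Tr (List Nat) := (.node (.node (.node (.node (.node (.node (.node (.leaf [0]) (.leaf [])) (.node (.leaf []) (.leaf []))) (.node (.node (.leaf [0,5,3,1,2,3,5,4,3,2,3,0,1,2,3,2]) (.leaf [])) (.node (.leaf []) (.leaf [])))) (.node (.node (.node (.leaf [4,5,4,3,6,5,3,2,1]) (.leaf [0,6,3,1,2,3,5,4,3,2,3,1,2,3,5,4,2])) (.node (.leaf []) (.leaf []))) (.node (.node (.leaf []) (.leaf [])) (.node (.leaf []) (.leaf []))))) (.node (.node (.node (.node (.leaf [4,6,3,2,1]) (.leaf [0,2,3,6,3,4,2])) (.node (.leaf []) (.leaf []))) (.node (.node (.leaf [0,4,3,6,1,2,3,5,4,3,2,3,0,1,2,3,2]) (.leaf [])) (.node (.leaf []) (.leaf [])))) (.node (.node (.node (.leaf []) (.leaf [])) (.node (.leaf []) (.leaf []))) (.node (.node (.leaf []) (.leaf [])) (.node (.leaf []) (.leaf [])))))) (.node (.node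 (.node (.node (.node (.leaf [1,2,3,4,2]) (.leaf [])) (.node (.leaf []) (.leaf []))) (.node (.node (.leaf []) (.leaf [])) (.node (.leaf []) (.leaf [])))) (.node (.node (.node (.leaf []) (.leaf [3])) (.node (.leaf []) (.leaf []))) (.node (.node (.leaf []) (.leaf [0,4,3,1,2,3,5,4,3,2,3,1,2,3,5,4,2])) (.node (.leaf []) (.leaf []))))) (.node (.node (.node (.node (.leaf [4,2,3,2,3,6,3,2,3,2,1]) (.leaf [])) (.node (.leaf []) (.leaf []))) (.node (.node (.leaf []) (.leaf [])) (.node (.leaf []) (.leaf [])))) (.node (.node (.node (.leaf [0,4,3,1,2,3,6,4,3,2,3,1,2,3,2]) (.leaf [])) (.node (.leaf [0,4,2,3,6,3,4,3,2]) (.leaf []))) (.node (.node (.leaf []) (.leaf [])) (.node (.leaf []) (.leaf []))))))) (.node (.node (.node (.node (.node (.node (.leaf []) (.leaf [])) (.node (.leaf []) (.leaf []))) (.node (.node (.leaf []) (.leaf [])) (.node (.leaf [0,1,2,3,2,3,5,3,2,3,4,1,2,3,1,2]) (.leaf [])))) (.node (.node (.node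 (.leaf []) (.leaf [0,4,3,1,2,3,6,4,3,2,3,1,2,3,6,4,2])) (.node (.leaf [0,2,3,2,3,6,3,5]) (.leaf []))) (.node (.node (.leaf []) (.leaf [])) (.node (.leaf [1,4,2,3,5,3,4,3,2]) (.leaf [0,4,1,2,3,6,2,3,2,3,6,2,3,1,2,3,1,2]))))) (.node (.node (.node (.node (.leaf [1,4,2,3,2]) (.leaf [])) (.node (.leaf [0,2,3,5,3,4,2]) (.leaf []))) (.node (.node (.leaf [0,4,3,5,1,2,3,6,4,3,2,3,0,1,2,3,2]) (.leaf [])) (.node (.leaf []) (.leaf [])))) (.node (.node (.node (.leaf [0,4,3,1,2,3,5,4,3,2,3,1,2,3,2]) (.leaf [])) (.node (.leaf []) (.leaf []))) (.node (.node (.leaf [1,5,2,3,2]) (.leaf [])) (.node (.leaf []) (.leaf [])))))) (.node (.node (.node (.node (.node (.leaf [0,4,2,3,2]) (.leaf [])) (.node (.leaf []) (.leaf []))) (.node (.node (.leaf []) (.leaf [])) (.node (.leaf []) (.leaf [])))) (.node (.node (.node (.leaf []) (.leaf [])) (.node (.leaf [0,4,2,3,5,3,4,3,2]) (.leaf []))) (.node (.node (.leaf []) (.leaf [2]))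 (.node (.leaf []) (.leaf []))))) (.node (.node (.node (.node (.leaf [0,6,3,1,2,3,6,4,3,2,3,0,1,2,3,2]) (.leaf [0,5,3,1,2,3,6,4,3,2,3,1,2,3,6,4,2])) (.node (.leaf [0,2,3,2,3,1,2,3,6,4,3,2,3,1,2,3,2]) (.leaf []))) (.node (.node (.leaf []) (.leaf [])) (.node (.leaf []) (.leaf [0,5,3,1,2,3,5,4,3,2,3,1,2,3,5,3,2])))) (.node (.node (.node (.leaf [1,5,4]) (.leaf [])) (.node (.leaf []) (.leaf []))) (.node (.node (.leaf []) (.leaf [])) (.node (.leaf [0,1,2,3,4,2,3,5,2,3,1,2,3,5,4,3,1,2]) (.leaf []))))))))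

def pC_1 : CfsgLib.Coset.Tr (List Nat) := (.node (.node (.node (.node (.node (.node (.node (.leaf [1]) (.leaf [0,1,2,3,4,2,3,6,2,3,1,2,3,6,4,3,1,2])) (.node (.leaf []) (.leaf []))) (.node (.node (.leaf [0,5,4]) (.leaf [])) (.node (.leaf [1,2,3,6,2]) (.leaf [])))) (.node (.node (.node (.leaf [1,4,3,6,3,5]) (.leaf [])) (.node (.leaf []) (.leaf [0,4,1,2,3,5,2,3,2,3,5,2,3,1,2,3,1,2]))) (.node (.node (.leaf [1,2,3,5,3,4,2]) (.leaf [])) (.node (.leaf []) (.leaf []))))) (.node (.node (.node (.node (.leaf []) (.leaf [])) (.node (.leaf []) (.leaf []))) (.node (.node (.leaf [0,2,3,2,3,5,3,6]) (.leaf [])) (.node (.leaf []) (.leaf [])))) (.node (.node (.node (.leaf [1,6,2,3,2]) (.leaf [])) (.node (.leaf []) (.leaf []))) (.node (.node (.leaf [1,2,3,2,3,6,3,5]) (.leaf [])) (.node (.leaf [0,2,3,5,2]) (.leaf [])))))) (.node (.node (.node (.node (.node (.leaf [0,2,3,4,2]) (.leaf [])) (.node (.leaf []) (.leaf [0,6,3,1,2,3,6,4,3,2,3,1,2,3,6,3,2])))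 (.node (.node (.leaf []) (.leaf [])) (.node (.leaf []) (.leaf [])))) (.node (.node (.node (.leaf [0,6,3,5,1,2,3,6,4,3,2,3,1,2,3,2]) (.leaf [])) (.node (.leaf [0,2,3,2,3,1,2,3,5,4,3,2,3,1,2,3,2]) (.leaf []))) (.node (.node (.leaf [0,1,2,3,2,3,6,3,2,3,4,1,2,3,1,2]) (.leaf [])) (.node (.leaf []) (.leaf []))))) (.node (.node (.node (.node (.leaf []) (.leaf [])) (.node (.leaf []) (.leaf []))) (.node (.node (.leaf [0,5,3,6,1,2,3,5,4,3,2,3,1,2,3,2]) (.leaf [])) (.node (.leaf []) (.leaf [])))) (.node (.node (.node (.leaf []) (.leaf [])) (.node (.leaf []) (.leaf []))) (.node (.node (.leaf []) (.leaf [])) (.node (.leaf [0,5,3,1,2,3,5,4,3,2,3,1,2,3,5,4,2]) (.leaf []))))))) (.node (.node (.node (.node (.node (.node (.leaf [4,5,3,6,1,2,3,5,4,3,2,1]) (.leaf [])) (.node (.leaf []) (.leaf []))) (.node (.node (.leaf []) (.leaf [])) (.node (.leaf []) (.leaf [])))) (.node (.node (.node (.leaf [0,4,3,6,3,5]) (.leaf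 [])) (.node (.leaf [0,5,2,3,2]) (.leaf []))) (.node (.node (.leaf []) (.leaf [])) (.node (.leaf []) (.leaf []))))) (.node (.node (.node (.node (.leaf []) (.leaf [])) (.node (.leaf []) (.leaf []))) (.node (.node (.leaf []) (.leaf [0,1,2,3,5,3,4,3,2,3,0,1,2,3,6,3,5])) (.node (.leaf []) (.leaf [])))) (.node (.node (.node (.leaf [1,2,3,2,3,5,3,6]) (.leaf [])) (.node (.leaf [1,4,2,3,6,3,4,3,2]) (.leaf []))) (.node (.node (.leaf []) (.leaf [])) (.node (.leaf [0,2,3,6,2]) (.leaf [])))))) (.node (.node (.node (.node (.node (.leaf []) (.leaf [0,1,2,3,6,3,4,3,2,3,0,1,2,3,5,3,6])) (.node (.leaf []) (.leaf []))) (.node (.node (.leaf [0,6,2,3,2]) (.leaf [])) (.node (.leaf []) (.leaf [])))) (.node (.node (.node (.leaf [4,4,3,2,3,6,4,3,2,1]) (.leaf [])) (.node (.leaf []) (.leaf []))) (.node (.node (.leaf []) (.leaf [])) (.node (.leaf []) (.leaf []))))) (.node (.node (.node (.node (.leaf []) (.leaf [])) (.node (.leaf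 []) (.leaf []))) (.node (.node (.leaf []) (.leaf [1,2,3,6,3,4,2])) (.node (.leaf []) (.leaf [])))) (.node (.node (.node (.leaf []) (.leaf [])) (.node (.leaf [1,2,3,5,2]) (.leaf []))) (.node (.node (.leaf []) (.leaf [])) (.node (.leaf [0,6,3,1,2,3,6,4,3,2,3,1,2,3,6,4,2]) (.leaf []))))))))

def pC_2 : CfsgLib.Coset.Tr (List Nat) := (.node (.node (.node (.node (.node (.node (.node (.leaf [4,1]) (.leaf [0,1,2,3,6,3,4,3,2,3,1,2,3,5,3,6])) (.node (.leaf []) (.leaf [0,5,3,1,2,3,6,4,3,2,3,4,1,2,3,6,2]))) (.node (.node (.leaf []) (.leaf [])) (.node (.leaf []) (.leaf [])))) (.node (.node (.node (.leaf [1,6,4]) (.leaf [])) (.node (.leaf []) (.leaf []))) (.node (.node (.leaf []) (.leaf [])) (.node (.leaf [0,1,2,3,2,3,6,3,2,3,1,2,3,0,1,2]) (.leaf []))))) (.node (.node (.node (.node (.leaf [1,4,3,5,3,6]) (.leaf [])) (.node (.leaf [0,4,3,1,2,3,6,4,3,2,3,0,1,2,3,2]) (.leaf []))) (.node (.node (.leaf []) (.leaf [0,4,3,1,2,3,5,4,3,6,2,3,5,4,1,2,3,2]))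 (.node (.leaf []) (.leaf [0,4,3,1,2,3,5,4,3,2,3,1,2,3,5,3,2])))) (.node (.node (.node (.leaf []) (.leaf [])) (.node (.leaf [0,4,3,6,3,5,2,3,4,2]) (.leaf [0,4,2,3,5,4,2]))) (.node (.node (.leaf [0,4,3,1,2,3,6,4,3,5,2,3,6,4,1,2,3,2]) (.leaf [])) (.node (.leaf []) (.leaf [])))))) (.node (.node (.node (.node (.node (.leaf []) (.leaf [0,1,2,3,2,3,5,3,2,3,1,2,3,5,4,3,1,2])) (.node (.leaf []) (.leaf []))) (.node (.node (.leaf []) (.leaf [])) (.node (.leaf []) (.leaf [])))) (.node (.node (.node (.leaf []) (.leaf [])) (.node (.leaf [1,4,3,5,3,6,2,3,4,2]) (.leaf []))) (.node (.node (.leaf []) (.leaf [])) (.node (.leaf [1,4,3,6,3,5,2,3,4,2]) (.leaf []))))) (.node (.node (.node (.node (.leaf [0,4,3,5,3,6]) (.leaf [])) (.node (.leaf []) (.leaf []))) (.node (.node (.leaf [0,1,2,3,6,2,3,2,3,6,3,1,2,3,1,2]) (.leaf [1,2,3,5,4,3,2])) (.node (.leaf []) (.leaf [])))) (.node (.node (.node (.leaf []) (.leaf [])) (.node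 (.leaf []) (.leaf []))) (.node (.node (.leaf [0,5,3,6,1,2,3,5,4,3,2,3,0,1,2,3,2]) (.leaf [])) (.node (.leaf []) (.leaf []))))))) (.node (.node (.node (.node (.node (.node (.leaf [4,5,3,6,2,3,5,4,3,2,1]) (.leaf [0,1,2,3,2,3,5,3,2,3,1,2,3,0,1,2])) (.node (.leaf []) (.leaf []))) (.node (.node (.leaf []) (.leaf [])) (.node (.leaf []) (.leaf [0,2,3,1,2,3,2,3,6,3,5,2,3,1,2,3,1,2])))) (.node (.node (.node (.leaf []) (.leaf [])) (.node (.leaf []) (.leaf []))) (.node (.node (.leaf []) (.leaf [])) (.node (.leaf []) (.leaf []))))) (.node (.node (.node (.node (.leaf []) (.leaf [])) (.node (.leaf []) (.leaf []))) (.node (.node (.leaf []) (.leaf [0,2,3,6,4,3,2])) (.node (.leaf []) (.leaf [])))) (.node (.node (.node (.leaf []) (.leaf [])) (.node (.leaf []) (.leaf []))) (.node (.node (.leaf []) (.leaf [4,5,3,4,2,3,5,6,3,2,1])) (.node (.leaf []) (.leaf [])))))) (.node (.node (.node (.node (.node (.leaf []) (.leaf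 [])) (.node (.leaf []) (.leaf [0,6,3,1,2,3,5,4,3,2,3,4,1,2,3,5,2]))) (.node (.node (.leaf []) (.leaf [0,1,2,3,5,2,3,2,3,5,3,1,2,3,1,2])) (.node (.leaf [1,5,2,3,4,3,2]) (.leaf [])))) (.node (.node (.node (.leaf [1,6,2,3,4,3,2]) (.leaf [])) (.node (.leaf []) (.leaf []))) (.node (.node (.leaf []) (.leaf [])) (.node (.leaf []) (.leaf []))))) (.node (.node (.node (.node (.leaf []) (.leaf [])) (.node (.leaf []) (.leaf []))) (.node (.node (.leaf [0,4,3,6,1,2,3,5,4,3,2,3,1,2,3,2]) (.leaf [])) (.node (.leaf []) (.leaf [])))) (.node (.node (.node (.leaf [4,6,4,3,5,6,3,2,1]) (.leaf [])) (.node (.leaf []) (.leaf []))) (.node (.node (.leaf []) (.leaf [])) (.node (.leaf []) (.leaf []))))))))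

def pC_3 : CfsgLib.Coset.Tr (List Nat) := (.node (.node (.node (.node (.node (.node (.node (.leaf [4,2,3,5,2,3,2,3,5,3,2,3,2,1]) (.leaf [])) (.node (.leaf []) (.leaf [4,5,3,2,3,5,6,3,2,1]))) (.node (.node (.leaf [4,4,3,2,3,5,4,3,2,1]) (.leaf [])) (.node (.leaf []) (.leaf [])))) (.node (.node (.node (.leaf [4,5,3,2,1]) (.leaf [1,4,2,3,6,4,2])) (.node (.leaf [0,2,3,1,2,3,2,3,5,3,6,2,3,1,2,3,1,2]) (.leaf []))) (.node (.node (.leaf []) (.leaf [])) (.node (.leaf [0,4,3,5,3,6,2,3,4,2]) (.leaf []))))) (.node (.node (.node (.node (.leaf []) (.leaf [0,1,2,3,2,3,6,3,2,3,1,2,3,6,4,3,1,2])) (.node (.leaf []) (.leaf []))) (.node (.node (.leaf []) (.leaf [])) (.node (.leaf []) (.leaf [4,6,3,4,2,3,6,5,3,2,1])))) (.node (.node (.node (.leaf []) (.leaf [])) (.node (.leaf []) (.leaf []))) (.node (.node (.leaf []) (.leaf [])) (.node (.leaf []) (.leaf [])))))) (.node (.node (.node (.node (.node (.leaf []) (.leaf [0,5,1,2,3,4,2,3,5,3,4,2,3,1,2,3,1,2]))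 (.node (.leaf []) (.leaf []))) (.node (.node (.leaf []) (.leaf [])) (.node (.leaf []) (.leaf [4,6,3,2,3,6,5,3,2,1])))) (.node (.node (.node (.leaf []) (.leaf [])) (.node (.leaf []) (.leaf []))) (.node (.node (.leaf []) (.leaf [])) (.node (.leaf []) (.leaf []))))) (.node (.node (.node (.node (.leaf []) (.leaf [])) (.node (.leaf []) (.leaf [1,4,2,3,5,4,2]))) (.node (.node (.leaf []) (.leaf [0,1,2,3,5,3,4,3,2,3,1,2,3,6,3,5])) (.node (.leaf []) (.leaf [])))) (.node (.node (.node (.leaf []) (.leaf [])) (.node (.leaf []) (.leaf []))) (.node (.node (.leaf [0,5,3,1,2,3,5,4,3,2,3,1,2,3,2]) (.leaf [1,4,2,3,6,3,2])) (.node (.leaf []) (.leaf []))))))) (.node (.node (.node (.node (.node (.node (.leaf [4,4,3,2,1]) (.leaf [0,2,3,5,4,3,2])) (.node (.leaf []) (.leaf []))) (.node (.node (.leaf []) (.leaf [1,2,3,6,4,3,2])) (.node (.leaf [0,5,2,3,4,3,2]) (.leaf [])))) (.node (.node (.node (.leaf [4,2,3,2,3,5,3,2,3,2,1])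 (.leaf [])) (.node (.leaf []) (.leaf []))) (.node (.node (.leaf []) (.leaf [0,4,2,3,6,4,2])) (.node (.leaf [0,4,2,3,5,3,2]) (.leaf []))))) (.node (.node (.node (.node (.leaf [0,6,3,1,2,3,6,4,3,2,3,1,2,3,2]) (.leaf [])) (.node (.leaf []) (.leaf []))) (.node (.node (.leaf []) (.leaf [])) (.node (.leaf []) (.leaf [])))) (.node (.node (.node (.leaf []) (.leaf [])) (.node (.leaf []) (.leaf []))) (.node (.node (.leaf []) (.leaf [])) (.node (.leaf []) (.leaf [])))))) (.node (.node (.node (.node (.node (.leaf [0,6,3,5,1,2,3,6,4,3,2,3,0,1,2,3,2]) (.leaf [])) (.node (.leaf [0,4,3,1,2,3,5,4,3,2,3,0,1,2,3,2]) (.leaf [0,4,2,3,6,3,2]))) (.node (.node (.leaf []) (.leaf [])) (.node (.leaf []) (.leaf [])))) (.node (.node (.node (.leaf [0,6,4]) (.leaf [0,6,1,2,3,4,2,3,6,3,4,2,3,1,2,3,1,2])) (.node (.leaf [1,4,2,3,5,3,2]) (.leaf []))) (.node (.node (.leaf []) (.leaf [])) (.node (.leaf []) (.leaf []))))) (.node (.node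 (.node (.node (.leaf [0,6,2,3,4,3,2]) (.leaf [])) (.node (.leaf []) (.leaf []))) (.node (.node (.leaf [0,4,3,5,1,2,3,6,4,3,2,3,1,2,3,2]) (.leaf [])) (.node (.leaf [0,1,2,3,5,2,3,2,3,5,3,0,1,2,3,1,2]) (.leaf [])))) (.node (.node (.node (.leaf [0,1,2,3,6,2,3,2,3,6,3,0,1,2,3,1,2]) (.leaf [])) (.node (.leaf []) (.leaf []))) (.node (.node (.leaf []) (.leaf [0,4,3,1,2,3,6,4,3,2,3,1,2,3,6,3,2])) (.node (.leaf []) (.leaf []))))))))

/-- Certificates for the involutions. -/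
def pC : CfsgLib.Coset.Tr (List Nat) := (.node (.node pC_0 pC_1) (.node pC_2 pC_3))

def pE_0 : CfsgLib.Coset.Tr (List Nat) := (.node (.node (.node (.node (.node (.node (.node (.leaf [0]) (.leaf [])) (.node (.leaf []) (.leaf []))) (.node (.node (.leaf [3,2,3,5,2]) (.leaf [])) (.node (.leaf []) (.leaf [])))) (.node (.node (.node (.leaf []) (.leaf [2,6,2,3,2])) (.node (.leaf []) (.leaf []))) (.node (.node (.leaf []) (.leaf [])) (.node (.leaf []) (.leaf []))))) (.node (.node (.node (.node (.leaf []) (.leaf [0,2,3,6,3,4,2])) (.node (.leaf []) (.leaf []))) (.node (.node (.leaf [3,2,3,5,3,4,2]) (.leaf [])) (.node (.leaf []) (.leaf [])))) (.node (.node (.node (.leaf []) (.leaf [])) (.node (.leaf []) (.leaf []))) (.node (.node (.leaf []) (.leaf [])) (.node (.leaf []) (.leaf [])))))) (.node (.node (.node (.node (.node (.leaf [1,2,3,4,2]) (.leaf [])) (.node (.leaf []) (.leaf []))) (.node (.node (.leaf [])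 (.leaf [])) (.node (.leaf []) (.leaf [])))) (.node (.node (.node (.leaf []) (.leaf [])) (.node (.leaf []) (.leaf []))) (.node (.node (.leaf []) (.leaf [2,4,2,3,2])) (.node (.leaf []) (.leaf []))))) (.node (.node (.node (.node (.leaf []) (.leaf [])) (.node (.leaf []) (.leaf []))) (.node (.node (.leaf []) (.leaf [])) (.node (.leaf []) (.leaf [])))) (.node (.node (.node (.leaf [3,2,3,6,3,4,2]) (.leaf [])) (.node (.leaf [0,4,2,3,6,3,4,3,2]) (.leaf []))) (.node (.node (.leaf []) (.leaf [])) (.node (.leaf []) (.leaf []))))))) (.node (.node (.node (.node (.node (.node (.leaf []) (.leaf [])) (.node (.leaf []) (.leaf []))) (.node (.node (.leaf []) (.leaf [])) (.node (.leaf [3,4,2,3,5,3,4,3,2]) (.leaf [])))) (.node (.node (.node (.leaf []) (.leaf [3,4,2,3,2])) (.node (.leaf [0,2,3,2,3,6,3,5]) (.leaf []))) (.node (.node (.leaf []) (.leaf [])) (.node (.leaf [1,4,2,3,5,3,4,3,2]) (.leaf [2]))))) (.node (.node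 (.node (.node (.leaf [1,4,2,3,2]) (.leaf [])) (.node (.leaf [0,2,3,5,3,4,2]) (.leaf []))) (.node (.node (.leaf [2,2,3,6,3,4,2]) (.leaf [])) (.node (.leaf []) (.leaf [])))) (.node (.node (.node (.leaf [2,2,3,5,3,4,2]) (.leaf [])) (.node (.leaf []) (.leaf []))) (.node (.node (.leaf [1,5,2,3,2]) (.leaf [])) (.node (.leaf []) (.leaf [])))))) (.node (.node (.node (.node (.node (.leaf [0,4,2,3,2]) (.leaf [])) (.node (.leaf []) (.leaf []))) (.node (.node (.leaf []) (.leaf [])) (.node (.leaf []) (.leaf [])))) (.node (.node (.node (.leaf []) (.leaf [])) (.node (.leaf [0,4,2,3,5,3,4,3,2]) (.leaf []))) (.node (.node (.leaf []) (.leaf [])) (.node (.leaf []) (.leaf []))))) (.node (.node (.node (.node (.leaf [2,2,3,6,2]) (.leaf [3,5,2,3,2])) (.node (.leaf [3,4,2,3,6,3,4,3,2]) (.leaf []))) (.node (.node (.leaf []) (.leaf [])) (.node (.leaf []) (.leaf [3,2,3,4,2])))) (.node (.node (.node (.leaf [1,5,4]) (.leaf []))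 (.node (.leaf []) (.leaf []))) (.node (.node (.leaf []) (.leaf [])) (.node (.leaf [2,2,3,2,3,6,3,5]) (.leaf []))))))))

def pE_1 : CfsgLib.Coset.Tr (List Nat) := (.node (.node (.node (.node (.node (.node (.node (.leaf [1]) (.leaf [3,2,3,2,3,5,3,6])) (.node (.leaf []) (.leaf []))) (.node (.node (.leaf [0,5,4]) (.leaf [])) (.node (.leaf [1,2,3,6,2]) (.leaf [])))) (.node (.node (.node (.leaf [1,4,3,6,3,5]) (.leaf [])) (.node (.leaf []) (.leaf [3]))) (.node (.node (.leaf [1,2,3,5,3,4,2]) (.leaf [])) (.node (.leaf []) (.leaf []))))) (.node (.node (.node (.node (.leaf []) (.leaf [])) (.node (.leaf []) (.leaf []))) (.node (.node (.leaf [0,2,3,2,3,5,3,6]) (.leaf [])) (.node (.leaf []) (.leaf [])))) (.node (.node (.node (.leaf [1,6,2,3,2]) (.leaf [])) (.node (.leaf []) (.leaf []))) (.node (.node (.leaf [1,2,3,2,3,6,3,5]) (.leaf [])) (.node (.leaf [0,2,3,5,2]) (.leaf [])))))) (.node (.node (.node (.node (.node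 (.leaf [0,2,3,4,2]) (.leaf [])) (.node (.leaf []) (.leaf [2,2,3,4,2]))) (.node (.node (.leaf []) (.leaf [])) (.node (.leaf []) (.leaf [])))) (.node (.node (.node (.leaf [3,2,3,6,2]) (.leaf [])) (.node (.leaf [2,4,2,3,5,3,4,3,2]) (.leaf []))) (.node (.node (.leaf [2,4,2,3,6,3,4,3,2]) (.leaf [])) (.node (.leaf []) (.leaf []))))) (.node (.node (.node (.node (.leaf []) (.leaf [])) (.node (.leaf []) (.leaf []))) (.node (.node (.leaf [2,2,3,5,2]) (.leaf [])) (.node (.leaf []) (.leaf [])))) (.node (.node (.node (.leaf []) (.leaf [])) (.node (.leaf []) (.leaf []))) (.node (.node (.leaf []) (.leaf [])) (.node (.leaf [2,5,2,3,2]) (.leaf []))))))) (.node (.node (.node (.node (.node (.node (.leaf []) (.leaf [])) (.node (.leaf []) (.leaf []))) (.node (.node (.leaf []) (.leaf [])) (.node (.leaf []) (.leaf [])))) (.node (.node (.node (.leaf [0,4,3,6,3,5]) (.leaf [])) (.node (.leaf [0,5,2,3,2]) (.leaf []))) (.node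 (.node (.leaf []) (.leaf [])) (.node (.leaf []) (.leaf []))))) (.node (.node (.node (.node (.leaf []) (.leaf [])) (.node (.leaf []) (.leaf []))) (.node (.node (.leaf []) (.leaf [3,2,3,2,3,6,3,5])) (.node (.leaf []) (.leaf [])))) (.node (.node (.node (.leaf [1,2,3,2,3,5,3,6]) (.leaf [])) (.node (.leaf [1,4,2,3,6,3,4,3,2]) (.leaf []))) (.node (.node (.leaf []) (.leaf [])) (.node (.leaf [0,2,3,6,2]) (.leaf [])))))) (.node (.node (.node (.node (.node (.leaf []) (.leaf [2,2,3,2,3,5,3,6])) (.node (.leaf []) (.leaf []))) (.node (.node (.leaf [0,6,2,3,2]) (.leaf [])) (.node (.leaf []) (.leaf [])))) (.node (.node (.node (.leaf []) (.leaf [])) (.node (.leaf []) (.leaf []))) (.node (.node (.leaf []) (.leaf [])) (.node (.leaf []) (.leaf []))))) (.node (.node (.node (.node (.leaf []) (.leaf [])) (.node (.leaf []) (.leaf []))) (.node (.node (.leaf []) (.leaf [1,2,3,6,3,4,2])) (.node (.leaf []) (.leaf [])))) (.node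 (.node (.node (.leaf []) (.leaf [])) (.node (.leaf [1,2,3,5,2]) (.leaf []))) (.node (.node (.leaf []) (.leaf [])) (.node (.leaf [3,6,2,3,2]) (.leaf []))))))))

def pE_2 : CfsgLib.Coset.Tr (List Nat) := (.node (.node (.node (.node (.node (.node (.node (.leaf []) (.leaf [3,4,3,5,3,6,2,3,4,2])) (.node (.leaf []) (.leaf [2,5,2,3,4,3,2]))) (.node (.node (.leaf []) (.leaf [])) (.node (.leaf []) (.leaf [])))) (.node (.node (.node (.leaf [1,6,4]) (.leaf [])) (.node (.leaf []) (.leaf []))) (.node (.node (.leaf []) (.leaf [])) (.node (.leaf [3,2,3,6,4,3,2]) (.leaf []))))) (.node (.node (.node (.node (.leaf [1,4,3,5,3,6]) (.leaf [])) (.node (.leaf [2,4,2,3,6,3,2]) (.leaf []))) (.node (.node (.leaf []) (.leaf [3,4,3,6,3,5])) (.node (.leaf []) (.leaf [3,5,2,3,4,3,2])))) (.node (.node (.node (.leaf []) (.leaf [])) (.node (.leaf [0,4,3,6,3,5,2,3,4,2]) (.leaf [0,4,2,3,5,4,2]))) (.node (.node (.leaf [2,4,3,5,3,6])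 (.leaf [])) (.node (.leaf []) (.leaf [])))))) (.node (.node (.node (.node (.node (.leaf []) (.leaf [3,4,3,6,3,5,2,3,4,2])) (.node (.leaf []) (.leaf []))) (.node (.node (.leaf []) (.leaf [])) (.node (.leaf []) (.leaf [])))) (.node (.node (.node (.leaf []) (.leaf [])) (.node (.leaf [1,4,3,5,3,6,2,3,4,2]) (.leaf []))) (.node (.node (.leaf []) (.leaf [])) (.node (.leaf [1,4,3,6,3,5,2,3,4,2]) (.leaf []))))) (.node (.node (.node (.node (.leaf [0,4,3,5,3,6]) (.leaf [])) (.node (.leaf []) (.leaf []))) (.node (.node (.leaf [3,6,4]) (.leaf [1,2,3,5,4,3,2])) (.node (.leaf []) (.leaf [])))) (.node (.node (.node (.leaf []) (.leaf [])) (.node (.leaf []) (.leaf []))) (.node (.node (.leaf [3,4,2,3,5,4,2]) (.leaf [])) (.node (.leaf []) (.leaf []))))))) (.node (.node (.node (.node (.node (.node (.leaf []) (.leaf [2,2,3,5,4,3,2])) (.node (.leaf []) (.leaf []))) (.node (.node (.leaf []) (.leaf [])) (.node (.leaf [])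 (.leaf [2,4,3,6,3,5])))) (.node (.node (.node (.leaf []) (.leaf [])) (.node (.leaf []) (.leaf []))) (.node (.node (.leaf []) (.leaf [])) (.node (.leaf []) (.leaf []))))) (.node (.node (.node (.node (.leaf []) (.leaf [])) (.node (.leaf []) (.leaf []))) (.node (.node (.leaf []) (.leaf [0,2,3,6,4,3,2])) (.node (.leaf []) (.leaf [])))) (.node (.node (.node (.leaf []) (.leaf [])) (.node (.leaf []) (.leaf []))) (.node (.node (.leaf []) (.leaf [])) (.node (.leaf []) (.leaf [])))))) (.node (.node (.node (.node (.node (.leaf []) (.leaf [])) (.node (.leaf []) (.leaf [3,6,2,3,4,3,2]))) (.node (.node (.leaf []) (.leaf [2,5,4])) (.node (.leaf [1,5,2,3,4,3,2]) (.leaf [])))) (.node (.node (.node (.leaf [1,6,2,3,4,3,2]) (.leaf [])) (.node (.leaf []) (.leaf []))) (.node (.node (.leaf []) (.leaf [])) (.node (.leaf []) (.leaf []))))) (.node (.node (.node (.node (.leaf []) (.leaf [])) (.node (.leaf []) (.leaf [])))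 (.node (.node (.leaf [2,4,2,3,5,3,2]) (.leaf [])) (.node (.leaf []) (.leaf [])))) (.node (.node (.node (.leaf []) (.leaf [])) (.node (.leaf []) (.leaf []))) (.node (.node (.leaf []) (.leaf [])) (.node (.leaf []) (.leaf []))))))))

def pE_3 : CfsgLib.Coset.Tr (List Nat) := (.node (.node (.node (.node (.node (.node (.node (.leaf []) (.leaf [])) (.node (.leaf []) (.leaf []))) (.node (.node (.leaf []) (.leaf [])) (.node (.leaf []) (.leaf [])))) (.node (.node (.node (.leaf []) (.leaf [1,4,2,3,6,4,2])) (.node (.leaf [3,4,3,5,3,6]) (.leaf []))) (.node (.node (.leaf []) (.leaf [])) (.node (.leaf [0,4,3,5,3,6,2,3,4,2]) (.leaf []))))) (.node (.node (.node (.node (.leaf []) (.leaf [2,4,3,5,3,6,2,3,4,2])) (.node (.leaf []) (.leaf []))) (.node (.node (.leaf []) (.leaf [])) (.node (.leaf []) (.leaf [])))) (.node (.node (.node (.leaf []) (.leaf [])) (.node (.leaf []) (.leaf []))) (.node (.node (.leaf []) (.leaf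 [])) (.node (.leaf []) (.leaf [])))))) (.node (.node (.node (.node (.node (.leaf []) (.leaf [3,2,3,5,4,3,2])) (.node (.leaf []) (.leaf []))) (.node (.node (.leaf []) (.leaf [])) (.node (.leaf []) (.leaf [])))) (.node (.node (.node (.leaf []) (.leaf [])) (.node (.leaf []) (.leaf []))) (.node (.node (.leaf []) (.leaf [])) (.node (.leaf []) (.leaf []))))) (.node (.node (.node (.node (.leaf []) (.leaf [])) (.node (.leaf []) (.leaf [1,4,2,3,5,4,2]))) (.node (.node (.leaf []) (.leaf [2,4,3,6,3,5,2,3,4,2])) (.node (.leaf []) (.leaf [])))) (.node (.node (.node (.leaf []) (.leaf [])) (.node (.leaf []) (.leaf []))) (.node (.node (.leaf [2,4,2,3,5,4,2]) (.leaf [1,4,2,3,6,3,2])) (.node (.leaf []) (.leaf []))))))) (.node (.node (.node (.node (.node (.node (.leaf []) (.leaf [0,2,3,5,4,3,2])) (.node (.leaf []) (.leaf []))) (.node (.node (.leaf []) (.leaf [1,2,3,6,4,3,2])) (.node (.leaf [0,5,2,3,4,3,2]) (.leaf []))))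 (.node (.node (.node (.leaf []) (.leaf [])) (.node (.leaf []) (.leaf []))) (.node (.node (.leaf []) (.leaf [0,4,2,3,6,4,2])) (.node (.leaf [0,4,2,3,5,3,2]) (.leaf []))))) (.node (.node (.node (.node (.leaf [3,4,2,3,6,4,2]) (.leaf [])) (.node (.leaf []) (.leaf []))) (.node (.node (.leaf []) (.leaf [])) (.node (.leaf []) (.leaf [])))) (.node (.node (.node (.leaf []) (.leaf [])) (.node (.leaf []) (.leaf []))) (.node (.node (.leaf []) (.leaf [])) (.node (.leaf []) (.leaf [])))))) (.node (.node (.node (.node (.node (.leaf [2,4,2,3,6,4,2]) (.leaf [])) (.node (.leaf [3,4,2,3,5,3,2]) (.leaf [0,4,2,3,6,3,2]))) (.node (.node (.leaf []) (.leaf [])) (.node (.leaf []) (.leaf [])))) (.node (.node (.node (.leaf [0,6,4]) (.leaf [2,2,3,6,4,3,2])) (.node (.leaf [1,4,2,3,5,3,2]) (.leaf []))) (.node (.node (.leaf []) (.leaf [])) (.node (.leaf []) (.leaf []))))) (.node (.node (.node (.node (.leaf [0,6,2,3,4,3,2]) (.leaf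 [])) (.node (.leaf []) (.leaf []))) (.node (.node (.leaf [3,4,2,3,6,3,2]) (.leaf [])) (.node (.leaf [3,5,4]) (.leaf [])))) (.node (.node (.node (.leaf [2,6,4]) (.leaf [])) (.node (.leaf []) (.leaf []))) (.node (.node (.leaf []) (.leaf [2,6,2,3,4,3,2])) (.node (.leaf []) (.leaf []))))))))

/-- Certificates for the cosets of the four group. -/
def pE : CfsgLib.Coset.Tr (List Nat) := (.node (.node pE_0 pE_1) (.node pE_2 pE_3))

/-- Elements moving the second involution to 42 conjugates. -/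
def orbW : List (List Nat) := [[],
  [1],
  [4,3,2,3,4,1],
  [5,3,2,3,5,1],
  [6,3,2,3,6,1],
  [4,3,2,3,4,5,3,2,3,5,1],
  [4,3,2,3,4,6,3,2,3,6,1],
  [4,3,5,3,4,6,3,2,3,6,1],
  [4,3,6,3,4,5,3,2,3,5,1],
  [5,3,2,3,5,6,3,2,3,6,1],
  [6,3,2,3,6,5,3,2,3,5,1],
  [1,4,3,2,3,4,5,3,2,3,5,1],
  [1,4,3,2,3,4,6,3,2,3,6,1],
  [1,5,3,2,3,5,6,3,2,3,6,1],
  [1,6,3,2,3,6,5,3,2,3,5,1],
  [0,1,5,3,2,3,5,6,3,2,3,6,1],
  [0,1,6,3,2,3,6,5,3,2,3,5,1],
  [1,0,1,5,3,2,3,5,6,3,2,3,6,1],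
  [1,0,1,6,3,2,3,6,5,3,2,3,5,1],
  [4,3,2,3,4,4,3,5,3,4,6,3,2,3,6,1],
  [4,3,2,3,4,4,3,6,3,4,5,3,2,3,5,1],
  [5,3,2,3,5,4,3,6,3,4,5,3,2,3,5,1],
  [1,4,3,2,3,4,4,3,5,3,4,6,3,2,3,6,1],
  [1,4,3,2,3,4,4,3,6,3,4,5,3,2,3,5,1],
  [1,5,3,2,3,5,4,3,6,3,4,5,3,2,3,5,1],
  [4,3,2,3,4,1,5,3,2,3,5,6,3,2,3,6,1],
  [4,3,2,3,4,1,6,3,2,3,6,5,3,2,3,5,1],
  [5,3,2,3,5,1,4,3,2,3,4,6,3,2,3,6,1],
  [5,3,2,3,5,1,6,3,2,3,6,5,3,2,3,5,1],
  [6,3,2,3,6,1,4,3,2,3,4,5,3,2,3,5,1],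
  [6,3,2,3,6,1,5,3,2,3,5,6,3,2,3,6,1],
  [0,4,3,2,3,4,1,5,3,2,3,5,6,3,2,3,6,1],
  [0,4,3,2,3,4,1,6,3,2,3,6,5,3,2,3,5,1],
  [0,5,3,2,3,5,1,6,3,2,3,6,5,3,2,3,5,1],
  [0,6,3,2,3,6,1,5,3,2,3,5,6,3,2,3,6,1],
  [1,0,5,3,2,3,5,1,6,3,2,3,6,5,3,2,3,5,1],
  [1,0,6,3,2,3,6,1,5,3,2,3,5,6,3,2,3,6,1],
  [4,3,2,3,4,5,3,2,3,5,4,3,6,3,4,5,3,2,3,5,1],
  [4,3,2,3,4,5,3,2,3,5,1,6,3,2,3,6,5,3,2,3,5,1],
  [4,3,2,3,4,6,3,2,3,6,1,5,3,2,3,5,6,3,2,3,6,1],
  [0,4,3,2,3,4,5,3,2,3,5,1,6,3,2,3,6,5,3,2,3,5,1],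
  [0,4,3,2,3,4,6,3,2,3,6,1,5,3,2,3,5,6,3,2,3,6,1]]

/-- Generators of a subgroup of order 3840. -/
def lGen : List (List Nat) := [[2],[3],[4],[5]]

/-- The index of the unit. -/
def lOne : Nat := 29

def lI_0 : CfsgLib.Coset.Tr (List Nat) := (.node (.node (.node (.node (.node (.node (.node (.leaf [0,1,0,2,1,0]) (.leaf [0,1,2,1,0,1,2,3,1,0,1,0,1,3])) (.node (.leaf [0,1,0,2,1,0,3,1,0,2,1,0]) (.leaf [0,2,3,1,0,1,2,3,1,0]))) (.node (.node (.leaf [1,2,1,0,1,0,1,0,1,3,1,2]) (.leaf [1,0,1,2,3,1,0,2,1,3])) (.node (.leaf [0,1,0,1,2,3,1,0,1,2,1,0]) (.leaf [2,1,0,1,3,1,0,1,2,1,0])))) (.node (.node (.node (.leaf [0,1,0,1,0,1,2]) (.leaf [1,0,2,1,3,1,0,1,0,1,0,2,1])) (.node (.leaf [1,2,1,3,1,0,1,0,3,1,2]) (.leaf [0,1,0,3,1,0,1,0,2,1]))) (.node (.node (.leaf [1,3,1,0,1,0,1,0,3]) (.leaf [1,3,1,0,1,2,1,0,3,1,0,1])) (.node (.leaf [0,3,1,0,1,2,3,1,0,1,0,1,2,3]) (.leaf []))))) (.node (.node (.node (.node (.leaf [1,0,1,2,1,0,1])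 (.leaf [0,2,3,1,0,2,1,0,3,1,0])) (.node (.leaf [1,0,3,1,0,1,0,2,1,3,1,2]) (.leaf [0,1,3,1,0,1,2,1,3,1]))) (.node (.node (.leaf [0,1,0,1,0,1,0,3,1,0,2]) (.leaf [0,1,0,3,1,0,2,1,0,3,1,0,1,3])) (.node (.leaf [1,0,1,2,1,0,1,3,1,0,1,0]) (.leaf [0,1,3,1,0,1,0,3,1])))) (.node (.node (.node (.leaf [1,0,1,0,1,0,2,1,3,1,0,2]) (.leaf [1,0,2,1,3,1,0,1,2,1,0,1])) (.node (.leaf [3,1,0,1,0,1,3,1,0,1,2,1]) (.leaf [1,0,1,2,1,3,1,0,2,1,0,3]))) (.node (.node (.leaf [1,0,2,1,0,3,1,0,1,0,1,3]) (.leaf [0,1,2,3,1,0,1,0,3,1,0,1])) (.node (.leaf [2,1,3,1,0,1,2,1,3,1,0]) (.leaf [])))))) (.node (.node (.node (.node (.node (.leaf [0,1,0,1,0,1,0,1,3]) (.leaf [1,0,1,0,3,1,0,1,0,1,2,3])) (.node (.leaf [1,0,2,1,3,1,0,2,1]) (.leaf [1,2,1,3,1,0,1,0,1,0,3,1,2]))) (.node (.node (.leaf [1,0,3,1,0,1,0]) (.leaf [2,1,0,1,3,1,0,1,0,2])) (.node (.leaf [0,1,2,1,0,3,1,0,1,0]) (.leaf [1,0,1,2,1,3,1,0,2,1,0,3,1])))) (.node (.node (.node (.leaf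 [1,2,1,0,1,0,1,0,3]) (.leaf [1,0,1,0,3,1,0,2,1,0])) (.node (.leaf [1,3,1,0,1,0,1,2]) (.leaf [2,3,1,0,1,0,3,1,0,1,2,3]))) (.node (.node (.leaf [1,0,2,1,3,1,0,1,0,1,0,1,2]) (.leaf [1,0,3,1,0,1,2,3,1,0,1])) (.node (.leaf [1,0,2,3,1,0,1,0,2,3]) (.leaf []))))) (.node (.node (.node (.node (.leaf [1,0,1,0,1,0,3]) (.leaf [0,1,3,1,0,2,1,0,1,0,3,1,0])) (.node (.leaf [0,1,0,1,0,1,3,1,0,1]) (.leaf [0,1,0,3,1,0,2,1,0,1]))) (.node (.node (.leaf [1,0,2,1,0,3,1,2]) (.leaf [1,0,3,1,0,1,2,1,3,1,0])) (.node (.leaf [1,0,3,1,0,1,0,2,3]) (.leaf [0,2,1,3,1,0,1,2,1,0,1,3,1])))) (.node (.node (.node (.leaf [1,0,2,1,0,1,0,3,1]) (.leaf [2,1,0,1,2,3,1,0,1,0,1,2])) (.node (.leaf [3,1,0,1,0,2,1,0,3,1,0]) (.leaf [2,3,1,0,1,0,3,1,0,2,1,0]))) (.node (.node (.leaf [1,0,1,0,1,0,2,3,1,0,2,1]) (.leaf [1,2,1,0,1,0,3,1,0,1,0,3])) (.node (.leaf [3,1,0,1,0,1,0,3]) (.leaf []))))))) (.node (.node (.node (.node (.node (.node (.leaf [2,1,0,1,0,1,0,2,1])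 (.leaf [0,3,1,0,1,0,2,1,3,1,2])) (.node (.leaf [0,1,0,1,2,1,3,1,0,1,2,1]) (.leaf [2,1,3,1,0,1,0,1,0,2,3,1,2]))) (.node (.node (.leaf [2,1,0,1,0,2,1,3,1,2]) (.leaf [3,1,0,1,0,3,1,0,1,0,2])) (.node (.leaf [2,1,0,1,0,3,1,0,2,1,0]) (.leaf [0,1,2,3,1,0,1,0,3,1,0,1,3])))) (.node (.node (.node (.leaf [0,1,0,1,2,3,1]) (.leaf [0,1,3,1,0,2,1,0,1,0,3,1,0,1])) (.node (.leaf [1,2,1,0,1,0,2,3,1,0,1,0]) (.leaf [1,0,2,1,3,1,0,2,1,0,1,0,1,2]))) (.node (.node (.leaf [0,1,0,2,1,0,1,0,1,3,1,2]) (.leaf [0,3,1,0,2,1,0,3,1,0,2])) (.node (.leaf [0,1,0,1,2,3,1,0,1,2,1]) (.leaf []))))) (.node (.node (.node (.node (.leaf [0,1,0,1,0,1,0,1,3,1]) (.leaf [0,2,3,1,0,2,1,0,3,1,0,1,2])) (.node (.leaf [1,0,2,1,0,1,3,1,0]) (.leaf [1,2,3,1,0,1,0,3,1,0,1,0,2,3]))) (.node (.node (.leaf [0,1,0,1,0,3,1]) (.leaf [1,2,1,0,1,0,3,1,0,2,1,0])) (.node (.leaf [0,3,1,0,1,0,2,1,3,1]) (.leaf [2,1,0,1,2,3,1,0,1,0,3,1])))) (.node (.node (.node (.leaf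 [1,0,2,1,3,1,2]) (.leaf [0,1,0,3,1,0,1,0,2,1,0,3])) (.node (.leaf [0,1,0,2,1,0,1,0,3,1,0,1,3]) (.leaf [0,2,3,1,0,1,0,2,3,1,0,2]))) (.node (.node (.leaf [1,2,1,0,1,2,3,1,0,1,0,1]) (.leaf [0,1,3,1,0,1,0,2,1,0])) (.node (.leaf [1,0,2,1,0,1,3,1,0,2]) (.leaf [])))))) (.node (.node (.node (.node (.node (.leaf [1,0,1,0,1,0,2,3]) (.leaf [0,1,0,1,0,1,0,2,3,1,0,1,2])) (.node (.leaf [0,3,1,0,1,2,3,1,0,1,0,1,2]) (.leaf [3,1,0,1,2,3,1,0,1,0,1,2,3]))) (.node (.node (.leaf [1,2,3,1,0,1,0,1,0,3]) (.leaf [0,1,2,3,1,0,1,0,2,1,3])) (.node (.leaf [0,1,0,3,1,0,2,1]) (.leaf [0,2,3,1,0,1,0,1,3,1,0,1,2,3])))) (.node (.node (.node (.leaf [1,0,1,3,1,0]) (.leaf [1,0,3,1,0,1,2,3,1,0,1,0])) (.node (.leaf [1,0,2,3,1,0,1,2,3]) (.leaf [0,1,3,1,0,1,0,1,2,1,3]))) (.node (.node (.leaf [3,1,0,1,0,3,1,0,2,1,0,1]) (.leaf [2,1,0,3,1,0,2,1,3])) (.node (.leaf [0,1,0,1,0,1,0,2,3,1,0,1,2,1,3]) (.leaf []))))) (.node (.node (.node (.node (.leaf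 [1,2,3,1,0,1,0,1,0,1]) (.leaf [1,0,1,0,1,2,1,3,1,0,1,2,1,0])) (.node (.leaf [0,2,1,0,3,1,0,1,2,1,0,3,1,2]) (.leaf [0,2,1,0,3,1,0,1,0,2,1,0]))) (.node (.node (.leaf [1,0,2,1,0,1,0,2,3,1,0,1]) (.leaf [1,0,3,1,0,1,0,1,3,1,0,2])) (.node (.leaf [1,2,3,1,0,1,0,1,0,2,3,1]) (.leaf [0,1,3,1,0,2,1,0,1,0,1,2,3])))) (.node (.node (.node (.leaf [1,0,1,0,1,3,1]) (.leaf [0,1,2,1,0,3,1,0,1,2,1])) (.node (.leaf [0,1,0,2,3,1,0,1,0,1,3]) (.leaf [1,3,1,0,1,0,3,1,0,2,1,3]))) (.node (.node (.leaf [1,2,3,1,0,1,0,1,3]) (.leaf [0,3,1,0,1,0,3,1,0,1,0,3])) (.node (.leaf [0,3,1,0,1,0,1,3,1,0,1,2,1]) (.leaf []))))))))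

def lI_1 : CfsgLib.Coset.Tr (List Nat) := (.node (.node (.node (.node (.node (.node (.node (.leaf [0,1,0,1,0,1,0,1]) (.leaf [1,2,1,3,1,0,1,0,1,2,3,1])) (.node (.leaf [1,0,3,1,0,2,1,0,1,0,1,0,3]) (.leaf [1,2,3,1,0,1,0,3,1,0]))) (.node (.node (.leaf [0,1,0,3,1,0]) (.leaf [1,2,3,1,0,1,0,3,1,0,1,0,3])) (.node (.leaf [0,1,0,3,1,0,1,0,1,0,2,1,0,3]) (.leaf [3,1,0,1,0,2,3,1,0,1,0])))) (.node (.node (.node (.leaf [1,0,1,2,1,0,1,3]) (.leaf [1,0,1,0,1,2,3,1,0,1,2,3])) (.node (.leaf [0,1,3,1,0,1,0,1,0]) (.leaf [1,0,1,2,3,1,0,1,0,2,3]))) (.node (.node (.leaf [0,1,0,2,1,0,1,0,1,3,1,0]) (.leaf [2,1,0,1,2,3,1,0,1,2])) (.node (.leaf [0,3,1,0,1,2,1,3,1,0,1]) (.leaf []))))) (.node (.node (.node (.node (.leaf [0,1,0,1,2,3]) (.leaf [1,3,1,0,2,1,0,1,2,3])) (.node (.leaf [1,3,1,0,2,1,0,1,0,2,1,3]) (.leaf [3,1,0,1,2,3,1,0,1,0,1]))) (.node (.node (.leaf [1,0,1,2,1,3,1,2]) (.leaf [1,3,1,0,1,0,1,0,2,1,3,1])) (.node (.leaf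 [1,0,1,0,1,0,2,3,1,0,1,2,3]) (.leaf [0,2,1,3,1,0,1,2,1,0,3])))) (.node (.node (.node (.leaf [0,2,1,0,1,0,2,3,1,0,2]) (.leaf [1,0,1,3,1,0,1,0,2,3,1])) (.node (.leaf [0,1,2,1,0,1,2,3,1,0,1,0,1]) (.leaf [0,1,3,1,0,1,0,1,3,1,0]))) (.node (.node (.leaf [0,1,0,3,1,0,2]) (.leaf [2,1,0,1,0,3,1,0,1,0,1,2,3])) (.node (.leaf [0,1,0,1,0,2,1,3,1,0,1]) (.leaf [])))))) (.node (.node (.node (.node (.node (.leaf [0,1,0,2,1,0,1,0,1,2]) (.leaf [0,1,2,1,3,1,0,1,0,1])) (.node (.leaf [1,0,3,1,0,1,0,2,3,1,0,2]) (.leaf [0,2,1,3,1,0,1,0,2,1]))) (.node (.node (.leaf [2,1,0,1,0,1,2,3,1,0,1,2]) (.leaf [2,3,1,0,1,0,1,0,2,3,1,0])) (.node (.leaf [1,0,1,2,3,1,0,1,2]) (.leaf [0,1,3,1,0,1,0,1,3,1])))) (.node (.node (.node (.leaf [1,0,1,0,1,0,3,1]) (.leaf [0,1,2,3,1,0,1,0,1,2,3,1,0,1])) (.node (.leaf [0,1,0,2,1,3,1,0,1,0,1,3]) (.leaf [1,0,1,3,1,0,1,2,3,1,0]))) (.node (.node (.leaf [1,2,1,0,3,1,0,1,0,3,1,0,2]) (.leaf [0,3,1,0,2,1,0,1,3,1,0,1]))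 (.node (.leaf [1,3,1,0,1,0,1,3,1,2]) (.leaf []))))) (.node (.node (.node (.node (.leaf [1,0,1,3,1]) (.leaf [3,1,0,1,0,3,1,0,1])) (.node (.leaf [1,0,2,1,0,1,2,3,1,0,2]) (.leaf [0,1,0,2,3,1,0,1,0,2,1,3]))) (.node (.node (.leaf [0,1,3,1,0,1,0,1,0,1]) (.leaf [0,3,1,0,2,1,0,3,1,0,1,0,3])) (.node (.leaf [0,1,0,2,1,0,3,1,0,1,0,3,1]) (.leaf [1,0,3,1,0,1,0,1,3,1,0,2,1,3])))) (.node (.node (.node (.leaf [0,1,2,1,0,1,2,3,1,0]) (.leaf [0,1,0,3,1,0,1,0,3])) (.node (.leaf [3,1,0,1,0,3,1,0,2]) (.leaf [1,0,1,2,3,1,0,1,0,1,3,1,2]))) (.node (.node (.leaf [0,1,0,2,1,0,3,1,0,1,0,2]) (.leaf [0,3,1,0,1,0,1,3,1,0,1,3])) (.node (.leaf [0,1,0,1,0,1,2,3,1,0,2,1]) (.leaf []))))))) (.node (.node (.node (.node (.node (.node (.leaf [0,1,0,1,2]) (.leaf [0,3,1,0,1,0,3,1,0,2,1,0,1])) (.node (.leaf [3,1,0,1,0,1,2,3,1,0,1]) (.leaf [0,1,2,1,0,1,3,1,0,1,0,1,3]))) (.node (.node (.leaf [1,0,1,0,2,1,0,3,1,0,1]) (.leaf [1,2,3,1,0,1,0,3,1,0,1]))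 (.node (.leaf [1,0,1,3,1,0,1,0,2,3]) (.leaf [0,1,2,1,3,1,0,1,0,2,1])))) (.node (.node (.node (.leaf [1,3,1,0,1,0,1,0,1]) (.leaf [0,3,1,0,1,0,1,2,3,1,0])) (.node (.leaf [1,0,2,1,3,1,0,1,2]) (.leaf [1,0,1,2,3,1,0,2,1,0,3]))) (.node (.node (.leaf [1,0,1,0,1,2,3,1,0,1]) (.leaf [1,2,1,3,1,0,1,0,3,1,0,1])) (.node (.leaf [0,1,0,1,0,1,0,2,3,1,0,2,1]) (.leaf []))))) (.node (.node (.node (.node (.leaf [1,2,1,0,1,0,1,0]) (.leaf [0,1,2,1,3,1,0,1,0])) (.node (.leaf [0,3,1,0,1,0,1,3,1]) (.leaf [3,1,0,1,0,1,0,2,1,3,1,2]))) (.node (.node (.leaf [1,0,2,1,0,1,2,3,1,0]) (.leaf [0,1,3,1,0,1,0,1,0,1,2,1,3])) (.node (.leaf [1,0,3,1,0,2,1,0,1,0,1,0,3,1]) (.leaf [0,1,0,3,1,0,1,0,3,1,0])))) (.node (.node (.node (.leaf [0,1,0,1,0,2,3,1]) (.leaf [0,2,1,3,1,0,2,1,0,1,0,3])) (.node (.leaf [2,3,1,0,1,0,1,2,3,1,0,1,3]) (.leaf [1,0,3,1,0,1,0,1,3,1,0,2,1]))) (.node (.node (.leaf [1,0,2,1,0,3,1,0,1,0,1,0,2]) (.leaf [0,1,2,1,3,1,0,1,0,1,2]))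 (.node (.leaf [1,0,2,1,0,3,1,0,1,2]) (.leaf [])))))) (.node (.node (.node (.node (.node (.leaf [1,0,3,1]) (.leaf [1,3,1,0,1,0,3,1,0,1,3])) (.node (.leaf [1,0,3,1,0,2,1,0,1,0,1,3]) (.leaf [1,0,1,0,1,2,3,1,0,1,2,1,3]))) (.node (.node (.leaf [0,1,0,1,2,1,3,1,0,2,1]) (.leaf [0,3,1,0,1,0,3,1,0,1,0,2,1])) (.node (.leaf [1,2,3,1,0,1,0,3,1,0,1,3]) (.leaf [3,1,0,1,0,2,3,1,0,1,0,1])))) (.node (.node (.node (.leaf [0,1,0,1,0,1,0,1,2,1,3,1,2]) (.leaf [1,3,1,0,1,0,1,0,2,1,3,1,2])) (.node (.leaf [1,0,1,0,1,3,1,0,2]) (.leaf [1,0,2,3,1,0,1,2,1,3,1,0]))) (.node (.node (.leaf [2,1,0,3,1,0,1,2,1,0,3,1]) (.leaf [3,1,0,1,0,2,3,1,0,1])) (.node (.leaf [1,3,1,0,1,2,1,0,3,1,0]) (.leaf []))))) (.node (.node (.node (.node (.leaf [0,1,0,1,2,1,3,1,2]) (.leaf [2,1,0,1,0,3,1,0,1,0,1,2])) (.node (.leaf [0,3,1,0,1,0,2,3,1,2]) (.leaf [0,1,2,1,0,1,0,3,1,0,1,0,3]))) (.node (.node (.leaf [0,2,1,0,1,2,3,1,0,1,0]) (.leaf [0,1,3,1,0,1,0,1,0,2,1,0,3]))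 (.node (.leaf [0,1,0,1,2,1,3,1,0,2,1,0,1]) (.leaf [1,0,1,0,2,3,1,0,1,0,3,1,2])))) (.node (.node (.node (.leaf [0,1,0,2,1,0,1,0,3,1,0]) (.leaf [0,1,0,3,1,0,2,1,0])) (.node (.leaf [1,0,2,1,3,1,0,1,2,1,3]) (.leaf [1,2,1,0,1,3,1,0,1,2,3]))) (.node (.node (.leaf [1,0,3,1,0,1,2,3]) (.leaf [3,1,0,1,2,1,0,3,1,0,2,1,0])) (.node (.leaf [0,3,1,0,1,0,3,1,0,2,1]) (.leaf []))))))))

def lI_2 : CfsgLib.Coset.Tr (List Nat) := (.node (.node (.node (.node (.node (.node (.node (.leaf [2,1,0,1,0,1,2]) (.leaf [0,3,1,0,1,0,2,3,1,0,2])) (.node (.leaf [1,0,1,0,1,0,2,1,3,1,0,2,1,3]) (.leaf [2,1,3,1,0,1,0,1,0,2,3,1,0]))) (.node (.node (.leaf [1,2,1,3,1,0,1,2,1,0,3,1]) (.leaf [3,1,0,1,0,3,1,0,1,3])) (.node (.leaf [0,1,2,1,0,1,2,3,1,0,1,2,1,0]) (.leaf [0,1,3,1,0,1,0,2,1,3])))) (.node (.node (.node (.leaf [0,1,0,1,0,2,3]) (.leaf [0,2,1,3,1,0,1,2,1])) (.node (.leaf [0,1,2,1,3,1,0,2,1,0,3,1,2]) (.leaf [2,1,0,1,2,3,1,0,1,0,1,2,3])))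 (.node (.node (.leaf [1,0,2,3,1,0,1,3]) (.leaf [0,1,3,1,0,1,0,1,0,2,3,1])) (.node (.leaf [1,3,1,0,1,0,1,2,3,1,0,2]) (.leaf []))))) (.node (.node (.node (.node (.leaf [1,0,2,1,0,1,0]) (.leaf [1,3,1,0,1,0,1,2,1])) (.node (.leaf [1,0,3,1,0,2,1,0,1,0,1,2]) (.leaf [0,1,0,3,1,0,1,0,1,2,1,3]))) (.node (.node (.leaf [0,1,0,1,3,1,2]) (.leaf [0,1,3,1,0,1,0,1,0,2,1,3,1,0,2])) (.node (.leaf [0,3,1,0,2,1,0,1,0,3,1,0,1]) (.leaf [3,1,0,1,2,3,1,0,1,0,1,2])))) (.node (.node (.node (.leaf [2,1,0,1,0,1,0,2,3,1,0,2]) (.leaf [0,3,1,0,2,1,0,1,3,1,0,1,3])) (.node (.leaf [0,1,0,1,2,3,1,0,1,0,1]) (.leaf [2,3,1,0,1,0,2,3,1,0,1,0]))) (.node (.node (.leaf [0,1,2,1,0,3,1,0,1]) (.leaf [1,0,3,1,0,1,0,2,3,1,0,1,0,1])) (.node (.leaf [0,1,0,1,3,1,0,1,2,1,3,1,0]) (.leaf [])))))) (.node (.node (.node (.node (.node (.leaf [1,0,1,0,1,2]) (.leaf [0,1,3,1,0,1,2,3,1,0,1,0])) (.node (.leaf [2,1,0,1,0,2,3,1,0,2]) (.leaf [0,1,3,1,0,2,1,0,1,2,3])))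 (.node (.node (.leaf [0,2,1,0,1,0,2,3,1,0,1,0,1]) (.leaf [2,1,0,1,2,3,1,0,2,1,0])) (.node (.leaf [0,1,0,3,1,0,1,2]) (.leaf [1,0,1,0,2,3,1,0,1,0,1,2,3])))) (.node (.node (.node (.leaf [0,1,0,2,1,0,1,0,3,1]) (.leaf [0,3,1,0,1,0,1,2,3,1,0,1])) (.node (.leaf [1,0,2,3,1,0,1,0,2]) (.leaf [0,1,3,1,0,1,0,3,1,0]))) (.node (.node (.leaf [3,1,0,1,0,3,1,0,2,1]) (.leaf [2,3,1,0,1,0,1,0,3,1,2])) (.node (.leaf [1,0,3,1,0,1,2,1,3,1]) (.leaf []))))) (.node (.node (.node (.node (.leaf [1,0,1,2,3]) (.leaf [1,0,1,0,1,2,1,3,1,0,1,3])) (.node (.leaf [0,1,0,1,0,2,3,1,0,2]) (.leaf [0,2,1,3,1,0,2,1,0,1,2]))) (.node (.node (.leaf [0,3,1,0,1,0,3,1,0,2,1,0,3]) (.leaf [1,0,3,1,0,1,0,2,3,1,0,1,2,1])) (.node (.leaf [1,2,3,1,0,1,0,1,2,3]) (.leaf [0,1,0,1,3,1,0,1,0,3,1,0,1])))) (.node (.node (.node (.leaf [0,1,0,1,2,3,1,0]) (.leaf [1,2,1,0,1,3,1,0,1,0,1,2])) (.node (.leaf [0,1,0,2,3,1,0,1,0,1,3,1,0]) (.leaf [1,3,1,0,1,0,3,1,0,2,1,0])))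 (.node (.node (.leaf [1,2,3,1,0,1,0,1,0,1,2,3,1]) (.leaf [0,1,2,1,3,1,0,1,0,1,0,2,3])) (.node (.leaf [0,1,0,1,0,3,1,0,2,1]) (.leaf []))))))) (.node (.node (.node (.node (.node (.node (.leaf [1,0,3]) (.leaf [1,0,1,0,3,1,0,1,0,1,2,3,1,2])) (.node (.leaf [0,2,1,0,1,2,3,1,0,1,2,1]) (.leaf [0,1,2,1,3,1,0,1,0,2]))) (.node (.node (.leaf [1,0,1,0,1,0,2,3,1,0,1]) (.leaf [1,0,1,0,2,3,1,0,1,0,3,1,0,1])) (.node (.leaf [0,2,1,3,1,0,2,1,0,1,0,3,1]) (.leaf [1,0,2,1,0,3,1,0,2,1,0,1,3])))) (.node (.node (.node (.leaf [0,1,2,1,0,1,2,3,1]) (.leaf [1,0,1,0,1,2,1,3,1,0,1,2,1,3])) (.node (.leaf [0,1,0,1,2,3,1,0,1,2]) (.leaf [0,2,1,3,1,0,1,2,1,0,1]))) (.node (.node (.leaf [0,1,0,2,3,1,0,1,0,3,1]) (.leaf [0,3,1,0,1,0,1,3,1,0,1])) (.node (.leaf [1,0,2,1,3,1,0,1,2,1]) (.leaf []))))) (.node (.node (.node (.node (.leaf [1,0,1,0,1]) (.leaf [1,0,2,3,1,0,1,2,3,1])) (.node (.leaf [0,1,0,1,0,1,2,3,1,2]) (.leaf [1,2,1,0,1,3,1,0,1,2,1,3,1])))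 (.node (.node (.leaf [1,0,2,1,0,1,3,1]) (.leaf [2,1,0,1,0,2,3,1,0,1,2,1])) (.node (.leaf [1,0,1,0,1,0,2,3,1,0,2,1,3]) (.leaf [1,0,1,2,3,1,0,1,0,1,3,1])))) (.node (.node (.node (.leaf [0,1,0,1,0,1,2,3]) (.leaf [0,1,0,2,3,1,0,1,0,2,1])) (.node (.leaf [1,0,1,2,1,3,1,0,1,0,1,0,3,1]) (.leaf [0,1,0,3,1,0,1,2,1,0,3]))) (.node (.node (.leaf [1,0,1,0,1,0,2,3,1,0,1,2]) (.leaf [0,1,2,1,3,1,0,2,1,0,1,3])) (.node (.leaf [0,3,1,0,1,0,3,1,0,1,2,1]) (.leaf [])))))) (.node (.node (.node (.node (.node (.leaf [2,1,0,1,0,1,0,2,1,3]) (.leaf [0,1,2,1,3,1,0,1,0,1,0,3])) (.node (.leaf [1,0,3,1,0,1,0,2,3,1]) (.leaf [0,1,0,3,1,0,1,0,1,2,1,3,1,2]))) (.node (.node (.leaf [0,1,0,2,1,0,3,1,0,2,1]) (.leaf [1,3,1,0,1,0,3,1,0])) (.node (.leaf [1,0,2,1,0,1,0,1,3,1,0,2,1]) (.leaf [0,2,3,1,0,1,2,3,1])))) (.node (.node (.node (.leaf [1,0,1,0,1,0,2,3,1,2]) (.leaf [2,1,0,1,3,1,0,1,0,2,3])) (.node (.leaf [1,0,1,0,1,2,1,3,1,0,1]) (.leaf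 [1,2,1,3,1,0,1,0,1,0,2,1,3,1]))) (.node (.node (.leaf [2,1,0,1,0,3,1,0,1,2,1,0,3]) (.leaf [0,1,0,1,0,1,3,1,0,2,1,0])) (.node (.leaf [1,3,1,0,1,0,3,1,0,2]) (.leaf []))))) (.node (.node (.node (.node (.leaf [2,1,0,1,0,1,2,3,1,2]) (.leaf [0,1,2,3,1,0,1,0,2])) (.node (.leaf [1,2,1,3,1,0,1,0,1,3,1]) (.leaf [0,1,2,1,0,3,1,0,1,0,1,2]))) (.node (.node (.leaf [1,3,1,0,1,0,1]) (.leaf [2,1,0,3,1,0,1,0,3,1,0,2,1,3])) (.node (.leaf [0,1,0,2,1,0,3,1,0,2,1,0,1]) (.leaf [3,1,0,1,0,2,3,1,0,1,0,2,1])))) (.node (.node (.node (.leaf [1,2,1,0,1,0,1,0,3,1]) (.leaf [0,1,2,1,0,3,1,0,1,2,3])) (.node (.leaf [0,1,0,1,2,3,1,0,1,2,1,3]) (.leaf [0,1,3,1,0,1,0,1,3,1,0,2,1]))) (.node (.node (.leaf [1,0,3,1,0,1,2,1]) (.leaf [1,3,1,0,1,0,3,1,0,1,2])) (.node (.leaf [3,1,0,1,2,1,0,3,1,0,2]) (.leaf []))))))))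

def lI_3 : CfsgLib.Coset.Tr (List Nat) := (.node (.node (.node (.node (.node (.node (.node (.leaf [1,0,1,0,1,0,2]) (.leaf [2,1,0,1,0,3,1,0,1,0,1,2,3,1])) (.node (.leaf [0,3,1,0,1,2,3,1,0,1,0,1,3]) (.leaf [1,2,1,3,1,0,1,0,1,0,2,3,1]))) (.node (.node (.leaf [1,0,2,1,0,1,0,1,3,1,0]) (.leaf [0,1,3,1,0,1,0,3,1,0,1,3])) (.node (.leaf [0,1,0,1,2,3,1,0,2,1,0]) (.leaf [0,1,2,1,3,1,0,2,1,0,1,0,1,3])))) (.node (.node (.node (.leaf [1,0,2,1,0,1,0,3]) (.leaf [2,1,3,1,0,2,1,0,1,2,3,1,0,1])) (.node (.leaf [1,2,1,0,1,0,3,1,0,1]) (.leaf [0,1,0,3,1,0,1,0,3,1]))) (.node (.node (.leaf [1,0,1,0,1,3,1,2]) (.leaf [1,0,1,2,1,0,3,1,0,1,2])) (.node (.leaf [3,1,0,1,0,1,2,3,1,0]) (.leaf []))))) (.node (.node (.node (.node (.leaf [0,1,2,1,0,1,2,3]) (.leaf [1,3,1,0,1,2,1,0,1,3,1,2])) (.node (.leaf [0,1,0,1,0,3,1,0]) (.leaf [0,2,1,3,1,0,2,1,0,3]))) (.node (.node (.leaf [0,3,1,0,1,0,2,3,1,0,1,0,2]) (.leaf [0,1,3,1,0,2,1,0,1,0,2,1]))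 (.node (.leaf [2,1,0,3,1,0,2,1,0,3,1,0]) (.leaf [0,1,0,3,1,0,1,0,1,2,3])))) (.node (.node (.node (.leaf [0,1,0,1,2,3,1,2]) (.leaf [2,1,0,3,1,0,2,1,0,3])) (.node (.leaf [0,1,0,2,1,0,1,0,3,1,0,1,2]) (.leaf [3,1,0,1,0,2,3,1,0,1,2]))) (.node (.node (.leaf [0,1,2,1,0,3,1,0,2]) (.leaf [0,1,0,1,2,3,1,0,1,0,2,3,1])) (.node (.leaf [0,1,0,1,0,3,1,0,2]) (.leaf [])))))) (.node (.node (.node (.node (.node (.leaf [1,2,1,0,1,0,1]) (.leaf [0,1,3,1,0,1,0,1,0,2])) (.node (.leaf [1,2,3,1,0,1,0,1,2,3,1,0,2]) (.leaf [0,1,3,1,0,1,0,2,1,0,3]))) (.node (.node (.leaf [1,0,3,1,0,1,3]) (.leaf [2,1,0,3,1,0,1,2,3,1,0])) (.node (.leaf [0,1,2,1,0,3,1,0,1,3]) (.leaf [1,3,1,0,1,0,3,1,0,1,2,3,1])))) (.node (.node (.node (.leaf [1,0,1,2,3,1]) (.leaf [1,2,3,1,0,1,0,3,1,0,1,0,2])) (.node (.leaf [1,3,1,0,1,0,1,0,2,3]) (.leaf [0,3,1,0,2,1,0,3,1,0,1]))) (.node (.node (.leaf [0,1,0,2,3,1,0,1,0,1,3,1]) (.leaf [3,1,0,1,0,2,3,1,0])) (.node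 (.leaf [1,3,1,0,1,2,1,0,1,3,1]) (.leaf []))))) (.node (.node (.node (.node (.leaf [1,0,1,0,1,0,2,1,3,1,0]) (.leaf [1,2,3,1,0,1,0,3,1,0,1,0])) (.node (.leaf [0,3,1,0,1,0,3,1,0,2,1,3]) (.leaf [2,1,0,1,2,3,1,0,1,0,2,1]))) (.node (.node (.leaf [1,2,1,0,1,0,3,1,0]) (.leaf [1,0,1,2,3,1,0,1,2,1,3])) (.node (.leaf [1,2,1,0,3,1,0,1,2,3,1,0]) (.leaf [0,1,0,3,1,0,1,0,3,1,0,2,1])))) (.node (.node (.node (.leaf [0,1,0,2,1,3,1,0,1,0,1,0]) (.leaf [0,1,0,3,1,0,1,2,1])) (.node (.leaf [0,1,0,2,3,1,0,1,0,3,1,0,2]) (.leaf [0,1,0,3,1,0,1,0,1,3,1,0]))) (.node (.node (.leaf [1,0,3,1,0,1,0,3]) (.leaf [1,2,1,3,1,0,1,0,3,1,0,1,3])) (.node (.leaf [0,1,0,1,0,1,3,1,0,2,1]) (.leaf []))))))) (.node (.node (.node (.node (.node (.node (.leaf [0,1,2,1,0,1,2]) (.leaf [0,1,2,1,3,1,0,2,1,0,1,3,1])) (.node (.leaf [0,1,0,1,2,3,1,0,2,1]) (.leaf [1,0,1,0,2,3,1,0,1,0,3]))) (.node (.node (.leaf [1,0,1,3,1,0,2]) (.leaf [0,1,0,2,3,1,0,1,0,1,2]))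 (.node (.leaf [2,1,0,3,1,0,2,1,0,3,1]) (.leaf [0,1,3,1,0,1,0,1,2,1])))) (.node (.node (.node (.leaf [1,0,1,0,1,3]) (.leaf [2,1,3,1,0,1,0,1,0,1,2,1,3])) (.node (.leaf [1,0,2,1,0,1,0,2,3,1,0,1,3]) (.leaf [3,1,0,1,0,3,1,0,1,0,2,3,1]))) (.node (.node (.leaf [1,0,1,0,2,1,3,1,0,1]) (.leaf [0,1,0,1,0,1,3,1,0,1,2,1])) (.node (.leaf [1,3,1,0,1,0,1,2,3]) (.leaf []))))) (.node (.node (.node (.node (.leaf [0,1,0,2,1,0,1,0,3]) (.leaf [0,2,1,0,1,0,1,0,2,3,1,0,1,2])) (.node (.leaf [1,2,1,3,1,0,1,0,3,1]) (.leaf [0,1,0,3,1,0,1,0,2,1,0]))) (.node (.node (.leaf [0,1,0,1,0,2,3,1,2]) (.leaf [0,1,2,1,3,1,0,1,0,1,0,1,2,1,3])) (.node (.leaf [1,0,3,1,0,2,1,0,1,3]) (.leaf [1,3,1,0,1,0,3,1,0,2,1,0,3])))) (.node (.node (.node (.leaf [1,0,2,1,0,3,1]) (.leaf [0,1,2,1,0,3,1,0,1,0,1])) (.node (.leaf [0,3,1,0,1,0,1,2,3,1,0,1,3]) (.leaf [1,0,1,0,2,3,1,0,1,0,3,1,0,2]))) (.node (.node (.leaf [0,1,0,2,1,0,1,3,1,0,1,3]) (.leaf [2,1,0,1,0,2,3,1,0,1,0,3]))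 (.node (.leaf [2,1,0,1,3,1,0,1,2]) (.leaf [])))))) (.node (.node (.node (.node (.node (.leaf [0,1,0,1,0,2]) (.leaf [0,3,1,0,1,0,3,1,0,1,0,2,3])) (.node (.leaf [0,1,3,1,0,1,0,3,1,0,2,1,0,3]) (.leaf [0,2,3,1,0,2,1,0,3,1,0,1,0,3]))) (.node (.node (.leaf [0,2,1,0,1,2,3,1,0,2,1]) (.leaf [2,3,1,0,1,0,1,0,2,3,1,2])) (.node (.leaf [0,1,0,1,0,2,3,1,0,1,0]) (.leaf [0,1,3,1,0,2,1,0,1,0,1,3,1])))) (.node (.node (.node (.leaf [0,1,0,2,1,0,3,1,0,1]) (.leaf [0,1,0,1,0,3,1,0,1,2,1,0])) (.node (.leaf [1,2,1,0,1,0,1,0,3,1,0,2]) (.leaf [1,0,1,3,1,0,2,1,0,1,0,1,2]))) (.node (.node (.leaf [1,0,1,3,1,0,1,0,3]) (.leaf [1,2,1,0,1,2,3,1,0,2,1,3])) (.node (.leaf [0,1,0,3,1,0,1,2,3,1]) (.leaf []))))) (.node (.node (.node (.node (.leaf [0,2,1,0,1,2,3,1,2]) (.leaf [0,1,3,1,0,1,0,2,1,0,3,1])) (.node (.leaf [0,3,1,0,1,0,1,3,1,2]) (.leaf [1,0,1,2,3,1,0,1,0,1,3]))) (.node (.node (.leaf [0,2,1,0,1,0,2,3,1,0,1,2]) (.leaf [1,3,1,0,1,0,3,1,0,2,1]))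 (.node (.leaf [1,3,1,0,2,1,0,1,0,2]) (.leaf [0,1,0,3,1,0,1,0,3,1,0,1,0])))) (.node (.node (.node (.leaf [1,0,1,0,1,2,3,1,2]) (.leaf [1,0,1,2,3,1,0,1,0,2,1,3,1])) (.node (.leaf [3,1,0,1,0,1,2,3,1]) (.leaf [1,0,2,1,0,3,1,0,1,2,1,0]))) (.node (.node (.leaf [1,2,3,1,0,1,0,1,0,2,3]) (.leaf [1,0,2,3,1,0,1,0,1,3,1,0,1])) (.node (.leaf [0,2,1,0,3,1,0,2,1,0,3,1,2]) (.leaf []))))))))

def lI_4 : CfsgLib.Coset.Tr (List Nat) := (.node (.node (.node (.node (.node (.node (.node (.leaf [1,0]) (.leaf [1,0,1,0,1,0,2,3,1,0,1,2,1,3])) (.node (.leaf [1,3,1,0,1,0,2,1,0,3,1]) (.leaf [0,2,3,1,0,2,1,0,3,1,0,1]))) (.node (.node (.leaf [3,1,0,1,0,3,1,0,2,1,0]) (.leaf [0,1,2,1,0,3,1,0,2,1,3])) (.node (.leaf [3,1,0,1,0,1,2,1,3,1,2]) (.leaf [1,0,2,1,0,3,1,0,2,1,0,1])))) (.node (.node (.node (.leaf [1,0,2,1,0,1]) (.leaf [1,0,1,0,3,1,0,1,2,1])) (.node (.leaf [1,0,1,0,3,1,0,1,0,1,3]) (.leaf [0,2,1,3,1,0,2,1,0,1,2,3]))) (.node (.node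 (.leaf [0,1,0,2,1,3,1,0,1,0,1,0,3]) (.leaf [2,1,3,1,0,1,2,3,1,0])) (.node (.leaf [1,3,1,0,1,2,1,0,1]) (.leaf []))))) (.node (.node (.node (.node (.leaf [0,1,0,1]) (.leaf [0,1,3,1,0,1,2,3,1,0,1])) (.node (.leaf [0,1,0,2,1,0,3,1,0,1,2,1,0]) (.leaf [1,0,2,1,3,1,0,2,1,0,1,0,2]))) (.node (.node (.leaf [1,0,2,1,3,1,0,2]) (.leaf [0,1,0,3,1,0,1,2,1,3,1])) (.node (.leaf [1,0,1,0,1,0,2,3,1,0,1,2,1]) (.leaf [1,0,1,0,2,3,1,0,1,0,3,1])))) (.node (.node (.node (.leaf [2,1,0,1,0,1,2,3,1,0,2]) (.leaf [1,2,1,0,1,3,1,0,1,2,1,3])) (.node (.leaf [1,2,1,0,3,1,0,1,0,1,3,1,0]) (.leaf [0,1,2,1,3,1,0,1,0,1,2,3,1]))) (.node (.node (.leaf [0,1,0,3,1,0,1]) (.leaf [3,1,0,1,2,1,0,3,1,0,2,1])) (.node (.leaf [0,1,3,1,0,1,0,1,0,2,1,3,1]) (.leaf [])))))) (.node (.node (.node (.node (.node (.leaf [0,2,1,0,1,0,2,3]) (.leaf [1,0,1,0,1,2,1,3,1,0,2,1,0,3,1])) (.node (.leaf [0,1,3,1,0,1,0,1,0,1,2]) (.leaf [1,0,1,0,2,3,1,0,1,2,3]))) (.node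 (.node (.leaf [0,1,0,2,1,0,3,1,0,1,0]) (.leaf [0,1,2,3,1,0,2,1,0,1,0,1])) (.node (.leaf [1,2,1,0,1,3,1,0,1,0,1]) (.leaf [0,1,3,1,0,1,0,1,2,3])))) (.node (.node (.node (.leaf [1,0,1,0,1,2,3,1]) (.leaf [0,2,1,3,1,0,2,1,0])) (.node (.leaf [1,3,1,0,2,1,0,1,2,3,1]) (.leaf [3,1,0,1,0,3,1,0,1,0,2,1]))) (.node (.node (.leaf [0,1,0,2,1,0,1,0,3,1,0,2]) (.leaf [0,1,0,1,0,2,3,1,0,1,2,3])) (.node (.leaf [1,0,3,1,0,1,0,2,3,1,0,2,1]) (.leaf []))))) (.node (.node (.node (.node (.leaf [1,2,1,0,1,0,1,3]) (.leaf [0,1,0,2,1,0,1,0,1,3,1,0,1,3])) (.node (.leaf [0,1,0,1,0,1,2,1,3,1,0,1]) (.leaf [0,1,0,3,1,0,1,0,2,1,3]))) (.node (.node (.leaf [0,2,1,0,3,1,0,1,2,1,0,3,1]) (.leaf [0,3,1,0,2,1,0,3,1,0,1,2,3])) (.node (.leaf [0,2,1,0,1,2,3,1,0,1,0,1,2,3]) (.leaf [3,1,0,1,0,3,1,0,1,0,2,1,3,1])))) (.node (.node (.node (.leaf [0,1,0,1,0,1,0,2,3,1]) (.leaf [0,1,2,1,0,3,1,0,1,0,2])) (.node (.leaf [3,1,0,1,0,3,1,0,1,2,1]) (.leaf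 [0,1,0,3,1,0,1,0,3,1,0,2,1,0]))) (.node (.node (.leaf [0,3,1,0,1,0,2,1,3,1,0]) (.leaf [2,1,0,1,0,2,3,1,0,1,2,3])) (.node (.leaf [1,0,1,2,1,0,1,3,1,0,1,3]) (.leaf []))))))) (.node (.node (.node (.node (.node (.node (.leaf [0,1,0,2,1,0,3]) (.leaf [0,1,0,1,3,1,0,1,0,2,1,0,3,1,2])) (.node (.leaf [1,3,1,0,1,0,1,0,2,1]) (.leaf [2,1,0,1,0,2,3,1,0,1,0,1,2]))) (.node (.node (.leaf [0,1,0,1,0,1,0,2,1,3,1,2]) (.leaf [0,1,3,1,0,1,0,3,1,0,1])) (.node (.leaf [0,1,0,2,3,1,0,1,0,2]) (.leaf [3,1,0,1,2,1,0,3,1,0,2,1,3])))) (.node (.node (.node (.leaf [0,1,0,1,0,1,0,3,1]) (.leaf [0,2,3,1,0,2,1,0,3,1,0,1,0,3,1])) (.node (.leaf [0,1,2,1,0,1,2,3,1,0,1,0]) (.leaf [1,0,1,2,3,1,0,1,2,1,0]))) (.node (.node (.leaf [3,1,0,1,0,3,1]) (.leaf [0,1,0,1,0,1,2,3,1,0,1,3])) (.node (.leaf [3,1,0,2,1,0,1,2,3,1,0,1]) (.leaf []))))) (.node (.node (.node (.node (.leaf [1,0,2,3,1]) (.leaf [0,2,1,3,1,0,1,2,3,1,0])) (.node (.leaf [0,1,0,1,0,3,1,2])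 (.leaf [0,1,0,2,3,1,0,1,0,3,1,0,1,2,3]))) (.node (.node (.leaf [0,1,0,1,0,1,2,3,1]) (.leaf [0,1,3,1,0,1,0,1,0,2,1])) (.node (.leaf [0,1,2,3,1,0,1,0,2,1,3,1]) (.leaf [0,1,0,3,1,0,1,0,1,3,1])))) (.node (.node (.node (.leaf [0,1,0,1,0,3]) (.leaf [1,0,1,3,1,0,1,0,1,2,1,3])) (.node (.leaf [0,3,1,0,1,3]) (.leaf [1,3,1,0,1,0,3,1,0,2,1,0,3,1]))) (.node (.node (.leaf [1,0,1,2,1,0,1,3,1,0,1,0,1]) (.leaf [0,1,3,1,0,2,1,0,1,3])) (.node (.leaf [0,3,1,0,1,0,1,3,1,0]) (.leaf [])))))) (.node (.node (.node (.node (.node (.leaf [1,0,1,3]) (.leaf [2,1,0,1,0,2,3,1,0,1,3])) (.node (.leaf [0,3,1,0,1,2,1,3,1,0,1,0]) (.leaf [1,0,1,0,3,1,0,1,2,1,0]))) (.node (.node (.leaf [1,0,1,0,1,0,2,1,3,1,0,2,1]) (.leaf [1,0,1,0,3,1,0,1,0,2,1,3])) (.node (.leaf [1,0,1,2,3,1,0,2,1]) (.leaf [1,3,1,0,1,0,1,0,2,3,1,0,2])))) (.node (.node (.node (.leaf [2,1,0,1,0,1,0,2,1,3,1,0]) (.leaf [3,1,0,1,0,1,2,3])) (.node (.leaf [0,1,0,2,1,0,1,0,1,3,1,0,1])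 (.leaf [0,2,1,0,3,1,0,2,1,0,1,0]))) (.node (.node (.leaf [3,1,0,1,0,1,2,3,1,2]) (.leaf [1,0,2,1,0,3,1,0,2,1,0])) (.node (.leaf [2,3,1,0,1,0,2,3,1,0,1,2]) (.leaf []))))) (.node (.node (.node (.node (.leaf [1,0,1,0,1,0,2,1,3,1,2]) (.leaf [0,1,3,1,0,2,1,0,1,0,3,1,0,1,0])) (.node (.leaf [0,1,2,3,1,0,1,0,3,1]) (.leaf [2,1,0,1,2,3,1,0,1,0,2]))) (.node (.node (.leaf [0,2,1,0,1,0,2,1,3,1,0,1]) (.leaf [1,2,3,1,0,1,2,1,0,3,1,0])) (.node (.leaf [0,1,0,2,1,3,1,0,2,1,0,1,0]) (.leaf [0,1,2,1,3,1,0,2,1,0,1,0,1,2,3])))) (.node (.node (.node (.leaf [1,0,1,0,2,3,1]) (.leaf [0,1,2,1,0,3,1,0,1,2,3,1,0,1])) (.node (.leaf [1,2,1,3,1,0,2,1,0,3,1,2]) (.leaf [0,1,0,3,1,0,1,0,3,1,0,2]))) (.node (.node (.leaf [1,0,3,1,0,2,1,0,1,3,1,0,1]) (.leaf [2,1,3,1,0,1,0,3,1,0,1,2,3,1])) (.node (.leaf [0,1,2,3,1,0,1,0,3,1,0]) (.leaf []))))))))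

def lI_5 : CfsgLib.Coset.Tr (List Nat) := (.node (.node (.node (.node (.node (.node (.node (.leaf [0,2,1,0,1,0,2]) (.leaf [0,3,1,0,1,0,2,3,1])) (.node (.leaf [0,1,0,1,2,1,3,1,0,2,1,0]) (.leaf [0,1,3,1,0,1,0,3,1,0,1,2,1]))) (.node (.node (.leaf [0,1,2,1,0,3,1,0]) (.leaf [3,1,0,1,0,3,1,0,1,0,2,3])) (.node (.leaf [2,1,0,3,1,0,1,2,1,0,3]) (.leaf [0,1,3,1,0,2,1,0,1,0,1,3])))) (.node (.node (.node (.leaf [0,1,0,1,3]) (.leaf [0,2,1,3,1,0,1,2,3])) (.node (.leaf [0,1,2,1,3,1,0,1,0,1,0]) (.leaf [2,1,0,1,2,3,1,0,1,0,1,3,1]))) (.node (.node (.leaf [1,2,1,0,1,0,1,0,3,1,0]) (.leaf [0,1,2,1,0,3,1,0,1,0,1,0,2])) (.node (.leaf [0,1,0,1,2,3,1,0,2,1,3]) (.leaf []))))) (.node (.node (.node (.node (.leaf [0,1,0,1,0,1,0,3]) (.leaf [1,3,1,0,1,0,1,3,1])) (.node (.leaf [1,0,2,3,1,0,2,1,0,3]) (.leaf [0,1,2,3,1,0,2,1,0,3]))) (.node (.node (.leaf [1,0,3,1,0,1,0,2,3,1,2]) (.leaf [0,3,1,0,1,2,1,3,1,0])) (.node (.leaf [0,3,1,0,2,1,0,1,0,1,3,1,0])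 (.leaf [3,1,0,1,2,3,1,0,1,0])))) (.node (.node (.node (.leaf [0,2,1,0,1,2,3,1,0,2]) (.leaf [0,2,3,1,0,1,0,2,3,1,0,1,0])) (.node (.leaf [1,0,2,1,3,1,0,1,0,1,0,2]) (.leaf [2,3,1,0,1,0,3,1,0,1,2,1]))) (.node (.node (.leaf [0,2,1,0,1,0,1,2,3,1,0,2]) (.leaf [1,0,1,0,3,1,0,1,0,1,2,3,1])) (.node (.leaf [1,2,1,0,1,3,1,0,1]) (.leaf [])))))) (.node (.node (.node (.node (.node (.leaf [1,0,1,0,1,0]) (.leaf [1,2,1,0,1,0,3,1,0,1,0])) (.node (.leaf [1,0,3,1,0,1,2,1,3]) (.leaf [0,1,3,1,0,2,1,0,1]))) (.node (.node (.leaf [2,1,0,1,0,1,0,2,3,1,0,1,2]) (.leaf [1,2,1,0,1,3,1,0,1,2,3,1,0])) (.node (.leaf [0,2,1,0,1,0,1,2,3,1,0,1,3]) (.leaf [1,2,1,0,1,0,3,1,0,1,0,3,1])))) (.node (.node (.node (.leaf [1,2,1,0,1,0,1,3,1]) (.leaf [3,1,0,1,0,3,1,0,1,2])) (.node (.leaf [1,0,2,3,1,0,1,0,3]) (.leaf [2,3,1,0,1,0,1,0,2,3,1]))) (.node (.node (.leaf [3,1,0,1,0,3,1,0,1,2,1,0]) (.leaf [1,0,1,2,1,0,3,1,0,1,2,1])) (.node (.leaf [0,1,0,1,2,1,3,1,0,1,2,1,0,3,1])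 (.leaf []))))) (.node (.node (.node (.node (.leaf [2,1,0,1,0,1,0,2,1,3,1]) (.leaf [3,1,0,1,0,1,3,1,0,1,2])) (.node (.leaf [0,3,1,0,1,0,1,3,1,0,2,1]) (.leaf [0,2,1,3,1,0,2,1,0,1,0]))) (.node (.node (.leaf [0,1,2,1,3,1,0,1,0,1,0,1]) (.leaf [0,1,0,3,1,0,2,1,0,1,3,1,0,1,3])) (.node (.leaf [0,2,1,0,1,2,3,1,0,1,0,1,3,1]) (.leaf [0,1,3,1,0,1,0,1,3,1,0,2])))) (.node (.node (.node (.leaf [0,1,0,1,2,1,3,1,0,1]) (.leaf [1,2,1,0,1,3,1,0,1,0,1,3])) (.node (.leaf [3,1,0,1,0,1,3,1,0,2,1]) (.leaf [1,3,1,0,1,0,3,1,0,1,2,1]))) (.node (.node (.leaf [1,2,3,1,0,1,0,1,2]) (.leaf [0,3,1,0,1,0,3,1,0,1,2,3])) (.node (.leaf [1,0,2,1,0,3,1,0,2,1]) (.leaf []))))))) (.node (.node (.node (.node (.node (.node (.leaf [0,1,0,1,0,1,0]) (.leaf [0,1,2,3,1,0,1,0,1,2])) (.node (.leaf [1,0,2,3,1,0,2,1,3]) (.leaf [0,1,3,1,0,1,0,3]))) (.node (.node (.leaf [1,0,1,0,1,0,2,3,1,0,2]) (.leaf [0,1,3,1,0,1,0,3,1,0,1,2])) (.node (.leaf [2,1,0,3,1,0,1,2,3,1,0,1,0])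 (.leaf [1,0,1,2,1,3,1,0,2,1,0,1,3])))) (.node (.node (.node (.leaf [1,0,2,3,1,0]) (.leaf [1,0,1,0,1,2,1,3,1,0,2,1,3])) (.node (.leaf [0,1,0,1,2,3,1,0,1,3]) (.leaf [1,0,1,2,3,1,0,1,0,2,3,1]))) (.node (.node (.leaf [1,0,1,0,3,1,0,1]) (.leaf [1,0,2,1,0,3,1,0,1,2,1])) (.node (.leaf [1,2,1,0,1,0,3,1,0,2,1]) (.leaf []))))) (.node (.node (.node (.node (.leaf [1,0,1,0,1,2,3]) (.leaf [1,0,1,0,2,3,1,0,1,0])) (.node (.leaf [0,1,2,3,1,0,1,0,1,3,1]) (.leaf [0,1,0,3,1,0,2,1,0,1,0,3]))) (.node (.node (.leaf [0,1,0,1,0,1,2,1,3,1,0]) (.leaf [0,1,0,1,0,1,0,2,3,1,0,2,1,3])) (.node (.leaf [1,0,3,1,0,1,0,2,1]) (.leaf [0,1,0,3,1,0,1,2,1,0,3,1,0,2])))) (.node (.node (.node (.leaf [1,0,2,1,0,1,2,3,1]) (.leaf [2,1,0,1,2,3,1,0,1,0])) (.node (.leaf [1,0,1,0,2,3,1,0,2,1]) (.leaf [0,1,3,1,0,1,0,3,1,0,2]))) (.node (.node (.leaf [1,0,1,0,1,0,2,3,1,0,1,3]) (.leaf [1,2,1,0,1,0,3,1,0,1,0,2])) (.node (.leaf [1,0,2,1,0,1,2,3,1,0,1,2])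 (.leaf [])))))) (.node (.node (.node (.node (.node (.leaf [0,1,0,1,0,1,0,1,2,3,1]) (.leaf [1,0,2,3,1,0,1,0,1,3,1,0,1,3])) (.node (.leaf [1,0,3,1,0,1,0,3,1,2]) (.leaf [2,3,1,0,1,0,1,2,3,1,0,2]))) (.node (.node (.leaf [3,1,0,1,0,1,2,3,1,0,1,3]) (.leaf [1,2,1,0,3,1,0,1,2,3,1])) (.node (.leaf [0,1,3,1,0,1,0,3,1,0,1,2,3]) (.leaf [0,1,3,1,0,1,0,2,3])))) (.node (.node (.node (.leaf [1,0,1,0,1,0,2,1,3,1,0,1]) (.leaf [1,0,2,1,3,1,0,1,2,1,3,1])) (.node (.leaf [0,1,0,2,1,0,1,0,1,3,1,0,2]) (.leaf [1,0,1,2,1,3,1,0,1,2,1,0]))) (.node (.node (.leaf [1,2,1,0,3,1,0,1,0,1,3,1,2]) (.leaf [0,1,0,1,0,1,3,1,0,2,1,3])) (.node (.leaf [0,1,0,3,1,0,2,1,0,3,1,0,1]) (.leaf []))))) (.node (.node (.node (.node (.leaf [0,2,1,0,1,0,2,3,1,2]) (.leaf [0,1,3,1,0,2,1,0])) (.node (.leaf [0,1,2,3,1,0,1,0,2,3,1,2]) (.leaf [0,1,0,3,1,0,1,0,1,3]))) (.node (.node (.leaf [0,1,0,1,2,1,3,1,0,1,2]) (.leaf [2,3,1,0,1,0,2,3,1,0,1,0,2])) (.node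 (.leaf [0,1,0,2,1,3,1,0,2,1,0,1,0,2]) (.leaf [1,3,1,0,1,0,3,1,0,1,2,1,3,1])))) (.node (.node (.node (.leaf [1,0,1,0,2,1,3,1,0]) (.leaf [1,0,1,2,3,1,0,2,1,0])) (.node (.leaf [0,1,0,1,2,3,1,0,2,1,0,3]) (.leaf [0,1,0,1,0,1,2,3,1,0,1,2,3]))) (.node (.node (.leaf [1,2,1,0,3,1,0,1,2,3,1,0,1]) (.leaf [1,3,1,0,1,0,3,1,0,1])) (.node (.leaf [3,1,0,1,2,1,0,3,1,0,1]) (.leaf []))))))))

def lI_6 : CfsgLib.Coset.Tr (List Nat) := (.node (.node (.node (.node (.node (.node (.node (.leaf [1,0,2,1,0,1,0,2,1]) (.leaf [0,3,1,0,2,1,0,3,1,0,1,0,3,1])) (.node (.leaf [0,3,1,0,1,0,2,3,1,0,1]) (.leaf [1,0,3,1,0,1,0,1,3,1,0]))) (.node (.node (.leaf [0,1,0,2,3,1,0,1,0,1,3,1,2]) (.leaf [3,1,0,1,0,1,3,1,0,1,2,3])) (.node (.leaf [1,0,1,3,1,0,1,0,2,3,1,2]) (.leaf [1,0,1,0,2,3,1,0,1,0,2,1,3])))) (.node (.node (.node (.leaf [1,0,2,1,0,1,2,3]) (.leaf [1,3,1,0,1,0,1,0,2,3,1,0,1])) (.node (.leaf [1,0,2,1,3,1,0,1,0,3]) (.leaf [0,1,0,3,1,0,1,0,2,3])))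 (.node (.node (.leaf [1,0,1,0,1,3,1,0]) (.leaf [0,2,3,1,0,1,0,1,0,2,3,1,0])) (.node (.leaf [1,3,1,0,1,0,1,0,2,1,3]) (.leaf []))))) (.node (.node (.node (.node (.leaf [0,1,0,1,0,1,0,2]) (.leaf [1,3,1,0,2,1,0,1,0,2,3])) (.node (.leaf [1,3,1,0,1,0,1,2,3,1]) (.leaf [1,0,1,3,1,0,1,0,2,1,0,3]))) (.node (.node (.leaf [0,1,0,1,0,2,1,0,3,1,2]) (.leaf [1,3,1,0,1,0,1,2,3,1,0,2,1])) (.node (.leaf [1,0,2,1,0,3,1,0,1,0,1,0,2,1]) (.leaf [0,1,2,3,1,0,1,2,1,0,3])))) (.node (.node (.node (.leaf [0,1,0,1,2,1,3,1,0,2]) (.leaf [2,3,1,0,1,0,1,0,2,1,3])) (.node (.leaf [1,0,1,0,3,1,0,1,0]) (.leaf [3,1,0,1,0,3,1,0,1,0,2,1,3]))) (.node (.node (.leaf [1,0,2,1,0,1,0,1,3,1,0,1]) (.leaf [0,3,1,0,1,0,2,3])) (.node (.leaf [0,1,2,1,0,1,0,3,1,0,1]) (.leaf [])))))) (.node (.node (.node (.node (.node (.leaf [0,1,0,2,1,0,1,0]) (.leaf [2,1,0,1,0,2,3,1,0,1,0])) (.node (.leaf [0,1,2,1,3,1,0,1,0,1,0,1,2]) (.leaf [0,1,2,3,1,0,1,0,2,1])))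 (.node (.node (.leaf [1,0,3,1,0,2,1,0,1,3,1,0]) (.leaf [1,0,1,2,1,0,3,1,0,2,1,0])) (.node (.leaf [0,1,0,3,1,0,2,1,0,1,3,1,0]) (.leaf [2,1,0,1,0,2,3,1,0,1,0,3,1])))) (.node (.node (.node (.leaf [1,2,1,0,1,0,1,0,1,3,1]) (.leaf [1,0,1,0,3,1,0,2,1,3])) (.node (.leaf [1,3,1,0,1,0,1,3]) (.leaf [1,0,1,0,2,3,1,0,1,0,3,1,0]))) (.node (.node (.leaf [3,1,0,1,0,1,3,1,0,2,1,3]) (.leaf [0,1,2,1,0,1,0,3,1,0,1,2,1])) (.node (.leaf [3,1,0,1,0,1,0,2,1,3,1,0]) (.leaf []))))) (.node (.node (.node (.node (.leaf [1,0,1,0,1,0,2,3,1]) (.leaf [1,0,1,0,2,3,1,0,1,3])) (.node (.leaf [1,0,2,1,0,3,1,0,2]) (.leaf [0,1,2,3,1,0,2,1,0,1,0]))) (.node (.node (.leaf [0,1,2,3,1,0,1,0,3,1,2]) (.leaf [1,0,1,3,1,0,1,2,1,3,1])) (.node (.leaf [1,0,3,1,0,1,0,3,1]) (.leaf [2,3,1,0,1,0,3,1,0,1,2])))) (.node (.node (.node (.leaf [0,1,0,1,0,1,0,3,1,0]) (.leaf [2,1,0,1,2,3,1,0,1,0,1,3])) (.node (.leaf [0,1,0,2,3,1,0,1,0,3,1,0,1,2,1]) (.leaf [0,1,0,3,1,0,1,0,1,3,1,2])))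 (.node (.node (.leaf [1,0,3,1,0,1,0,2]) (.leaf [0,1,0,1,0,1,0,2,3,1,0,1,2,3])) (.node (.leaf [0,1,2,1,0,1,0,3,1,0,2,1]) (.leaf []))))))) (.node (.node (.node (.node (.node (.node (.leaf [2,1,0,1,0,1,2,3]) (.leaf [0,1,3,1,0,1,2,1,0,3])) (.node (.leaf [0,1,0,1,2,1,3,1,0,2,1,3]) (.leaf [1,0,1,0,2,3,1,0,1,0,2]))) (.node (.node (.leaf [0,1,0,2,1,0,1,3,1,0,1]) (.leaf [3,1,0,1,0,3,1,0,1,0])) (.node (.leaf [1,0,2,1,0,3,1,0,1,0,1,2]) (.leaf [0,1,3,1,0,2,1,0,1,0,3])))) (.node (.node (.node (.leaf [0,1,0,1,2,1,3,1,0]) (.leaf [0,2,3,1,0,1,2,1,3])) (.node (.leaf [1,0,2,1,0,1,0,2,3,1,0,1,2]) (.leaf [1,0,2,1,3,1,0,2,1,0,1,0,1,3]))) (.node (.node (.leaf [1,2,1,0,3,1,0,1,0,1,3,1]) (.leaf [0,3,1,0,1,0,3,1,0,1,2])) (.node (.leaf [0,1,3,1,0,1,0,1,0,1,2,1]) (.leaf []))))) (.node (.node (.node (.node (.leaf [1,0,1,0,2]) (.leaf [2,1,0,1,0,2,3,1,0,1,0,1])) (.node (.leaf [0,1,2,1,0,1,0,3,1,2]) (.leaf [2,3,1,0,1,0,1,0,2,1,3,1])))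 (.node (.node (.leaf [0,1,0,1,0,2,3,1,0]) (.leaf [0,1,2,1,3,1,0,1,0,1,0,2,1])) (.node (.leaf [0,3,1,0,1,0,2,3,1,0]) (.leaf [1,3,1,0,1,0,3,1,0,1,2,1,3])))) (.node (.node (.node (.leaf [1,0,2,1,0,1,3]) (.leaf [0,1,2,3,1,0,2,1,0,1,0,3])) (.node (.leaf [1,0,1,0,1,3,1,0,2,1]) (.leaf [1,0,1,2,3,1,0,1,0,2,3,1,2]))) (.node (.node (.leaf [0,1,0,2,1,0,1,3,1,0,1,2]) (.leaf [2,1,0,1,0,2,3,1,0,1,0,2])) (.node (.leaf [1,2,1,3,1,0,1,0,3,1,0]) (.leaf [])))))) (.node (.node (.node (.node (.node (.leaf [1,0,1,0,1,0,2,1,3,1]) (.leaf [0,1,0,1,0,1,0,2,3,1,0,1,3])) (.node (.leaf [1,0,3,1,0,2,1,0,3]) (.leaf [0,3,1,0,1,0,1,2,3,1,0,1,2]))) (.node (.node (.leaf [1,3,1,0,1,0,2,1,0,3,1,0]) (.leaf [1,0,2,3,1,0,1,0,1,3,1,0])) (.node (.leaf [3,1,0,1,0,3,1,0,1,0,3]) (.leaf [1,0,2,1,3,1,0,1,2,3,1,0])))) (.node (.node (.node (.leaf [1,0,1,3,1,2]) (.leaf [0,2,3,1,0,2,1,0,3,1,0,1,3])) (.node (.leaf [1,0,2,1,0,1,0,1,0,3,1,0,1]) (.leaf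 [1,3,1,0,1,0,1,0,2,1,3,1,0]))) (.node (.node (.leaf [3,1,0,1,0,3,1,2]) (.leaf [0,1,2,1,3,1,0,2,1,0,1,0,1])) (.node (.leaf [0,2,3,1,0,1,0,3,1,0,2,1,3]) (.leaf []))))) (.node (.node (.node (.node (.leaf [2,1,0,1,0,1,0,2,3,1,2]) (.leaf [1,0,2,1,3,1,0,1,0,1,2])) (.node (.leaf [0,2,1,0,3,1,0,1,2,1,0,3]) (.leaf [1,0,1,2,3,1,0,1,0,1,2]))) (.node (.node (.leaf [0,1,0,2,1,3,1,0,1,0,1]) (.leaf [1,0,1,2,1,3,1,0,1,2,1,0,3])) (.node (.leaf [1,0,3,1,0,2,1,0,1]) (.leaf [0,1,3,1,0,1,0,3,1,2])))) (.node (.node (.node (.leaf [1,0,1,0,1,2,3,1,0]) (.leaf [1,0,1,2,3,1,0,1,2,3])) (.node (.leaf [3,1,0,1,0,1,2,3,1,0,2]) (.leaf [1,0,1,3,1,0,1,2,3,1,0,1]))) (.node (.node (.leaf [1,3,1,0,1,0,2,1,0,3,1,0,2]) (.leaf [0,3,1,0,1,0,3,1,0,1,0])) (.node (.leaf [0,3,1,0,1,0,1,3,1,0,2]) (.leaf []))))))))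

def lI_7 : CfsgLib.Coset.Tr (List Nat) := (.node (.node (.node (.node (.node (.node (.node (.leaf [1,0,1]) (.leaf [1,0,1,0,1,3,1,0,1,2,1,0,1])) (.node (.leaf [0,2,1,0,1,2,3,1,0,2,1,0]) (.leaf [0,2,1,3,1,0,1,2,3,1]))) (.node (.node (.leaf [1,0,1,0,1,0,3,1,2]) (.leaf [2,3,1,0,1,0,3,1,0,1,0,2,3,1])) (.node (.leaf [3,1,0,1,0,1,2,1,3,1]) (.leaf [0,3,1,0,1,0,1,3,1,0,1,2,3])))) (.node (.node (.node (.leaf [0,1,0,1,0,1,0,2,3]) (.leaf [1,0,1,0,1,2,1,3,1,0,1,2,1])) (.node (.leaf [0,1,2,3,1,0,1,0,1]) (.leaf [1,2,1,0,1,3,1,0,1,0,1,3,1]))) (.node (.node (.leaf [1,0,1,0,2,3,1,2]) (.leaf [0,1,2,1,0,1,0,3,1,0,1,3])) (.node (.leaf [1,0,2,1,3,1,0,2,1,3]) (.leaf []))))) (.node (.node (.node (.node (.leaf [0,1,0,1,2,1,3,1]) (.leaf [0,2,1,0,1,0,2,3,1,0,1,0,3,1])) (.node (.leaf [0,1,2,1,0,1,0,3,1,0]) (.leaf [3,1,0,1,0,3,1,0,1,2,3]))) (.node (.node (.leaf [1,2,3,1,0,1,0,1,2,3,1,2]) (.leaf [1,0,1,3,1,0,2,1,0,1,0,1])) (.node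 (.leaf [2,1,3,1,0,1,0,2,1,0,3,1]) (.leaf [0,1,2,3,1,0,2,1,0,3,1])))) (.node (.node (.node (.leaf [0,1,0,1,0,1,0,3,1,2]) (.leaf [0,1,0,3,1,0,2,1,0,1,0])) (.node (.leaf [0,2,1,0,1,0,1,0,3,1,0,1,2]) (.leaf [0,1,0,1,0,2,3,1,0,1,2,1,3]))) (.node (.node (.leaf [0,1,0,2,3,1,0,1,0]) (.leaf [0,1,3,1,0,1,2,3,1,0,1,0,1])) (.node (.leaf [0,1,2,1,0,1,0,3,1,0,2]) (.leaf [])))))) (.node (.node (.node (.node (.node (.leaf [1,0,1,2]) (.leaf [1,0,1,2,1,3,1,0,1,2])) (.node (.leaf [1,3,1,0,1,0,1,2,3,1,2]) (.leaf [0,1,2,1,3,1,0,2,1,0,1]))) (.node (.node (.leaf [0,1,0,2,1,0,3,1,0,1,3]) (.leaf [0,1,3,1,0,2,1,0,1,2])) (.node (.leaf [1,0,1,2,3,1,0,1,3]) (.leaf [0,1,0,3,1,0,1,0,3,1,0,1,0,3])))) (.node (.node (.node (.leaf [1,0,1,0,1,0,2,3,1,0]) (.leaf [0,1,0,2,3,1,0,1,0,3,1,0,1,2])) (.node (.leaf [0,2,1,0,1,0,2,3,1,0,1,2,3]) (.leaf [0,1,3,1,0,2,1,0,1,0,2]))) (.node (.node (.leaf [1,2,1,0,3,1,0,1,0,3,1]) (.leaf [0,1,0,1,0,2,1,3,1,0,2,1,3]))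 (.node (.leaf [1,0,1,2,1,3,1,0,1,2,1,3]) (.leaf []))))) (.node (.node (.node (.node (.leaf [1,0,3,1,0]) (.leaf [1,0,1,0,1,3,1,0,1,2,1,0])) (.node (.leaf [3,1,0,1,2,1,0,1,3,1,0,1]) (.leaf [0,1,2,3,1,0,2,1,0,1,3]))) (.node (.node (.leaf [0,1,0,1,2,3,1,0,1]) (.leaf [0,2,3,1,0,1,0,1,2,3,1,0,1,2])) (.node (.leaf [1,0,3,1,0,2,1,0,3,1,0,1]) (.leaf [3,1,0,1,0,2,3,1,0,1,0,2])))) (.node (.node (.node (.leaf [1,0,2,3,1,0,1]) (.leaf [0,1,0,3,1,0,1,0,2,1,3,1,0,2])) (.node (.leaf [1,2,1,0,1,2,3,1,0,1,0,3]) (.leaf [1,0,1,2,3,1,0,1,0,1,3,1,0]))) (.node (.node (.leaf [0,1,0,2,1,0,3,1,0,1,0,3]) (.leaf [1,3,1,0,1,0,3,1,0,1,2,3])) (.node (.leaf [0,2,3,1,0,1,0,2,1,3,1,0]) (.leaf []))))))) (.node (.node (.node (.node (.node (.node (.leaf [1,0,2,1,0,1,0,2,1,3]) (.leaf [1,0,2,1,3,1,0,1,0,2])) (.node (.leaf [3,1,0,1,0,1,2,1,3,1,0]) (.leaf [1,2,1,0,3,1,0,2,1,0,3,1,0]))) (.node (.node (.leaf [1,2,3,1,0,1,0,1,0,1,2,3]) (.leaf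 [1,0,2,1,0,3,1,0,1,0,2])) (.node (.leaf [2,1,0,1,2,3,1,0,1,0,1]) (.leaf [0,2,1,0,3,1,0,2,1,0,1,0,3])))) (.node (.node (.node (.leaf [1,0,1,0,2,3]) (.leaf [3,1,0,1,2,3,1,0,1,0,1,3])) (.node (.leaf [0,1,2,1,0,1,2,3,1,0,1,3]) (.leaf [0,1,0,1,3,1,0,1,0,3,1,0,1,3]))) (.node (.node (.leaf [1,0,1,0,1,2,3,1,0,2]) (.leaf [0,2,1,0,3,1,0,1,0,1,0,2,1])) (.node (.leaf [0,1,0,1,2,1,3,1,0,2,1,0,3,1]) (.leaf []))))) (.node (.node (.node (.node (.leaf [0,1,0,2,1,0,1,0,1,2,3]) (.leaf [0,1,2,1,3,1,0,1,2])) (.node (.leaf [0,1,0,1,0,2,3,1,0,1]) (.leaf [0,2,1,0,3,1,0,1,0,1,2,1]))) (.node (.node (.leaf [0,1,0,1,0,1,2,1,3,1,2]) (.leaf [1,2,1,0,3,1,0,1,2,1,3,1])) (.node (.leaf [1,0,3,1,0,2,1,0,1,0,3]) (.leaf [0,1,0,3,1,0,1,2,1,0,3,1])))) (.node (.node (.node (.leaf [0,1,0,1,3,1]) (.leaf [1,0,1,2,3,1,0,1,0,1])) (.node (.leaf [1,0,1,0,3,1,0,2,1]) (.leaf [1,0,1,2,1,3,1,0,1,2,1,0,3,1]))) (.node (.node (.leaf [2,1,0,3,1,0,2,1,0,3,1,0,2])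 (.leaf [0,1,3,1,0,1,0,1,3])) (.node (.leaf [1,0,2,1,0,1,2,3,1,0,1,3]) (.leaf [])))))) (.node (.node (.node (.node (.node (.leaf [1,0,2,1,0,1,2]) (.leaf [0,1,0,1,2,3,1,0,1,2,3])) (.node (.leaf [0,1,0,2,1,0,3,1,0,1,0,3,1,2]) (.leaf [0,2,3,1,0,1,2,1,3,1]))) (.node (.node (.leaf [0,1,0,1,2,3,1,0,2]) (.leaf [2,1,0,1,3,1,0,1,2,3,1])) (.node (.leaf [1,0,1,3,1,0,1,0,1]) (.leaf [3,1,0,1,0,3,1,0,1,0,2,1,0])))) (.node (.node (.node (.leaf [1,2,3,1,0,1,0,1,0]) (.leaf [0,3,1,0,2,1,0,1,3,1,0,1,0])) (.node (.leaf [3,1,0,1,0,3,1,0]) (.leaf [0,1,2,1,3,1,0,1,0,1,0,2,1,0]))) (.node (.node (.leaf [1,2,1,0,1,2,3,1,0,1,0,1,3]) (.leaf [0,3,1,0,1,0,1,3,1,0,1,2])) (.node (.leaf [2,3,1,0,1,2,3,1,0]) (.leaf []))))) (.node (.node (.node (.node (.leaf [0,1,0,1,0]) (.leaf [1,0,2,1,0,3,1,0,2,1,0,1,0,1])) (.node (.leaf [0,3,1,0,1,0,3,1,0,2,1,0]) (.leaf [2,1,0,1,3,1,0,1,0,2,1,0]))) (.node (.node (.leaf [0,2,1,0,1,2,3,1,0,1,2]) (.leaf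 [0,1,0,3,1,0,1,0,1,3,1,0,2])) (.node (.leaf [1,3,1,0,1,0,1,2,1,3,1,2]) (.leaf [0,2,3,1,0,1,0,1,3,1,0,1,2])))) (.node (.node (.node (.leaf [1,0,1,0,2,1,3,1,2]) (.leaf [0,1,0,3,1,0,2,1,3])) (.node (.leaf [1,0,2,1,3,1,0,2,1,0,3]) (.leaf [0,1,0,1,0,1,3,1,0,1,2,1,0]))) (.node (.node (.leaf [0,1,0,2,1,3,1,0,2,1,0,1,0,1]) (.leaf [0,3,1,0,1,0,3,1,0,1,0,2])) (.node (.leaf [0,1,2,3,1,0,1,0,3]) (.leaf []))))))))

def lI_8 : CfsgLib.Coset.Tr (List Nat) := (.node (.node (.node (.node (.node (.node (.node (.leaf [1,0,1,0,1,0,2,1]) (.leaf [3,1,0,2,1,0,3,1,2])) (.node (.leaf [1,0,3,1,0,2,1,0]) (.leaf [1,3,1,0,1,0,1,0,2,3,1,2]))) (.node (.node (.leaf [0,1,0,2,1,0,1,0,1,2,3,1,2]) (.leaf [0,1,0,3,1,0,1,0,2,3,1,0])) (.node (.leaf [3,1,0,2,1,0,1,2,3,1,0,1,0]) (.leaf [0,1,2,1,3,1,0,2,1,0,1,0,1,2])))) (.node (.node (.node (.leaf [0,1,2,1,0,1,0]) (.leaf [1,0,1,0,1,2,3,1,0,1,2,1])) (.node (.leaf [3,1,0,1,2,1,0,1,3,1]) (.leaf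 [0,1,2,1,0,3,1,0,1,0,2,1]))) (.node (.node (.leaf [0,1,0,1,2,1,3,1,0,1,3]) (.leaf [0,2,1,3,1,0,1,2,1,0,3,1,0])) (.node (.leaf [1,3,1,0,1,0,1,0,2,1,0]) (.leaf []))))) (.node (.node (.node (.node (.leaf [1,0,2,1,0]) (.leaf [1,0,2,1,0,1,0,2,3,1,0,1,2,3])) (.node (.leaf [1,0,3,1,0,2,1,0,1,3,1,0,1,0]) (.leaf [2,1,3,1,0,1,0,1,0,2,1,3,1]))) (.node (.node (.leaf [0,2,1,0,1,0,2,1,3,1,0,2]) (.leaf [2,3,1,0,1,2,1,3,1,0])) (.node (.leaf [2,3,1,0,2,1,0,1,0,3,1,2]) (.leaf [1,0,1,2,1,3,1,0,1,0,1,3,1])))) (.node (.node (.node (.leaf [0,1,0,2,1,0,3,1,0,2]) (.leaf [0,1,0,1,0,1,2,3,1,0,1,2,1,0])) (.node (.leaf [0,1,0,2,3,1,0,1,0,3,1,0]) (.leaf [0,1,3,1,0,2,1,0,1,0,2,1,3]))) (.node (.node (.leaf [0,3,1,0,2,1,0,1,0,1,3,1,2]) (.leaf [0,3,1,0,1,0,3,1,0,1,2,1,3,1])) (.node (.leaf [0,2,3,1,0,1,0,1,0,2,1,3,1,0]) (.leaf [])))))) (.node (.node (.node (.node (.node (.leaf [1,0,2,3]) (.leaf [0,1,0,1,2,3,1,0,1,0,2,3])) (.node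 (.leaf [0,1,2,1,0,1,2,3,1,0,2,1]) (.leaf [1,0,1,0,1,2,1,3,1,0,1,2,3]))) (.node (.node (.leaf [1,0,3,1,0,2,1,0,1,3,1,2]) (.leaf [0,2,1,0,3,1,0,1,0,1,2])) (.node (.leaf [1,0,1,2,1,0,3,1,0,1,0,1]) (.leaf [0,1,2,1,3,1,0,1,0,1,2,3])))) (.node (.node (.node (.leaf [0,1,0,1,0,1,0,2,1,0,3]) (.leaf [0,1,0,3,1,0,1,0,1,2,1,3,1])) (.node (.leaf [0,1,0,1,2,1,3,1,0,1,0,2]) (.leaf [2,3,1,0,1,0,3,1,0,1,0,2,3]))) (.node (.node (.leaf [1,0,1,0,2,1,3,1,0,2]) (.leaf [1,2,1,0,3,1,0,1,2,3])) (.node (.leaf [0,3,1,0,1,2,3,1,0,1,0]) (.leaf []))))) (.node (.node (.node (.node (.leaf [2,1,0,1,0,2,1,3]) (.leaf [1,0,1,0,2,3,1,0,1,2])) (.node (.leaf [1,0,2,1,0,3,1,0,1]) (.leaf [1,0,2,1,3,1,0,2,1,0,1,0]))) (.node (.node (.leaf [1,0,1,2,1,0,1,3,1,2]) (.leaf [3,1,0,1,0,1,0,2,1,3,1])) (.node (.leaf [1,0,3,1,0,2,1,0,3,1]) (.leaf [1,0,1,2,3,1,0,1,0,3,1,2])))) (.node (.node (.node (.leaf [0,1,2,1,0,1,3,1]) (.leaf [0,1,0,3,1,0,1,0,2]))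 (.node (.leaf [0,2,1,0,1,0,1,0,3,1,0,2,1]) (.leaf [0,1,3,1,0,1,0,1,3,1,2]))) (.node (.node (.leaf [1,0,1,0,2,1,0,3,1,0,2,1]) (.leaf [1,0,1,0,2,3,1,0,1,0,1,3])) (.node (.leaf [1,2,1,0,3,1,0,1,3]) (.leaf []))))))) (.node (.node (.node (.node (.node (.node (.leaf [0,1,0,1,0,1,0,1,2,1]) (.leaf [1,0,1,3,1,0,1,2,1,0])) (.node (.leaf [0,2,1,0,1,0,2,3,1,0,1,2,1]) (.leaf [0,3,1,0,1,2,3,1]))) (.node (.node (.leaf [1,0,1,2,3,1,2]) (.leaf [1,2,3,1,0,1,0,3,1,0,1,2])) (.node (.leaf [0,1,0,1,0,1,0,3,1,0,2,1,0]) (.leaf [0,3,1,0,1,0,3,1,0,1,2,3,1])))) (.node (.node (.node (.leaf [1,0,2,1,0,1,0,2,3,1]) (.leaf [1,0,1,0,2,3,1,0,1,2,1])) (.node (.leaf [1,0,2,1,3,1,0,1,0]) (.leaf [0,1,0,3,1,0,1,2,1,0]))) (.node (.node (.leaf [0,1,0,1,0,1,0,2,1,0,3,1,2]) (.leaf [1,2,1,0,1,3,1,0,1,3])) (.node (.leaf [3,1,0,1,0,1,2,1,3,1,0,2]) (.leaf []))))) (.node (.node (.node (.node (.leaf [0,2,1,0,1,0,2,3,1]) (.leaf [1,3,1,0,1,0,1,0,2,3,1]))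 (.node (.leaf [1,0,1,2,1,0,3,1,0]) (.leaf [3,1,0,1,0,1,3,1,0,1,2,3,1]))) (.node (.node (.leaf [0,1,0,1,0,2,1,3,1]) (.leaf [0,2,1,0,3,1,0,2,1,0,1,0,1])) (.node (.leaf [1,0,1,2,1,3,1,0,2,1,0,1,0,1]) (.leaf [0,1,2,1,0,3,1,0,1,0,1,3,1])))) (.node (.node (.node (.leaf [0,1,2,1,0,1,2,3,1,2]) (.leaf [0,2,1,3,1,0,2,1,0,1,0,2])) (.node (.leaf [1,0,1,0,1,2,3,1,0,1,3]) (.leaf [2,1,0,1,3,1,0,1,2,1,3]))) (.node (.node (.leaf [1,0,2,1,0,3,1,0,1,0,1]) (.leaf [2,1,0,1,0,3,1,0,1,0,2,1])) (.node (.leaf [1,0,1,2,1,0,3,1,0,2]) (.leaf [])))))) (.node (.node (.node (.node (.node (.leaf [0,1,0,2,1,0,1,3]) (.leaf [1,2,1,0,1,0,3,1,0,1,2])) (.node (.leaf [1,3,1,0,1,0,1,0,2,1,0,3]) (.leaf [1,0,1,0,1,2,3,1,0,1,2,1,0]))) (.node (.node (.leaf [2,1,0,1,0,1,0,2,3,1,0,1,3]) (.leaf [0,2,1,0,3,1,0,2,1,0,1])) (.node (.leaf [0,1,0,1,0,1,0,2,1,3,1,0,2,1]) (.leaf [2,1,3,1,0,1,0,3,1,0,1,2,3])))) (.node (.node (.node (.leaf [1,0,1,0,2,1,0,3,1,0])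 (.leaf [1,2,1,0,3,1,0,1,0,2,3])) (.node (.leaf [0,3,1,0,1,2,3,1,0,1]) (.leaf [1,0,1,3,1,0,2,1,0,1,0]))) (.node (.node (.leaf [0,1,0,1,2,3,1,0,1,2,1,0,3]) (.leaf [0,3,1,0,2,1,0,1,0,1,0,3])) (.node (.leaf [0,1,3,1,0,1,0,1,2,3,1,0,2]) (.leaf []))))) (.node (.node (.node (.node (.leaf [2,1,0,1,0,1,0,2,3,1,0]) (.leaf [0,1,0,1,2,3,1,0,1,0,2,1,3,1,2])) (.node (.leaf [0,3,1,0,1,0,3,1]) (.leaf [0,2,1,3,1,0,2,1,0,1,3]))) (.node (.node (.leaf [0,1,2,1,0,1,2,3,1,0,1]) (.leaf [1,2,3,1,0,1,0,3,1,0,2])) (.node (.leaf [3,1,0,1,0,1,0,2,3,1,0]) (.leaf [0,1,3,1,0,1,0,2,3,1,2])))) (.node (.node (.node (.leaf [1,0,1,0,1,2,1,3,1]) (.leaf [1,0,2,1,0,1,0,1,3,1,0,1,2,1])) (.node (.leaf [1,2,1,0,3,1,0,1,0,3]) (.leaf [0,1,2,1,0,3,1,0,1,0,3,1,0,2]))) (.node (.node (.leaf [0,2,1,0,1,0,2,3,1,0,1,0,1,3]) (.leaf [0,3,1,0,1,0,3,1,0,1,2,3,1,0])) (.node (.leaf [0,3,1,0,1,0,3,1,0]) (.leaf []))))))))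

def lI_9 : CfsgLib.Coset.Tr (List Nat) := (.node (.node (.node (.node (.node (.node (.node (.leaf [1,0,2]) (.leaf [0,2,1,0,3,1,0,2,1,0,3])) (.node (.leaf [1,2,3,1,0,1,0,1,2,3,1,0]) (.leaf [0,1,0,2,1,0,3,1,0,1,0,1,3,1,0]))) (.node (.node (.leaf [0,2,1,0,1,0,1,2,3,1,0]) (.leaf [0,3,1,0,1,0,3,1,0,1,0,2,3,1,0])) (.node (.leaf [3,1,0,1,2,1,3,1,0,1,0]) (.leaf [0,1,2,1,3,1,0,1,0,2,3,1])))) (.node (.node (.node (.leaf [1,0,2,1,0,3]) (.leaf [0,3,1,0,1,2,3])) (.node (.leaf [2,1,0,1,0,2,3,1,0,1]) (.leaf [0,1,2,1,0,3,1,0,2,1,0,3,1]))) (.node (.node (.leaf [1,0,1,0,2,3,1,0]) (.leaf [0,1,0,3,1,0,1,0,1,0,2])) (.node (.leaf [1,0,2,3,1,0,1,2,1,3]) (.leaf []))))) (.node (.node (.node (.node (.leaf [1,0,2,1,0,1,0,2,3]) (.leaf [0,2,1,0,1,2,3,1,0,1,0,2,1])) (.node (.leaf [0,3,1,0,1,2,3,1,0,1,0,1]) (.leaf [1,0,1,0,3,1,0,2,1,0,3]))) (.node (.node (.leaf [0,1,2,1,0,1,3,1,2]) (.leaf [3,1,0,1,0,1,2,3,1,0,1,2,1])) (.node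 (.leaf [1,0,1,3,1,0,1,2,3]) (.leaf [1,0,1,2,3,1,0,1,0,1,2,3,1,2])))) (.node (.node (.node (.leaf [1,3,1,0,1,0,1,0,1,2]) (.leaf [0,1,0,1,0,2,1,3,1,0,2,1,0,3])) (.node (.leaf [3,1,0,2,1,0,1,3,1,2]) (.leaf [0,1,0,3,1,0,1,0,3,1,0,1,2,1]))) (.node (.node (.leaf [0,1,0,1,0,1,0,2,1,3,1,0,2]) (.leaf [0,2,1,3,1,0,1,0,2,3])) (.node (.leaf [0,1,0,1,0,1,2,3,1,0,1]) (.leaf [])))))) (.node (.node (.node (.node (.node (.leaf [1,2,1,0,1,0,1,0,1]) (.leaf [1,0,1,2,1,3,1,0,1,0])) (.node (.leaf [1,0,3,1,0,2,1,0,1,3,1,0,1,3]) (.leaf [1,0,1,0,3,1,0,1,0,2,1]))) (.node (.node (.leaf [0,1,0,2,1,0,3,1,0,1,2]) (.leaf [1,0,1,3,1,0,1,2,3,1])) (.node (.leaf [1,0,2,1,0,1,0,1,3,1,0,1,2]) (.leaf [1,0,1,2,1,3,1,0,1,0,3,1])))) (.node (.node (.node (.leaf [2,1,0,1,0,2,1,3,1]) (.leaf [0,2,1,3,1,0,2,1,3])) (.node (.leaf [0,2,1,0,1,0,2,3,1,0,1,0,3]) (.leaf [1,2,1,0,1,3,1,0,1,2,3,1]))) (.node (.node (.leaf [0,1,0,2,3,1,0,1,0,3,1,0,2,1])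 (.leaf [3,1,0,1,0,2,1,3,1,0,2])) (.node (.leaf [1,0,2,3,1,0,1,0,3,1,2]) (.leaf []))))) (.node (.node (.node (.node (.leaf [1,0,1,0,2,1,0,3,1]) (.leaf [3,1,0,1,0,3,1,0,1,2,1,3,1])) (.node (.leaf [1,0,1,2,1,0,1,3,1,0,2]) (.leaf [1,0,1,3,1,0,1,0,2,1,3]))) (.node (.node (.leaf [2,1,0,1,0,2,3,1,0]) (.leaf [3,1,0,1,0,1,0,2,1,3,1,0,2])) (.node (.leaf [1,2,3,1,0,1,0,1,3,1]) (.leaf [2,3,1,0,1,2,1,0,3,1,0,1])))) (.node (.node (.node (.leaf [1,0,2,1,3,1,0]) (.leaf [0,1,0,3,1,0,2,1,0,3,1,2])) (.node (.leaf [3,1,0,1,0,3,1,0,2,1,3]) (.leaf [0,2,1,3,1,0,1,2,1,0,3,1]))) (.node (.node (.leaf [0,2,1,0,1,2,3,1,0,1,0,1,2]) (.leaf [0,3,1,0,1,0,1,3,1,0,1,2,3,1])) (.node (.leaf [1,0,1,2,1,0,3,1,0,2,1]) (.leaf []))))))) (.node (.node (.node (.node (.node (.node (.leaf [1,0,2,1,0,1,0,2]) (.leaf [3,1,0,1,2,1,0,1,3])) (.node (.leaf [1,3,1,0,1,0,1,0,1,2,1,3]) (.leaf [1,0,1,0,1,2,1,3,1,0,1,0,3]))) (.node (.node (.leaf [1,0,2,1,0,3,1,0,1,0,1,0])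 (.leaf [0,1,0,2,3,1,0,1,0,3,1,0,1,0])) (.node (.leaf [0,1,0,1,0,2,3,1,0,1,0,1,2,3]) (.leaf [0,1,2,1,3,1,0,2,1,0,1,0,3])))) (.node (.node (.node (.leaf [0,2,1,0,1,0,2,3,1,0]) (.leaf [1,0,1,0,1,3,1,0,2,1,3])) (.node (.leaf [0,1,2,1,0,1,2,3,1,0,1,2]) (.leaf [0,1,0,3,1,0,1,0,2,3,1]))) (.node (.node (.leaf [0,1,0,2,1,0,1,0,3,1,0,1]) (.leaf [3,1,0,1,2,1,0,1,3,1,0,2,1])) (.node (.leaf [2,1,0,1,0,2,3,1,0,2,1]) (.leaf []))))) (.node (.node (.node (.node (.leaf [0,1,0,1,0,1,0,2,1,0]) (.leaf [1,0,1,2,1,3,1,0,1,0,1])) (.node (.leaf [0,1,2,1,3,1,0,1,2,1,0,3,1,2]) (.leaf [2,1,0,3,1,0,1,2,1,3,1]))) (.node (.node (.leaf [1,0,2,1,0,3,1,0]) (.leaf [1,0,1,2,1,3,1,0,2,1,3])) (.node (.leaf [1,0,1,3,1,0,2,1,3]) (.leaf [0,1,3,1,0,1,0,1,3,1,0,1,2,1])))) (.node (.node (.node (.leaf [0,1,0,1,0,1,3,1]) (.leaf [0,2,1,0,3,1,0,1,0,2,1])) (.node (.leaf [1,0,1,0,1,2,1,3,1,0,2,1]) (.leaf [1,2,3,1,0,1,0,3,1,0,2,1]))) (.node (.node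 (.leaf [2,1,0,3,1,0,2,1,0,1,3,1,0]) (.leaf [1,0,1,2,1,3,1,0,1,0,2])) (.node (.leaf [0,1,0,1,0,2,3,1,0,1,2]) (.leaf [])))))) (.node (.node (.node (.node (.node (.leaf [2,1,0,1,0,1,2,3,1]) (.leaf [0,2,3,1,0,1,0,3,1,0,1,2,3,1])) (.node (.leaf [1,2,3,1,0,1,0,1,2,3,1]) (.leaf [0,2,1,3,1,0,1,2,1,3]))) (.node (.node (.leaf [0,2,1,0,1,0,2,3,1,0,2,1]) (.leaf [0,1,3,1,0,1,0,3,1,0,1,2,1,3])) (.node (.leaf [0,1,0,2,3,1,0,1,0,3,1,0,1,0,3]) (.leaf [0,1,2,1,3,1,0,1,0,2,3])))) (.node (.node (.node (.leaf [2,1,0,1,0,1,0,2,1,3,1,2]) (.leaf [3,1,0,1,0,1,2,3,1,0,2,1])) (.node (.leaf [1,0,1,0,1,2,1,3,1,0,2]) (.leaf [2,1,3,1,0,1,0,1,0,2,1,3,1,2]))) (.node (.node (.leaf [0,1,0,2,3,1,0,1,0,3,1,2]) (.leaf [0,1,3,1,0,2,1,0,1,0,1,0,3])) (.node (.leaf [0,1,3,1,0,1,0,3,1,0,2,1,3]) (.leaf []))))) (.node (.node (.node (.node (.leaf [1,0,2,1,0,1,0,2,1,3,1,2]) (.leaf [0,2,1,3,1,0,1,0,2])) (.node (.leaf [0,3,1,0,2,1,0,3,1,0,1,0,3,1,0])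 (.leaf [0,3,1,0,2,1,0,3,1,2]))) (.node (.node (.leaf [1,0,2,3,1,0,1,0]) (.leaf [0,1,3,1,0,1,0,1,2,3,1,2])) (.node (.leaf [1,3,1,0,1,0,1,2,1,3]) (.leaf [0,1,0,3,1,0,1,0,3,1,0,2,1,0,3])))) (.node (.node (.node (.leaf [1,0,2,1,3,1,0,1,0,1,0,1]) (.leaf [1,0,2,1,3,1,0,2,1,0,1,0,1])) (.node (.leaf [0,1,3,1,0,1,2,1,3,1,0,1]) (.leaf [0,3,1,0,2,1,0,3,1,0]))) (.node (.node (.leaf [1,0,3,1,0,2,1,0,3,1,0]) (.leaf [1,2,1,0,1,3,1,0,1,0,3,1,0,1])) (.node (.leaf [1,2,1,3,1,0,1,0,3,1,0,2]) (.leaf []))))))))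

def lI_10 : CfsgLib.Coset.Tr (List Nat) := (.node (.node (.node (.node (.node (.node (.node (.leaf [2,1,0,1,0,1,0,2]) (.leaf [1,0,1,3,1,0,1,2,1,3])) (.node (.leaf [1,0,3,1,0,1,0,2,3,1,0]) (.leaf [1,0,2,1,3,1,0,1,2,3,1]))) (.node (.node (.leaf [1,2,1,0,3,1,0,1,0,3,1,2]) (.leaf [3,1,0,1,0,3,1,0,1,2,3,1])) (.node (.leaf [1,0,2,1,3,1,0,1,2,1,0]) (.leaf [0,1,2,1,3,1,0,1,0,2,1,3])))) (.node (.node (.node (.leaf [0,1,0,1,0,1,3]) (.leaf [0,2,1,0,1,0,1,0,3,1,0,1,2,1])) (.node (.leaf [0,1,2,1,0,1,2,3,1,0,1,0,3]) (.leaf [0,1,2,1,0,3,1,0,1,0,2,3]))) (.node (.node (.leaf [0,2,1,0,1,2,3,1,0,1,3]) (.leaf [2,3,1,0,2,1,0,3,1,0,1,0,2])) (.node (.leaf [0,1,0,1,2,1,3,1,0,1,2,1,3]) (.leaf []))))) (.node (.node (.node (.node (.leaf [0,1,2,1,0,1]) (.leaf [0,1,0,1,2,1,3,1,0,2,1,0,1,3])) (.node (.leaf [1,3,1,0,1,0,2,1,0,3,1,2]) (.leaf [1,0,1,0,3,1,0,2,1,0,1]))) (.node (.node (.leaf [1,0,2,1,0,1,0,3,1,2]) (.leaf [0,1,2,1,0,3,1,0,1,2,1,3,1]))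 (.node (.leaf [1,0,1,3,1,0,1,2,1]) (.leaf [1,0,1,0,3,1,0,1,2,1,0,3])))) (.node (.node (.node (.leaf [1,2,3,1,0,1,0,1,0,1,2]) (.leaf [0,1,0,3,1,0,1,0,1,0,2,1,3])) (.node (.leaf [0,1,0,2,1,0,1,0,3,1,0,1,0]) (.leaf [0,2,1,0,3,1,0,2,1,0,1,0,1,3]))) (.node (.node (.leaf [0,1,0,1,0,1,0,2,1,3,1,0,1]) (.leaf [1,2,1,3,1,0,1,0,1,2,3])) (.node (.leaf [2,3,1,0,2,1,0,3,1,0,1,0,2,3]) (.leaf [])))))) (.node (.node (.node (.node (.node (.leaf [1,0,1,0]) (.leaf [0,1,3,1,0,2,1,0,3,1])) (.node (.leaf [1,2,1,0,1,0,3,1,0,2]) (.leaf [2,1,0,1,0,3,1,0,1,0,1,2,1]))) (.node (.node (.leaf [1,2,3,1,0,1,0,1]) (.leaf [0,2,1,3,1,0,2,1,0,1,0,1])) (.node (.leaf [0,2,1,0,1,0,1,2,3,1,0,1,2]) (.leaf [1,2,1,0,1,0,3,1,0,1,0,2,3])))) (.node (.node (.node (.leaf [1,0,1,0,2,1,3,1]) (.leaf [0,1,2,3,1,0,2,1,3])) (.node (.leaf [0,2,1,0,1,2,3,1,0,1,0,2]) (.leaf [2,3,1,0,1,0,3,1,0,1,2,1,3]))) (.node (.node (.leaf [3,1,0,1,0,1,3,1,0,2]) (.leaf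 [2,1,0,1,3,1,0,1,2,3])) (.node (.leaf [0,3,1,0,1,0,2,3,1,0,1,2,1]) (.leaf []))))) (.node (.node (.node (.node (.leaf [0,1,0,1,0,1,0,2,1,3]) (.leaf [1,2,1,3,1,0,1,0,1,0,3,1])) (.node (.leaf [0,1,0,1,0,1,3,1,0,2]) (.leaf [1,0,1,2,3,1,0,1,0,2,1,3]))) (.node (.node (.leaf [1,2,1,3,1,0,1,0,1,3,1,2]) (.leaf [2,3,1,0,1,0,1,0,2,1,3,1,0])) (.node (.leaf [0,3,1,0,1,0,2,3,1,0,1,0,1]) (.leaf [0,1,0,3,1,0,1,0,3,1,0,1,0,2])))) (.node (.node (.node (.leaf [1,0,2,1,0,1,0,2,3,1,0]) (.leaf [1,0,1,2,3,1,0,1,0,2])) (.node (.leaf [3,1,0,1,0,1,3,1,0,1,2,1,3]) (.leaf [1,0,1,0,3,1,0,1,2,1,0,3,1]))) (.node (.node (.leaf [1,2,3,1,0,1,0,1,2,3,1,0,1,3]) (.leaf [1,0,1,2,1,3,1,0,1,2,3])) (.node (.leaf [3,1,0,1,0,2,1,3,1,0]) (.leaf []))))))) (.node (.node (.node (.node (.node (.node (.leaf [0,1,0,1,0,1,0,1,2,3]) (.leaf [0,1,2,1,3,1,0,1,2,1,0,3])) (.node (.leaf [1,0,2,3,1,0,1,2,1]) (.leaf [0,1,3,1,0,2,1,0,1,0,3,1]))) (.node (.node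 (.leaf [1,0,1,3,1,0,1]) (.leaf [1,2,1,0,3,1,0,1,0,3,1,0,1,0])) (.node (.leaf [2,1,0,3,1,0,2,1,0,1,3,1]) (.leaf [0,1,3,1,0,1,0,2,1])))) (.node (.node (.node (.leaf [1,0,2,1,3,1]) (.leaf [0,1,3,1,0,1,2,1,3])) (.node (.leaf [0,1,0,1,0,1,0,3,1,0,1,2]) (.leaf [1,0,1,2,3,1,0,1,0,2,1,3,1,2]))) (.node (.node (.leaf [2,1,0,3,1,0,1,2,1,0,3,1,2]) (.leaf [0,3,1,0,1,0,1,3,1,0,1,2,1,3,1])) (.node (.leaf [0,1,2,1,0,1,2,3,1,0,1,2,1]) (.leaf []))))) (.node (.node (.node (.node (.leaf [1,0,1,0,1,2,1]) (.leaf [0,3,1,0,1,2,3,1,0])) (.node (.leaf [1,0,2,1,0,1,3,1,2]) (.leaf [1,0,1,3,1,0,1,2,1,3,1,0]))) (.node (.node (.leaf [1,0,1,2,1,0,3,1]) (.leaf [0,1,0,1,0,1,0,2,3,1,0,1,2,1])) (.node (.leaf [1,0,3,1,0,1,0,2,3,1,0,1]) (.leaf [1,2,1,0,1,3,1,0,1,0,3,1])))) (.node (.node (.node (.leaf [0,1,2,1,0,1,0,3]) (.leaf [2,1,0,1,3,1,0,1,0,1,2,1])) (.node (.leaf [3,1,0,2,1,0,3,1,0,2]) (.leaf [0,1,0,3,1,0,1,0,2,3,1,2]))) (.node (.node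 (.leaf [1,0,1,3,1,0,1,2]) (.leaf [0,2,1,3,1,0,1,0,1,2,1])) (.node (.leaf [0,1,2,3,1,0,1,0,1,3,1,0]) (.leaf [])))))) (.node (.node (.node (.node (.node (.leaf [0,1,0,1,0,1,0,1,2,1,3]) (.leaf [1,0,1,2,1,3,1,0,1,3])) (.node (.leaf [0,1,0,2,1,3,1,0,2,1,0,1,0,1,3]) (.leaf [0,2,1,3,1,0,1,2,1,0]))) (.node (.node (.leaf [1,0,3,1,0,2,1]) (.leaf [0,2,3,1,0,1,0,3,1,0,1,2,1,3])) (.node (.leaf [0,1,2,1,0,3,1,0,2,1]) (.leaf [0,1,3,1,0,1,2,3,1])))) (.node (.node (.node (.leaf [0,1,0,2,1,0,1,3,1,2]) (.leaf [0,2,1,0,3,1,0,1,0,1,2,3])) (.node (.leaf [1,0,1,0,2,3,1,0,1]) (.leaf [0,2,1,3,1,0,1,2,1,3,1]))) (.node (.node (.leaf [0,2,1,0,3,1,0,1,0,1,2,3,1,2]) (.leaf [2,1,0,1,3,1,0,2,1,0])) (.node (.leaf [1,0,2,3,1,0,1,0,1,3,1,0,2]) (.leaf []))))) (.node (.node (.node (.node (.leaf [1,0,3,1,2]) (.leaf [0,2,1,0,3,1,0,2,1,0,1,3,1])) (.node (.leaf [3,1,0,1,2,1,0,3,1,2]) (.leaf [0,1,2,3,1,0,2,1,0,1,3,1]))) (.node (.node (.leaf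 [0,1,0,1,2,1,3,1,0,1,0]) (.leaf [0,1,0,3,1,0,1,0,1,3,1,0,2,1,3])) (.node (.leaf [1,3,1,0,1,0,2,1,0,3]) (.leaf [0,1,2,1,3,1,0,1,0,3,1,2])))) (.node (.node (.node (.leaf [0,1,0,1,0,1,0,2,1,0,3,1]) (.leaf [0,1,0,3,1,0,2,1,0,3,1,0])) (.node (.leaf [1,3,1,0,1,0,1,2,3,1,0,1,2]) (.leaf [2,1,3,1,0,1,0,3,1,0,2,1]))) (.node (.node (.leaf [0,1,0,2,1,0,3,1,0,1,2,1]) (.leaf [0,1,2,3,1,0,1,0,3,1,0,1,0])) (.node (.leaf [1,2,1,3,1,0,1,0,1,3,1,0]) (.leaf []))))))))

def lI_11 : CfsgLib.Coset.Tr (List Nat) := (.node (.node (.node (.node (.node (.node (.node (.leaf [0,1,0,2,1,0,1]) (.leaf [1,0,1,3,1,0,2,1,0,3])) (.node (.leaf [1,3,1,0,2,1,0,1,0,2,1]) (.leaf [1,3,1,0,1,0,1,0,2,3,1,0]))) (.node (.node (.leaf [1,0,1,2,3,1,0]) (.leaf [2,3,1,0,1,0,3,1,0,1,2,3,1])) (.node (.leaf [0,2,1,3,1,0,2,1,0,1,0,2,1]) (.leaf [1,0,1,0,2,3,1,0,1,0,2,3,1])))) (.node (.node (.node (.leaf [0,1,2,1,0,1,3]) (.leaf [1,0,1,0,1,3,1,0,1,2,1]))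 (.node (.leaf [0,1,0,1,0,1,0,2,3,1,0,1]) (.leaf [0,1,0,3,1,0,1,2,1,0,3,1,2]))) (.node (.node (.leaf [1,0,1,0,1,2,1,3,1,2]) (.leaf [0,1,0,1,0,1,2,3,1,0,1,2])) (.node (.leaf [0,1,2,1,0,1,2,3,1,0,2,1,3]) (.leaf []))))) (.node (.node (.node (.node (.leaf [1,0,2,1,3]) (.leaf [1,0,2,3,1,0,1,0,3,1])) (.node (.leaf [0,1,0,1,0,2,1,3,1,0]) (.leaf [1,0,1,2,3,1,0,1,0,1,2,3,1]))) (.node (.node (.leaf [1,0,3,1,0,1,2,1,0,3]) (.leaf [1,0,1,2,1,3,1,0,2,1,0])) (.node (.leaf [1,2,3,1,0,1,0,1,0,3,1,2]) (.leaf [0,2,1,3,1,0,2,1,0,3,1])))) (.node (.node (.node (.leaf [1,0,2,1,0,1,0,2,3,1,2]) (.leaf [0,3,1,0,2,1,0,1,0,1,3])) (.node (.leaf [1,0,1,0,3,1,0,1,2]) (.leaf [0,1,0,1,0,1,3,1,0,1,2,1,3]))) (.node (.node (.leaf [1,0,1,2,3,1,0,2]) (.leaf [0,1,3,1,0,2,1,0,3])) (.node (.leaf [0,1,0,1,0,2,1,3,1,0,2]) (.leaf [])))))) (.node (.node (.node (.node (.node (.leaf [0,1,0,2,1,0,1,0,1,0]) (.leaf [2,1,0,1,0,2,3,1,0,1,2])) (.node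 (.leaf [1,2,3,1,0,1,0,1,0,2,1,3]) (.leaf [1,0,1,0,3,1,0,1,0,1,2,1,3]))) (.node (.node (.leaf [1,0,3,1,0,2,1,0,3,1,0,2]) (.leaf [0,3,1,0,2,1,0,3,1,0,1,0])) (.node (.leaf [0,1,0,3,1,0,2,1,0,3,1,0,2]) (.leaf [0,1,2,1,0,3,1,0,1,0,3,1,0,1,3])))) (.node (.node (.node (.leaf [0,1,0,1,0,1,0,2,1,3,1]) (.leaf [3,1,0,1,0,1,3,1,0,1,2,1,3,1])) (.node (.leaf [0,1,0,1,2,1,3,1,0,1,2,3]) (.leaf [2,1,0,3,1,0,1,2,3,1]))) (.node (.node (.leaf [1,2,1,3,1,0,1,2,1,0,3,1,2]) (.leaf [0,1,0,1,0,3,1,0,2,1,3])) (.node (.leaf [0,1,3,1,0,1,0,3,1,0,2,1,0]) (.leaf []))))) (.node (.node (.node (.node (.leaf [0,1,0,2,1,0,3,1,0]) (.leaf [1,2,1,0,3,1,0,1,0,3,1,0,1,2])) (.node (.leaf [0,1,2,3,1,0,1,0,3,1,0,2]) (.leaf [0,1,0,3,1,0,1,0,1,2,1]))) (.node (.node (.leaf [0,1,0,1,0,1,0,2,3,1,0]) (.leaf [0,1,0,3,1,0,1,0,2,3,1,0,2])) (.node (.leaf [1,0,3,1,0,1,2,3,1]) (.leaf [2,1,0,3,1,0,1,0,1,3,1,0,2,1])))) (.node (.node (.node (.leaf [0,2,1,0,1,0,2,3,1,0,1])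 (.leaf [0,1,0,3,1,0,2,1,0,1,3,1,0,1])) (.node (.leaf [0,3,1,0,2,1,0,1,0,1,2,3,1,0]) (.leaf [0,1,2,3,1,0,1,2,1,0,3,1,0,2]))) (.node (.node (.leaf [1,0,3,1,0,2,1,0,3,1,2]) (.leaf [3,1,0,1,2,1,0,1,3,1,0,2,1,3])) (.node (.leaf [2,3,1,0,1,0,1,0,1,2,3,1]) (.leaf []))))))) (.node (.node (.node (.node (.node (.node (.leaf [1,0,2,1]) (.leaf [0,1,2,1,0,1,2,3,1,0,1,0,2])) (.node (.leaf [0,2,1,0,1,0,2,1,3,1,0,2,1]) (.leaf [1,2,1,0,1,0,3,1,0,1,0,1,3]))) (.node (.node (.leaf [1,0,1,0,2,1,0,3,1,0,2]) (.leaf [1,2,1,0,1,2,3,1,0,1,0,2])) (.node (.leaf [1,0,2,1,0,3,1,0,1,0,1,2,3]) (.leaf [0,2,1,3,1,0,1,0,2,1,0])))) (.node (.node (.node (.leaf [1,0,1,0,1,2,1,3]) (.leaf [0,2,3,1,0,2,1,3])) (.node (.leaf [0,2,3,1,0,2,1,0,3,1,0,2]) (.leaf [1,2,3,1,0,1,0,3,1,0,1,2,3,1]))) (.node (.node (.leaf [0,1,0,2,1,0,1,0,1,2,3,1,0,1]) (.leaf [0,2,3,1,0,1,0,2,1,3,1,0,2])) (.node (.leaf [0,1,0,1,2,1,3,1,0,1,0,2,3]) (.leaf []))))) (.node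 (.node (.node (.node (.leaf [1,0,1,0,2,1,3]) (.leaf [0,1,3,1,0,1,2])) (.node (.leaf [3,1,0,1,2,1,0,1,3,1,2]) (.leaf [0,2,1,3,1,0,2,1,0,1,0,2,3]))) (.node (.node (.leaf [0,1,0,1,0,1,3,1,2]) (.leaf [2,3,1,0,1,0,2,3,1,0,1])) (.node (.leaf [1,3,1,0,1,0,2,1,0]) (.leaf [0,1,2,1,0,3,1,0,1,0,3,1,2])))) (.node (.node (.node (.leaf [1,0,1,2,1,0,1,3,1]) (.leaf [1,0,1,2,1,0,3,1,0,1,0])) (.node (.leaf [1,0,1,0,1,2,3,1,0,2,1]) (.leaf [0,1,0,3,1,0,1,0,3,1,0,2,1,3]))) (.node (.node (.leaf [1,0,1,0,2,1,0,3,1,0,1,3]) (.leaf [0,1,2,1,3,1,0,1,0,1,3])) (.node (.leaf [0,2,1,0,3,1,0,1,0,1,0,2]) (.leaf [])))))) (.node (.node (.node (.node (.node (.leaf [0,1,0,1,0,1]) (.leaf [0,1,3,1,0,1,0,3,1,0,1,2,3,1])) (.node (.leaf [1,0,3,1,0,1,2,1,0,3,1]) (.leaf [1,3,1,0,1,0,1,0,2,1,3,1,0,2]))) (.node (.node (.leaf [1,0,2,3,1,0,2,1]) (.leaf [0,3,1,0,2,1,0,3,1,0,1,2])) (.node (.leaf [1,0,2,1,0,1,2,3,1,0,1,0]) (.leaf [1,0,1,0,2,3,1,0,1,0,2,3]))))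 (.node (.node (.node (.leaf [2,1,0,1,0,1,2,3,1,0,1]) (.leaf [3,1,0,1,0,2,1,3,1,2])) (.node (.leaf [0,1,0,1,0,1,0,2,1,0,3,1,0,2]) (.leaf [2,1,0,1,3,1,0,1,2,1,0,1]))) (.node (.node (.leaf [0,1,0,2,3,1,0,1,0,3]) (.leaf [0,3,1,0,2,1,0,1,0,1,0,3,1])) (.node (.leaf [0,1,2,1,0,3,1,0,1,2,3,1]) (.leaf []))))) (.node (.node (.node (.node (.leaf [1,0,2,3,1,2]) (.leaf [0,1,2,1,3,1,0,2,1,0])) (.node (.leaf [0,1,2,1,3,1,0,1,2,1,0,3,1]) (.leaf [1,2,1,0,1,3,1,0,1,0,3]))) (.node (.node (.leaf [1,3,1,0,2,1,0,1,2,3,1,0]) (.leaf [1,0,1,0,3,1,0,1,2,1,0,3,1,0])) (.node (.leaf [1,3,1,0,2,1,0,1,2]) (.leaf [0,1,0,1,3,1,0,1,0,3,1,0,1,2])))) (.node (.node (.node (.leaf [1,0,1,0,3,1,2]) (.leaf [0,1,2,1,0,3,1,0,2,1,0])) (.node (.leaf [2,1,0,1,0,3,1,0,2,1,0,3]) (.leaf [0,1,0,1,3,1,0,1,2,1,0,1]))) (.node (.node (.leaf [3,1,0,1,0,1,0,2,3,1,0,1]) (.leaf [1,3,1,0,1,2,1,0,3,1,0,2,1])) (.node (.leaf [0,3,1,0,1,0,3]) (.leaf []))))))))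

def lI_12 : CfsgLib.Coset.Tr (List Nat) := (.node (.node (.node (.node (.node (.node (.node (.leaf [0,1,0,1,0,1,0,1,2]) (.leaf [1,0,3,1,0,1,0,2,3,1,0,1,2])) (.node (.leaf [1,0,3,1,0,2,1,0,1,0,1]) (.leaf [0,1,3,1,0,1,2,3,1,0]))) (.node (.node (.leaf [3,1,0,1,0,1,3,1,2]) (.leaf [0,2,3,1,0,1,0,1,2,3,1,0,1])) (.node (.leaf [0,1,0,1,0,1,0,3,1,0,1,2,1,0]) (.leaf [0,1,3,1,0,2,1,0,1,0])))) (.node (.node (.node (.leaf [1,0,1,2,1,0]) (.leaf [3,1,0,1,0,2,1,0,3,1,0,2])) (.node (.leaf [0,1,2,3,1,0,1,0,1,3]) (.leaf [1,0,1,2,3,1,0,1,0,2,1]))) (.node (.node (.leaf [0,2,1,0,1,0,2,3,1,0,1,3]) (.leaf [2,3,1,0,2,1,0,3,1,0,1,2])) (.node (.leaf [0,2,1,0,1,2,3,1,0,1,2,1,0]) (.leaf []))))) (.node (.node (.node (.node (.leaf [0,1,0,1,0,2,1,0]) (.leaf [1,0,2,1,3,1,0,1,2,3])) (.node (.leaf [1,0,3,1,0,1,2,1,0]) (.leaf [0,1,2,3,1,0,2,1,0,1]))) (.node (.node (.leaf [0,1,2,1,0,1,2,3,1,0,2]) (.leaf [0,1,0,3,1,0,1,0,2,3,1,0,2,1]))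 (.node (.leaf [0,3,1,0,1,0,2,1,3,1,0,2]) (.leaf [1,2,1,0,1,0,3,1,0,1,0,1,3,1])))) (.node (.node (.node (.leaf [1,0,3,1,0,2]) (.leaf [0,2,3,1,0,1,0,2,3,1,0,1,2])) (.node (.leaf [0,3,1,0,2,1,0,1,0,1,2,3,1,0,2]) (.leaf [0,1,3,1,0,1,0,1,2,3,1]))) (.node (.node (.leaf [0,2,1,0,1,0,1,2,3,1,0,1]) (.leaf [1,2,1,3,1,0,1,0,1,3,1,0,1])) (.node (.leaf [2,3,1,0,2,1,0,3,1,0,1,2,3]) (.leaf [])))))) (.node (.node (.node (.node (.node (.leaf [0,2,1,0,1,2,3]) (.leaf [0,2,3,1,0,2,1,0,3,1])) (.node (.leaf [1,0,1,2,1,3,1,0,2]) (.leaf [0,1,3,1,0,2,1,0,1,0,1,3,1,0]))) (.node (.node (.leaf [0,2,1,0,1,2,3,1,0,1,0,1]) (.leaf [1,2,1,0,1,3,1,0,2,1,0])) (.node (.leaf [1,0,1,2,3,1,0,1,0]) (.leaf [1,0,1,2,1,3,1,0,1,0,2,3])))) (.node (.node (.node (.leaf [1,0,1,0,3,1]) (.leaf [1,0,1,3,1,0,1,0,2,1,0,3,1])) (.node (.leaf [0,2,1,0,1,0,2,3,1,0,1,0,2]) (.leaf [0,1,2,1,3,1,0,1,0,3,1,0]))) (.node (.node (.leaf [0,1,0,2,1,0,1,0,1,2,3,1,0,2])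 (.leaf [3,1,0,1,0,1,0,2,3])) (.node (.leaf [1,0,3,1,0,2,1,0,3,1,0,1,3]) (.leaf []))))) (.node (.node (.node (.node (.leaf [0,1,0,2,1,0,1,0,1,0,3]) (.leaf [0,1,3,1,0,1,3])) (.node (.leaf [1,0,1,2,1,0,1,3,1,0,1]) (.leaf [1,0,1,2,3,1,0,2,1,0,1]))) (.node (.node (.leaf [0,3,1,0,1,0,3,1,2]) (.leaf [2,1,0,1,3,1,0,1,2,1,3,1])) (.node (.leaf [0,1,0,2,1,0,3,1,0,1,0,2,3]) (.leaf [0,1,2,1,3,1,0,1,0,1,3,1,0,1])))) (.node (.node (.node (.leaf [1,0,1,2,1,3,1]) (.leaf [0,1,0,3,1,0,2,1,0,1,3,1])) (.node (.leaf [3,1,0,1,0,1,3,1,0]) (.leaf [1,0,1,0,2,3,1,0,1,0,1,3,1,2]))) (.node (.node (.leaf [1,0,1,3,1,0,2,1]) (.leaf [0,1,3,1,0,1,0,1,0,2,3])) (.node (.leaf [0,1,0,1,0,1,2,1,3,1,0,1,3]) (.leaf []))))))) (.node (.node (.node (.node (.node (.node (.leaf [1,0,1,0,1,0,2,1,3]) (.leaf [1,0,1,2,1,3,1,0,2,1,0,1,0,1,2])) (.node (.leaf [1,3,1,0,2,1,0,1,2,3,1,0,1]) (.leaf [0,1,3,1,0,1,0,2]))) (.node (.node (.leaf [0,1,0,2,1,0,1,0,1,0,3,1,2])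 (.leaf [2,3,1,0,1,0,3,1,0,1,2,1,3,1])) (.node (.leaf [1,0,1,3,1,0,1,0,2]) (.leaf [1,2,1,3,1,0,1,0,1,3,1,0,1,3])))) (.node (.node (.node (.leaf [0,2,1,0,1,0,2,1,3,1]) (.leaf [2,3,1,0,1,0,1,2,3,1,0,1,2])) (.node (.leaf [3,1,0,2,1,0,1,2,3,1,2]) (.leaf [0,1,0,3,1,0,1,0,2,1,3,1,2]))) (.node (.node (.leaf [3,1,0,1,0,3,1,0,1,2,1,0,3]) (.leaf [1,0,1,2,1,0,3,1,0,1,3])) (.node (.leaf [0,1,0,1,0,1,0,3,1,0,1,2,1]) (.leaf []))))) (.node (.node (.node (.node (.leaf [0,2,1,0,1,2,3,1]) (.leaf [1,0,2,3,1,0,2,1,0,3,1,0,1])) (.node (.leaf [0,1,0,1,0,2,1,3,1,2]) (.leaf [1,2,1,0,3,1,0,1,0,3,1,0,1,3]))) (.node (.node (.leaf [0,1,2,1,0,1,0,3,1]) (.leaf [1,0,1,2,1,3,1,0,1,2,1])) (.node (.leaf [1,0,1,3,1,0,2,1,0]) (.leaf [0,1,2,3,1,0,1,2,1,0,3,1,2])))) (.node (.node (.node (.leaf [0,1,0,1,0,2,1,3]) (.leaf [1,0,1,2,3,1,0,2,1,0,1,0])) (.node (.leaf [1,2,1,3,1,0,1,0,1,0,3]) (.leaf [1,0,1,2,3,1,0,1,2,1,0,3]))) (.node (.node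 (.leaf [0,3,1,0,2,1,0,1,0,3,1,2]) (.leaf [1,0,1,0,3,1,0,1,0,1,2,1])) (.node (.leaf [0,3,1,0,1,0,1,3,1,0,1,2,1,3]) (.leaf [])))))) (.node (.node (.node (.node (.node (.leaf [1,0,1,0,2,1,0,3]) (.leaf [0,1,3,1,0,1,0,1,0,3])) (.node (.leaf [1,3,1,0,1,2,1,0,1,3]) (.leaf [3,1,0,1,0,2,1,0,3,1,2]))) (.node (.node (.leaf [1,0,3,1,0,1,0,2,1,3,1,0]) (.leaf [1,0,1,3,1,0,2,1,0,1])) (.node (.leaf [0,1,0,3,1,0,1,0,2,1,3,1,0]) (.leaf [0,2,3,1,0,2,1,0,3,1,0,1,0])))) (.node (.node (.node (.leaf [1,2,3,1,0,1,0,1,0,1,3]) (.leaf [0,1,0,1,0,2,3,1,0,1,0,2,3])) (.node (.leaf [0,1,3,1,0,1]) (.leaf [1,0,1,0,3,1,0,1,0,2,1,0,3]))) (.node (.node (.leaf [1,0,2,1,3,1,0,1,2,1,0,3]) (.leaf [0,1,3,1,0,2,1,0,1,0,1])) (.node (.leaf [0,1,2,1,3,1,0,1,0,1,0,2,1,3]) (.leaf []))))) (.node (.node (.node (.node (.leaf [0,1,0,2,1,0,3,1,2]) (.leaf [1,0,1,3,1,0,1,2,1,0,1])) (.node (.leaf [0,3,1,0,1,0,3,1,0,1,2,1,0,3]) (.leaf [0,1,0,3,1,0,1,0,1,2])))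 (.node (.node (.leaf [1,0,2,1,3,1,0,1]) (.leaf [0,1,3,1,0,1,0,3,1,0,2,1])) (.node (.leaf [1,0,3,1,0,1,0,2,1,3]) (.leaf [1,3,1,0,1,2,1,3,1,0,1,0])))) (.node (.node (.node (.leaf [0,1,0,2,1,0,1,0,1,3,1]) (.leaf [0,1,0,3,1,0,1,2,3])) (.node (.leaf [2,3,1,0,2,1,0,1,0,1,3,1,2]) (.leaf [0,1,0,3,1,0,1,2,1,0,3,1,0]))) (.node (.node (.leaf [1,0,3,1,0,1,0,2,1,3,1,0,2]) (.leaf [0,1,3,1,0,1,0,1,3,1,0,1,2,3,1])) (.node (.leaf [0,3,1,0,1,0,3,1,0,1,2,1,3]) (.leaf []))))))))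

def lI_13 : CfsgLib.Coset.Tr (List Nat) := (.node (.node (.node (.node (.node (.node (.node (.leaf [0,2,1,0,1,2]) (.leaf [0,1,2,3,1,0,1,0,2,3,1])) (.node (.leaf [1,3,1,0,1,0,1,2,1,3,1]) (.leaf [0,3,1,0,1,0,3,1,0,1,0,2,1,3]))) (.node (.node (.leaf [0,1,0,1,0,1,0,2,1,3,1,0]) (.leaf [1,2,3,1,0,1,0,3,1,0,1,2,3])) (.node (.leaf [0,3,1,0,2,1,0,1,0,1,2,3]) (.leaf [0,1,3,1,0,1,0,2,3,1])))) (.node (.node (.node (.leaf [0,1,0,1,0,2,1,0,3]) (.leaf [2,1,3,1,0,1,0,1,0,3,1,2])) (.node (.leaf [1,0,1,2,1,3,1,0,1]) (.leaf [0,1,2,1,0,3,1,0,1,0,3,1]))) (.node (.node (.leaf [0,1,0,1,0,1,0,2,1,0,3,1,0]) (.leaf [1,2,1,0,1,3,1,0,1,2])) (.node (.leaf [1,3,1,0,1,0,1,2,3,1,0,1]) (.leaf []))))) (.node (.node (.node (.node (.leaf [0,2,1,0,1,0,2,1,3]) (.leaf [0,1,0,1,2,1,3,1,0,1,0,3,1])) (.node (.leaf [1,0,2,3,1,0,1,0,2,3,1]) (.leaf [0,1,0,3,1,0,1,0,1,2,3,1]))) (.node (.node (.leaf [0,1,3,1,0,1,0,3,1,0,2,1,0,3,1]) (.leaf [1,0,2,3,1,0,1,2,1,3,1]))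 (.node (.leaf [2,1,0,3,1,0,1,2,3,1,0,1]) (.leaf [1,0,1,0,3,1,0,2,1,0,3,1])))) (.node (.node (.node (.leaf [1,0,2,3,1,0,2]) (.leaf [0,1,2,3,1,0,2,1,0,1,0,1,3])) (.node (.leaf [1,0,1,0,1,2,3,1,0,1,2]) (.leaf [2,3,1,0,1,0,3,1,0,1,0,2,1]))) (.node (.node (.leaf [1,0,2,1,0,1,0,1,3,1,0,2]) (.leaf [1,0,1,0,1,2,1,3,1,0,2,1,0,3])) (.node (.leaf [1,0,1,2,1,0,3,1,0,1]) (.leaf [])))))) (.node (.node (.node (.node (.node (.leaf [2,1,0,1,0,2,1]) (.leaf [1,0,1,0,2,3,1,0,1,0,1])) (.node (.leaf [0,3,1,0,1,0,2,3,1,0,1,2]) (.leaf [1,0,2,1,0,3,1,0,2,1,0,1,0]))) (.node (.node (.leaf [1,2,3,1,0,1,0,1,0,2]) (.leaf [3,1,0,1,0,1,0,2,3,1,0,2])) (.node (.leaf [0,1,0,3,1,0,1,3]) (.leaf [1,0,1,0,2,3,1,0,1,0,1,3,1])))) (.node (.node (.node (.leaf [0,1,0,2,1,0,1,0,1,0,3,1]) (.leaf [3,1,0,1,0,1,3,1,0,1])) (.node (.leaf [0,2,1,0,1,2,3,1,0,1,0,3]) (.leaf [3,1,0,1,0,1,0,2,3,1,2]))) (.node (.node (.leaf [3,1,0,1,0,1,3,1]) (.leaf [0,1,0,1,0,1,2,3,1,0,1,2,1]))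 (.node (.leaf [0,2,3,1,0,1,0,3,1,0,2,1,0]) (.leaf []))))) (.node (.node (.node (.node (.leaf [0,1,0,1,0,1,0,1,2,1,3,1]) (.leaf [0,1,0,2,3,1,0,1,0,3,1,0,1])) (.node (.leaf [0,3,1,0,1,0,3,1,0,2]) (.leaf [0,2,1,0,3,1,0,1,0,2,1,3]))) (.node (.node (.leaf [1,0,1,2,1,3,1,0]) (.leaf [0,1,0,3,1,0,1,2,1,3])) (.node (.leaf [0,3,1,0,1,0,3,1,0,1,0,2,1,0]) (.leaf [2,3,1,0,1,0,3,1,0,2,1])))) (.node (.node (.node (.leaf [1,3,1,0,1,0,1,0]) (.leaf [1,0,1,2,3,1,0,1,0,3])) (.node (.leaf [1,2,1,0,3,1,0,1,0,1,3,1,0,2]) (.leaf [0,1,2,1,0,3,1,0,1,0,1,3,1,0]))) (.node (.node (.leaf [0,2,1,0,1,0,2,3,1,0,1,0,1,2]) (.leaf [0,1,2,3,1,0,1,0,1,3,1,0,1,3])) (.node (.leaf [0,1,0,1,0,2,3,1,0,2,1]) (.leaf []))))))) (.node (.node (.node (.node (.node (.node (.leaf [0,2,1,0,1,0,2,1]) (.leaf [1,0,1,0,3,1,0,1,0,1,2])) (.node (.leaf [0,2,1,0,1,2,3,1,0,2,1,3]) (.leaf [1,0,1,2,1,3,1,0,1,0,1,3]))) (.node (.node (.leaf [0,1,0,2,1,0,1,3,1,0,2])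 (.leaf [0,3,1,0,1,0,3,1,0,1,0,2,1,3,1])) (.node (.leaf [0,3,1,0,2,1,0,1,0,1,3,1]) (.leaf [0,1,3,1,0,2,1,0,1,0,2,3])))) (.node (.node (.node (.leaf [0,2,1,0,1,2,3,1,0]) (.leaf [2,3,1,0,1,0,1,2,3,1,0,1])) (.node (.leaf [1,3,1,0,1,0,1,0,3,1]) (.leaf [0,1,2,1,0,3,1,0,2,1,0,3]))) (.node (.node (.leaf [1,0,2,1,3,1,0,1,0,1,0]) (.leaf [0,1,0,1,0,2,3,1,0,1,2,1])) (.node (.leaf [0,1,2,1,3,1,0,1,0,1,0,1,2,1]) (.leaf []))))) (.node (.node (.node (.node (.leaf [1,0,1,0,3]) (.leaf [1,2,1,0,1,0,3,1,0,1,0,1])) (.node (.leaf [0,3,1,0,1,0,3,1,0,1,2,1,0]) (.leaf [2,1,0,1,3,1,0,1,0,2,1]))) (.node (.node (.leaf [1,0,1,2,1,0,1,3,1,0]) (.leaf [0,1,3,1,0,1,0,1,2,3,1,0])) (.node (.leaf [0,2,1,0,1,3,1,0,1,0,2,1,0]) (.leaf [1,0,1,2,3,1,0,1,0,3,1,0])))) (.node (.node (.node (.leaf [0,1,0,1,0,1,2,1,3,1]) (.leaf [0,1,0,3,1,0,1,0,1])) (.node (.leaf [0,1,0,1,0,1,0,2,1,0,3,1,0,2,1]) (.leaf [2,3,1,0,1,0,3,1,0,2,1,3]))) (.node (.node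 (.leaf [1,0,1,3,1,0,1,3]) (.leaf [1,0,1,0,2,3,1,0,1,0,1,2])) (.node (.leaf [0,1,0,1,0,1,3,1,0,1,2]) (.leaf [])))))) (.node (.node (.node (.node (.node (.leaf [2,1,0,1,0,1,0,2,3,1]) (.leaf [1,3,1,0,1,2,1,0,3,1,0,2,1,3])) (.node (.leaf [1,2,3,1,0,1,0,1,3,1,2]) (.leaf [0,1,0,3,1,0,1,0,1,2,3,1,0,2]))) (.node (.node (.leaf [1,3,1,0,1,0,1,0,1,2,1]) (.leaf [1,0,3,1,0,1,2,3,1,0])) (.node (.leaf [0,3,1,0,1,0,3,1,0,1,0,2,3,1]) (.leaf [1,2,1,0,1,0,3,1,0,1,0,1,2,3])))) (.node (.node (.node (.leaf [1,0,3,1,0,1]) (.leaf [0,1,3,1,0,1,2,1,3,1,0])) (.node (.leaf [1,0,1,0,2,3,1,0,2]) (.leaf [0,1,3,1,0,1,0,1,0,2,1,0]))) (.node (.node (.leaf [0,3,1,0,2,1,0,1,0,1,2,3,1]) (.leaf [2,1,0,1,3,1,0,2,1,3])) (.node (.leaf [0,1,2,1,0,3,1,0,1,2,3,1,0]) (.leaf []))))) (.node (.node (.node (.node (.leaf [0,1,0,1,0,1,0,1,3,1,2]) (.leaf [1,0,1,0,3,1,0,1,0,1,2,1,3,1])) (.node (.leaf [1,0,1,3,1,0,1,2,1,0,3]) (.leaf [0,1,2,3,1,0,2,1,0,3,1,2])))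 (.node (.node (.leaf [1,3,1,0,1,0,1,0,2]) (.leaf [0,1,0,3,1,0,1,0,3,1,0,2,1,0,1])) (.node (.leaf [1,0,2,3,1,0,1,0,2,1,3]) (.leaf [0,1,2,1,0,3,1,0,1,0,3,1,0,1])))) (.node (.node (.node (.leaf [0,1,0,2,1,0,1,0,1,2,3,1,0]) (.leaf [0,1,0,3,1,0,1,0,2,1,3,1])) (.node (.leaf [1,3,1,0,1,2,3,1,0,1,0,1]) (.leaf [0,1,2,3,1,0,2,1,0,3,1,0]))) (.node (.node (.leaf [0,1,0,2,1,0,3,1,0,1,2,3]) (.leaf [0,2,3,1,0,1,0,3,1,0,1,2,1,3,1])) (.node (.leaf [3,1,0,1,2,1,0,1,3,1,0]) (.leaf []))))))))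

def lI_14 : CfsgLib.Coset.Tr (List Nat) := (.node (.node (.node (.node (.node (.node (.node (.leaf [0,1,0,1,2,1]) (.leaf [1,2,3,1,0,1,0,1,2,3,1,0,1,2])) (.node (.leaf [1,0,3,1,0,2,1,3]) (.leaf [1,2,3,1,0,1,2,1,0,3,1,0,2]))) (.node (.node (.leaf [0,3,1,0,1,0,1,0,2,1,0,3,1]) (.leaf [0,1,0,2,3,1,0,1,0,3,1,0,1,3])) (.node (.leaf [3,1,0,1,0,3,1,0,2,1,0,3,1]) (.leaf [0,1,2,1,3,1,0,2,1,0,1,0])))) (.node (.node (.node (.leaf [0,1,0,1,0,1,2,1,3]) (.leaf [1,2,1,3,1,0,1,0,1,0,2,3])) (.node (.leaf [0,2,3,1,0,2,1,0,3,1,2]) (.leaf [0,1,0,3,1,0,2,1,0,3,1]))) (.node (.node (.leaf [1,0,1,0,1,2,1,3,1,0]) (.leaf [0,1,0,1,3,1,0,1,2,3,1,0])) (.node (.leaf [3,1,0,1,0,1,2,3,1,0,1,2]) (.leaf []))))) (.node (.node (.node (.node (.leaf [1,0,1,2,1]) (.leaf [1,0,2,3,1,0,1,0,2,1])) (.node (.leaf [0,1,0,1,2,1,3,1,0,2,1,0,3]) (.leaf [0,2,1,3,1,0,2,1,0,1]))) (.node (.node (.leaf [0,1,0,1,0,1,0,2,3,1,2]) (.leaf [0,2,1,3,1,0,1,2,1,3,1,0]))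 (.node (.leaf [2,1,0,3,1,0,2,1,0,1,3,1,0,1]) (.leaf [0,1,0,3,1,0,1,0,1,2,3,1,2])))) (.node (.node (.node (.leaf [1,0,2,1,0,1,0,2,1,3,1,0,2]) (.leaf [2,1,0,3,1,0,1,2,1,3])) (.node (.leaf [1,0,2,1,3,1,0,1,0,1]) (.leaf [0,1,2,1,3,1,0,1,0,1,3,1,0]))) (.node (.node (.leaf [1,0,1,2,3,1,0,1]) (.leaf [0,1,0,1,2,3,1,0,1,0,1,2,3])) (.node (.leaf [0,1,0,3,1,0,1,0,1,0]) (.leaf [])))))) (.node (.node (.node (.node (.node (.leaf [1,0,1,0,2,1]) (.leaf [0,1,3,1,0,1,0,1])) (.node (.leaf [0,1,0,1,0,1,0,2,3,1,0,2]) (.leaf [0,2,1,0,3,1,0,2,1,0,1,3]))) (.node (.node (.leaf [1,0,3,1,0,1,2]) (.leaf [0,1,0,1,0,1,2,3,1,0,2,1,0])) (.node (.leaf [0,1,2,1,0,3,1,0,1,2]) (.leaf [0,1,2,1,3,1,0,1,0,1,3,1])))) (.node (.node (.node (.leaf [0,1,0,2,1,0,1,0,1,2,3,1]) (.leaf [0,1,0,3,1,0,1,0,1,2,3,1,0])) (.node (.leaf [0,1,0,1,2,1,3,1,0,1,0,3]) (.leaf [0,1,0,3,1,0,1,0,3,1,0,1,2,1,3]))) (.node (.node (.leaf [0,1,0,2,3,1,0,1,0,1,3,1,0,2])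 (.leaf [0,1,0,1,0,3,1,0,1,2,1])) (.node (.leaf [1,2,3,1,0,1,0,1,0,2,1,3,1]) (.leaf []))))) (.node (.node (.node (.node (.leaf [0,1,0,2,1,0,1,3,1]) (.leaf [1,0,1,2,1,3,1,0,1,0,1,0,3])) (.node (.leaf [0,1,0,1,0,1,2,1,3,1,0,2]) (.leaf [1,0,2,1,3,1,0,2,1,0,1,2]))) (.node (.node (.leaf [3,1,0,1,2,1,0,3,1]) (.leaf [0,3,1,0,1,0,2,3,1,0,2,1])) (.node (.leaf [1,0,3,1,0,1,2,1,0,3,1,2]) (.leaf [2,3,1,0,1,0,3,1,0,1,0,2])))) (.node (.node (.node (.leaf [0,2,1,0,1,0,2,1,3,1,0]) (.leaf [0,1,2,1,0,3,1,0,1,0,3])) (.node (.leaf [1,2,1,0,3,1,0,1,0,3,1,0]) (.leaf [0,1,2,3,1,0,1,2,1,0,3,1]))) (.node (.node (.leaf [1,0,3,1,0,2,1,0,1,3,1]) (.leaf [1,2,1,0,1,0,3,1,0,1,2,3])) (.node (.leaf [0,1,0,1,0,2,1,3,1,0,2,1]) (.leaf []))))))) (.node (.node (.node (.node (.node (.node (.leaf [2,1,0,1,0,1,0,2,3]) (.leaf [0,1,2,3,1,0,1,0,1,2,3,1,2])) (.node (.leaf [1,3,1,0,1,0,1,2,3,1,0]) (.leaf [1,2,1,0,1,0,3,1,0,1,0,1,2]))) (.node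 (.node (.leaf [2,1,0,1,0,1,0,2,1,3,1,0,1]) (.leaf [1,2,3,1,0,1,2,1,0,3,1,0,2,1])) (.node (.leaf [0,3,1,0,2,1,0,1,0,3,1]) (.leaf [1,0,1,0,2,3,1,0,1,0,2,1])))) (.node (.node (.node (.leaf [1,0,2,1,0,1,0,2,1,3,1,0]) (.leaf [2,1,3,1,0,1,0,1,0,2,1,3])) (.node (.leaf [3,1,0,2,1,0,1,2,3,1,0]) (.leaf [0,1,0,3,1,0,2,1,0,3]))) (.node (.node (.leaf [0,3,1,0,2,1,0,1,0,1,2,3,1,2]) (.leaf [0,1,2,3,1,0,1,0,1,3,1,0,1])) (.node (.leaf [1,0,1,2,1,3,1,0,2,1]) (.leaf []))))) (.node (.node (.node (.node (.leaf [0,1,0,2,1,0,1,0,1]) (.leaf [0,1,3,1,0,1,0])) (.node (.leaf [1,0,1,2,1,0,3,1,2]) (.leaf [0,3,1,0,2,1,0,3,1,0,1,3]))) (.node (.node (.leaf [0,1,0,1,0,1,3,1,0]) (.leaf [1,2,1,0,1,0,3,1,0,1,2,1])) (.node (.leaf [1,2,3,1,0,1,0,1,2,3,1,0,1]) (.leaf [0,1,2,1,0,3,1,0,1,0,3,1,0])))) (.node (.node (.node (.leaf [1,0,1,2,1,0,3]) (.leaf [1,0,1,3,1,0,1,0,2,1])) (.node (.leaf [0,3,1,0,1,0,1,2,1,3,1,0]) (.leaf [0,2,1,3,1,0,1,2,1,0,1,3])))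 (.node (.node (.leaf [0,3,1,0,2,1,0,1,0,3,1,0]) (.leaf [0,1,3,1,0,1,0,1,2])) (.node (.leaf [3,1,0,1,2,1,0,1,3,1,0,2]) (.leaf [])))))) (.node (.node (.node (.node (.node (.leaf [0,1,0,2,1,0,3,1]) (.leaf [1,2,1,0,1,0,3,1,0,1,3])) (.node (.leaf [0,3,1,0,1,0,2,3,1,0,1,0]) (.leaf [1,0,1,0,3,1,0,1,2,1,3]))) (.node (.node (.leaf [1,0,3,1,0,2,1,0,1,0,1,0]) (.leaf [1,3,1,0,1,2,1,0,3,1,0,2])) (.node (.leaf [3,1,0,1,0,3,1,0,1,2,3,1,0]) (.leaf [2,1,3,1,0,1,0,1,0,2,3,1])))) (.node (.node (.node (.leaf [1,0,1,0,2,1,0,3,1,2]) (.leaf [0,2,3,1,0,1,2,1,3,1,0])) (.node (.leaf [1,0,1,2,1,3,1,0,1,0,1,0]) (.leaf [0,3,1,0,1,2,1,3,1]))) (.node (.node (.leaf [3,1,0,1,0,3,1,0,2,1,0,3]) (.leaf [1,2,1,0,1,2,3,1,0,2,1,0])) (.node (.leaf [0,1,0,3,1,0,1,0,1,3,1,0,2,1]) (.leaf []))))) (.node (.node (.node (.node (.leaf [0,1,0,1,0,1,0,1,2,3,1,2]) (.leaf [1,0,1,0,3,1,0,1,0,2])) (.node (.leaf [1,2,1,3,1,0,1,0,1,2,3,1,2]) (.leaf [1,2,1,0,1,3,1,0,1,0,2])))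 (.node (.node (.leaf [0,2,1,0,1,0,2,3,1,0,1,0]) (.leaf [0,1,2,1,3,1,0,1,0,1,2,3,1,2])) (.node (.leaf [1,0,3,1,0,2,1,0,1,0]) (.leaf [2,3,1,0,1,0,3,1,0,2,1,0,3])))) (.node (.node (.node (.leaf [1,0,1,0,3,1,0]) (.leaf [0,1,2,1,0,3,1,0,2,1,0,3,1,0])) (.node (.leaf [0,1,0,1,0,1,0,3,1,0,1,2,1,3]) (.leaf [3,1,0,1,0,1,0,3,1,2]))) (.node (.node (.leaf [1,2,3,1,0,1,0,1,0,2,1]) (.leaf [0,1,2,3,1,0,1,2,1,0,3,1,0,2,1])) (.node (.leaf [0,3,1,0,1,0,1,3,1,0,2,1,3]) (.leaf []))))))))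

def lI_15 : CfsgLib.Coset.Tr (List Nat) := (.node (.node (.node (.node (.node (.node (.node (.leaf [1,0,1,0,2,1,0]) (.leaf [0,3,1,0,2,1,0,1,0,3,1,0,1,0])) (.node (.leaf [1,0,2,3,1,0,2,1,0]) (.leaf [1,0,2,3,1,0,1,2,3,1,0]))) (.node (.node (.leaf [1,2,1,0,1,0,1,3,1,2]) (.leaf [0,1,0,3,1,0,1,0,3,1,0,1,2,3,1])) (.node (.leaf [1,0,2,1,3,1,0,2,1,0]) (.leaf [0,3,1,0,1,0,3,1,0,1,3])))) (.node (.node (.node (.leaf [1,0,1,2,1,3]) (.leaf [0,3,1,0,1,0,1,2,1,3,1,0,2])) (.node (.leaf [1,0,1,0,3,1,0,1,0,1]) (.leaf [1,0,1,2,3,1,0,1,0,3,1]))) (.node (.node (.leaf [1,2,1,0,1,0,1,0,3,1,2]) (.leaf [3,1,0,1,0,1,0,3,1])) (.node (.leaf [0,1,0,1,0,1,0,3,1,0,2,1,3]) (.leaf []))))) (.node (.node (.node (.node (.leaf [1,0,2,1,0,1,0,2,1,3,1]) (.leaf [0,2,1,0,1,2,3,1,0,1,0,3,1])) (.node (.leaf [0,1,0,1,0,1,2,3,1,0]) (.leaf [3,1,0,1,0,1,3,1,0,1,3]))) (.node (.node (.leaf [1,0,3,1,0,2,1,0,1,0,1,2,3]) (.leaf [0,1,3,1,0,1,0,1,2,1,3,1]))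 (.node (.leaf [0,2,1,0,3,1,0,2,1,0]) (.leaf [1,0,1,2,3,1,0,1,0,1,2,3])))) (.node (.node (.node (.leaf [0,2,1,0,1,0,2,1,3,1,2]) (.leaf [1,0,2,1,3,1,0,2,1,0,1])) (.node (.leaf [0,2,1,3,1,0,1,2]) (.leaf [0,2,1,0,3,1,0,1,0,1,0,2,1,3]))) (.node (.node (.leaf [1,0,1,3,1,0,1,0]) (.leaf [0,2,3,1,0,2,1,0,3])) (.node (.leaf [0,1,0,1,0,1,2,3,1,0,2]) (.leaf [])))))) (.node (.node (.node (.node (.node (.leaf [0,1,0,1,0,1,0,2,1]) (.leaf [0,1,2,1,3,1,0,1,0,1,0,2])) (.node (.leaf [0,1,0,1,2,1,3,1,0,1,2,1,0,3]) (.leaf [1,0,1,3,1,0,2,1,0,1,2]))) (.node (.node (.leaf [2,1,0,1,0,1,2,3,1,0,1,3]) (.leaf [1,0,1,2,1,3,1,0,2,1,0,1,0])) (.node (.leaf [1,0,2,1,0,1,0,1,3,1,0,1,3]) (.leaf [0,1,0,1,3,1,0,1,0,3,1,0,1,2,3])))) (.node (.node (.node (.leaf [0,1,0,2,1,0,1,3,1,0]) (.leaf [1,2,1,0,3,1,0,1,0,3,1,0,1])) (.node (.leaf [1,0,2,3,1,0,2,1,0,3,1,0]) (.leaf [1,0,1,2,1,3,1,0,2,1,0,1]))) (.node (.node (.leaf [0,3,1,0,1,0,1,0,2,1,0,3,1,2])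 (.leaf [0,2,3,1,0,1,0,2,3,1,0,1])) (.node (.leaf [0,1,3,1,0,1,0,1,0,2,1,3]) (.leaf []))))) (.node (.node (.node (.node (.leaf [2,1,0,1,0,1,2,3,1,0]) (.leaf [0,3,1,0,1,0,1,2,1,3,1,2])) (.node (.leaf [3,1,0,1,2,1,0,3,1,0]) (.leaf [1,0,1,3,1,0,1,0,2,1,0]))) (.node (.node (.leaf [0,1,0,1,0,1,0,3,1,0,1]) (.leaf [0,1,2,1,0,3,1,0,1,2,1,3])) (.node (.leaf [2,1,0,1,3,1,0,1,2,3,1,0]) (.leaf [0,1,2,1,3,1,0,1,0,2,3,1,2])))) (.node (.node (.node (.leaf [0,2,1,0,1,2,3,1,0,1]) (.leaf [1,0,1,2,3,1,0,1,2,1])) (.node (.leaf [3,1,0,1,0,1,3]) (.leaf [1,2,1,0,1,3,1,0,1,0,3,1,0]))) (.node (.node (.leaf [0,2,1,0,1,2,3,1,0,1,0,1,3]) (.leaf [0,1,2,3,1,0,1,0,3,1,0,1,0,3])) (.node (.leaf [2,1,0,1,3,1,0,2,1]) (.leaf []))))))) (.node (.node (.node (.node (.node (.node (.leaf [0,1,0,1,2,1,3]) (.leaf [3,1,0,2,1,0,1,2,3,1])) (.node (.leaf [0,1,0,1,0,1,0,3,1,0,2,1]) (.leaf [0,1,3,1,0,1,2,3]))) (.node (.node (.leaf [2,1,0,1,0,1,0,2,1,3,1,0,2])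 (.leaf [1,0,1,3,1,0,1,0,1,2])) (.node (.leaf [0,1,0,3,1,0,1,0]) (.leaf [1,0,1,0,3,1,0,1,0,2,1,0])))) (.node (.node (.node (.leaf [0,1,0,2,1,0,1,0,1,3]) (.leaf [0,1,2,3,1,0,2,1,0])) (.node (.leaf [1,0,2,1,3,1,0,1,3]) (.leaf [0,1,0,3,1,0,1,0,3,1,0,1,0,2,3]))) (.node (.node (.leaf [1,0,1,0,3,1,0,2]) (.leaf [2,1,0,1,3,1,0,1,2,1])) (.node (.leaf [1,0,2,3,1,0,2,1,0,3,1]) (.leaf []))))) (.node (.node (.node (.node (.leaf [1,2,1,0,1,0,1,0,1,3]) (.leaf [1,0,2,1,0,1,0,1,0,3,1,0,1,2])) (.node (.leaf [1,0,2,1,0,1,2,3,1,0,1]) (.leaf [1,0,1,3,1,0,1,0,1,2,1]))) (.node (.node (.leaf [1,0,2,1,0,1,2,3,1,2]) (.leaf [2,3,1,0,1,0,1,0,2,1,3,1,2])) (.node (.leaf [0,1,0,2,1,0,3,1,0,2,1,0,1,3]) (.leaf [0,1,0,3,1,0,1,0,3,1,2])))) (.node (.node (.node (.leaf [0,1,0,1,0,2,1,0,3,1]) (.leaf [1,2,1,0,1,3,1,0,1,0])) (.node (.leaf [0,2,1,3,1,0,2,1]) (.leaf [0,1,2,1,3,1,0,1,0,1,3,1,2]))) (.node (.node (.leaf [1,2,3,1,0,1,0,1,0,3,1])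 (.leaf [1,0,1,2,1,3,1,0,1,0,3])) (.node (.leaf [0,1,0,1,0,2,3,1,0,1,3]) (.leaf [])))))) (.node (.node (.node (.node (.node (.leaf [0,1,0,1,0,1,2,1]) (.leaf [1,3,1,0,1,0,1,0,3,1,2])) (.node (.leaf [0,3,1,0,1,0,2,3,1,0,1,0,2,1]) (.leaf [1,0,2,1,3,1,0,1,2,1,3,1,0]))) (.node (.node (.leaf [1,0,2,1,0,1,0,2,3,1,0,2]) (.leaf [3,1,0,1,0,1,0,2,3,1])) (.node (.leaf [1,0,2,1,0,3,1,0,1,0]) (.leaf [0,1,2,1,3,1,0,1,0,3,1])))) (.node (.node (.node (.leaf [2,1,0,1,0,1,0,2,3,1,0,1]) (.leaf [0,1,2,1,0,1,0,3,1,0,1,2,1,0])) (.node (.leaf [3,1,0,1,0,3,1,0,1,2,1,3]) (.leaf [1,2,1,0,1,0,3,1,0,1,2,1,0]))) (.node (.node (.leaf [2,1,0,3,1,0,2,1,0,3,1,2]) (.leaf [0,3,1,0,1,0,3,1,0,1])) (.node (.leaf [0,1,3,1,0,1,0,1,0,2,3,1,0,2]) (.leaf []))))) (.node (.node (.node (.node (.leaf [0,1,0,1,0,2,1]) (.leaf [1,0,1,0,2,3,1,0,2,1,0])) (.node (.leaf [0,1,2,3,1,0,1,0,1,3,1,2]) (.leaf [0,1,0,3,1,0,2,1,0,1,3]))) (.node (.node (.leaf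 [1,0,2,3,1,0,1,2]) (.leaf [0,1,2,3,1,0,1,2,1,0,3,1,0])) (.node (.leaf [0,1,0,1,2,1,3,1,0,1,2,1,0]) (.leaf [2,1,3,1,0,1,0,3,1,0,1,2])))) (.node (.node (.node (.leaf [0,1,0,2,1,0,1,0,3,1,2]) (.leaf [0,1,0,1,0,1,0,2,1,3,1,0,2,1,3])) (.node (.leaf [0,2,1,0,3,1,0,1,0,1,2,3,1]) (.leaf [0,2,3,1,0,1,0,2,1,3,1,2]))) (.node (.node (.leaf [1,0,3,1,0,1,0,2,1,3,1]) (.leaf [3,1,0,1,2,1,0,1,3,1,0,2,1,0])) (.node (.leaf [1,2,1,3,1,0,1,0,1,3]) (.leaf []))))))))

def lI_16 : CfsgLib.Coset.Tr (List Nat) := (.node (.node (.node (.node (.node (.node (.node (.leaf [1,0,1,0,1,0,2,1,0]) (.leaf [2,1,0,1,0,3,1,0,1,0,1,3])) (.node (.leaf [0,1,0,2,1,0,3,1,0,2,1,0,1,0,1]) (.leaf [3,1,0,2,1,0,3,1,0,1,0,2]))) (.node (.node (.leaf [0,2,1,0,1,0,1,0,1,2,3,1,2]) (.leaf [2,3,1,0,2,1,3])) (.node (.leaf [0,1,0,3,1,0,2,1,0,1,0,1,2]) (.leaf [0,1,2,1,0,1,3,1,0,1,2,1,0,1])))) (.node (.node (.node (.leaf [1,0,1,0,1,0,1,0,1,2]) (.leaf [1,2,1,3,1,0,1,0,1,0,2,1]))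 (.node (.leaf [0,1,3,1,0,1,2,1,0,3,1]) (.leaf [0,1,0,1,0,3,1,0,1,0,1,2,1]))) (.node (.node (.leaf [0,3,1,0,1,0,1,0,3,1]) (.leaf [2,3,1,0,1,0,1,3,1,0,2])) (.node (.leaf [0,1,0,2,1,3,1,0,1,2,1,0,1]) (.leaf []))))) (.node (.node (.node (.node (.leaf [2,1,0,1]) (.leaf [0,2,1,3,1,0,1,0,1,0,2,3])) (.node (.leaf [1,3,1,0,1,0,2,1,3,1,2]) (.leaf [1,0,1,0,1,3,1,0,1,2,1,3,1]))) (.node (.node (.leaf [0,3,1,0,1,0,1,0,1,2]) (.leaf [0,2,3,1,0,1,0,1,0,2,1,3,1,2])) (.node (.leaf [2,1,0,1,3,1,0,1,0]) (.leaf [0,1,0,1,3,1,0,1,0,1,3,1])))) (.node (.node (.node (.leaf [0,1,0,2,1,3,1,0,2]) (.leaf [2,1,0,3,1,0,1,2,1,0])) (.node (.leaf [2,1,0,1,3,1,0,1,0,1,3,1,0]) (.leaf [2,1,3,1,0,2,1,0,3]))) (.node (.node (.leaf [1,2,1,0,3,1,0,1,0,1,3]) (.leaf [0,3,1,0,1,2,1,0,3,1,0,2,1,0])) (.node (.leaf [2,1,3,1,0,1,2,1,3,1]) (.leaf [])))))) (.node (.node (.node (.node (.node (.leaf [0,1,0,1,0,1,0,1,0,3]) (.leaf [0,3,1,0,1,0,1,2,3]))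 (.node (.leaf [1,2,1,3,1,0,2,1]) (.leaf [1,0,2,1,3,1,0,1,0,1,0,3,1,2]))) (.node (.node (.leaf [1,3,1,0,1,0]) (.leaf [1,2,1,3,1,0,2,1,0,1,3,1])) (.node (.leaf [2,3,1,0,2,1,0,1,3,1,2]) (.leaf [2,1,3,1,0,2,1,0,3,1])))) (.node (.node (.node (.leaf [1,0,2,1,0,1,0,1,0,3]) (.leaf [0,3,1,0,2,1,0])) (.node (.leaf [1,0,3,1,0,1,0,1,2]) (.leaf [2,1,3,1,0,1,0,3,1,0,1,3]))) (.node (.node (.leaf [1,2,1,3,1,0,1,0,1,0,1,2]) (.leaf [1,3,1,0,1,2,3,1,0,1])) (.node (.leaf [1,2,3,1,0,1,0,2,3]) (.leaf []))))) (.node (.node (.node (.node (.leaf [0,1,0,3]) (.leaf [2,1,3,1,0,1,0,1,0,2])) (.node (.leaf [3,1,0,1,0,1,0]) (.leaf [2,1,0,3,1,0,1,0,1,2,1,3]))) (.node (.node (.leaf [1,2,1,0,3,1,2]) (.leaf [1,3,1,0,1,2,1,3,1,0])) (.node (.leaf [1,3,1,0,1,0,2,3]) (.leaf [0,1,0,1,3,1,0,1,0,3,1,0,2,1,0])))) (.node (.node (.node (.leaf [1,2,1,0,1,0,3,1]) (.leaf [1,2,1,3,1,0,2,1,0,1,0,3,1])) (.node (.leaf [1,0,1,3,1,0,1,0,2,1,0,3,1,0])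 (.leaf [2,1,3,1,0,1,0,3,1,2]))) (.node (.node (.leaf [0,1,0,2,3,1,0,2,1]) (.leaf [1,0,2,1,0,1,0,3,1,0,1,0,3])) (.node (.leaf [0,1,0,1,0,1,3,1,0,1,3]) (.leaf []))))))) (.node (.node (.node (.node (.node (.node (.leaf [0,2,1,0,1,0,1]) (.leaf [1,0,1,0,3,1,0,1,0,2,1,3,1,2])) (.node (.leaf [1,2,3,1,0,2,1,0,1,0,3,1,0,1]) (.leaf [1,2,3,1,0,2,1,0,3,1,0,1,0]))) (.node (.node (.leaf [0,1,2,1,0,3,1,2]) (.leaf [1,3,1,0,1,0,1,3,1,0,1,2])) (.node (.leaf [0,1,2,1,0,1,2,3,1,0,2,1,0]) (.leaf [0,2,1,3,1,0,1,0,3,1,0,1,2,3,1])))) (.node (.node (.node (.leaf [1,0,1,0,1,0,1,2,3,1]) (.leaf [2,1,3,1,0,1,0,1,0,2,1])) (.node (.leaf [1,0,2,1,0,1,0,2,3,1,0,1,0]) (.leaf [1,2,1,3,1,0,2,1,0,1,0,1,2]))) (.node (.node (.leaf [0,2,1,0,1,0,1,0,2,3,1,2]) (.leaf [0,1,0,2,3,1,0,1,0,1,0,3,1])) (.node (.leaf [0,1,2,3,1,0,1,0,1,0,2,1]) (.leaf []))))) (.node (.node (.node (.node (.leaf [0,1,0,1,0,1,0,1,0,3,1]) (.leaf [0,2,1,3,1,0,1,0,1,0,2,3,1,2]))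 (.node (.leaf [1,2,1,0,1,3,1,0]) (.leaf [0,2,3,1,0,1,0,3,1,0,1,0,2,3,1]))) (.node (.node (.leaf [1,0,1,0,1,0,1,0,3,1]) (.leaf [0,3,1,0,1,0,2,1,0,3,1])) (.node (.leaf [1,0,1,0,3,1,0,1,0,2,1,3,1]) (.leaf [0,1,2,1,0,1,0,3,1,0,1,0,3,1])))) (.node (.node (.node (.leaf [1,2,1,3,1,2]) (.leaf [0,1,0,1,0,2,3,1,0,1,0,2,1,3])) (.node (.leaf [0,2,1,0,3,1,0,2,1,0,3,1,0,2]) (.leaf [1,3,1,0,1,2,1,3,1,0,1]))) (.node (.node (.leaf [0,1,0,2,1,0,1,3,1,0,1,0]) (.leaf [0,1,0,1,2,3,1,0,1,0,2,1])) (.node (.leaf [1,2,1,0,1,3,1,0,2]) (.leaf [])))))) (.node (.node (.node (.node (.node (.leaf [0,1,0,2,3]) (.leaf [0,2,3,1,0,1,0,1,0,2])) (.node (.leaf [0,1,0,2,1,3,1,0,1,2,1,0,1,3]) (.leaf [1,2,1,3,1,0,1,0,1,0,2,1,0]))) (.node (.node (.leaf [1,0,2,3,1,0,1,0,1,0,3]) (.leaf [0,1,0,1,3,1,0,1,0,2,1,0,3])) (.node (.leaf [1,0,1,0,1,0,3,1,0,2,1]) (.leaf [2,3,1,0,1,0,3,1,0,1,0,3])))) (.node (.node (.node (.leaf [3,1,0]) (.leaf [1,3,1,0,1,2,3,1,0,1,0]))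 (.node (.leaf [1,2,3,1,0,1,2,3]) (.leaf [0,1,0,1,3,1,0,1,0,2,1,3]))) (.node (.node (.leaf [1,0,3,1,0,1,2,3,1,0,1,0,1,2]) (.leaf [1,0,1,2,1,0,3,1,0,2,1,3])) (.node (.leaf [0,2,3,1,0,1,0,1,0,2,1,3]) (.leaf []))))) (.node (.node (.node (.node (.leaf [1,0,2,3,1,0,1,0,1,0,1]) (.leaf [0,1,2,1,3,1,0,1,2,1,0])) (.node (.leaf [0,1,0,2,1,0,1,0,3,1,0,1,0,3,1]) (.leaf [0,3,1,0,2,1,0,1,3]))) (.node (.node (.leaf [1,2,1,0,1,0,2,3,1,0,1]) (.leaf [1,3,1,0,1,0,1,3,1,0,2])) (.node (.leaf [1,0,2,3,1,0,1,0,1,0,2,3,1]) (.leaf [2,1,3,1,0,1,0,1,2,3,1,2])))) (.node (.node (.node (.leaf [0,1,3,1]) (.leaf [2,3,1,0,2,1,0,1,3,1,0,1])) (.node (.leaf [0,1,0,1,0,2,3,1,0,1,0,3]) (.leaf [1,0,3,1,0,1,0,3,1,0,2,1,3]))) (.node (.node (.leaf [1,0,2,3,1,0,1,0,1,3]) (.leaf [0,1,0,1,0,3,1,0,1,0,3,1,0,1,3])) (.node (.leaf [1,0,3,1,0,1,0,3,1,0,1,0,2,1]) (.leaf []))))))))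

def lI_17 : CfsgLib.Coset.Tr (List Nat) := (.node (.node (.node (.node (.node (.node (.node (.leaf [0,1,0,1,0,1,0,1,0]) (.leaf [0,1,0,2,3,1,0,2,1,0,3])) (.node (.leaf [1,3,1,0,2,1,0,1,0,1,0,3]) (.leaf [1,0,2,3,1,0,1,0,3,1,0]))) (.node (.node (.leaf [1,0,1,0,1,0,3,1,0]) (.leaf [1,0,2,3,1,0,1,0,3,1,0,1,0,3])) (.node (.leaf [0,1,0,1,0,3,1,0,1,2,1,0,3]) (.leaf [1,2,1,0,3,1,0,2,1,0,3])))) (.node (.node (.node (.leaf [2,1,0,1,3]) (.leaf [0,1,2,3,1,0,1,2,3])) (.node (.leaf [0,1,0,1,3,1,0,1]) (.leaf [2,3,1,0,1,0,2,3]))) (.node (.node (.leaf [0,2,1,0,1,0,1,0,2,3,1,0]) (.leaf [0,1,2,1,0,1,0,3,1,0,1,2])) (.node (.leaf [1,2,3,1,0,1,0,2,3,1,0,2]) (.leaf []))))) (.node (.node (.node (.node (.leaf [1,0,1,0,1,0,1,2,3]) (.leaf [1,2,3,1,0,2,1,0,1,3])) (.node (.leaf [1,2,3,1,0,2,1,0,1,0,1,3]) (.leaf [2,1,0,3,1,0,2,1,0,1,0,1,3]))) (.node (.node (.leaf [2,1,3,1,2]) (.leaf [0,3,1,0,1,0,1,0,2,1,3,1,2])) (.node (.leaf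 [0,1,0,2,3,1,0,1,2,3]) (.leaf [3,1,0,2,1,0,1,3,1,0,1,0,3])))) (.node (.node (.node (.leaf [2,1,0,1,0,1,0,3,1,0,2]) (.leaf [3,1,0,1,0,2,3,1])) (.node (.leaf [2,1,0,1,0,3,1,0,1,0,1]) (.leaf [0,1,0,1,3,1,0,1,0,3,1,0]))) (.node (.node (.leaf [1,0,1,0,1,0,3,1,0,2]) (.leaf [2,1,3,1,0,2,1,0,1,0,1,3,1])) (.node (.leaf [0,1,2,1,0,3,1,0,1,0,1,0]) (.leaf [])))))) (.node (.node (.node (.node (.node (.leaf [0,2,1,0,1,0,1,0]) (.leaf [3,1,0,2,1,0,1,0,3,1,2])) (.node (.leaf [1,3,1,0,1,0,2,3,1,0,2]) (.leaf [3,1,0,2,1,0,1,3]))) (.node (.node (.leaf [0,2,1,0,1,3,1,0,1,2]) (.leaf [0,1,0,2,3,1,0,1,2,3,1])) (.node (.leaf [2,3,1,0,1,2]) (.leaf [0,1,0,1,3,1,0,1,0,3,1])))) (.node (.node (.node (.leaf [0,1,0,3,1]) (.leaf [2,3,1,0,1,0,1,2,3,1,0])) (.node (.leaf [1,2,3,1,0,2,1,0,3,1,2]) (.leaf [3,1,0,1,2,3,1,0]))) (.node (.node (.leaf [0,2,1,0,3,1,0,1,0,3,1,0,2,1]) (.leaf [0,1,2,1,0,3,1,0,1,0,1,0,2,1])) (.node (.leaf [1,0,3,1,0,1,0,1,3,1,2])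 (.leaf []))))) (.node (.node (.node (.node (.leaf [3,1]) (.leaf [1,0,1,3,1,0,1,0,3,1,0,1])) (.node (.leaf [1,2,1,0,1,2,3,1,0,2]) (.leaf [0,1,0,1,0,3,1,0,1,0,2,1,0,3]))) (.node (.node (.leaf [0,1,0,1,3,1,0]) (.leaf [1,0,2,3,1,0,1,0,1,0,2,1,3,1,2])) (.node (.leaf [0,1,0,1,2,1,3,1,0,1,0,1,3,1]) (.leaf [2,1,3,1,0,1,2,1,0,3,1,0])))) (.node (.node (.node (.leaf [2,1,0,1,0,3,1,0]) (.leaf [0,1,0,1,0,3,1,0,1,0,1,3])) (.node (.leaf [1,0,1,3,1,0,1,0,3,1,0,2]) (.leaf [2,3,1,0,1,0,1,3,1,2]))) (.node (.node (.leaf [1,3,1,0,2,1,0,1,0,3,1]) (.leaf [1,0,3,1,0,1,0,3,1,0,1,0,3])) (.node (.leaf [0,3,1,0,2,1,0,1,0,1,0]) (.leaf []))))))) (.node (.node (.node (.node (.node (.node (.leaf [1,0,1,0,1,0,1,2]) (.leaf [2,1,0,1,0,3,1,0,1,0,2,3,1,2])) (.node (.leaf [0,1,0,1,2,1,0,3,1,0,2,1,3]) (.leaf [2,1,0,1,0,2,3,1,0,1,0,1,3]))) (.node (.node (.leaf [0,2,1,0,3,1,0,1]) (.leaf [1,0,2,3,1,0,1,0,3,1,0,1])) (.node (.leaf [3,1,0,1,0,2,3])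 (.leaf [3,1,0,2,1,0,1,0,2,3])))) (.node (.node (.node (.leaf [0,3,1,0,1,0,1,0,1,3]) (.leaf [1,0,1,0,3,1,0,1,0,1,2,3,1,0])) (.node (.leaf [1,2,1,3,1,0,1,2]) (.leaf [2,3,1,0,2,1,0,3]))) (.node (.node (.leaf [0,1,2,3,1,0,1]) (.leaf [1,0,2,1,3,1,0,1,0,3,1,0,1])) (.node (.leaf [3,1,0,2,1,0,1,0,1,0]) (.leaf []))))) (.node (.node (.node (.node (.leaf [1,0,2,1,0,1,0,1,0]) (.leaf [1,0,1,0,1,2,1,3,1,0,1,0])) (.node (.leaf [1,0,1,0,3,1,0,1,0,1,3,1]) (.leaf [0,1,0,1,0,3,1,0,1,2,1,3,1]))) (.node (.node (.leaf [1,2,1,0,1,2,3,1,0]) (.leaf [0,1,0,1,3,1,0,2,1,3])) (.node (.leaf [1,3,1,0,2,1,0,1,0,1,0,3,1]) (.leaf [0,1,0,1,0,3,1,0,1,0,1,3,1,0])))) (.node (.node (.node (.leaf [1,0,1,0,1,0,1,0,2,3,1]) (.leaf [0,1,0,2,1,0,1,3,1,0,1,0,2,1])) (.node (.leaf [0,1,3,1,0,1,0,2,1,0,3,1,0]) (.leaf [1,3,1,0,1,0,1,3,1,0,2,1]))) (.node (.node (.leaf [1,2,1,0,3,1,0,1,0,1,0,2]) (.leaf [3,1,0,2,1,0,1,0,3,1])) (.node (.leaf [1,2,1,0,3,1,0,1,2])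 (.leaf [])))))) (.node (.node (.node (.node (.node (.leaf [1,3,1]) (.leaf [1,0,3,1,0,1,0,3,1,0,1,3])) (.node (.leaf [1,3,1,0,2,1,0,1,0,1,3]) (.leaf [0,1,2,3,1,0,1,2,1,3]))) (.node (.node (.leaf [0,1,2,3,1,0,1,0,1,0,1,2,3,1]) (.leaf [0,2,1,0,1,0,3,1,0,1,0,3,1,0])) (.node (.leaf [1,0,2,3,1,0,1,0,3,1,0,1,3]) (.leaf [1,2,1,0,3,1,0,2,1,0,3,1])))) (.node (.node (.node (.leaf [0,1,0,1,0,1,0,1,0,2,1,3,1,2]) (.leaf [0,3,1,0,1,0,1,0,2,1,3,1])) (.node (.leaf [0,1,3,1,0,2]) (.leaf [0,1,2,3,1,0,1,2,1,3,1]))) (.node (.node (.leaf [2,1,0,1,3,1,0,1,0,1,3,1,2]) (.leaf [1,2,1,0,3,1,0,2,1,3])) (.node (.leaf [1,0,3,1,0,1,2,1,0,3,1,0]) (.leaf []))))) (.node (.node (.node (.node (.leaf [1,0,1,0,1,0,1,2,1,3,1,2]) (.leaf [2,1,3,1,0,2,1,0,1,0,3,1])) (.node (.leaf [1,0,1,0,3,1,0,1,0,2,3,1,2]) (.leaf [2,1,0,1,2,3,1,0,1,0,3]))) (.node (.node (.leaf [0,2,1,0,1,3,1,0,1,0,1]) (.leaf [2,1,3,1,0,1,0,2,3,1,2])) (.node (.leaf [0,1,0,1,2,1,3,1,0,2,1,0,1,0])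 (.leaf [0,2,3,1,0,1,0,3,1,2])))) (.node (.node (.node (.leaf [0,2,1,0,1,0,1,0,2,1,3,1,0]) (.leaf [1,0,1,0,1,0,3,1,0,2,1,0])) (.node (.leaf [1,2,1,3,1,0,1,2,1,3]) (.leaf [1,0,2,1,0,1,3,1,0,1,2,3]))) (.node (.node (.leaf [1,3,1,0,1,2,3]) (.leaf [2,3,1,0,1,0,1,3,1,0,1])) (.node (.leaf [1,0,1,0,3,1,0,1,0,3,1,0,2,1]) (.leaf []))))))))

def lI_18 : CfsgLib.Coset.Tr (List Nat) := (.node (.node (.node (.node (.node (.node (.node (.leaf [0,2,1,0,1]) (.leaf [1,0,1,0,3,1,0,1,0,2,3,1,0,2])) (.node (.leaf [0,1,0,2,1,3,1,0,2,1,3]) (.leaf [1,2,3,1,0,2,1,0,3,1,0,1,2]))) (.node (.node (.leaf [2,1,0,1,3,1,0,1,0,3,1,2]) (.leaf [1,0,1,3,1,0,1,0,3,1,0,1,3])) (.node (.leaf [2,1,0,1,0,3,1,0,1,2,1,0]) (.leaf [0,1,0,1,3,1,0,1,0,1,2,1,3])))) (.node (.node (.node (.leaf [1,0,1,0,1,0,1,0,2,3]) (.leaf [3,1,0,2,1,0,1,3,1,0,1])) (.node (.leaf [1,0,2,1,0,1,0,2,3,1,0,1,0,3]) (.leaf [1,2,1,3,1,0,2,1,0,1,0,1,3,1]))) (.node (.node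 (.leaf [1,2,3,1,0,1,3]) (.leaf [0,1,0,1,3,1,0,1,2,3,1])) (.node (.leaf [1,0,3,1,0,1,0,1,2,3,1,0,2]) (.leaf []))))) (.node (.node (.node (.node (.leaf [1,2,1,0,1,0]) (.leaf [1,0,3,1,0,1,0,1,2,1])) (.node (.leaf [1,3,1,0,2,1,0,1,0,1,2]) (.leaf [0,1,0,1,0,3,1,0,1,0,2,1,3]))) (.node (.node (.leaf [1,0,1,0,1,0,1,3,1,2]) (.leaf [0,1,0,3,1,0,1,2,1,3,1,0])) (.node (.leaf [0,2,1,0,3,1,0,1,2,1]) (.leaf [1,0,3,1,0,1,0,3,1,0,2,1,0,1])))) (.node (.node (.node (.leaf [0,2,1,0,1,0,3,1,0,2]) (.leaf [3,1,0,1,0,3,1,0,2,1,0,3,1,0])) (.node (.leaf [0,1,2,3,1,0,1,0]) (.leaf [0,2,3,1,0,1,0,1,2,3,1]))) (.node (.node (.leaf [2,1,0,1,0,2,1,3,1,0,1]) (.leaf [0,2,1,0,3,1,0,2,1,0,3,1])) (.node (.leaf [0,1,3,1,0,1,0,1,0,2,1,3,1,0]) (.leaf [])))))) (.node (.node (.node (.node (.node (.leaf [0,1,2]) (.leaf [2,1,0,1,0,3,1,0,1,0,2,3])) (.node (.leaf [0,1,2,1,0,1,3,1,0,2]) (.leaf [2,1,3,1,0,1,0,2,1,0]))) (.node (.node (.leaf [0,2,1,0,1,0,3,1,0,1,0])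 (.leaf [0,1,2,1,0,1,0,3,1,0,2,1,0])) (.node (.leaf [1,0,1,0,1,0,3,1,0,1,2]) (.leaf [0,2,3,1,0,1,0,1,2,3])))) (.node (.node (.node (.leaf [0,2,1,0,1,0,1,0,2,1,3,1]) (.leaf [1,2,1,3,1,0,1,0,1,0,1,2,1,3])) (.node (.leaf [1,2,3,1,0,1,0,2]) (.leaf [0,1,0,1,3,1,0,1,0,1,3,1,0]))) (.node (.node (.leaf [1,0,1,3,1,0,1,0,3,1,0,2,1]) (.leaf [1,3,1,0,2,1,0,3,1,0,1,0,1])) (.node (.leaf [1,3,1,0,1,2,1,3,1]) (.leaf []))))) (.node (.node (.node (.node (.leaf [2,3]) (.leaf [0,1,2,1,3,1,0,1,3])) (.node (.leaf [0,1,0,2,3,1,0,1,0,1,0,1,2]) (.leaf [1,0,1,0,2,1,3,1,0,2,1,0,1,2]))) (.node (.node (.leaf [2,1,0,1,0,3,1,0,1,0,1,3,1,2]) (.leaf [0,2,1,0,3,1,0,1,2,1,3,1])) (.node (.leaf [1,0,2,3,1,0,1,0,1,2,3]) (.leaf [0,1,3,1,0,1,0,1,3,1,0,1])))) (.node (.node (.node (.leaf [0,1,2,3,1,0,1,0,1,0,1]) (.leaf [1,0,2,1,0,1,3,1,0,1,0,1,2])) (.node (.leaf [0,1,0,1,0,2,3,1,0,1,0,3,1,0]) (.leaf [1,0,3,1,0,1,0,3,1,0,2,1,0]))) (.node (.node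 (.leaf [2,1,3,1,0,2,1,0,1,0,1,0]) (.leaf [3,1,0,2,1,0,1,0,1,3,1,0])) (.node (.leaf [3,1,0,1,0,1,0,1,2,3,1]) (.leaf []))))))) (.node (.node (.node (.node (.node (.node (.leaf [1,3]) (.leaf [0,3,1,0,1,0,1,2,3,1,2])) (.node (.leaf [2,1,0,1,0,1,3,1,0,1,2,1]) (.leaf [3,1,0,2,1,0,1,0,2,3,1]))) (.node (.node (.leaf [0,1,0,2,3,1,0,1]) (.leaf [0,2,3,1,0,1,0,3,1,0,1])) (.node (.leaf [0,1,0,2,1,0,1,3,1,0,1,0,2]) (.leaf [2,1,3,1,0,2,1,0,1,2,3])))) (.node (.node (.node (.leaf [2,1,0,1,0,3,1]) (.leaf [0,1,2,1,3,1,0,1,2,1,3])) (.node (.leaf [0,1,2,3,1,0,1,0,1,0,2]) (.leaf [2,3,1,0,2,1,0,1,3,1,0,1,0]))) (.node (.node (.leaf [0,1,0,1,0,2,3,1,0,1,0,1,3,1]) (.leaf [1,0,3,1,0,1,0,3,1,0,1,0])) (.node (.leaf [1,2,1,3,1,0,1,2,1]) (.leaf []))))) (.node (.node (.node (.node (.leaf [0,1]) (.leaf [1,2,3,1,0,1,2,3,1])) (.node (.leaf [2,3,1,0,1,0,1,0,1,0,2]) (.leaf [3,1,0,1,0,2,3,1,0,2,1]))) (.node (.node (.leaf [1,2,1,0,1,3,1])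 (.leaf [0,1,2,1,0,1,3,1,0,1,2,1])) (.node (.leaf [0,1,0,2,3,1,0,2,1,3]) (.leaf [2,3,1,0,1,0,1,3,1])))) (.node (.node (.node (.leaf [1,0,1,0,1,0,1,0,1,2,3]) (.leaf [0,1,0,1,0,3,1,0,1,0,2,1,0])) (.node (.leaf [2,1,3,1,0,1,0,1,0,3,1]) (.leaf [2,1,0,3,1,0,1,0,1,2,3,1,2]))) (.node (.node (.leaf [0,1,0,2,3,1,0,1,2]) (.leaf [1,0,1,0,1,2,1,3,1,0,2,1,0,1,3])) (.node (.leaf [2,1,0,1,0,3,1,0,1,0,3,1,0]) (.leaf [])))))) (.node (.node (.node (.node (.node (.leaf [0,2,1,0,1,0,1,3]) (.leaf [0,1,0,1,0,2,1,0,3,1,0,1,3])) (.node (.leaf [1,3,1,0,1,0,2,3,1]) (.leaf [0,1,0,1,0,3,1,0,1,0,2,1,3,1,2]))) (.node (.node (.leaf [1,0,1,0,1,0,2,1,0,3,1,0,2,1]) (.leaf [1,0,3,1,0,1,0,3,1,0])) (.node (.leaf [2,3,1,0,1,0,2,1,3,1,0]) (.leaf [3,1,0,2,1,0,3,1,0,1,2])))) (.node (.node (.node (.leaf [0,1,0,2,3,1,2]) (.leaf [1,2,1,3,1,0,2,1,0,3,1])) (.node (.leaf [0,1,2,1,3,1,0,1]) (.leaf [0,3,1,0,1,0,1,2,3,1,0,1,2,1]))) (.node (.node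 (.leaf [0,1,3,1,0,1,2,1,3,1,0,1,0]) (.leaf [3,1,0,2,1,0,1,0,2,1])) (.node (.leaf [1,0,3,1,0,1,0,3,1,0,2]) (.leaf []))))) (.node (.node (.node (.node (.leaf [0,2,1,0,1,3,1,2]) (.leaf [0,1,0,1,2,3,1,0,1,0,1,2])) (.node (.leaf [1,0,2,1,3,1,0,1,0,1,3,1]) (.leaf [0,3,1,0,2,1,0,1,3,1]))) (.node (.node (.leaf [1,0,3,1,0,1,0,1]) (.leaf [0,2,3,1,0,1,0,3,1,0,2,1])) (.node (.leaf [0,1,0,2,1,0,3,1,0,2,1,0,1,0]) (.leaf [2,1,3,1,0,1,2,1,0,1,3,1])))) (.node (.node (.node (.leaf [1,0,2,1,0,1,0,1,0,3,1]) (.leaf [2,3,1,0,2,1,0,3,1,0])) (.node (.leaf [0,1,2,3,1,0,1,0,1,0,2,1,3]) (.leaf [0,1,0,1,3,1,0,1,0,3,1,0,2,1]))) (.node (.node (.leaf [1,3,1,0,1,2,1]) (.leaf [1,0,3,1,0,1,0,3,1,0,1,2])) (.node (.leaf [0,2,1,3,1,0,1,0,3,1,0]) (.leaf []))))))))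

def lI_19 : CfsgLib.Coset.Tr (List Nat) := (.node (.node (.node (.node (.node (.node (.node (.leaf [0,1,0,2]) (.leaf [2,1,3,1,0,2,1,0,1,0,1,3])) (.node (.leaf [0,1,0,1,2,1,0,3,1,0,2,1,0]) (.leaf [0,1,0,2,3,1,0,2,1,0,3,1,0,1]))) (.node (.node (.leaf [1,2,1,0,1,0,1,3,1,0]) (.leaf [0,1,0,1,3,1,0,1,0,1,3,1,0,1,3])) (.node (.leaf [0,1,0,3,1,0,2,1,0,1,0,1]) (.leaf [0,1,0,1,0,1,2,1,3,1,0,2,1,0,3])))) (.node (.node (.node (.leaf [1,2,1,0,1,0,3]) (.leaf [0,1,3,1,0,1,0,2,1,0,3,1,0,2])) (.node (.leaf [1,0,2,1,0,1,0,3,1,0,1]) (.leaf [0,1,0,1,0,3,1,0,1,0,1,3,1]))) (.node (.node (.leaf [0,1,3,1,2]) (.leaf [2,1,0,3,1,0,1,2])) (.node (.leaf [1,0,1,3,1,0,1,0,1,2,3,1,0]) (.leaf []))))) (.node (.node (.node (.node (.leaf [2,1,0,1,0,3]) (.leaf [1,2,3,1,0,1,2,1,0,3,1,2])) (.node (.leaf [3,1,0,1,0,1,0,1,3]) (.leaf [1,0,1,0,2,1,3,1,0,2,1,0,3]))) (.node (.node (.leaf [0,2,1,0,1,0,3,1,0,1,0,2,3,1,2]) (.leaf [0,1,0,1,3,1,0,2,1,0]))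 (.node (.leaf [0,2,1,0,1,0,1,3,1,0,1,2,3]) (.leaf [0,1,0,1,0,3,1,0,1,0,2,3])))) (.node (.node (.node (.leaf [1,0,1,0,1,0,1,2,3,1,2]) (.leaf [1,0,1,2,1,0,3,1,0,2,1,0,3])) (.node (.leaf [0,2,1,0,3,1,0,2,1,0,1,3,1,0]) (.leaf [1,2,1,0,3,1,0,1,2,1,3]))) (.node (.node (.leaf [2,1,0,1,0,2,1,3,1,0,2]) (.leaf [0,1,2,3,1,0,1,0,1,2,3,1])) (.node (.leaf [3,1,0,1,0,1,0,1,2,3]) (.leaf [])))))) (.node (.node (.node (.node (.node (.leaf [1,0,2,1,0,1,0,1]) (.leaf [0,1,0,1,3,1,0,1,2])) (.node (.leaf [0,2,1,0,1,0,3,1,0,1,2,1,3]) (.leaf [0,1,0,1,2,3,1,0,1,0,2,1,3]))) (.node (.node (.leaf [1,3,1,0,1,3]) (.leaf [0,1,2,3,1,0,2,1,0,3,1,0,1,0])) (.node (.leaf [2,3,1,0,2,1,0,3,1,0,2]) (.leaf [1,0,3,1,0,1,0,3,1,0,1,2,3,1])))) (.node (.node (.node (.leaf [2,3,1]) (.leaf [1,0,2,3,1,0,1,0,3,1,0,1,0,2])) (.node (.leaf [0,3,1,0,1,0,1,0,3,1,2]) (.leaf [1,0,1,0,3,1,0,2,1,0,3,1,0,1]))) (.node (.node (.leaf [0,1,0,1,0,2,3,1,0,1,0,3,1])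 (.leaf [1,2,1,0,1,3,1,0,2,1,3])) (.node (.leaf [1,2,3,1,0,1,2,1,0,3,1]) (.leaf []))))) (.node (.node (.node (.node (.leaf [0,1,0,2,1,3,1,0]) (.leaf [1,0,2,3,1,0,1,0,3,1,0,1,0])) (.node (.leaf [1,0,1,0,3,1,0,1,0,3,1,0,2,1,3]) (.leaf [2,1,0,3,1,0,2,1,0,1,0,3]))) (.node (.node (.leaf [1,0,2,1,0,1,0,3,1,0]) (.leaf [2,3,1,0,1,2,1,3])) (.node (.leaf [0,2,1,0,1,3,1,0,1,2,3,1]) (.leaf [0,1,0,1,0,3,1,0,1,0,1,3,1,0,2,1])))) (.node (.node (.node (.leaf [0,1,0,1,2,1,0,3,1,0,1]) (.leaf [1,0,1,0,1,0,3,1,0,1,2,1])) (.node (.leaf [0,2,1,0,3,1,0,1,0,1,3,1,0,2,1]) (.leaf [0,1,0,1,0,3,1,0,1,0,3,1,0]))) (.node (.node (.leaf [1,3,1,0,1,0,3]) (.leaf [1,0,2,1,3,1,0,1,0,3,1,0,1,3])) (.node (.leaf [3,1,0,1,0,1,0,1,2,1]) (.leaf []))))))) (.node (.node (.node (.node (.node (.node (.leaf [2,1,0,1,0]) (.leaf [1,0,2,1,0,1,0,2,3,1,0,1,0,2])) (.node (.leaf [0,1,0,3,1,0,2,1,0,1,0,1,0]) (.leaf [0,2,3,1,0,1,0,3]))) (.node (.node (.leaf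 [3,1,0,2]) (.leaf [0,1,0,1,0,2,3,1,0,1,0,2])) (.node (.leaf [2,1,0,1,3,1,0,1,0,1,2,3]) (.leaf [0,1,0,1,3,1,0,1,0,2,1])))) (.node (.node (.node (.leaf [0,1,3]) (.leaf [2,1,0,1,0,3,1,0,1,0,2,3,1,0])) (.node (.leaf [1,2,1,0,1,0,2,3,1,0,1,3]) (.leaf [1,3,1,0,1,0,1,3,1,0,1,2,3,1]))) (.node (.node (.leaf [0,2,1,3,1,0,1]) (.leaf [3,1,0,1,0,1,0,2,1])) (.node (.leaf [1,0,3,1,0,1,0,1,2,3]) (.leaf []))))) (.node (.node (.node (.node (.leaf [0,2,1,0,1,0,1,0,2,1,3]) (.leaf [2,1,3,1,0,2,1,0,1,2,3,1,0])) (.node (.leaf [1,0,2,1,3,1,0,1,0,3,1]) (.leaf [0,1,0,1,0,2,3,1,0,1,0,2,1]))) (.node (.node (.leaf [1,0,1,0,1,0,1,0,2,3,1,2]) (.leaf [0,1,0,3,1,0,1,0,2,3,1,0,1])) (.node (.leaf [1,3,1,0,2,1,0,1,3]) (.leaf [1,0,3,1,0,1,0,3,1,0,2,1,0,3])))) (.node (.node (.node (.leaf [1,2,1,0,3,1]) (.leaf [0,3,1,0,2,1,0,1,3,1,2])) (.node (.leaf [1,2,1,3,1,0,1,0,1,0,1,2,1]) (.leaf [0,2,3,1,0,1,0,3,1,0,2]))) (.node (.node (.leaf [1,0,2,1,0,1,0,1,2,3,1,0,1,3])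 (.leaf [2,1,3,1,0,2,1,0,3,1,2])) (.node (.leaf [1,0,1,2,1,0,1,3,1,0,1,2]) (.leaf [])))))) (.node (.node (.node (.node (.node (.leaf [1,0,1,0,1,0,1,0,2]) (.leaf [0,1,0,1,0,3,1,0,1,0,3,1,0,1,2,3])) (.node (.leaf [0,2,1,0,1,3,1,0,1,0,3,1,2]) (.leaf [0,3,1,0,1,0,1,2,3,1,0,2,1]))) (.node (.node (.leaf [2,1,0,1,0,1,3,1,0,2,1]) (.leaf [1,3,1,0,2,1,0,3,1,0,1,0])) (.node (.leaf [0,1,0,2,3,1,0,1,0,1]) (.leaf [2,1,3,1,0,1,0,1,2,3])))) (.node (.node (.node (.leaf [0,1,0,1,2,1,3,1,0,1,0,1,0]) (.leaf [0,1,0,3,1,0,1,0,1,0,2,1,0])) (.node (.leaf [1,0,2,1,0,1,0,1,0,3,1,0,2]) (.leaf [3,1,0,2,1,0,1,0,1,2]))) (.node (.node (.leaf [3,1,0,1,0,3]) (.leaf [0,2,3,1,0,1,0,2,3,1,0])) (.node (.leaf [0,1,3,1,0,1,0,1,0,2,3,1,2]) (.leaf []))))) (.node (.node (.node (.node (.leaf [2,1,0,1,0,1,3,1,2]) (.leaf [0,1,0,1,2,3,1,0,1,0,2,1,3,1])) (.node (.leaf [1,0,1,0,3,1,0,1,0,1,3,1,2]) (.leaf [2,3,1,0,1,0,1,3]))) (.node (.node (.leaf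 [2,1,0,1,0,1,0,3,1,0,1,2]) (.leaf [1,0,3,1,0,1,0,3,1,0,2,1])) (.node (.leaf [1,2,3,1,0,2,1,0,1,0]) (.leaf [0,1,0,3,1,0,1,0,3,1,0,1])))) (.node (.node (.node (.leaf [0,1,2,3,1,2]) (.leaf [2,3,1,0,1,0,2,1,3,1])) (.node (.leaf [1,0,1,3,1,0,1,0,1,2,3,1]) (.leaf [2,1,3,1,0,1,2,1,0,1]))) (.node (.node (.leaf [1,0,2,3,1,0,1,0,1,0,2,3]) (.leaf [1,2,3,1,0,1,0,1,3,1,0,1])) (.node (.leaf [0,1,0,2,1,0,1,0,3,1,0,1,0,3]) (.leaf []))))))))

def lI_20 : CfsgLib.Coset.Tr (List Nat) := (.node (.node (.node (.node (.node (.node (.node (.leaf [1]) (.leaf [0,1,0,2,3,1,0,1,2,1,3])) (.node (.leaf [0,2,1,0,1,0,3,1,0,2,1,0]) (.leaf [0,2,1,3,1,0,1,0,1,0,2,3,1]))) (.node (.node (.leaf [1,0,1,3,1,0,1,0,3,1,0,2,1,0]) (.leaf [0,1,3,1,0,1,0,1,2,3,1,0,1])) (.node (.leaf [1,2,1,0,1,3,1,0,1,2,1,0,1]) (.leaf [2,1,3,1,0,2,1,0,1,2])))) (.node (.node (.node (.leaf [1,2,1,0,1]) (.leaf [0,3,1,0,1,2,1])) (.node (.leaf [0,3,1,0,1,0,1,3])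 (.leaf [1,0,2,1,0,1,3,1,0,1,0,1,2,1]))) (.node (.node (.leaf [0,1,0,1,2,1,0,3,1,0,1,3]) (.leaf [2,1,3,1,0,1,2,3,1])) (.node (.leaf [1,2,3,1,0,1,2,1,0]) (.leaf []))))) (.node (.node (.node (.node (.leaf [1,0,1,0,1,0,1]) (.leaf [2,1,0,1,0,3,1,0,1,2,3])) (.node (.leaf [1,3,1,0,2,1,0,1,0,3,1,0,1,0]) (.leaf [2,1,0,3,1,0,2,1,0,1,0]))) (.node (.node (.leaf [1,2,1,3,1,0,2]) (.leaf [0,1,3,1,0,1,0,1,0,2,1,3,1,2])) (.node (.leaf [0,1,0,2,3,1,0,1,2,1]) (.leaf [0,2,3,1,0,1,0,3,1])))) (.node (.node (.node (.leaf [0,2,1,0,1,3,1,0,2]) (.leaf [3,1,0,1,0,2,3,1,0,2])) (.node (.leaf [1,0,2,1,0,3,1,0,1,0,1,3,1,0]) (.leaf [3,1,0,2,1,0,1,0,1,3]))) (.node (.node (.leaf [1,0,1,0,1,0,3,1,0,1]) (.leaf [0,2,1,3,1,0,1,0,3,1,0,1])) (.node (.leaf [0,1,0,1,3,1,0,1,2,1,3,1]) (.leaf [])))))) (.node (.node (.node (.node (.node (.leaf [2,1,0,1,0,1,0,3]) (.leaf [0,1,2,1,3,1,0,2,1,0,3,1])) (.node (.leaf [0,1,0,1,3,1,0,2]) (.leaf [0,2,3,1,0,1,2,3])))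 (.node (.node (.leaf [0,1,0,1,2,1,3,1,0,1,0,1]) (.leaf [0,1,0,1,0,3,1,0,2,1,0])) (.node (.leaf [1,0,2,1,0,1,3,1,0,1,0,1]) (.leaf [0,1,0,1,3,1,0,1,0,2,3])))) (.node (.node (.node (.leaf [0,1,2,3,1]) (.leaf [1,0,1,0,2,1,3,1,0,2,1,0])) (.node (.leaf [1,2,3,1,0,2,1,0,1,3,1]) (.leaf [1,3,1,0,1,0,1,3,1,0,1,2,1]))) (.node (.node (.leaf [0,2,1,0,1,0,1,0,2,1,3,1,0,2]) (.leaf [0,1,0,2,3,1,0,1,0,1,0,2,3])) (.node (.leaf [1,3,1,0,1,0,2,3,1,0,2,1]) (.leaf []))))) (.node (.node (.node (.node (.leaf [1,0,2,1,0,1,0,1,3]) (.leaf [0,2,1,0,1,0,1,0,2,3,1,0,1,3])) (.node (.leaf [0,2,1,0,3,1,0,1,0,1,0]) (.leaf [0,1,0,1,0,3,1,0,1,0,1,2,1,3]))) (.node (.node (.leaf [1,0,3,1,0,1,0,2,3,1,0,1,0,2,1]) (.leaf [0,1,0,2,3,1,0,1,0,1,0,2,1,3,1])) (.node (.leaf [0,2,1,0,1,3,1,0,1,0,2,3]) (.leaf [2,1,3,1,0,1,2,1,0,3,1,0,2,1])))) (.node (.node (.node (.leaf [0,2,3,1,0,1,0,1,0,1,0]) (.leaf [2,3,1,0,2,1,0,1,3,1])) (.node (.leaf [1,0,1,3,1,0,1,0,3,1,0,1,2,1])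 (.leaf [1,0,2,1,0,1,0,3,1,0,1,0,3,1,2]))) (.node (.node (.leaf [1,0,1,0,3,1,0,1,0,2,1,3,1,0]) (.leaf [2,1,3,1,0,2,1,0,3,1,0])) (.node (.leaf [2,1,0,1,3,1,0,1,3]) (.leaf []))))))) (.node (.node (.node (.node (.node (.node (.leaf [1,0,1,0,1,0,2,1,0,3]) (.leaf [0,1,2,3,1,0,1,0,2,1,3,1,2])) (.node (.leaf [1,0,3,1,0,1,0,1,0,2,1]) (.leaf [2,1,3,1,0,2,1,0,1,2,3,1]))) (.node (.node (.leaf [0,2,1,0,1,0,1,0,1,0,3,1,2]) (.leaf [0,1,0,1,3,1,0,1,0,1,3,1,0,1])) (.node (.leaf [0,1,0,1,0,2,3,1,0,1,0,1,2]) (.leaf [0,2,1,3,1,0,1,0,3,1,0,1,3])))) (.node (.node (.node (.leaf [0,3,1,0,1,0,1,0,1,0]) (.leaf [0,3,1,0,1,0,1,2,3,1,0,2])) (.node (.leaf [2,1,0,1,0,3,1,0,1,0]) (.leaf [2,3,1,0,1,2,1,0]))) (.node (.node (.leaf [1,0,1,3,1,0,1,0,3,1]) (.leaf [2,3,1,0,1,0,1,0,3])) (.node (.leaf [0,2,1,3,1,0,1,0,1,0,2,1]) (.leaf []))))) (.node (.node (.node (.node (.leaf [1,2,3,1]) (.leaf [3,1,0,2,1,0,3,1,0,1,0])) (.node (.leaf [1,0,1,0,1,0,1,0,3,1,2])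 (.leaf [0,2,3,1,0,1,0,3,1,0,1,0,3]))) (.node (.node (.leaf [2,3,1,0,1,0,1,0,1,0]) (.leaf [0,1,0,1,3,1,0,1,2,1])) (.node (.leaf [0,1,0,1,3,1,0,1,0,2,1,0,3,1]) (.leaf [0,1,0,1,0,3,1,0,1,0,3,1])))) (.node (.node (.node (.leaf [1,0,1,0,1,0,1,0,3]) (.leaf [3,1,0,1,0,1,2,1,3])) (.node (.leaf [1,0,1,0,3,1,0,1,3]) (.leaf [1,2,1,3,1,0,2,1,0,1,0,1,2,3]))) (.node (.node (.leaf [2,1,0,1,3,1,0,1,0,1]) (.leaf [1,2,1,3,1,0,1,0,2,1])) (.node (.leaf [1,0,1,0,3,1,0,1,0,1,3,1,0]) (.leaf [])))))) (.node (.node (.node (.node (.node (.leaf [3]) (.leaf [0,1,2,1,0,1,3,1,0,1,3])) (.node (.leaf [1,2,3,1,0,1,0,2,3,1,2]) (.leaf [0,3,1,0,1,2,1,0]))) (.node (.node (.leaf [0,1,0,2,1,3,1,0,2,1]) (.leaf [0,3,1,0,1,0,2,1,3])) (.node (.leaf [2,3,1,0,2,1]) (.leaf [0,3,1,0,1,0,1,0,2,3,1,0])))) (.node (.node (.node (.leaf [0,2,1,0,1,0,1,3,1,0]) (.leaf [1,0,1,3,1,0,1,0,1,2,3])) (.node (.leaf [0,2,1,0,1,0,1,0,2,3,1,0,1]) (.leaf [0,1,0,1,0,2,1,0,3,1,0,2,1,0,1])))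 (.node (.node (.leaf [1,0,1,3,1,0,1,0,1,2,3,1,2]) (.leaf [1,2,1,0,3,1,0,2,1,0])) (.node (.leaf [0,2,3,1,0,1,0,1,2,3,1,0,2]) (.leaf []))))) (.node (.node (.node (.node (.leaf [0,1,0,2,1,3,1,2]) (.leaf [2,1,3,1,0,1,0,1,0,2,1,0])) (.node (.leaf [0,1,0,1,2,3,1,0,1,0,1,3,1]) (.leaf [0,1,2,1,0,1,0,3,1,0,1,0,2]))) (.node (.node (.leaf [0,2,1,3,1,0,1,0,1,0]) (.leaf [1,3,1,0,1,2,1,0,1,3,1,0])) (.node (.leaf [0,1,0,2,1,3,1,0,2,1,0,1]) (.leaf [1,3,1,0,2,1,0,3,1,0,1,0,3,1,0])))) (.node (.node (.node (.leaf [0,2,3,1]) (.leaf [2,3,1,0,2,1,0,3,1,0,1,0,1])) (.node (.leaf [2,1,0,1,3,1,0,1,0,3]) (.leaf [0,1,0,1,0,3,1,0,1,0,1,3,1,0,2]))) (.node (.node (.leaf [0,1,0,2,1,3,1,0,1,2,1]) (.leaf [2,3,1,0,1,0,1,3,1,0,1,3])) (.node (.leaf [0,1,0,1,2,3,1,0,1,0,1,3,1,0]) (.leaf []))))))))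

def lI_21 : CfsgLib.Coset.Tr (List Nat) := (.node (.node (.node (.node (.node (.node (.node (.leaf [2,1,0,1,0,1,0]) (.leaf [1,0,1,0,3,1,0,1,0,2,3,1])) (.node (.leaf [0,1,0,1,2,1,3,1,0,2,1,0,1,0,1]) (.leaf [0,2,1,0,1,3,1,0,1,0,1,3,1,0]))) (.node (.node (.leaf [2,1,0,1,0,2,1,3,1,0]) (.leaf [1,3,1,0,1,0,1,3,1,0,1,2,3])) (.node (.leaf [1,0,2,1,3,1,0,1,2,1,0,1,3]) (.leaf [2,1,3,1,0,1,0,1,2,3,1])))) (.node (.node (.node (.leaf [1,0,1,0,1,0,1,3]) (.leaf [3,1,0,2,1,0,3,1,0])) (.node (.leaf [0,1,0,1,0,2,1,0,3,1,0,1]) (.leaf [0,1,2,1,0,1,0,3,1,0,1,0,1,3,1]))) (.node (.node (.leaf [1,0,2,1,0,1,0,1,0,3,1,0]) (.leaf [0,3,1,0,2,1,0,1,3,1,0])) (.node (.leaf [0,1,0,3,1,0,2,1,0,1,0,1,0,3]) (.leaf []))))) (.node (.node (.node (.node (.leaf [0,1,0,1,0,1,0,1,0,1,3]) (.leaf [1,0,3,1,0,1,0,1,3,1])) (.node (.leaf [1,2,3,1,0,2,1,0,3]) (.leaf [2,1,0,3,1,0,1,0,2,3,1]))) (.node (.node (.leaf [1,3,1,0,1,0,2,3,1,2]) (.leaf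 [1,0,1,0,3,1,0,1,2,1,3,1,0])) (.node (.leaf [0,2,1,0,3,1,0,1,2,3]) (.leaf [1,0,1,3,1,0,1,2,3,1,0,1,0])))) (.node (.node (.node (.leaf [2,1,0,1,0,1,3,1,0,2]) (.leaf [0,1,0,2,3,1,0,1,0,2,3,1])) (.node (.leaf [1,2,1,3,1,0,1,0,1,0,2]) (.leaf [2,1,3,1,0,1,0,3,1,0]))) (.node (.node (.leaf [0,1,0,2,1,0,1,0,1,0,3,1,0,2]) (.leaf [0,3,1,0,1,0,1,2,3,1])) (.node (.leaf [1,0,2,1,0,1,3,1,0,1]) (.leaf [])))))) (.node (.node (.node (.node (.node (.leaf [0,1,0]) (.leaf [1,0,2,1,0,1,0,3,1,0,1,0])) (.node (.leaf [1,3,1,0,1,2,1,3]) (.leaf [1,2,1,3,1,0,1,0,2,1,3]))) (.node (.node (.leaf [0,2,1,0,1,0,3,1,0,1,2]) (.leaf [0,2,1,0,3,1,0,1,2,3,1])) (.node (.leaf [0,1,2,1,3,1,0,1,0,1,0,3,1]) (.leaf [1,0,2,1,0,1,0,3,1,0,1,0,3,1])))) (.node (.node (.node (.leaf [1,0,2,1,0,1,0,1,3,1]) (.leaf [1,0,1,3,1,0,1,0,3,1,0,1,2])) (.node (.leaf [1,2,3,1,0,1,0,3]) (.leaf [0,1,0,2,3,1,0,1,2,3,1,0]))) (.node (.node (.leaf [1,0,2,1,0,1,2,3,1,0,1,0,3,1])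 (.leaf [2,1,0,3,1,0,1,2,1])) (.node (.leaf [0,2,1,0,1,0,3,1,0,1,0,1,3,1,2]) (.leaf []))))) (.node (.node (.node (.node (.leaf [0,2,1,0,1,0,1,3,1]) (.leaf [1,0,1,3,1,0,1,0,1,3,1,0,1,2])) (.node (.leaf [1,0,1,0,3,1,0,1,0,1,3,1,0,2,1]) (.leaf [0,1,0,1,0,2,1,3,1,0,2,1,0,1]))) (.node (.node (.leaf [0,1,0,1,0,2,1,0,3,1,0]) (.leaf [2,1,0,3,1,0,1,0,1,0,2,1,3])) (.node (.leaf [0,2,1,0,1,3,1,0,1,0,3,1]) (.leaf [0,1,0,1,3,1,0,1,0,3,1,0,2])))) (.node (.node (.node (.leaf [0,1,0,2,1,0,3,1,0,1,0,1,0]) (.leaf [1,0,2,1,0,1,3,1,0,1,0,1,3])) (.node (.leaf [1,0,1,3,1,0,1,0,1,3,1,0,2,1]) (.leaf [1,0,3,1,0,1,0,3,1,0,1,2,1]))) (.node (.node (.leaf [1,0,2,3,1,0,1,0,1,2]) (.leaf [1,0,1,0,3,1,0,1,0,3,1,0,1,2,3])) (.node (.leaf [1,2,1,0,3,1,0,2,1]) (.leaf []))))))) (.node (.node (.node (.node (.node (.node (.leaf [0,1,0,1,0,1,0,1,0,1]) (.leaf [0,1,0,1,2,3,1,0,1,0,2])) (.node (.leaf [1,2,3,1,0,2,1,3]) (.leaf [0,1,0,1,3,1,0,1,0,1,3])))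 (.node (.node (.leaf [0,1,0,2,3,1,0,2]) (.leaf [0,1,0,1,3,1,0,1,0,1,3,1,0,1,2])) (.node (.leaf [0,2,1,3,1,0,2,1,0,1,0,1,3,1]) (.leaf [2,1,3,1,0,2,1,0,1,3])))) (.node (.node (.node (.leaf [1,2,3,1,0]) (.leaf [0,1,2,1,3,1,0,2,1,3])) (.node (.leaf [0,1,2,3,1,0,1,0,1,0,3]) (.leaf [2,3,1,0,1,0,2,3,1]))) (.node (.node (.leaf [0,3,1,0,1]) (.leaf [1,2,1,0,3,1,0,1,2,1])) (.node (.leaf [0,3,1,0,1,0,2,1,0,3,1,0]) (.leaf []))))) (.node (.node (.node (.node (.leaf [0,1,2,3]) (.leaf [0,2,3,1,0,1,0])) (.node (.leaf [0,1,0,1,2,3,1,0,1,0,3,1]) (.leaf [1,2,1,0,3,1,0,1,0,2,1]))) (.node (.node (.leaf [2,3,1,0,1,0,1,0,1,3]) (.leaf [3,1,0,2,1,0,1,0,1,0,3])) (.node (.leaf [1,3,1,0,1,0,2,1]) (.leaf [2,1,0,3,1,0,1,0,1,3,1,0])))) (.node (.node (.node (.leaf [1,2,1,0,1,2,3,1]) (.leaf [0,1,2,1,0,1,0,3,1,0,1,0])) (.node (.leaf [0,2,3,1,0,2,1]) (.leaf [0,1,0,1,3,1,0,1,0,1,3,1,0,2]))) (.node (.node (.leaf [0,1,0,2,3,1,0,1,3])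 (.leaf [1,0,2,1,0,1,0,3,1,0,1,0,2])) (.node (.leaf [1,2,1,0,1,2,3,1,0,1,2]) (.leaf [])))))) (.node (.node (.node (.node (.node (.leaf [0,1,0,1,0,1,0,1,0,2,3,1]) (.leaf [1,2,3,1,0,1,0,1,3,1,0,1,3])) (.node (.leaf [1,3,1,0,1,0,3,1,2]) (.leaf [0,1,2,3,1,0,1,0,1,2,3,1,0,1,2]))) (.node (.node (.leaf [0,1,0,1,2,1,0,3,1,0,2,1]) (.leaf [1,0,2,1,0,3,1,0,1,2,3,1])) (.node (.leaf [0,1,0,1,3,1,0,1,0,1,3,1,0,1,2,3]) (.leaf [0,1,0,1,3,1,0,1,0,1,2,3])))) (.node (.node (.node (.leaf [0,1,0,2,1,3,1,0,1]) (.leaf [1,2,1,3,1,0,1,2,1,3,1])) (.node (.leaf [0,2,1,0,1,0,1,0,2,3,1,0,2]) (.leaf [2,1,3,1,0,1,2,1,0]))) (.node (.node (.leaf [1,0,2,1,0,3,1,0,1,0,1,3,1,2]) (.leaf [3,1,0,1,0,1,0,1,2,1,3])) (.node (.leaf [0,2,3,1,0,1,0,1,0,2,3,1,2]) (.leaf []))))) (.node (.node (.node (.node (.leaf [2,1,0,1,0,1,0,3,1,2]) (.leaf [1,0,1,0,1,3,1,0,2,1,0])) (.node (.leaf [0,1,0,1,2,3,1,0,1,0,1,2,3,1,2]) (.leaf [0,1,0,1,0,3,1,0,1,0,3])))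 (.node (.node (.leaf [1,2,3,1,0,2,1,0,1,0,3,1,0]) (.leaf [0,2,3,1,0,1,0,1,2,3,1,2])) (.node (.leaf [0,1,0,2,1,3,1,0,2,1,0,1,2]) (.leaf [0,1,2,1,0,3,1,0,1,0,3,1,0,1,0])))) (.node (.node (.node (.leaf [0,2,1,3,1,0]) (.leaf [2,3,1,0,2,1,0])) (.node (.leaf [0,1,0,3,1,0,2,1,0,1,0,1,3]) (.leaf [2,3,1,0,1,0,1,0,2,3]))) (.node (.node (.leaf [0,2,1,0,1,3,1,0,1,2,3]) (.leaf [1,0,3,1,0,1,0,3,1,0,1])) (.node (.leaf [0,2,1,3,1,0,1,0,3,1,0,2,1]) (.leaf []))))))))

def lI_22 : CfsgLib.Coset.Tr (List Nat) := (.node (.node (.node (.node (.node (.node (.node (.leaf [0,1,0,1,2,1,0]) (.leaf [1,2,1,0,3,1,0,1,0,1,0,2,1,3])) (.node (.leaf [1,0,1,0,3,1,0,1,0,2,3,1,0,1]) (.leaf [1,3,1,0,1,0,1,3,1,0]))) (.node (.node (.leaf [0,1,0,1,0,2,3,1,0,1,0,3,1,2]) (.leaf [1,0,1,3,1,0,1,0,1,3,1,0,1,2,3])) (.node (.leaf [3,1,0,1,0,2,3,1,2]) (.leaf [0,2,3,1,0,1,0,2,1,3])))) (.node (.node (.node (.leaf [1,2,1,0,1,2,3]) (.leaf [0,2,1,0,3,1,0,2,1,0,3,1,0]))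 (.node (.leaf [1,2,1,3,1,0,1,0,3]) (.leaf [0,1,0,1,0,3,1,0,1,0,1,2,3]))) (.node (.node (.leaf [0,1,3,1,0]) (.leaf [0,2,3,1,0,1,0,1,0,2,3,1])) (.node (.leaf [1,0,3,1,0,1,0,1,0,2,1,3]) (.leaf []))))) (.node (.node (.node (.node (.leaf [0,1,0,1,0,1,0,1,0,1,2]) (.leaf [1,2,3,1,0,2,1,0,1,0,3])) (.node (.leaf [1,0,3,1,0,1,0,1,2,3,1]) (.leaf [3,1,0,1,0,2,1,0,3]))) (.node (.node (.leaf [2,1,0,1,0,1,0,1,2,3,1,2]) (.leaf [1,0,3,1,0,1,0,1,2,3,1,0,2,1])) (.node (.leaf [1,2,1,0,3,1,0,1,0,1,0,2,1]) (.leaf [2,1,0,3,1,0,1,0,2,3,1,2])))) (.node (.node (.node (.leaf [0,1,2,3,1,0,1,0,1,0,1,2,3]) (.leaf [0,1,0,1,0,1,2,3,1,0,1,2,1,3])) (.node (.leaf [0,3,1,0,1,0]) (.leaf [2,1,3,1,0,1,2,1,0,3,1,0,2]))) (.node (.node (.leaf [1,2,1,0,1,0,1,3,1,0,1]) (.leaf [1,0,1,0,3,1,0,1,0,2,3])) (.node (.leaf [2,1,0,1,2,3,1,0,1]) (.leaf [])))))) (.node (.node (.node (.node (.node (.leaf [0,2,1,0,1,0,1,0,2,1]) (.leaf [0,1,2,1,0,1,3,1,0,1,0]))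 (.node (.leaf [0,1,0,1,0,2,1,0,3,1,0,2]) (.leaf [0,1,0,1,3,1,0,1,0,2,1,0]))) (.node (.node (.leaf [0,1,0,2,1,3,1,0,1,2]) (.leaf [2,1,0,3,1,0,2,1,0])) (.node (.leaf [2,1,0,3,1,0,1,0,1,0,2]) (.leaf [2,1,3,1,0,1,2,1,0,3,1,2])))) (.node (.node (.node (.leaf [0,2,1,0,1,0,1,0,1,2,3,1]) (.leaf [0,3,1,0,2,1,3])) (.node (.leaf [1,0,3,1,0,1,0,1,3]) (.leaf [0,2,3,1,0,1,0,3,1,0]))) (.node (.node (.leaf [2,1,0,1,3,1,0,1,0,3,1,0,2]) (.leaf [2,1,0,1,2,3,1,0,1,2,1])) (.node (.leaf [0,2,1,0,1,0,3,1,0,1,2,1,3,1]) (.leaf []))))) (.node (.node (.node (.node (.leaf [0,1,0,2,3,1]) (.leaf [0,2,3,1,0,1,3])) (.node (.leaf [1,2,1,0,3,1,0,2]) (.leaf [0,1,0,1,0,3,1,0,2,1,0,1]))) (.node (.node (.leaf [0,1,0,1,2,3,1,0,1,0,1,3,1,2]) (.leaf [3,1,0,1,2,1,3,1])) (.node (.leaf [1,3,1,0,1,0,3,1]) (.leaf [2,1,3,1,0,1,0,3,1,0,1])))) (.node (.node (.node (.leaf [0,3,1,0,1,0,1,0,1]) (.leaf [0,1,2,1,0,1,0,3,1,0,1,0,1,3])) (.node (.leaf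 [0,2,1,0,3,1,0,1,0,1,3,1,0]) (.leaf [0,1,0,1,0,3,1,0,1,0,3,1,2]))) (.node (.node (.leaf [1,3,1,0,1,0,2]) (.leaf [0,2,3,1,0,1,0,1,0,2,3])) (.node (.leaf [2,1,0,1,2,3,1,0,2,1]) (.leaf []))))))) (.node (.node (.node (.node (.node (.node (.leaf [0,2,1,0,1,3]) (.leaf [1,2,1,3,1,0,1,0,2,3,1,2])) (.node (.leaf [3,1,0,2,1,0,3,1,0,1,0,3,1,2]) (.leaf [0,2,3,1,0,1,0,2]))) (.node (.node (.leaf [1,0,2,1,0,1,0,1,2,3,1,0,1]) (.leaf [1,3,1,0,1,0,1,3,1,0,1])) (.node (.leaf [1,2,1,0,3,1,0,1,0,1,2]) (.leaf [2,1,3,1,0,1,0,1,2,1])))) (.node (.node (.node (.leaf [0,1,2,3,1,0,1,0,1,0,1,3]) (.leaf [1,0,1,0,2,3,1,0,1,2,1,3])) (.node (.leaf [1,2,1,0,1,0,2,3,1,0,1,2]) (.leaf [1,2,1,3,1,0,2,1,0,1,0,1,3]))) (.node (.node (.leaf [1,0,2,1,0,3,1,0,1,0,1,3,1]) (.leaf [1,0,1,0,3,1,0,1,0,3,1,0,1,2])) (.node (.leaf [0,1,0,1,3,1,0,2,1]) (.leaf []))))) (.node (.node (.node (.node (.leaf [0,2]) (.leaf [0,1,2,1,0,1,3,1,0,1,0,1])) (.node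 (.leaf [2,1,0,1,2,3,1,2]) (.leaf [0,1,0,2,3,1,0,1,2,1,3,1,0]))) (.node (.node (.leaf [0,1,0,2,3,1,0,1,0,1,0,1]) (.leaf [3,1,0,2,1,0,1,0,3,1,0,1])) (.node (.leaf [1,0,1,0,3,1,0,1,0,2,3,1,0]) (.leaf [1,0,3,1,0,1,0,3,1,0,1,2,1,3])))) (.node (.node (.node (.leaf [1,2,1,0,1,3]) (.leaf [2,1,0,3,1,0,1,0,2,1,0])) (.node (.leaf [0,1,3,1,0,2,1]) (.leaf [2,3,1,0,1,0,2,3,1,2]))) (.node (.node (.leaf [0,2,1,3,1,0,2,1,0,1,0,3,1,0]) (.leaf [2,1,3,1,0,2,1,0,1,3,1])) (.node (.leaf [1,0,2,1,3,1,0,1,0,3,1,0]) (.leaf [])))))) (.node (.node (.node (.node (.node (.leaf [0,1,0,2,1,3,1]) (.leaf [0,2,3,1,0,1,0,1,0,3])) (.node (.leaf [1,3,1,0,2,1,0,3]) (.leaf [1,2,1,3,1,0,1,0,1,0,2,1,3]))) (.node (.node (.leaf [0,2,1,0,1,0,3,1,0,2,1]) (.leaf [1,2,3,1,0,1,0,1,3,1,0])) (.node (.leaf [1,3,1,0,1,0,1,3,1,0,1,3]) (.leaf [0,1,2,1,3,1,0,1,2,3,1])))) (.node (.node (.node (.leaf [3,1,2]) (.leaf [0,2,1,3,1,0,1,0,1,0,2,1,3,1])) (.node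 (.leaf [1,2,1,0,1,0,1,0,3,1,0,1]) (.leaf [0,3,1,0,1,0,1,0,2,1,3,1,0,2]))) (.node (.node (.leaf [1,0,1,3,1,0,1,0,3,1,2]) (.leaf [0,1,0,1,0,1,2,1,3,1,0,2,1,0])) (.node (.leaf [2,1,0,3,1,0,1,0,3,1,0,2,1]) (.leaf []))))) (.node (.node (.node (.node (.leaf [0,2,1,0,1,0,3,1,2]) (.leaf [1,2,1,3,1,0,1,0,1,2])) (.node (.leaf [1,0,3,1,0,1,0,2,3,1,0,1,0,2]) (.leaf [2,3,1,0,1,0,1,2]))) (.node (.node (.leaf [0,1,0,1,2,1,0,3,1,0,1,0]) (.leaf [2,1,3,1,0,1,2,1,0,3])) (.node (.leaf [1,3,1,0,2,1,0,1]) (.leaf [0,1,0,1,3,1,0,1,0,1,3,1,2])))) (.node (.node (.node (.leaf [0,1,2,3,1,0]) (.leaf [2,3,1,0,1,2,3])) (.node (.leaf [1,0,1,3,1,0,1,0,1,2,3,1,0,2]) (.leaf [3,1,0,1,2,3,1,0,1]))) (.node (.node (.leaf [0,2,1,0,1,0,3,1,0,1,2,1]) (.leaf [0,1,0,1,0,3,1,0,1,0,3,1,0,1])) (.node (.leaf [1,0,1,0,3,1,0,1,0,1,3,1,0,2]) (.leaf []))))))))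

def lI_23 : CfsgLib.Coset.Tr (List Nat) := (.node (.node (.node (.node (.node (.node (.node (.leaf []) (.leaf [0,1,3,1,0,1,2,1,0,1])) (.node (.leaf [1,2,3,1,0,1,0,2,1,3,1]) (.leaf [3,1,0,2,1,0,3,1,0,1]))) (.node (.node (.leaf [0,1,0,3,1,2]) (.leaf [0,2,3,1,0,1,0,3,1,0,1,3])) (.node (.leaf [1,0,1,3,1,0,1,0,1,2,1,3,1]) (.leaf [1,0,3,1,0,1,0,3,1,0,1,0,2,3])))) (.node (.node (.node (.leaf [0,1,0,1,0,1,0,1,0,1,2,3]) (.leaf [0,1,2,1,3,1,0,1,2,1])) (.node (.leaf [0,1,0,1,2,3,1,0,1,0]) (.leaf [1,0,2,1,0,1,3,1,0,1,0,1,3,1]))) (.node (.node (.leaf [0,2,3,1,2]) (.leaf [2,1,0,1,2,3,1,0,1,3])) (.node (.leaf [1,2,1,3,1,0,2,1,3]) (.leaf []))))) (.node (.node (.node (.node (.leaf [1,0,1,0,1,0,1,2,1,3,1]) (.leaf [0,2,1,0,1,0,3,1,0,1,0,1,3,1])) (.node (.leaf [2,1,0,1,2,3,1,0]) (.leaf [1,0,1,3,1,0,1,0,3,1,0,1,2,3]))) (.node (.node (.leaf [1,0,2,3,1,0,1,0,1,2,3,1,2]) (.leaf [3,1,0,2,1,0,1,0,1])) (.node (.leaf [0,1,0,2,3,1,0,2,1,0])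 (.leaf [2,1,0,3,1,0,1,0,2,3])))) (.node (.node (.node (.leaf [0,3,1,0,1,0,1,0,1,0,2]) (.leaf [0,1,0,1,2,3,1,0,2,1,0,1])) (.node (.leaf [2,1,3,1,0,2,1,0,1,0,3,1,0]) (.leaf [0,1,0,2,3,1,0,1,0,1,0,2,1,3]))) (.node (.node (.leaf [0,1,0,1,0,2,3,1,0,1,0,1]) (.leaf [2,1,0,1,0,3,1,0,1,0,2,3,1])) (.node (.leaf [2,1,0,1,2,3,1,0,2]) (.leaf [])))))) (.node (.node (.node (.node (.node (.leaf [2]) (.leaf [2,1,3,1,0,1,2])) (.node (.leaf [1,0,3,1,0,1,0,1,2,3,1,2]) (.leaf [1,0,1,0,1,2,1,3,1,0,2,1,0,1]))) (.node (.node (.leaf [0,1,0,1,2,1,3,1,0,1,0,1,0,3]) (.leaf [2,1,3,1,0,1,0,2,1,0,3])) (.node (.leaf [2,3,1,0,1,3]) (.leaf [0,1,0,3,1,0,1,0,3,1,0,1,3])))) (.node (.node (.node (.leaf [0,1,0,2,3,1,0]) (.leaf [0,2,3,1,0,1,0,3,1,0,1,0])) (.node (.leaf [0,2,1,3,1,0,1,0,1,0,3,1,2]) (.leaf [2,1,3,1,0,1,0,2,1,3]))) (.node (.node (.leaf [1,0,2,1,0,3,1,0,1,0,3,1]) (.leaf [0,1,3,1,0,2,1,0,1,0,1,0,3,1])) (.node (.leaf [2,1,3,1,0,1,2,1,3])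 (.leaf []))))) (.node (.node (.node (.node (.leaf [1,3,1,0]) (.leaf [0,1,3,1,0,1,2,1,0])) (.node (.leaf [0,1,3,1,0,1,2,1,0,1,3,1,0]) (.leaf [2,1,0,3,1,0,1,0,2,1]))) (.node (.node (.leaf [0,1,2,3,1,0,1,0,1,0]) (.leaf [2,3,1,0,1,0,2,3,1,0,2])) (.node (.leaf [1,3,1,0,2,1,0,3,1,0,1]) (.leaf [2,1,3,1,0,1,2,1,0,1,3])))) (.node (.node (.node (.leaf [1,2,3,1,0,1]) (.leaf [1,2,1,3,1,0,2,1,0,1,0,3,1,0,1])) (.node (.leaf [1,0,2,1,0,1,2,3,1,0,1,0,3]) (.leaf [2,3,1,0,1,0,1,3,1,0]))) (.node (.node (.leaf [0,1,0,1,2,1,3,1,0,1,0,1,3]) (.leaf [1,0,3,1,0,1,0,3,1,0,1,2,3])) (.node (.leaf [1,2,1,0,1,2,3,1,0,2,1]) (.leaf []))))))) (.node (.node (.node (.node (.node (.node (.leaf [0,1,0,1,2,1,0,3]) (.leaf [1,2,1,3,1,0,1,0,2])) (.node (.leaf [1,2,1,0,1,0,2,3,1,0,2,1]) (.leaf [0,3,1,0,1,0,1,0,2,3,1,0,1]))) (.node (.node (.leaf [1,0,2,3,1,0,1,0,1,0,1,2,3]) (.leaf [1,2,1,0,3,1,0,1,0,2])) (.node (.leaf [0,1,2,1,0,1,0,3,1,0,1,0,1])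 (.leaf [1,0,2,1,0,1,0,3,1,0,1,0,2,1])))) (.node (.node (.node (.leaf [0,2,3]) (.leaf [2,1,0,3,1,0,2,1,0,1,0,1])) (.node (.leaf [2,1,0,1,0,3,1,0,1,3]) (.leaf [0,1,3,1,0,1,0,1,3,1,0,1,3]))) (.node (.node (.leaf [0,1,2,3,1,0,2]) (.leaf [2,3,1,0,2,1,0,1,0,3,1,0,1])) (.node (.leaf [0,2,1,0,1,0,3,1,0,1,0,1,2,3]) (.leaf []))))) (.node (.node (.node (.node (.leaf [0,2,1,0,1,0,1,0,3]) (.leaf [1,0,1,0,1,2,1,3,1,0,1,2])) (.node (.leaf [0,1,0,2,3,1,0,1,0,1,0]) (.leaf [2,3,1,0,2,1,0,1,0,3]))) (.node (.node (.leaf [2,1,0,1,0,1,0,1,0,3,1,2]) (.leaf [3,1,0,1,0,2,3,1,0,1,2,1])) (.node (.leaf [1,3,1,0,2,1,0,1,0,3]) (.leaf [2,1,0,3,1,0,1,0,1,3,1,2])))) (.node (.node (.node (.leaf [1,0,1,0,1,0,1,3,1]) (.leaf [2,3,1,0,1,0,1])) (.node (.leaf [0,3,1,0,2,1]) (.leaf [2,1,3,1,0,1,2,1,0,3,1]))) (.node (.node (.leaf [0,2,1,0,1,0,1,3,1,0,1,3]) (.leaf [0,1,0,1,3,1,0,1,0,3])) (.node (.leaf [1,2,1,0,1,2,3,1,0,1,3]) (.leaf []))))))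 (.node (.node (.node (.node (.node (.leaf [1,2,1,0,1,2]) (.leaf [0,1,2,3,1,0,1,0,1,0,2,3])) (.node (.leaf [1,3,1,0,2,1,0,1,0,1,2,3,1]) (.leaf [3,1,0,2,1,0,3,1,0,1,2,3]))) (.node (.node (.leaf [0,1,2,3,1,0,1,0,1,0,1,2]) (.leaf [1,2,1,3,1,0,2,1,0,3,1,0,1])) (.node (.leaf [3,1,0,1,0,1]) (.leaf [2,1,3,1,0,1,2,1,0,1,3,1,2])))) (.node (.node (.node (.leaf [1,0,2,3,1,0,1,0,1,0]) (.leaf [0,2,1,3,1,0,2,1,0,1,0,1,2])) (.node (.leaf [1,0,1,3,1,0,1,0,3,1,0]) (.leaf [3,1,0,2,1,0,1,0,3,1,0,1,0]))) (.node (.node (.leaf [0,1,0,2,1,0,1,3,1,0,1,0,3]) (.leaf [1,0,3,1,0,1,0,3,1,0,1,0,2])) (.node (.leaf [2,3,1,0,1,2,3,1]) (.leaf []))))) (.node (.node (.node (.node (.leaf [1,0,1,0,1,0,1,0]) (.leaf [2,1,3,1,0,2,1,0,1,0,2,1])) (.node (.leaf [2,1,0,1,0,3,1,0,1,0,3,1,2]) (.leaf [1,2,1,3,1,0,2,1,0,1,0,3]))) (.node (.node (.leaf [2,1,0,1,0,1,3,1,0,1,2]) (.leaf [0,1,0,1,0,3,1,0,1,0,3,1,0,2])) (.node (.leaf [1,0,3,1,0,1,0,1,2,1,3,1,2])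 (.leaf [2,3,1,0,1,0,3,1,0,1,0])))) (.node (.node (.node (.leaf [0,2,1,3,1,2]) (.leaf [1,0,1,0,1,0,3,1,0,2,1,3])) (.node (.leaf [1,2,1,3,1,0,2,1,0,3]) (.leaf [3,1,0,1,0,1,0,2,1,0]))) (.node (.node (.leaf [0,1,0,2,1,3,1,0,2,1,0]) (.leaf [0,1,0,1,0,3,1,0,1,0,3,1,0,1,2])) (.node (.leaf [0,1,0,1,2,3,1,0,1,0,1,3]) (.leaf []))))))))

def lI_24 : CfsgLib.Coset.Tr (List Nat) := (.node (.node (.node (.node (.node (.node (.node (.leaf [0,1,0,2,1]) (.leaf [0,2,1,3,1,0,1,0,3])) (.node (.leaf [1,3,1,0,2,1,0]) (.leaf [0,3,1,0,1,0,1,0,2,3,1]))) (.node (.node (.leaf [0,2,1,0,1,0,1,0,3,1,2]) (.leaf [0,1,0,1,0,3,1,0,1,0,1,2,3,1,0])) (.node (.leaf [0,2,1,3,1,0,1,0,1,0,2,1,0]) (.leaf [2,3,1,0,2,1,0,1,0,3,1,0,1,0])))) (.node (.node (.node (.leaf [2,1,0,1,2]) (.leaf [0,1,2,3,1,0,1,2,1])) (.node (.leaf [0,2,1,3,1,0,1,0,1,3,1,2]) (.leaf [2,3,1,0,2,1,0,1,3]))) (.node (.node (.leaf [0,1,2,3,1,0,1,0,1,0,3,1]) (.leaf [0,1,0,1,3,1,0,1,0,3,1,0,2,1,3]))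 (.node (.leaf [1,0,3,1,0,1,0,1,0,2,1,0]) (.leaf []))))) (.node (.node (.node (.node (.leaf [1,2,1,0]) (.leaf [0,1,2,1,3,1,0,2,1,0,3,1,0])) (.node (.leaf [0,1,0,2,1,3,1,0,1,2,1,0]) (.leaf [1,2,3,1,0,2,1,0,3,1,0,1,0,2,3]))) (.node (.node (.leaf [0,2,1,3,1,0,1,0,1,0,1,2]) (.leaf [2,3,1,0,1,2,1,3,1])) (.node (.leaf [0,2,1,0,3,1,0,1,0,1]) (.leaf [2,1,3,1,0,1,0,1,3,1])))) (.node (.node (.node (.leaf [1,0,1,0,1,0,2,1,0,3,1,0,2]) (.leaf [0,3,1,0,2,1,0,1,0,1,2])) (.node (.leaf [0,2,3,1,0,1,0,3,1,0,1,0,2,1]) (.leaf [2,1,3,1,0,1,0,2,3,1]))) (.node (.node (.leaf [0,2,1,0,3,1,0,1,0,3]) (.leaf [2,1,0,3,1,0,1,0,3,1,0,1,0])) (.node (.leaf [0,2,3,1,0,1,0,1,0,2,1,3,1]) (.leaf [])))))) (.node (.node (.node (.node (.node (.leaf [1,2,3]) (.leaf [0,1,2,3,1,0,1,0,1,2,3])) (.node (.leaf [2,1,0,1,0,3,1,0,2,1]) (.leaf [0,1,2,1,3,1,0,1,2,3]))) (.node (.node (.leaf [0,1,0,2,1,3,1,0,1,0]) (.leaf [2,3,1,0,2,1,0,1,0,3,1])) (.node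 (.leaf [2,1,0,3,1,0,1,0,1]) (.leaf [3,1,0,2,1,0,1,0,1,3,1])))) (.node (.node (.node (.leaf [0,2,1,0,1,0,1,0,1,3]) (.leaf [0,1,0,1,0,3,1,0,1,0,2,1,3,1])) (.node (.leaf [1,2,3,1,0,2,1,0,1,0,3,1]) (.leaf [0,2,3,1,0,1,0,1,3,1,0,1,3]))) (.node (.node (.leaf [0,2,1,3,1,0,2]) (.leaf [1,0,2,1,0,3,1,0,1,2,3])) (.node (.leaf [0,2,1,0,1,3,1,0,1,0,1,2,3]) (.leaf []))))) (.node (.node (.node (.node (.leaf [0,1,2,1,0,3]) (.leaf [0,2,3,1,0,1,2])) (.node (.leaf [1,2,1,0,3,1,0,1]) (.leaf [1,2,1,3,1,0,2,1,0,1,0]))) (.node (.node (.leaf [2,1,0,1,3,1,2]) (.leaf [0,1,0,1,0,1,3,1,0,1,2,1,3,1])) (.node (.leaf [1,3,1,0,2,1,0,3,1]) (.leaf [2,3,1,0,1,0,3,1,2])))) (.node (.node (.node (.leaf [2,1,0,1,0,2,3,1]) (.leaf [0,1,0,1,0,3,1,0,1,0,1,2])) (.node (.leaf [0,1,0,1,0,3,1,0,1,0,2,1,3,1,0]) (.leaf [0,1,0,1,3,1,0,1,0,3,1,2]))) (.node (.node (.leaf [0,2,1,0,3,1,0,2,1]) (.leaf [0,2,3,1,0,1,0,1,3])) (.node (.leaf [1,0,2,1,0,3,1,0,1,3])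 (.leaf []))))))) (.node (.node (.node (.node (.node (.node (.leaf [0,1,0,1,0,1,0,1,0,2,1]) (.leaf [3,1,0,1,2,1,0])) (.node (.leaf [2,1,0,1,0,1,0,3,1,0,1,2,1]) (.leaf [1,0,1,0,3,1,0,1,2,3,1]))) (.node (.node (.leaf [2,3,1,2]) (.leaf [1,0,2,3,1,0,1,0,3,1,0,1,2])) (.node (.leaf [2,3,1,0,2,1,0,1,0,1]) (.leaf [2,1,0,3,1,0,1,0,3,1,0,1,0,3])))) (.node (.node (.node (.leaf [1,2,1,0,1,0,2,3,1]) (.leaf [0,2,3,1,0,1,2,1])) (.node (.leaf [1,2,1,3,1,0,1,0]) (.leaf [1,0,1,0,1,0,3,1,0,1,2,1,0]))) (.node (.node (.leaf [0,2,1,0,1,0,1,0,1,3,1,2]) (.leaf [1,0,2,1,0,1,3,1,0,1,3])) (.node (.leaf [1,2,1,0,1,0,2,3,1,0,1,2,1]) (.leaf []))))) (.node (.node (.node (.node (.leaf [2,1,0,1,0,1,0,3,1]) (.leaf [0,3,1,0,1,0,1,0,2,3,1,2])) (.node (.leaf [2,1,0,3,1,0]) (.leaf [2,1,0,1,3,1,0,1,0,3,1,0,1,3]))) (.node (.node (.leaf [1,0,1,0,1,0,1,0,2,1,3,1]) (.leaf [0,1,0,1,0,2,1,0,3,1,0,2,1,0])) (.node (.leaf [2,1,3,1,0,2,1,0,1,0,1])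 (.leaf [0,3,1,0,1,2,1,0,3,1,2])))) (.node (.node (.node (.leaf [2,1,0,1,0,3,1,2]) (.leaf [0,1,0,1,0,2,1,3,1,0,2,1,0,1,2])) (.node (.leaf [0,1,2,3,1,0,1,3]) (.leaf [1,0,1,2,1,0,1,3,1,0,1,2,1,3]))) (.node (.node (.leaf [1,2,1,0,3,1,0,1,0,1]) (.leaf [2,1,3,1,0,2,1,0,1,0,2,3])) (.node (.leaf [2,1,0,3,1,0,2]) (.leaf [])))))) (.node (.node (.node (.node (.node (.leaf [1,0,2,1,0,1,0,1,2,3]) (.leaf [1,0,2,1,0,1,0,3,1,0,1,2])) (.node (.leaf [1,0,3,1,0,1,0,1,0,2,1,0,3]) (.leaf [0,1,2,3,1,0,1,2,1,0]))) (.node (.node (.leaf [0,2,1,0,1,0,3,1,0,1,3]) (.leaf [1,0,1,0,2,1,0,3,1,0,2,1,0,1])) (.node (.leaf [0,2,3,1,0,1,0,1,0,1,2,3,1]) (.leaf [2,3,1,0,1,0,3,1,0,1,3])))) (.node (.node (.node (.leaf [0,2,1,0,3,1,0]) (.leaf [1,0,2,1,0,3,1,0,1,0,2,3])) (.node (.leaf [2,1,0,1,0,1,3,1,0,1,2,3]) (.leaf [3,1,0,2,1,0,1,0]))) (.node (.node (.leaf [0,1,0,3,1,0,2,1,0,1,0,1,2,3]) (.leaf [0,1,0,1,0,1,2,3,1,0,2,1,3])) (.node (.leaf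 [0,1,2,1,0,1,3,1,0,1,2,1,3]) (.leaf []))))) (.node (.node (.node (.node (.leaf [0,2,1,0,1,0,3,1,0]) (.leaf [0,1,3,1,0,1,0,2,1,0,3,1,2])) (.node (.leaf [1,0,1,0,3,1,0,1,0,3,1]) (.leaf [1,0,2,1,0,1,3,1,0,1,0,2,1]))) (.node (.node (.leaf [2,1,0,1,0,3,1,0,1]) (.leaf [1,0,2,3,1,0,1,0,3,1,0,2])) (.node (.leaf [0,2,1,0,1,0,3,1,0,1,2,3,1]) (.leaf [0,1,0,1,3,1,0,1,0,1,2,3,1,2])))) (.node (.node (.node (.leaf [0,1,2,1,3,1]) (.leaf [2,3,1,0,1,0,2,1,3,1,0,2])) (.node (.leaf [1,0,2,1,0,3,1,0,1,0,3]) (.leaf [2,3,1,0,1,2,1,0,3,1,0]))) (.node (.node (.leaf [0,2,1,0,1,0,3,1,0,1,0,3]) (.leaf [2,1,0,3,1,0,1,0,3,1,0,1,3])) (.node (.leaf [1,0,1,0,3,1,0,1,0,3,1,0]) (.leaf []))))))))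

def lI_25 : CfsgLib.Coset.Tr (List Nat) := (.node (.node (.node (.node (.node (.node (.node (.leaf [1,2]) (.leaf [1,0,3,1,0,1,0,2,3,1,0,1,0])) (.node (.leaf [0,2,1,0,1,0,3,1,0,2,1,3]) (.leaf [0,2,3,1,0,1,0,3,1,0,1,2,1]))) (.node (.node (.leaf [0,1,0,2,1,0,1,0,1,0,3,1,0]) (.leaf [0,2,1,0,3,1,0,1,0,3,1,0,1,3])) (.node (.leaf [0,2,3,1,0,1,0,2,3,1,0,1,0,2]) (.leaf [3,1,0,2,1,0,1,0,2,1,3])))) (.node (.node (.node (.leaf [1,2,1,0,3]) (.leaf [1,0,1,0,3,1,0,1,2,3])) (.node (.leaf [0,1,2,1,0,1,3,1,0,1]) (.leaf [0,1,0,3,1,0,1,2,3,1,0,1,0]))) (.node (.node (.leaf [0,2,3,1,0]) (.leaf [0,1,0,1,0,3,1,0,1,2])) (.node (.leaf [1,2,3,1,0,1,2,1,3]) (.leaf []))))) (.node (.node (.node (.node (.leaf [1,2,1,0,1,0,2,3]) (.leaf [0,2,1,0,1,3,1,0,1,0,1,2,1])) (.node (.leaf [0,1,0,1,2,1,0,3,1,0,2,1,0,3]) (.leaf [0,3,1,0,2,1,0,3]))) (.node (.node (.leaf [2,1,0,1,0,2,3,1,2]) (.leaf [1,2,3,1,0,2,1,0,3,1,0,1,3])) (.node (.leaf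 [3,1,0,1,2,3]) (.leaf [2,3,1,0,1,0,1,2,3,1,2])))) (.node (.node (.node (.leaf [0,3,1,0,1,0,1,0,1,2,3]) (.leaf [0,2,1,3,1,0,2,1,0,1,0,1,3])) (.node (.leaf [0,2,1,3,1,0,1,0]) (.leaf [0,1,0,3,1,0,1,0,3,1,0,1,0,2,1]))) (.node (.node (.leaf [0,2,3,1,0,1,0,1,0,1,2,3]) (.leaf [3,1,0,2,1,0,3,1])) (.node (.leaf [2,3,1,0,1,0,1,0]) (.leaf [])))))) (.node (.node (.node (.node (.node (.leaf [0,2,1,0,1,0,1,0,1,2]) (.leaf [2,1,3,1,0,1,0])) (.node (.leaf [0,1,0,2,1,3,1,0,1,2,1,3]) (.leaf [0,3,1,0,1,0,2,1]))) (.node (.node (.leaf [1,3,1,0,2,1,0,1,0,3,1,0]) (.leaf [3,1,0,1,2,3,1])) (.node (.leaf [1,2,1,0,1,0,1,3,1,0,1,2]) (.leaf [2,1,3,1,0,1,0,3,1])))) (.node (.node (.node (.leaf [0,1,2,1,0,3,1]) (.leaf [1,0,1,0,2,1,3,1,0,2,1,3])) (.node (.leaf [0,2,1,0,1,0,3,1,0,1,0,1,3]) (.leaf [0,2,1,0,3,1,0,1,2,3,1,0]))) (.node (.node (.leaf [0,2,1,0,3,1,0,1,0,1,3,1,0,2]) (.leaf [1,2,1,0,1,3,1,0,1,2,1])) (.node (.leaf [1,2,3,1,0,1,0,3,1,2])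 (.leaf []))))) (.node (.node (.node (.node (.leaf [0,2,1,0,3,1]) (.leaf [2,1,0,1,3,1,0,1,0,3,1,0,1,2])) (.node (.leaf [2,1,0,1,3,1,0,2]) (.leaf [3,1,0,1,0,2,1,3]))) (.node (.node (.leaf [0,1,2,1,0,1,3,1,0]) (.leaf [0,1,0,1,0,3,1,0,1,2,1,3,1,0])) (.node (.leaf [1,0,2,3,1,0,1,0,1,3,1]) (.leaf [3,1,0,2,1,0,1,0,1,2,3,1,0])))) (.node (.node (.node (.leaf [1,2,1,3,1,0]) (.leaf [2,1,0,3,1,0,1,0,1,3])) (.node (.leaf [1,0,1,3,1,0,1,0,3,1,0,2,1,3]) (.leaf [1,0,2,1,0,1,3,1,0,1,0,3,1,2]))) (.node (.node (.leaf [0,2,1,0,1,3,1,0,1,0,2]) (.leaf [1,0,3,1,0,1,0,3,1,0,1,0,2,3,1])) (.node (.leaf [2,1,0,3,1,0,2,1]) (.leaf []))))))) (.node (.node (.node (.node (.node (.node (.leaf [1,2,1,0,1,0,2]) (.leaf [1,0,1,3,1,0,1,2,1,0,1,3])) (.node (.leaf [0,3,1,0,1,0,1,0,1,2,1,3,1]) (.leaf [0,1,2,1,3,1,0,1,0,3]))) (.node (.node (.leaf [1,2,1,0,3,1,0,1,0,1,0]) (.leaf [0,2,3,1,0,1,0,3,1,0,1,2])) (.node (.leaf [0,1,0,2,3,1,0,1,0,2,3])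 (.leaf [1,0,2,1,0,1,0,3,1,0,1,0,1,2,1])))) (.node (.node (.node (.leaf [2,1,0,1,0,1,0,3,1,0]) (.leaf [0,1,3,1,0,2,1,3])) (.node (.leaf [2,1,0,1,0,3,1,0,1,2]) (.leaf [0,1,0,1,0,3,1,0,1,0,1,2,3,1]))) (.node (.node (.leaf [0,2,1,0,1,0,1,0,2,1,3,1,0,1]) (.leaf [0,2,1,3,1,0,1,0,1,3,1,0,1])) (.node (.leaf [0,1,2,1,0,1,3,1,0,2,1]) (.leaf []))))) (.node (.node (.node (.node (.leaf [0,2,1,0,1,0,1,0,1]) (.leaf [2,1,3,1,0,1,0,1])) (.node (.leaf [1,0,2,1,0,1,0,2,3,1,0,1,0,3,1]) (.leaf [0,1,2,3,1,0,2,1,0,3,1,0,1,3]))) (.node (.node (.leaf [1,2,1,0,3,1,0]) (.leaf [2,1,3,1,0,2,1,3])) (.node (.leaf [3,1,0,2,1,3]) (.leaf [0,1,0,1,3,1,0,1,0,3,1,0,1,2,1])))) (.node (.node (.node (.leaf [3,1,0,1,0,1,0,1,0]) (.leaf [0,3,1,0,2,1,0,1,0,3])) (.node (.leaf [0,1,2,1,3,1,0,2,1]) (.leaf [1,0,2,3,1,0,1,0,3,1,0,2,1]))) (.node (.node (.leaf [0,2,1,0,1,0,1,3,1,0,1,2]) (.leaf [2,1,3,1,0,1,0,2])) (.node (.leaf [0,1,0,2,3,1,0,1,0,1,0,2])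 (.leaf [])))))) (.node (.node (.node (.node (.node (.leaf [0,2,1,0,1,3,1]) (.leaf [2,1,0,3,1,0,1,0,3,1,0,1,2,3])) (.node (.leaf [1,0,2,3,1,0,1,0,1,2,3,1]) (.leaf [3,1,0,2,1,0,1,3,1,0,1,3]))) (.node (.node (.leaf [2,1,0,1,0,1,0,3,1,0,2,1]) (.leaf [0,2,1,0,1,3,1,0,1,0,3,1,0])) (.node (.leaf [0,2,3,1,0,1,0,3,1,0,1,2,3]) (.leaf [3,1,0,2,1,0,1,0,2,1,3,1])))) (.node (.node (.node (.leaf [0,2,1,0,1,0,1,3,1,2]) (.leaf [1,2,3,1,0,2,1,0,3,1,0,1,2,3])) (.node (.leaf [0,1,2,1,3,1,0,2]) (.leaf [1,2,3,1,0,2,1,0,3,1,0,1,0,3]))) (.node (.node (.leaf [0,1,0,1,0,2,3,1,0,1,0,1,3,1,2]) (.leaf [0,1,0,1,0,2,3,1,0,2,1,3])) (.node (.leaf [0,2,1,0,1,3,1,0,1,0,3,1,0,2]) (.leaf []))))) (.node (.node (.node (.node (.leaf [0,1,0,1,2,1,0,3,1,2]) (.leaf [3,1,0,2,1,0,1,3,1])) (.node (.leaf [2,1,3,1,0,2,1,0,1,0,1,2,3]) (.leaf [0,1,2,1,0,3,1,0,1,0,1,3]))) (.node (.node (.leaf [1,2,3,1,0,1,0]) (.leaf [0,1,0,1,3,1,0,1,0,2,3,1,2]))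 (.node (.leaf [1,0,3,1,0,1,0,1,2,1,3]) (.leaf [1,0,2,1,0,1,0,3,1,0,1,0,1,3,1,2])))) (.node (.node (.node (.leaf [1,2,1,3,1,0,1,0,1,0,1]) (.leaf [1,2,1,3,1,0,2,1,0,1,0,1])) (.node (.leaf [2,1,0,1,0,3,1,0,1,2,1,3]) (.leaf [1,0,1,0,3,1,0,2,1,0,3,1,0]))) (.node (.node (.leaf [1,3,1,0,2,1,0,3,1,0]) (.leaf [0,2,1,0,1,3,1,0,1,0,3,1,0,1,2])) (.node (.leaf [0,1,3,1,0,1,2,1,0,3,1,0]) (.leaf []))))))))

def lI_26 : CfsgLib.Coset.Tr (List Nat) := (.node (.node (.node (.node (.node (.node (.node (.leaf [0,2,1,0,1,0]) (.leaf [3,1,0,1,2,1,3])) (.node (.leaf [1,3,1,0,1,0,2,3,1,0]) (.leaf [1,2,1,3,1,0,1,2,3,1]))) (.node (.node (.leaf [1,0,2,1,0,3,1,0,1,0,3,1,2]) (.leaf [1,0,1,3,1,0,1,0,3,1,0,1,2,3,1])) (.node (.leaf [1,2,1,3,1,0,1,2,1,0]) (.leaf [3,1,0,2,1,0,1,0,2])))) (.node (.node (.node (.leaf [1,0,1,0,1,0,1,0,1,3]) (.leaf [2,1,3,1,0,2,1,0,1,0,3,1,0,1])) (.node (.leaf [2,1,0,1,0,3,1,0,1,0,3]) (.leaf [2,3,1,0,2,1,0,3,1])))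 (.node (.node (.leaf [2,1,0,1,0,1,3,1,0,1,3]) (.leaf [2,1,3,1,0,2,1,0,3,1,0,1,0])) (.node (.leaf [3,1,0,2,1,0,3,1,0,1,0,3,1]) (.leaf []))))) (.node (.node (.node (.node (.leaf [2,1,0,1,0,2]) (.leaf [0,2,1,0,1,0,3,1,0,1,0,1,2,1])) (.node (.leaf [0,2,1,0,1,0,3,1,0,1,2,1,0]) (.leaf [0,3,1,0,2,1,0,1]))) (.node (.node (.leaf [1,2,1,0,1,0,3,1,2]) (.leaf [2,3,1,0,2,1,0,3,1,0,1,3])) (.node (.leaf [3,1,0,1,2,1]) (.leaf [0,3,1,0,1,2,1,0,3])))) (.node (.node (.node (.leaf [1,0,2,3,1,0,1,0,1,0,1,2]) (.leaf [0,1,0,1,0,3,1,0,1,2,1,3])) (.node (.leaf [1,2,1,0,1,0,2,3,1,0,1,0,1]) (.leaf [0,1,0,3,1,0,1,0,2,3,1,0,1,0]))) (.node (.node (.leaf [2,1,0,3,1,0,1,0,1,0]) (.leaf [0,1,0,2,3,1,0,2,1,0,3,1])) (.node (.leaf [2,1,3,1,0,2,1,0,3,1,0,1,0,3]) (.leaf [])))))) (.node (.node (.node (.node (.node (.leaf [0]) (.leaf [1,2,1,3,1,0,1,0,2,3])) (.node (.leaf [1,0,2,1,0,1,0,3,1,0,2]) (.leaf [2,1,3,1,0,2,1,0,1,0,3]))) (.node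 (.node (.leaf [1,0,2,3,1,0,1,0,1]) (.leaf [0,1,0,1,0,2,1,3,1,0,2,1,0])) (.node (.leaf [1,2,1,3,1,0,2,1,0,1,0,3,1,0]) (.leaf [1,0,2,1,0,1,0,3,1,0,1,0,2,3])))) (.node (.node (.node (.leaf [0,2,1,3,1]) (.leaf [1,0,1,0,1,2,3,1,0,2,1,3])) (.node (.leaf [0,2,1,0,1,3,1,0,1,0,1,2]) (.leaf [2,1,3,1,0,1,0,1,3,1,0]))) (.node (.node (.leaf [1,0,1,3,1,0,1,0,1,3,1,0,2]) (.leaf [1,2,1,3,1,0,2,1,0,3,1,0])) (.node (.leaf [1,2,1,3,1,0,2,1,0,3,1,0,1,0,3]) (.leaf []))))) (.node (.node (.node (.node (.leaf [0,2,1,0,1,0,1,0,1,0,3]) (.leaf [1,0,2,1,3,1,0,1,0,1,0,3,1])) (.node (.leaf [3,1,0,1,0,1,0,1,2]) (.leaf [2,3,1,0,1,0,2,1,3]))) (.node (.node (.leaf [0,1,3,1,0,1,2,1,0,1,3,1]) (.leaf [0,1,0,2,3,1,0,1,2,1,3,1])) (.node (.leaf [0,2,1,0,1,0,3,1,0,1,0,2,3]) (.leaf [0,1,0,3,1,0,1,0,3,1,0,1,2])))) (.node (.node (.node (.leaf [1,2,1,0,1,0,2,3,1,0]) (.leaf [2,3,1,0,1,0,2])) (.node (.leaf [2,1,0,1,3,1,0,1,0,3,1,0]) (.leaf [0,3,1,0,1,2,1,0,3,1])))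 (.node (.node (.leaf [0,2,1,0,1,0,1,3,1,0,2,1]) (.leaf [2,1,3,1,0,1,2,3])) (.node (.leaf [1,2,1,0,1,3,1,0,2,1]) (.leaf []))))))) (.node (.node (.node (.node (.node (.node (.leaf [0,1,0,1,0,1,0,1,0,2,3]) (.leaf [1,0,1,0,1,2,1,3,1,0,1,2,1,0,3])) (.node (.leaf [1,2,3,1,0,1,2,1]) (.leaf [2,1,3,1,0,1,0,1,2]))) (.node (.node (.leaf [3,1,0,1]) (.leaf [0,2,1,0,3,1,0,1,0,3,1,0,1,0,2])) (.node (.leaf [2,1,0,1,3,1,0,1,0,1,2]) (.leaf [0,1,0,1,3,1,0,1,0,1,2,1])))) (.node (.node (.node (.leaf [1,2,1,3,1]) (.leaf [1,0,1,0,1,3,1,0,1,2,1,3])) (.node (.leaf [0,3,1,0,1,0,1,0,2]) (.leaf [2,3,1,0,1,0,2,1,3,1,2]))) (.node (.node (.leaf [2,1,0,1,3,1,0,1,0,1,3,1]) (.leaf [2,1,0,3,1,0,1,0,3,1,0,1,0,2])) (.node (.leaf [2,1,0,1,0,3,1,0,1,2,1]) (.leaf []))))) (.node (.node (.node (.node (.leaf [0,1,2,1]) (.leaf [1,0,1,0,3,1,0,1,2,3,1,0])) (.node (.leaf [1,2,1,0,1,3,1,2]) (.leaf [3,1,0,1,2,1,3,1,0]))) (.node (.node (.leaf [2,1,0,3,1])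 (.leaf [0,2,3,1,0,1,0,1,0,2,1])) (.node (.leaf [0,2,1,0,3,1,0,2,1,3]) (.leaf [1,0,2,1,0,1,3,1,0,1,0,3,1])))) (.node (.node (.node (.leaf [2,1,0,1,2,3]) (.leaf [2,1,0,3,1,0,2,1,0,1,3])) (.node (.leaf [0,2,1,3,1,0,1,3]) (.leaf [0,1,0,1,0,3,1,0,1,0,1,2,3,1,2]))) (.node (.node (.leaf [3,1,0,1,2]) (.leaf [3,1,0,2,1,0,1,2,3])) (.node (.leaf [0,1,0,1,2,3,1,0,1,0,3,1,0]) (.leaf [])))))) (.node (.node (.node (.node (.node (.leaf [0,1,0,1,0,1,0,1,0,2,1,3]) (.leaf [2,1,3,1,0,1,3])) (.node (.leaf [0,1,0,2,1,3,1,0,2,1,0,3]) (.leaf [3,1,0,2,1,0,1,3,1,0,1,0]))) (.node (.node (.leaf [1,3,1,0,2,1]) (.leaf [0,1,0,2,1,0,3,1,0,1,0,3,1,0])) (.node (.leaf [2,1,0,1,0,2,1,3,1,0,2,1]) (.leaf [1,0,1,0,1,3,1,0,1,2,3,1])))) (.node (.node (.node (.leaf [1,0,2,1,0,1,0,1,2,3,1,2]) (.leaf [2,3,1,0,2,1,0,1,0,1,3,1])) (.node (.leaf [0,2,3,1,0,1]) (.leaf [3,1,0,2,1,0,3,1,0,1,3]))) (.node (.node (.leaf [0,3,1,0,1,0,1,0,2,1,0,3]) (.leaf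 [1,0,1,2,1,0,1,3,1,0,2,1,0])) (.node (.leaf [0,3,1,0,1,2,1,0,3,1,0,1]) (.leaf []))))) (.node (.node (.node (.node (.leaf [1,3,1,2]) (.leaf [0,1,0,2,1,0,1,0,3,1,0,1,0,2])) (.node (.leaf [0,2,1,3,1,0,1,0,3,1]) (.leaf [2,1,0,3,1,0,1,0,2]))) (.node (.node (.leaf [0,1,0,2,1,0,3,1,0,1,0,1]) (.leaf [0,1,0,1,0,3,1,0,1,0,3,1,0,2,1,3])) (.node (.leaf [1,0,3,1,0,1,0,2,1,0,3]) (.leaf [3,1,0,1,0,1,0,2,1,0,3,1])))) (.node (.node (.node (.leaf [0,2,1,0,1,0,1,0,1,3,1]) (.leaf [0,2,3,1,0,1,0,1,0,3,1,2])) (.node (.leaf [0,2,1,3,1,0,1,0,1,0,2,1,3]) (.leaf [2,3,1,0,1,0,3,1,0,2]))) (.node (.node (.leaf [1,3,1,0,2,1,0,1,0,3,1,0,1]) (.leaf [0,3,1,0,1,2,1,0,3,1,0,2,1])) (.node (.leaf [1,0,2,1,3,1,0,1,0,1,3,1,0]) (.leaf []))))))))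

def lI_27 : CfsgLib.Coset.Tr (List Nat) := (.node (.node (.node (.node (.node (.node (.node (.leaf [1,0,2,1,0,1,0,1,2]) (.leaf [3,1,0,2,1,0,3])) (.node (.leaf [1,2,3,1,0,2,1,0,1,0,1]) (.leaf [0,3,1,0,1,0,1,0,2,3,1,0,2]))) (.node (.node (.leaf [2,3,1,0]) (.leaf [2,1,3,1,0,1,0,1,3,1,0,1,3])) (.node (.leaf [0,2,1,0,1,0,2,1,3,1,0,2,1,0]) (.leaf [0,2,3,1,0,1,0,2,3,1])))) (.node (.node (.node (.leaf [2,1,0,1,0,2,3]) (.leaf [0,1,3,1,0,1,2,1])) (.node (.leaf [0,2,3,1,0,1,0,1,0]) (.leaf [2,1,0,3,1,0,1,0,1,3,1]))) (.node (.node (.leaf [0,1,2,1,3,1,2]) (.leaf [2,3,1,0,1,0,1,0,2])) (.node (.leaf [2,1,0,1,0,3,1,0,2,1,3]) (.leaf []))))) (.node (.node (.node (.node (.leaf [1,2,1,3]) (.leaf [1,2,3,1,0,1,0,3,1])) (.node (.leaf [0,1,0,2,3,1,0,1,0,1,0,1,3]) (.leaf [2,3,1,0,1,0,1,2,3,1]))) (.node (.node (.leaf [1,3,1,0,1,2,1,0,3]) (.leaf [2,1,3,1,0,2,1,0])) (.node (.leaf [1,0,2,3,1,0,1,0,1,0,3,1,2]) (.leaf [1,0,2,1,0,1,3,1,0,1,0,2,3]))))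 (.node (.node (.node (.leaf [1,2,1,0,1,0,2,3,1,2]) (.leaf [0,2,1,0,3,1,0,1,0,2,3,1])) (.node (.leaf [0,3,1,0,1,2]) (.leaf [3,1,0,1,0,1,0,2,1,3]))) (.node (.node (.leaf [2,3,1,0,2]) (.leaf [1,2,1,3,1,0,1,0,2,3,1])) (.node (.leaf [0,1,0,2,3,1,0,1,0,1,0,1,2,3]) (.leaf [])))))) (.node (.node (.node (.node (.node (.leaf [0,2,1,0,1,0,1,2]) (.leaf [0,1,2,1,0,1,3,1,0,1,2])) (.node (.leaf [1,0,2,3,1,0,1,0,1,0,2,1,3]) (.leaf [0,3,1,0,1,0,1,2,1,3]))) (.node (.node (.leaf [0,1,0,2,1,3,1,0,1,3]) (.leaf [1,0,2,3,1,0,1,0,1,0,2,3,1,2])) (.node (.leaf [0,2,3,1,0,1,0,1,0,3,1]) (.leaf [1,3,1,0,1,0,3,1,0,1,2,3,1,0])))) (.node (.node (.node (.leaf [0,2,1,0,1,0,1,0,1,0,3,1]) (.leaf [2,1,0,1,3,1,0,1,0,3,1,0,1])) (.node (.leaf [3,1,0,2,1,0,3,1,0,1,0,1]) (.leaf [0,1,2,3,1,0,2,1,0,3,1,0,1]))) (.node (.node (.leaf [2,1,0,1,3,1,0,1,0,3,1]) (.leaf [3,1,0,1,0,1,0,1,2,1,3,1])) (.node (.leaf [0,2,1,0,1,3,1,0,1,0,1,3,1,2]) (.leaf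 []))))) (.node (.node (.node (.node (.leaf [1,0,1,0,1,0,2,1,0,3,1,0]) (.leaf [0,2,1,0,3,1,0,1,0,3,1,0,1])) (.node (.leaf [0,1,3,1,0,1,2,1,0,3,1,0,1]) (.leaf [0,1,0,1,0,3,1,0,1,0,2,1]))) (.node (.node (.leaf [0,2,3,1,0,1,0,1,0,1]) (.leaf [2,3,1,0,2,1,0,3,1,0,1,0,3,1])) (.node (.leaf [1,3,1,0,1,2,3,1]) (.leaf [0,2,3,1,0,1,0,1,3,1,0,2])))) (.node (.node (.node (.leaf [2,1,0,1,0,1,0,3,1,0,1]) (.leaf [2,1,0,3,1,0,1,0,1,0,2,1])) (.node (.leaf [0,2,1,0,3,1,0,1,0,3,1,0,2]) (.leaf [2,1,0,3,1,0,1,0,3,1,0]))) (.node (.node (.leaf [1,3,1,0,2,1,0,3,1,2]) (.leaf [0,2,1,3,1,0,1,0,1,3,1,0,1,3])) (.node (.leaf [0,1,0,1,0,1,2,1,3,1,0,2,1]) (.leaf []))))))) (.node (.node (.node (.node (.node (.node (.leaf [1,2,1]) (.leaf [2,1,0,1,0,3,1,0,1,0,2])) (.node (.leaf [0,2,1,3,1,0,1,0,1,0,1,2,1]) (.leaf [1,0,2,1,0,1,0,3,1,0,1,0,1,3]))) (.node (.node (.leaf [0,2,1,0,3,1,0,2]) (.leaf [1,0,2,1,0,1,2,3,1,0,1,0,2])) (.node (.leaf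 [1,2,1,0,3,1,0,1,0,1,2,3]) (.leaf [3,1,0,2,1,0,1,0,3])))) (.node (.node (.node (.leaf [0,1,2,1,3]) (.leaf [1,0,1,0,2,3,1,0,2,1,3])) (.node (.leaf [0,2,1,3,1,0,1,0,1,0,3]) (.leaf [3,1,0,1,0,3,1,0,1,0,2,3,1,0]))) (.node (.node (.leaf [0,2,1,0,1,0,1,0,3,1,0,1]) (.leaf [1,2,1,0,1,2,3,1,0,1,2,1])) (.node (.leaf [1,2,3,1,0,2,1,0,1,0,1,3,1]) (.leaf []))))) (.node (.node (.node (.node (.leaf [0,2,1,3]) (.leaf [1,0,1,0,1,3,1,0,1,2])) (.node (.leaf [0,2,1,3,1,0,1,0,1,3,1]) (.leaf [1,0,2,1,0,1,2,3,1,0,1,0,2,1]))) (.node (.node (.leaf [3,1,0,1,0,1,0,1,0,2]) (.leaf [0,2,3,1,0,1,0,1,2,3,1,0])) (.node (.leaf [1,0,3,1,0,1,0,2,1,0]) (.leaf [2,3,1,0,1,2,1,0,3,1])))) (.node (.node (.node (.leaf [2,1,0,1,3,1]) (.leaf [2,1,0,3,1,0,1,0])) (.node (.leaf [0,1,2,3,1,0,2,1]) (.leaf [0,1,0,1,0,3,1,0,1,0,1,3,1,0,2,1,3]))) (.node (.node (.leaf [0,2,1,0,3,1,0,1,3]) (.leaf [3,1,0,2,1,0,1,0,1,3,1,2])) (.node (.leaf [2,3,1,0,2,1,0,1,0,3,1,0])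 (.leaf [])))))) (.node (.node (.node (.node (.node (.leaf [1,0,1,0,1,0,1,0,1]) (.leaf [0,2,1,0,1,3,1,0,1,0,3,1,0,1,3])) (.node (.leaf [1,3,1,0,1,2,1,0,3,1]) (.leaf [0,3,1,0,1,0,1,0,2,1,3,1,0]))) (.node (.node (.leaf [1,2,3,1,0,2,1]) (.leaf [0,1,0,2,3,1,0,1,0,1,0,2,3,1])) (.node (.leaf [1,2,1,0,1,2,3,1,0,1,0]) (.leaf [0,2,3,1,0,1,0,2,3])))) (.node (.node (.node (.leaf [0,2,1,0,1,3,1,0,1]) (.leaf [1,2,1,0,1,3,1,0,1,2,1,0])) (.node (.leaf [2,1,3,1,0,1,0,1,0,1,2]) (.leaf [0,1,2,1,0,1,3,1,0,1,2,1,0]))) (.node (.node (.leaf [0,1,0,1,0,2,3,1,0,1,0,1,3]) (.leaf [0,1,0,1,0,1,2,1,3,1,0,2,1,3])) (.node (.leaf [2,3,1,0,2,1,0,3,1,0,1]) (.leaf []))))) (.node (.node (.node (.node (.leaf [1,2,3,1,2]) (.leaf [1,0,1,0,1,2,1,3,1,0,2,1,0])) (.node (.leaf [1,0,1,0,1,2,1,3,1,0,1,2,1,0,3,1]) (.leaf [1,0,2,1,0,1,3,1,0,1,0,3]))) (.node (.node (.leaf [0,1,0,1,2,1,0,3,1,0,1,2]) (.leaf [0,3,1,0,1,2,1,0,3,1,0])) (.node (.leaf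 [1,2,3,1,0,2,1,0,1]) (.leaf [0,1,3,1,0,1,0,1,3,1,0,1,2])))) (.node (.node (.node (.leaf [0,3,1,2]) (.leaf [2,1,0,1,0,2,1,3,1,0,2,1,0])) (.node (.leaf [0,1,0,1,0,2,3,1,0,1,0,2,3,1]) (.leaf [0,1,3,1,0,2,1,0,1,0,1,2]))) (.node (.node (.leaf [0,2,1,0,1,0,3,1,0,1,2,3]) (.leaf [2,3,1,0,1,0,1,3,1,0,1,2])) (.node (.leaf [1,0,1,0,3,1,0,1,0,3]) (.leaf []))))))))

def lI_28 : CfsgLib.Coset.Tr (List Nat) := (.node (.node (.node (.node (.node (.node (.node (.leaf [0,1,0,1,0,1,0,1,0,2]) (.leaf [0,2,1,0,3,1,0,1,2,1,3])) (.node (.leaf [1,3,1,0,2,1,0,1,0,1]) (.leaf [2,1,0,1,0,3,1,0,1,2,3,1]))) (.node (.node (.leaf [1,0,1,3,1,0,1,0,1,3,1,2]) (.leaf [2,3,1,0,1,0,2,3,1,0])) (.node (.leaf [0,3,1,0,1,0,1,0,2,1,0]) (.leaf [2,1,3,1,0,1,0,1,2,1,3])))) (.node (.node (.node (.leaf [2,1,0]) (.leaf [0,2,1,0,3,1,0,2,1,0,1,3,1,0,1])) (.node (.leaf [0,1,0,1,2,3,1,0,1,0,3]) (.leaf [2,3,1,0,1,0,2,1]))) (.node (.node (.leaf [0,2,1,3,1,0,1,0,1,0,3,1])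 (.leaf [2,1,3,1,0,2,1,0,3,1,0,1])) (.node (.leaf [1,2,3,1,0,1,0,2,1,3,1,2]) (.leaf []))))) (.node (.node (.node (.node (.leaf [2,1,0,1,0,1,0,1,2]) (.leaf [1,2,1,3,1,0,1,2,3])) (.node (.leaf [1,3,1,0,1,2,1,0]) (.leaf [2,1,0,3,1,0,1,0,2,1,3]))) (.node (.node (.leaf [2,1,0,1,0,3,1,0,2]) (.leaf [2,3,1,0,2,1,0,3,1,0,1,0,3])) (.node (.leaf [0,2,1,3,1,0,2,1,0,1,0,3,1,0,1]) (.leaf [1,0,2,1,0,1,0,3,1,0,1,0,1,3,1])))) (.node (.node (.node (.leaf [1,3,1,0,2]) (.leaf [3,1,0,1,2,1,3,1,0,1])) (.node (.leaf [0,2,1,0,3,1,0,1,0,3,1,0]) (.leaf [0,1,0,1,3,1,0,1,0,2,3,1]))) (.node (.node (.leaf [0,1,0,2,1,0,1,0,1,0,3,1,0,1]) (.leaf [0,2,1,3,1,0,1,0,1,3,1,0,1,2])) (.node (.leaf [2,1,3,1,0,2,1,0,3,1,0,1,3]) (.leaf [])))))) (.node (.node (.node (.node (.node (.leaf [2,1,0,1,0,1,3]) (.leaf [0,2,1,3,1,0,1,0,1,2,3])) (.node (.leaf [2,1,3,1,0,2]) (.leaf [2,1,3,1,0,1,0,1,0,2,3]))) (.node (.node (.leaf [0,2,1,0,1,3,1,0,1,0])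 (.leaf [3,1,0,1,0,2,1,3,1])) (.node (.leaf [2,3,1,0,1,0]) (.leaf [2,1,3,1,0,1,0,2,3])))) (.node (.node (.node (.leaf [0,3,1]) (.leaf [3,1,0,1,0,2,1,0,3,1])) (.node (.leaf [0,2,1,0,1,0,3,1,0,1,0,1,2]) (.leaf [1,0,2,3,1,0,1,0,3,1,0,1,2,1]))) (.node (.node (.leaf [0,2,1,0,1,0,1,0,3,1,0,2]) (.leaf [0,1,0,1,0,1,3,1,0,1,2,3])) (.node (.leaf [1,3,1,0,2,1,0,3,1,0,1,3]) (.leaf []))))) (.node (.node (.node (.node (.leaf [0,2,1,0,1,0,1,2,3]) (.leaf [1,0,1,0,1,3,1,0,1,3])) (.node (.leaf [2,1,0,1,3,1,0,1]) (.leaf [2,3,1,0,2,1,0,1]))) (.node (.node (.leaf [1,0,1,0,3,1,0,1,0,3,1,2]) (.leaf [1,2,1,3,1,0,2,1,0,3,1,0,1,3])) (.node (.leaf [1,3,1,0,2,1,0,1,0,1,3,1]) (.leaf [0,1,2,1,0,3,1,0,1,0,3,1,0,1,2])))) (.node (.node (.node (.leaf [2,1,3,1]) (.leaf [2,1,0,3,1,0,1,0,1,2])) (.node (.leaf [1,0,1,3,1,0,1,0,1,3,1,0]) (.leaf [0,2,3,1,0,1,0,1,3,1,2]))) (.node (.node (.leaf [3,1,0,2,1]) (.leaf [0,1,0,1,3,1,0,1,2,3])) (.node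 (.leaf [2,3,1,0,1,0,1,0,3,1]) (.leaf []))))))) (.node (.node (.node (.node (.node (.node (.leaf [0,1,0,2,1,3]) (.leaf [2,1,3,1,0,2,1,0,1,0,1,2])) (.node (.leaf [0,1,0,1,2,1,0,3,1,0,1,2,1]) (.leaf [0,1,0,1,3,1,0,1,0,1,2]))) (.node (.node (.leaf [0,2,1,0,1,0,1,2,3,1,2]) (.leaf [2,1,3,1,0,1,0,1,3,1,0,1])) (.node (.leaf [3,1,0,1,0,2]) (.leaf [0,2,1,3,1,0,1,0,1,3,1,0,1,2,3])))) (.node (.node (.node (.leaf [2,1,0,1,0,1,0,1,3,1]) (.leaf [0,1,2,3,1,0,1,0,1,2,3,1,0,2])) (.node (.leaf [0,2,1,3,1,0,1,0,1]) (.leaf [0,1,0,1,0,3,1,0,1,0,1,2,1,3,1,2]))) (.node (.node (.leaf [0,1,0,2,1,0,1,3,1,0,1,0,3,1]) (.leaf [2,1,0,3,1,0,1,3])) (.node (.leaf [0,3,1,0,1,0,1,0,2,1]) (.leaf []))))) (.node (.node (.node (.node (.leaf [2,1,0,1,0,1,3,1]) (.leaf [1,2,3,1,0,2,1,0,3,1,0,1])) (.node (.leaf [1,0,1,0,1,0,1,0,2,1,3,1,2]) (.leaf [0,2,1,0,3,1,0,1,0,3,1,0,1,2,3]))) (.node (.node (.leaf [2,1,0,1,2,3,1]) (.leaf [2,1,3,1,0,1,2,1]))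 (.node (.leaf [3,1,0,2,1,0]) (.leaf [2,1,0,3,1,0,1,0,3,1])))) (.node (.node (.node (.leaf [1,0,1,0,1,0,1,0,2,1,3]) (.leaf [2,3,1,0,2,1,0,1,0])) (.node (.leaf [1,0,2,1,3,1,0,1,0,1,0,3]) (.leaf [2,3,1,0,1,2,1,0,3]))) (.node (.node (.leaf [0,2,1,0,3,1,0,1,0]) (.leaf [0,3,1,0,1,0,1,2,1])) (.node (.leaf [1,0,3,1,0,1,0,3,1,0,1,0,2,1,3]) (.leaf [])))))) (.node (.node (.node (.node (.node (.leaf [0,2,1,0,3]) (.leaf [0,1,0,1,3,1,0,1,3])) (.node (.leaf [1,2,3,1,0,1,2,1,0,3]) (.leaf [1,0,1,3,1,0,1,0,2,1,0,3,1,2]))) (.node (.node (.leaf [0,2,1,0,1,3,1,0,2,1]) (.leaf [3,1,0,2,1,0,1])) (.node (.leaf [0,1,0,2,1,0,1,0,1,0,3,1,0,2,1]) (.leaf [0,2,1,3,1,0,1,0,1,0,2,3,1,0])))) (.node (.node (.node (.leaf [1,0,2,3,1,0,1,0,1,0,1,3]) (.leaf [0,1,0,2,3,1,0,1,0,1,2,3])) (.node (.leaf [1,0,1,0,1,3,1,0,1]) (.leaf [0,3,1,0,1,0,2,1,0,3]))) (.node (.node (.leaf [1,2,1,3,1,0,1,2,1,0,3]) (.leaf [0,1,0,1,0,2,3,1,0,2,1,0])) (.node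 (.leaf [3,1,0,2,1,0,1,0,3,1,0,1,3]) (.leaf []))))) (.node (.node (.node (.node (.leaf [1,0,1,0,1,0,2,1,0,3,1,2]) (.leaf [3,1,0,1,2,1,0,1])) (.node (.leaf [2,1,0,1,0,3,1,0,1,0,1,3,1]) (.leaf [0,1,0,1,0,3,1,0,1,0,2]))) (.node (.node (.leaf [1,2,1,3,1,0,1]) (.leaf [0,1,0,1,3,1,0,1,0,1,3,1,0,2,1])) (.node (.leaf [1,3,1,0,1,0,2,1,3]) (.leaf [0,2,3,1,0,1,0,2,3,1,2])))) (.node (.node (.node (.leaf [0,2,1,0,1,0,1,0,2,3,1]) (.leaf [0,1,3,1,0,1,0,1,0,3,1,2])) (.node (.leaf [0,2,1,0,3,1,0,1,0,1,3]) (.leaf [2,1,0,3,1,0,1,0,1,3,1,0,2]))) (.node (.node (.leaf [0,2,1,0,1,3,1,0,1,2,1]) (.leaf [0,1,0,1,3,1,0,1,0,3,1,0,1,2,3,1])) (.node (.leaf [2,1,0,1,0,3,1,0,1,0,1,3,1,0]) (.leaf []))))))))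

def lI_29 : CfsgLib.Coset.Tr (List Nat) := (.node (.node (.node (.node (.node (.node (.node (.leaf [2,1,0,1,0,1]) (.leaf [0,1,0,1,2,3,1,0,1,0,1,2,3,1])) (.node (.leaf [1,0,3,1,0,1,0,1,2,1,3,1]) (.leaf [0,2,1,0,1,0,3,1,0,1,0,1,3,1,0]))) (.node (.node (.leaf [0,2,3,1,0,1,0,1,0,1,3]) (.leaf [1,0,2,3,1,0,1,0,3,1,0,1,2,3])) (.node (.leaf [0,2,1,0,3,1,0,1,0,2,3,1,2]) (.leaf [0,1,0,1,3,1,0,1,0,1,2,3,1])))) (.node (.node (.node (.leaf [2,1,0,1,0,1,0,1,2,3]) (.leaf [1,2,3,1,0,2,1,0,3,1,0,1,0,1])) (.node (.leaf [2,1,3,1,0,1]) (.leaf [2,3,1,0,1,2,1,0,3,1,2]))) (.node (.node (.leaf [2,1,3,1,0,1,0,1,0,1]) (.leaf [1,0,2,1,0,1,3,1,0,1,2])) (.node (.leaf [1,0,3,1,0,1,0,1,2,3,1,0,1]) (.leaf []))))) (.node (.node (.node (.node (.leaf [2,1,0,1,0,1,0,1,3]) (.leaf [0,1,0,2,1,0,3,1,0,1,0,1,3,1])) (.node (.leaf [1,2,3,1,0,1,0,2,3,1]) (.leaf [0,1,0,1,0,3,1,0,1,0,2,3,1]))) (.node (.node (.leaf [0,1,0,2,1,3,1,0,1,2,1,0,3])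 (.leaf [1,2,3,1,0,1,2,1,3,1])) (.node (.leaf [0,1,2,3,1,0,2,1,0,3,1,0,1,0,1]) (.leaf [0,3,1,0,2,1,0,3,1])))) (.node (.node (.node (.leaf [1,2,3,1,0,2]) (.leaf [0,1,0,1,0,3,1,0,2,1,0,3])) (.node (.leaf [0,1,2,3,1,0,1,2]) (.leaf [0,2,3,1,0,1,0,1,3,1,0]))) (.node (.node (.leaf [1,2,1,0,1,0,1,3,1,0,2]) (.leaf [0,1,2,1,3,1,0,2,1,0,3])) (.node (.leaf [2,1,0,3,1,0,1]) (.leaf [])))))) (.node (.node (.node (.node (.node (.leaf [0,1,2,1,0]) (.leaf [0,2,3,1,0,1,0,1])) (.node (.leaf [1,3,1,0,2,1,0,1,0,3,1,0,1,3]) (.leaf [2,1,3,1,0,2,1,0,1,0,2]))) (.node (.node (.leaf [1,0,2,3,1,0,1,0,1,0,2]) (.leaf [0,1,0,1,0,3,1,0,1,2,3,1,0])) (.node (.leaf [0,1,3,1,0,1,0,1,0,3,1]) (.leaf [0,2,3,1,0,1,0,1,3,1])))) (.node (.node (.node (.leaf [0,2,1,0,1,0,1,2,3,1]) (.leaf [1,0,1,3,1,0,1,0,1,3,1,0,1])) (.node (.leaf [0,2,1,0,1,3,1,0,1,0,1,3]) (.leaf [0,1,0,1,0,3,1,0,1,2,3,1]))) (.node (.node (.leaf [1,0,1,3,1,0,1,0,1,3,1]) (.leaf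 [2,3,1,0,1,0,1,0,2,1])) (.node (.leaf [1,0,3,1,0,1,0,1,0,2,1,0,3,1]) (.leaf []))))) (.node (.node (.node (.node (.leaf [0,1,0,1,0,1,0,1,0,2,1,3,1]) (.leaf [0,2,3,1,0,1,0,3,1,0,1,0,2])) (.node (.leaf [1,0,1,0,3,1,0,1,0,3,1,0,2]) (.leaf [0,3,1,0,2,1,0,1,0]))) (.node (.node (.leaf [2,1,3,1,0]) (.leaf [1,0,1,0,1,0,3,1,0,1,2,1,3])) (.node (.leaf [0,2,1,0,1,0,3,1,0,1,0,3,1]) (.leaf [2,1,3,1,0,1,0,3,1,0,2])))) (.node (.node (.node (.leaf [1,0,3,1,0,1,0,1,0]) (.leaf [2,3,1,0,1,0,3])) (.node (.leaf [0,2,1,0,3,1,0,1,0,3,1,0,2,1,3]) (.leaf [0,3,1,0,1,2,1,0,3,1,0,2]))) (.node (.node (.leaf [0,2,1,0,1,0,3,1,0,1,0,2]) (.leaf [0,2,1,3,1,0,1,0,3,1,0,1,2,3])) (.node (.leaf [0,1,3,1,0,2,1,0,1,0,1,0]) (.leaf []))))))) (.node (.node (.node (.node (.node (.node (.leaf [2,1,0,1,0,1,0,1]) (.leaf [0,3,1,0,1,0,1,2])) (.node (.leaf [1,2,3,1,0,1,0,2,3,1,0]) (.leaf [2,1,3,1,0,1,0,1,3]))) (.node (.node (.leaf [1,0,2,1,0,1,0,1,2,3,1,0,2])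 (.leaf [0,2,1,0,3,1,0,1,0,3,1,0,1,0])) (.node (.leaf [0,2,1,0,3,1,0,1,0,2,3]) (.leaf [2,1,3,1,0,1,0,2,1])))) (.node (.node (.node (.leaf [2,1,0,1,0,1,3,1,0]) (.leaf [0,1,2,3,1,0,1,0,1,2,3,1,0])) (.node (.leaf [0,3,1,0,1,0,1,0,3]) (.leaf [0,1,0,3,1,0,1,2,3,1,0,1,0,1]))) (.node (.node (.leaf [1,2,1,3,1,0,1,0,1,0]) (.leaf [0,1,0,2,3,1,0,1,0,1,0,2,1])) (.node (.leaf [0,1,0,1,0,2,1,0,3,1,0,2,1]) (.leaf []))))) (.node (.node (.node (.node (.leaf [0,3]) (.leaf [1,0,2,1,0,1,0,3,1,0,1,0,1])) (.node (.leaf [2,1,0,1,0,3,1,0,1,0,3,1]) (.leaf [1,2,1,3,1,0,2,1,0,1,3]))) (.node (.node (.leaf [2,1,0,1,3,1,0]) (.leaf [0,1,2,1,0,1,3,1,0,2,1,3])) (.node (.leaf [0,2,1,0,1,3,1,0,1,0,2,1]) (.leaf [2,3,1,0,1,0,3,1,0])))) (.node (.node (.node (.leaf [2,1,0,1,0,1,0,1,0,3,1]) (.leaf [0,1,0,1,0,3,1,0,1,0])) (.node (.leaf [2,1,3,1,0,1,0,1,0,1,2,1]) (.leaf [2,1,3,1,0,1,0,1,3,1,0,2]))) (.node (.node (.leaf [3,1,0,1,3]) (.leaf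 [0,2,3,1,0,1,0,1,2])) (.node (.leaf [3,1,0,1,0,1,0,2]) (.leaf [])))))) (.node (.node (.node (.node (.node (.leaf [0,2,1,0,1,0,3,1]) (.leaf [2,3,1,0,1,0,1,3,1,0,1,2,3])) (.node (.leaf [1,0,2,3,1,0,1,0,1,3,1,2]) (.leaf [0,1,0,1,0,3,1,0,1,0,2,3,1,0,2]))) (.node (.node (.leaf [0,3,1,0,1,0,1,0,1,2,3,1]) (.leaf [1,3,1,0,1,2,3,1,0])) (.node (.leaf [0,2,1,0,3,1,0,1,0,3,1,0,1,0,3]) (.leaf [1,0,2,1,0,1,0,3,1,0,1,0,1,2,3])))) (.node (.node (.node (.leaf [1,3,1,0,1]) (.leaf [2,1,0,1,0,3,1,0,1,2,1,3,1])) (.node (.leaf [0,2,3,1,0,2]) (.leaf [0,1,0,1,3,1,0,1,2,1,0]))) (.node (.node (.leaf [0,2,1,0,3,1,0,1,0,3,1,2]) (.leaf [1,0,1,2,1,0,1,3,1,0,2,1,3])) (.node (.leaf [2,3,1,0,2,1,0,3,1,0,1,0]) (.leaf []))))) (.node (.node (.node (.node (.leaf [0,1,0,1,0,1,0,1,0,3,1,2]) (.leaf [0,3,1,0,1,0,1,2,1,3,1])) (.node (.leaf [3,1,0,1,2,1,0,3]) (.leaf [2,1,0,3,1,0,1,0,3]))) (.node (.node (.leaf [1,0,3,1,0,1,0,1,0,2]) (.leaf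 [3,1,0,2,1,0,1,0,3,1,0,1,0,3])) (.node (.leaf [1,2,3,1,0,1,0,2,1,3]) (.leaf [2,3,1,0,1,2,1,0,3,1,0,2,1])))) (.node (.node (.node (.leaf [0,2,1,0,1,0,1,0,3,1,0]) (.leaf [0,1,0,1,0,3,1,0,1,0,1,2,1,3,1])) (.node (.leaf [1,0,3,1,0,1,2,3,1,0,1,0,1]) (.leaf [2,1,0,3,1,0,1,2,3]))) (.node (.node (.leaf [1,3,1,0,2,1,0,1,0,1,3,1,0]) (.leaf [2,1,0,3,1,0,1,0,3,1,0,1,2])) (.node (.leaf [0,2,1,3,1,0,1,0,1,3,1,0,2]) (.leaf []))))))))

def lI_30 : CfsgLib.Coset.Tr (List Nat) := (.node (.node (.node (.node (.node (.node (.node (.leaf [1,0,1,0,1,0,1,2,1]) (.leaf [0,1,2,3,1,0,1,0,2,3,1,0,2])) (.node (.leaf [1,3,1,0,2,1,3]) (.leaf [1,3,1,0,1,2,1,0,1,3,1,0,2]))) (.node (.node (.leaf [0,2,1,0,3,1,0,1,0,1,3,1,2]) (.leaf [0,2,3,1,0,1,0,3,1,0,1,0,2,3])) (.node (.leaf [0,3,1,0,2,1,0,1,3,1,0,1,0,3]) (.leaf [0,1,0,1,0,1,2,1,3,1,0,2,1,0,1])))) (.node (.node (.node (.leaf [2,1,0,1,0,1,0,1,0,3]) (.leaf [0,1,0,2,3,1,0,2,1,0,3,1,0]))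 (.node (.leaf [0,2,1,3,1,0,1,0,1,3]) (.leaf [2,1,0,3,1,0,1,0,1,2,3]))) (.node (.node (.leaf [0,1,2,1,3,1,0]) (.leaf [0,1,3,1,0,1,0,1,0,2,3,1,0])) (.node (.leaf [0,1,0,1,2,1,0,3,1,0,1,2,1,3]) (.leaf []))))) (.node (.node (.node (.node (.leaf [2,1]) (.leaf [1,2,3,1,0,1,0,2,1])) (.node (.leaf [0,2,1,0,1,0,3,1,0,1,0,1,2,3,1]) (.leaf [1,0,1,0,2,1,3,1,0,2,1,0,1]))) (.node (.node (.leaf [0,2,3,1,0,1,0,1,0,1,0,2]) (.leaf [3,1,0,2,1,0,3,1,0,1,0,3])) (.node (.leaf [0,2,1,0,1,0,1,3,1,0,1,2,1]) (.leaf [0,1,0,1,0,3,1,0,1,0,2,3,1,2])))) (.node (.node (.node (.leaf [0,1,0,1,2,1,0,3,1,0,2]) (.leaf [1,0,1,2,1,0,3,1,0,1,2,1,3])) (.node (.leaf [1,2,1,3,1,0,1,0,1]) (.leaf [3,1,0,2,1,0,1,0,1,2,3,1,0,2]))) (.node (.node (.leaf [2,3,1,0,1]) (.leaf [0,1,2,3,1,0,1,0,2,3])) (.node (.leaf [0,1,0,1,0,3,1,0,1]) (.leaf [])))))) (.node (.node (.node (.node (.node (.leaf [0,2,1]) (.leaf [0,1,0,1,3,1,0,1,0])) (.node (.leaf [0,2,3,1,0,1,0,1,0,1,2])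 (.leaf [0,1,0,2,1,0,1,0,3,1,0,1,0,2,1]))) (.node (.node (.leaf [1,3,1,0,1,2]) (.leaf [0,3,1,0,2,1,0,1,0,1])) (.node (.leaf [2,3,1,0,2,1,0,1,3,1,0]) (.leaf [3,1,0,2,1,0,1,0,1,2,3,1,2])))) (.node (.node (.node (.leaf [0,2,1,0,1,0,1,0,3,1]) (.leaf [0,1,0,1,0,3,1,0,1,0,2,3,1,0])) (.node (.leaf [0,1,0,2,1,0,3,1,0,1,0,1,3]) (.leaf [0,1,0,3,1,0,1,0,3,1,0,1,0,2,1,3]))) (.node (.node (.leaf [0,1,0,1,0,2,3,1,0,1,0,3,1,0,2]) (.leaf [0,1,0,3,1,0,1,0,1,0,2,1])) (.node (.leaf [1,0,2,3,1,0,1,0,1,0,2,1,3,1]) (.leaf []))))) (.node (.node (.node (.node (.leaf [1,0,2,1,0,1,0,1,2,3,1]) (.leaf [2,1,3,1,0,1,0,1,0,3])) (.node (.leaf [2,3,1,0,1,0,1,0,1,2,3]) (.leaf [2,1,0,3,1,0,2,1,0,1]))) (.node (.node (.leaf [0,2,1,3,1,0,1,0,3,1,2]) (.leaf [0,1,2,3,1,0,2,1,0,3,1,0,1,0,3])) (.node (.leaf [1,3,1,0,1,2,1,0,3,1,2]) (.leaf [0,2,3,1,0,1,0,1,3,1,0,1])))) (.node (.node (.node (.leaf [0,2,1,3,1,0,1,0,1,0,1]) (.leaf [2,3,1,0,2,1,0,3,1,2]))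 (.node (.leaf [1,0,2,1,0,3,1,0,1,0,3,1,0]) (.leaf [2,1,0,3,1,0,1,0,3,1,2]))) (.node (.node (.leaf [1,3,1,0,2,1,0,1,3,1]) (.leaf [1,0,2,1,0,1,0,3,1,0,1,2,3])) (.node (.leaf [0,2,1,3,1,0,2,1,0,1,0,1,0]) (.leaf []))))))) (.node (.node (.node (.node (.node (.node (.leaf [0,2,1,0,1,0,3]) (.leaf [0,1,0,1,2,3,1,0,1,0,2,3,1,2])) (.node (.leaf [1,0,3,1,0,1,0,1,2,3,1,0]) (.leaf [1,0,2,1,0,1,0,3,1,0,1,0,1,2]))) (.node (.node (.leaf [0,2,1,0,1,0,1,3,1,0,1]) (.leaf [2,1,3,1,0,1,0,1,3,1,0,1,2])) (.node (.leaf [0,2,1,0,3,1,0,1,0,2]) (.leaf [0,2,3,1,0,1,0,2,1])))) (.node (.node (.node (.leaf [0,1,0,1,2,1,0,3,1,0]) (.leaf [0,1,3,1,0,2,1,0,1,0,3,1,0,1,3])) (.node (.leaf [0,2,1,3,1,0,1,0,1,0,2]) (.leaf [2,1,0,3,1,0,1,0,1,2,3,1]))) (.node (.node (.leaf [0,2,1,0,3,1,0,1,0,3,1]) (.leaf [0,2,1,3,1,0,1,0,3,1,0,1,2])) (.node (.leaf [2,1,3,1,0,2,1]) (.leaf []))))) (.node (.node (.node (.node (.leaf [0,2,1,0,1,0,1,0,2]) (.leaf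 [0,1,0,1,3,1,0,1,0,1])) (.node (.leaf [2,1,0,3,1,2]) (.leaf [1,0,1,0,3,1,0,2,1,0,3,1,0,1,3]))) (.node (.node (.leaf [3,1,0,1,0,1,0,1]) (.leaf [0,3,1,0,1,0,2,1,0,3,1,0,2])) (.node (.leaf [0,1,2,3,1,0,1,0,2,3,1,0]) (.leaf [2,3,1,0,1,2,1,0,3,1,0,2])))) (.node (.node (.node (.leaf [2,1,0,3]) (.leaf [3,1,0,1,0,2,1])) (.node (.leaf [1,0,2,1,0,1,0,1,0,3,1,0,2,1]) (.leaf [2,3,1,0,2,1,0,1,3,1,0,1,0,3]))) (.node (.node (.leaf [0,2,1,0,3,1,0,1,2]) (.leaf [0,1,0,1,3,1,0,1,0,2])) (.node (.leaf [0,2,1,3,1,0,1,0,1,3,1,0]) (.leaf [])))))) (.node (.node (.node (.node (.node (.leaf [1,0,1,0,1,0,2,1,0,3,1]) (.leaf [1,0,2,1,0,1,0,3,1,0,1,3])) (.node (.leaf [0,2,1,0,1,0,3,1,0,1,0,2,3,1]) (.leaf [0,3,1,0,1,2,1,3]))) (.node (.node (.leaf [1,3,1,0,2,1,0,1,0,1,0]) (.leaf [1,0,3,1,0,1,2,1,0,3,1,0,2])) (.node (.leaf [2,1,3,1,0,1,0,1,3,1,0,1,2,3]) (.leaf [1,2,3,1,0,2,1,0,3,1,0,1,0,2])))) (.node (.node (.node (.leaf [0,2,1,0,3,1,2])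 (.leaf [3,1,0,2,1,0,3,1,0,1,0,2,3])) (.node (.leaf [2,1,3,1,0,1,0,1,0]) (.leaf [1,0,1,0,3,1,0,1,2,1,3,1]))) (.node (.node (.leaf [0,1,0,2,1,0,1,3,1,0,1,0,3,1,2]) (.leaf [0,2,3,1,0,1,0,2,1,3,1])) (.node (.leaf [0,1,0,1,0,3,1,0,1,0,3,1,0,2,1]) (.leaf []))))) (.node (.node (.node (.node (.leaf [0,1,0,1,0,1,0,1,0,2,3,1,2]) (.leaf [0,3,1,0,1,0,2])) (.node (.leaf [0,1,3,1,0,1,2,1,0,1,3]) (.leaf [1,0,2,1,0,1,3,1,0,1,0,2]))) (.node (.node (.leaf [0,2,1,0,1,0,3,1,0,1,0,1]) (.leaf [3,1,0,2,1,0,1,0,1,2,3])) (.node (.leaf [1,3,1,0,2,1,0,1,0]) (.leaf [2,1,3,1,0,1,0,1,3,1,2])))) (.node (.node (.node (.leaf [0,3,1,0]) (.leaf [0,1,0,3,1,0,1,2,3,1,0,1])) (.node (.leaf [0,3,1,0,1,0,1,0,2,1,3]) (.leaf [0,1,0,1,0,3,1,0,1,2,3]))) (.node (.node (.leaf [1,0,2,3,1,0,1,0,1,0,2,1]) (.leaf [2,1,0,3,1,0,1,0,3,1,0,1])) (.node (.leaf [1,0,1,0,3,1,0,1,0,1,3,1,0,2,1,3]) (.leaf []))))))))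

def lI_31 : CfsgLib.Coset.Tr (List Nat) := (.node (.node (.node (.node (.node (.node (.node (.leaf [0,2,1,0]) (.leaf [0,2,1,0,3,1,0,1,2,1,0])) (.node (.leaf [1,2,3,1,0,2,1,0]) (.leaf [0,1,2,3,1,0,1,2,3,1]))) (.node (.node (.leaf [1,0,2,1,0,1,0,1,3,1,2]) (.leaf [0,1,0,3,1,0,1,0,3,1,0,1,0,2,3,1])) (.node (.leaf [1,2,1,3,1,0,2,1,0]) (.leaf [1,0,1,0,3,1,0,1,0,3,1,0,1,3])))) (.node (.node (.node (.leaf [2,1,3]) (.leaf [1,0,2,1,0,1,0,1,0,3,1,0,1,2,1])) (.node (.leaf [0,3,1,0,1,0,1]) (.leaf [2,3,1,0,1,0,3,1]))) (.node (.node (.leaf [1,0,2,1,0,1,0,1,0,3,1,2]) (.leaf [0,1,0,1,0,3,1,0,1,3])) (.node (.leaf [0,3,1,0,1,0,1,0,1,2,1,3]) (.leaf []))))) (.node (.node (.node (.node (.leaf [0,1,0,1,2,1,0,3,1]) (.leaf [0,2,1,0,1,3,1,0,1,0,1,3,1])) (.node (.leaf [2,3,1,0,1,0,1,0,1]) (.leaf [1,0,1,3,1,0,1,0,1,3,1,0,1,3]))) (.node (.node (.leaf [1,3,1,0,2,1,0,1,0,1,2,3]) (.leaf [0,1,2,1,0,1,3,1,0,2,1,0])) (.node (.leaf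 [1,0,1,0,2,1,0,3,1,0,2,1,0]) (.leaf [2,3,1,0,1,0,1,2,3])))) (.node (.node (.node (.leaf [2,1,0,1,0,1,0,1,3,1,2]) (.leaf [1,2,1,3,1,0,2,1,0,1])) (.node (.leaf [3,1,0,2,1,0,1,3,1,0]) (.leaf [1,3,1,0,2,1,0,3,1,0,1,0,3,1]))) (.node (.node (.leaf [3,1,0,1,0]) (.leaf [0,2,1,3,1,0,1,0,1,2,3,1])) (.node (.leaf [2,3,1,0,1,0,1,0,1,2]) (.leaf [])))))) (.node (.node (.node (.node (.node (.leaf [0,2,1,0,1,0,1,0,1,0]) (.leaf [3,1,0,2,1,0,1,0,3,1,0])) (.node (.leaf [3,1,0,2,1,0,3,1,0,1,0,3,1,0]) (.leaf [3,1,0,2,1,0,1,2]))) (.node (.node (.leaf [0,2,1,0,1,3,1,0,1,3]) (.leaf [2,1,3,1,0,2,1,0,1,0])) (.node (.leaf [1,2,1,0,1,0,1,3,1,0,1,3]) (.leaf [0,1,3,1,0,1,0,1,3,1,0,1,2,3])))) (.node (.node (.node (.leaf [1,0,2,1,0,1,0,1,2,3,1,0]) (.leaf [0,2,1,0,3,1,0,1,0,3,1,0,1,2])) (.node (.leaf [1,2,3,1,0,2,1,0,3,1,0]) (.leaf [2,1,3,1,0,2,1,0,1]))) (.node (.node (.leaf [0,2,1,0,3,1,0,1,0,1,3,1]) (.leaf [2,1,0,1,2,3,1,0,2,1,3]))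 (.node (.leaf [0,1,0,1,3,1,0,1,2,1,3]) (.leaf []))))) (.node (.node (.node (.node (.leaf [0,2,1,0,1,3,1,0]) (.leaf [1,0,1,0,3,1,0,1,0,1,2,1,3,1,2])) (.node (.leaf [0,2,1,3,1,0,1,0,3,1,0,2]) (.leaf [3,1,0,1,0,2,1,0]))) (.node (.node (.leaf [0,3,1,0,1,0,1,0]) (.leaf [2,3,1,0,2,1,0,1,3,1,0,1,3])) (.node (.leaf [1,2,1,3,1,0,2,1,0,3,1,0,1,0]) (.leaf [3,1,0,1,0,1,0,2,1,0,3])))) (.node (.node (.node (.leaf [2,1,0,1,0,1,3,1,0,1]) (.leaf [2,3,1,0,1,2,1])) (.node (.leaf [1,0,1,3,1,0,1,0,1,3]) (.leaf [1,0,2,1,0,1,3,1,0,1,0,3,1,0]))) (.node (.node (.leaf [0,2,1,0,1,3,1,0,1,0,3]) (.leaf [0,3,1,0,1,2,1,0,3,1,0,2,1,3])) (.node (.leaf [1,0,1,2,1,0,1,3,1,0,2,1]) (.leaf []))))))) (.node (.node (.node (.node (.node (.node (.leaf [1,0,1,0,1,0,1,2,1,3]) (.leaf [0,2,1,3,1,0,1,0,1,2])) (.node (.leaf [0,3,1,0,1,0,1,0,1,2,1]) (.leaf [1,0,1,0,1,3,1,0,1,2,3]))) (.node (.node (.leaf [0,2,1,0,1,0,1,3,1,0,2]) (.leaf [3,1,0,1,0,1,2]))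 (.node (.leaf [0,1,0,1,0,3,1,0,1,0,1]) (.leaf [0,3,1,0,1,0,2,1,0])))) (.node (.node (.node (.leaf [0,2,1,0,1,0,1,0,2,3]) (.leaf [1,0,1,0,1,2,3,1,0,2,1,0])) (.node (.leaf [1,2,1,3,1,0,1,3]) (.leaf [0,1,0,3,1,0,1,0,3,1,0,1,2,3]))) (.node (.node (.leaf [0,3,1,0,2]) (.leaf [1,0,1,2,1,0,1,3,1,0,1,2,1])) (.node (.leaf [1,2,3,1,0,2,1,0,3,1]) (.leaf []))))) (.node (.node (.node (.node (.leaf [0,2,1,0,1,0,1,0,1,2,3]) (.leaf [1,2,1,0,1,0,1,0,3,1,0,1,2])) (.node (.leaf [1,2,1,0,1,2,3,1,0,1]) (.leaf [3,1,0,1,0,1,2,1]))) (.node (.node (.leaf [1,2,1,0,1,2,3,1,2]) (.leaf [1,3,1,0,2,1,0,3,1,0,1,0,3])) (.node (.leaf [0,2,1,0,1,0,3,1,0,1,0,2,1]) (.leaf [0,1,0,1,0,3,1,0,1,0,1,3,1,2])))) (.node (.node (.node (.leaf [2,1,0,1,0,1,0,1,2,3,1]) (.leaf [1,0,2,1,0,1,3,1,0,1,0])) (.node (.leaf [1,0,1,0,2,1,3,1,0,2,1]) (.leaf [3,1,0,2,1,0,1,0,1,2,3,1]))) (.node (.node (.leaf [1,0,2,3,1,0,1,0,1,0,3,1]) (.leaf [2,1,3,1,0,1,0,3]))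 (.node (.leaf [0,1,0,2,3,1,0,1,0,1,0,3]) (.leaf [])))))) (.node (.node (.node (.node (.node (.leaf [2,1,0,1,0,1,0,1,0]) (.leaf [0,3,1,0,1,0,1,0,2,3])) (.node (.leaf [0,2,1,0,1,0,3,1,0,1,0,3,1,2]) (.leaf [0,1,2,1,3,1,0,1,2,1,3,1]))) (.node (.node (.leaf [1,2,1,0,1,0,2,3,1,0,2]) (.leaf [0,1,0,1,0,1,3,1,0,1,2,3,1])) (.node (.leaf [1,2,1,0,3,1,0,1,0]) (.leaf [3,1,0,1,0,1,0,2,1,0,3,1,2])))) (.node (.node (.node (.leaf [0,2,1,0,1,0,3,1,0,1]) (.leaf [2,1,0,1,2,3,1,0,1,2,1,0])) (.node (.leaf [0,1,0,2,1,0,1,3,1,0,1,0,3,1,0]) (.leaf [0,3,1,0,1,0,2,1,0,3,1,2]))) (.node (.node (.leaf [2,1,0,1,3,1,0,1,0,1,3]) (.leaf [1,0,1,0,3,1,0,1,0,3,1,0,1])) (.node (.leaf [0,1,0,3,1,0,1,2,3,1,0]) (.leaf []))))) (.node (.node (.node (.node (.leaf [1,0,1,0,1,0,1,0,2,1]) (.leaf [0,2,3,1,0,2,1,0])) (.node (.leaf [0,1,0,1,2,3,1,0,1,0,3,1,2]) (.leaf [2,1,0,3,1,0,1,0,1,2,1]))) (.node (.node (.leaf [1,2,3,1,0,1,2]) (.leaf [2,1,0,3,1,0,1,0,3,1,0,2]))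 (.node (.leaf [1,2,3,1,0,2,1,0,1,0,3,1,0,1,0]) (.leaf [2,3,1,0,1,0,3,1,0,1])))) (.node (.node (.node (.leaf [0,2,1,0,1,0,1,0,2,1,3,1,2]) (.leaf [3,1,0,2,1,0,1,0,1,0,3,1])) (.node (.leaf [2,3,1,0,2,1,0,1,0,1,3]) (.leaf [1,2,1,0,1,2,3,1,0,1,2,1,0]))) (.node (.node (.leaf [1,3,1,0,1,0,2,1,3,1]) (.leaf [0,2,1,0,1,3,1,0,1,0,3,1,0,1])) (.node (.leaf [1,0,2,1,3,1,0,1,0,1,3]) (.leaf []))))))))

/-- A subgroup of order 3840, as products of generators. -/
def lI : CfsgLib.Coset.Tr (List Nat) := (.node (.node (.node (.node (.node lI_0 lI_1) (.node lI_2 lI_3)) (.node (.node lI_4 lI_5) (.node lI_6 lI_7))) (.node (.node (.node lI_8 lI_9) (.node lI_10 lI_11)) (.node (.node lI_12 lI_13) (.node lI_14 lI_15)))) (.node (.node (.node (.node lI_16 lI_17) (.node lI_18 lI_19)) (.node (.node lI_20 lI_21) (.node lI_22 lI_23))) (.node (.node (.node lI_24 lI_25) (.node lI_26 lI_27)) (.node (.node lI_28 lI_29) (.node lI_30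 lI_31)))))

def lK_0 : CfsgLib.Coset.Tr (List Nat) := (.node (.node (.node (.node (.node (.node (.node (.leaf [116,47,4,23]) (.leaf [2,59,149,1144])) (.node (.leaf [5,32,97,532]) (.leaf [20,98,60,1585]))) (.node (.node (.leaf [21,13,143,306]) (.leaf [10,14,47,1253])) (.node (.leaf [5,102,30,805]) (.leaf [9,17,222,1888])))) (.node (.node (.node (.leaf [20,3,16,187]) (.leaf [22,77,26,1203])) (.node (.leaf [5,58,146,753]) (.leaf [37,60,57,1673]))) (.node (.node (.leaf [38,14,12,472]) (.leaf [66,105,215,1510])) (.node (.leaf [10,17,57,872]) (.leaf []))))) (.node (.node (.node (.node (.leaf [38,6,54,118]) (.leaf [39,54,136,1171])) (.node (.leaf [36,147,14,697]) (.leaf [5,102,257,1630]))) (.node (.node (.leaf [39,3,138,330]) (.leaf [2,50,24,1298])) (.node (.leaf [2,86,229,846]) (.leaf [21,4,86,1930])))) (.node (.node (.node (.leaf [19,104,4,209]) (.leaf [40,47,229,1214])) (.node (.leaf [21,8,50,786]) (.leaf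 [20,26,13,1727]))) (.node (.node (.leaf [10,26,222,499]) (.leaf [68,32,26,1558])) (.node (.leaf [2,50,24,1127]) (.leaf [])))))) (.node (.node (.node (.node (.node (.leaf [2,1,55,71]) (.leaf [5,48,44,1160])) (.node (.leaf [21,6,228,538]) (.leaf [11,30,136,1605]))) (.node (.node (.leaf [36,12,14,324]) (.leaf [2,80,149,1269])) (.node (.leaf [37,138,45,833]) (.leaf [38,49,13,1907])))) (.node (.node (.node (.leaf [38,14,58,196]) (.leaf [21,77,147,1208])) (.node (.leaf [66,25,27,777]) (.leaf [117,29,47,1697]))) (.node (.node (.leaf [11,25,85,482]) (.leaf [116,149,44,1552])) (.node (.leaf [69,48,229,1023]) (.leaf []))))) (.node (.node (.node (.node (.leaf [67,26,7,126]) (.leaf [22,44,216,1184])) (.node (.leaf [40,24,59,748]) (.leaf [20,83,29,1642]))) (.node (.node (.leaf [21,13,143,457]) (.leaf [69,89,134,1470])) (.node (.leaf [69,48,13,861]) (.leaf [20,4,335,1973])))) (.node (.node (.node (.leaf [117,49,60,297])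 (.leaf [19,80,27,1245])) (.node (.leaf [36,149,215,799]) (.leaf [68,87,104,1856]))) (.node (.node (.leaf [20,102,8,512]) (.leaf [19,8,260,1572])) (.node (.leaf [40,29,86,1139]) (.leaf []))))))) (.node (.node (.node (.node (.node (.node (.leaf [67,12,54,42]) (.leaf [5,102,139,1147])) (.node (.leaf [20,31,16,536]) (.leaf [5,55,216,1591]))) (.node (.node (.leaf [116,88,105,314]) (.leaf [69,58,1,1267])) (.node (.leaf [69,173,257,812]) (.leaf [37,16,12,1896])))) (.node (.node (.node (.leaf [69,85,7,192]) (.leaf [40,77,220,1205])) (.node (.leaf [66,262,80,769]) (.leaf [21,25,14,1678]))) (.node (.node (.leaf [38,50,145,475]) (.leaf [66,229,86,1542])) (.node (.leaf [9,166,16,875]) (.leaf []))))) (.node (.node (.node (.node (.leaf [5,1,86,122]) (.leaf [39,57,45,1178])) (.node (.leaf [10,26,147,741]) (.leaf [37,16,12,1636]))) (.node (.node (.leaf [20,14,8,454]) (.leaf [38,139,261,1300])) (.node (.leaf [10,166,147,849])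 (.leaf [68,147,3,1969])))) (.node (.node (.node (.leaf [22,1,222,211]) (.leaf [69,107,166,1220])) (.node (.leaf [116,229,24,797]) (.leaf [69,149,212,1835]))) (.node (.node (.leaf [66,262,80,508]) (.leaf [36,107,57,1565])) (.node (.leaf [5,48,139,1130]) (.leaf [])))))) (.node (.node (.node (.node (.node (.leaf [69,48,7,74]) (.leaf [11,13,212,1163])) (.node (.leaf [22,8,102,687]) (.leaf [39,47,14,1627]))) (.node (.node (.leaf [38,14,228,326]) (.leaf [69,107,166,1273])) (.node (.leaf [67,106,8,837]) (.leaf [117,29,47,1914])))) (.node (.node (.node (.leaf [21,3,80,204]) (.leaf [116,228,44,1212])) (.node (.leaf [68,27,220,780]) (.leaf [68,60,102,1701]))) (.node (.node (.leaf [36,173,47,485]) (.leaf [40,57,220,1554])) (.node (.leaf [5,27,77,1083]) (.leaf []))))) (.node (.node (.node (.node (.leaf [9,3,216,131]) (.leaf [117,220,139,1200])) (.node (.leaf [66,107,12,751]) (.leaf [20,78,215,1657]))) (.node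 (.node (.leaf [37,222,59,467]) (.leaf [117,105,1,1500])) (.node (.leaf [37,50,216,865]) (.leaf [68,215,102,2029])))) (.node (.node (.node (.leaf [20,14,8,303]) (.leaf [36,31,136,1248])) (.node (.leaf [116,173,55,802]) (.leaf [36,143,1,1860]))) (.node (.node (.leaf [67,26,149,524]) (.leaf [5,7,12,1582])) (.node (.leaf [37,60,6,1142]) (.leaf []))))))))

def lK_1 : CfsgLib.Coset.Tr (List Nat) := (.node (.node (.node (.node (.node (.node (.node (.leaf [2,1,29,41]) (.leaf [22,97,31,1146])) (.node (.leaf [19,14,216,533]) (.leaf [117,59,50,1589]))) (.node (.node (.leaf [117,59,4,313]) (.leaf [19,8,25,1264])) (.node (.leaf [2,88,102,806]) (.leaf [9,134,13,1892])))) (.node (.node (.node (.leaf [19,14,98,188]) (.leaf [116,149,98,1204])) (.node (.leaf [67,31,8,766]) (.leaf [9,48,214,1674]))) (.node (.node (.leaf [69,89,49,474]) (.leaf [67,214,48,1541])) (.node (.leaf [38,146,228,873]) (.leaf []))))) (.node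 (.node (.node (.node (.leaf [69,48,7,120]) (.leaf [117,45,97,1175])) (.node (.leaf [36,26,104,729]) (.leaf [9,134,13,1633]))) (.node (.node (.leaf [40,1,143,331]) (.leaf [68,50,83,1299])) (.node (.leaf [38,168,32,848]) (.leaf [21,8,261,1946])))) (.node (.node (.node (.leaf [68,105,85,210]) (.leaf [2,85,77,1216])) (.node (.leaf [2,86,229,795]) (.leaf [5,7,80,1805]))) (.node (.node (.leaf [117,105,4,502]) (.leaf [2,49,229,1559])) (.node (.leaf [69,149,59,1129]) (.leaf [])))))) (.node (.node (.node (.node (.node (.leaf [38,6,54,72]) (.leaf [37,138,45,1162])) (.node (.leaf [38,146,12,664]) (.leaf [5,45,214,1625]))) (.node (.node (.leaf [9,58,49,325]) (.leaf [20,98,60,1272])) (.node (.leaf [11,13,212,834]) (.leaf [9,4,59,1909])))) (.node (.node (.node (.leaf [117,49,7,202]) (.leaf [67,214,226,1209])) (.node (.leaf [66,87,55,778]) (.leaf [36,89,47,1699]))) (.node (.node (.leaf [21,16,147,483]) (.leaf [117,229,106,1553]))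 (.node (.leaf [117,87,3,1070]) (.leaf []))))) (.node (.node (.node (.node (.leaf [11,1,59,128]) (.leaf [38,17,3,1187])) (.node (.leaf [36,89,138,749]) (.leaf [67,107,102,1643]))) (.node (.node (.leaf [117,59,4,464]) (.leaf [38,50,333,1471])) (.node (.leaf [116,88,86,862]) (.leaf [36,143,1,2022])))) (.node (.node (.node (.leaf [19,86,216,299]) (.leaf [19,8,31,1246])) (.node (.leaf [9,32,13,801]) (.leaf [37,138,335,1858]))) (.node (.node (.leaf [67,80,54,523]) (.leaf [19,8,3,1580])) (.node (.leaf [40,47,173,1140]) (.leaf []))))))) (.node (.node (.node (.node (.node (.node (.leaf [66,25,7,70]) (.leaf [40,57,149,1148])) (.node (.leaf [21,30,102,537]) (.leaf [37,220,6,1604]))) (.node (.node (.leaf [9,55,226,317]) (.leaf [67,31,27,1268])) (.node (.leaf [5,48,44,829]) (.leaf [20,78,215,1900])))) (.node (.node (.node (.leaf [9,3,49,195]) (.leaf [2,139,47,1207])) (.node (.leaf [21,13,216,770]) (.leaf [20,26,77,1681])))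 (.node (.node (.leaf [116,149,29,481]) (.leaf [38,17,48,1544])) (.node (.leaf [22,6,83,876]) (.leaf []))))) (.node (.node (.node (.node (.leaf [19,6,30,123]) (.leaf [68,215,80,1183])) (.node (.leaf [10,31,12,743]) (.leaf [5,102,257,1638]))) (.node (.node (.leaf [66,89,80,456]) (.leaf [36,143,17,1302])) (.node (.leaf [9,14,220,850]) (.leaf [5,7,80,1972])))) (.node (.node (.node (.leaf [37,50,8,293]) (.leaf [36,107,215,1233])) (.node (.leaf [117,149,88,798]) (.leaf [67,106,1,1851]))) (.node (.node (.leaf [21,13,216,509]) (.leaf [19,80,78,1571])) (.node (.leaf [40,44,49,1138]) (.leaf [])))))) (.node (.node (.node (.node (.node (.leaf [5,1,86,76]) (.leaf [36,15,1,1170])) (.node (.leaf [36,26,168,694]) (.leaf [69,149,166,1628]))) (.node (.node (.leaf [9,58,8,329]) (.leaf [40,7,85,1283])) (.node (.leaf [36,15,13,845]) (.leaf [19,212,13,1929])))) (.node (.node (.node (.leaf [22,1,222,205]) (.leaf [38,50,134,1213]))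 (.node (.leaf [5,48,30,785]) (.leaf [69,89,257,1723]))) (.node (.node (.leaf [22,30,89,486]) (.leaf [5,83,25,1556])) (.node (.leaf [116,106,138,1084]) (.leaf []))))) (.node (.node (.node (.node (.leaf [36,147,7,133]) (.leaf [2,80,149,1201])) (.node (.leaf [11,57,85,752]) (.leaf [37,220,6,1671]))) (.node (.node (.leaf [10,17,225,470]) (.leaf [37,88,58,1508])) (.node (.leaf [2,60,29,871]) (.leaf [37,138,335,2033])))) (.node (.node (.node (.leaf [66,89,80,305]) (.leaf [38,139,15,1252])) (.node (.leaf [20,27,228,803]) (.leaf [11,30,136,1876]))) (.node (.node (.leaf [68,27,25,527]) (.leaf [36,31,78,1583])) (.node (.leaf [39,16,50,1143]) (.leaf []))))))))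

def lK_2 : CfsgLib.Coset.Tr (List Nat) := (.node (.node (.node (.node (.node (.node (.node (.leaf [117,24,57,23]) (.leaf [21,97,143,1145])) (.node (.leaf [21,30,17,533]) (.leaf [20,98,225,1585]))) (.node (.node (.leaf [10,58,89,307]) (.leaf [19,8,3,1264])) (.node (.leaf [67,216,222,805]) (.leaf [38,60,166,1891])))) (.node (.node (.node (.leaf [68,27,4,188]) (.leaf [5,31,262,1203])) (.node (.leaf [69,173,49,764]) (.leaf [38,49,13,1674]))) (.node (.node (.leaf [38,14,228,472]) (.leaf [116,57,60,1536])) (.node (.leaf [38,146,12,873]) (.leaf []))))) (.node (.node (.node (.node (.leaf [36,12,16,119]) (.leaf [116,47,50,1175])) (.node (.leaf [69,25,222,697]) (.leaf [38,60,166,1632]))) (.node (.node (.leaf [117,87,7,331]) (.leaf [116,102,107,1298])) (.node (.leaf [38,168,134,847]) (.leaf [20,83,6,1946])))) (.node (.node (.node (.leaf [68,105,333,209]) (.leaf [117,149,143,1215])) (.node (.leaf [116,228,29,795])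 (.leaf [19,85,260,1727]))) (.node (.node (.leaf [66,105,45,501]) (.leaf [116,228,44,1559])) (.node (.leaf [116,102,107,1127]) (.leaf [])))))) (.node (.node (.node (.node (.node (.leaf [37,13,4,72]) (.leaf [22,54,229,1160])) (.node (.leaf [116,104,87,539]) (.leaf [22,77,55,1625]))) (.node (.node (.leaf [10,17,225,324]) (.leaf [117,173,146,1270])) (.node (.leaf [69,58,16,834]) (.leaf [9,48,214,1907])))) (.node (.node (.node (.leaf [37,50,59,198]) (.leaf [5,83,25,1209])) (.node (.leaf [66,25,149,777]) (.leaf [11,7,49,1698]))) (.node (.node (.leaf [19,60,13,483]) (.leaf [2,86,173,1552])) (.node (.leaf [68,50,83,1039]) (.leaf []))))) (.node (.node (.node (.node (.leaf [22,1,58,126]) (.leaf [66,229,86,1185])) (.node (.leaf [36,89,30,749]) (.leaf [68,60,332,1642]))) (.node (.node (.leaf [10,58,89,458]) (.leaf [9,166,44,1471])) (.node (.leaf [69,48,229,861]) (.leaf [2,4,45,1985])))) (.node (.node (.node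 (.leaf [68,143,4,299]) (.leaf [68,32,260,1245])) (.node (.leaf [37,60,49,800]) (.leaf [38,139,3,1858]))) (.node (.node (.leaf [21,6,228,512]) (.leaf [67,86,44,1574])) (.node (.leaf [2,85,57,1140]) (.leaf []))))))) (.node (.node (.node (.node (.node (.node (.leaf [2,1,55,43]) (.leaf [2,88,47,1148])) (.node (.leaf [19,104,220,536]) (.leaf [38,136,138,1603]))) (.node (.node (.leaf [37,222,8,317]) (.leaf [36,31,78,1267])) (.node (.leaf [36,173,138,825]) (.leaf [20,78,50,1900])))) (.node (.node (.node (.leaf [36,49,168,192]) (.leaf [117,149,143,1206])) (.node (.leaf [19,257,16,770]) (.leaf [19,17,214,1678]))) (.node (.node (.leaf [69,107,59,476]) (.leaf [38,17,3,1544])) (.node (.leaf [39,13,220,875]) (.leaf []))))) (.node (.node (.node (.node (.leaf [19,6,4,123]) (.leaf [37,50,216,1178])) (.node (.leaf [39,13,60,742]) (.leaf [5,102,44,1638]))) (.node (.node (.leaf [20,14,104,454]) (.leaf [36,31,85,1301]))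 (.node (.leaf [39,57,17,850]) (.leaf [19,80,214,1969])))) (.node (.node (.node (.leaf [39,3,32,291]) (.leaf [36,107,57,1233])) (.node (.leaf [2,80,228,797]) (.leaf [37,88,58,1850]))) (.node (.node (.leaf [19,257,16,509]) (.leaf [36,107,215,1565])) (.node (.leaf [21,8,50,1131]) (.leaf [])))))) (.node (.node (.node (.node (.node (.leaf [36,26,98,74]) (.leaf [69,145,24,1164])) (.node (.leaf [69,85,13,694]) (.leaf [9,17,222,1627]))) (.node (.node (.leaf [9,58,57,328]) (.leaf [117,59,1,1283])) (.node (.leaf [67,106,173,837]) (.leaf [10,98,107,1915])))) (.node (.node (.node (.leaf [67,88,7,205]) (.leaf [2,49,229,1212])) (.node (.leaf [69,149,59,784]) (.leaf [10,166,24,1723]))) (.node (.node (.leaf [36,173,225,485]) (.leaf [21,77,147,1555])) (.node (.leaf [117,105,1,1084]) (.leaf []))))) (.node (.node (.node (.node (.leaf [69,138,143,132]) (.leaf [116,173,54,1201])) (.node (.leaf [22,15,106,751]) (.leaf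 [38,136,138,1670]))) (.node (.node (.leaf [36,12,14,470]) (.leaf [116,106,138,1500])) (.node (.leaf [2,60,54,870]) (.leaf [38,139,3,2033])))) (.node (.node (.node (.leaf [20,14,104,303]) (.leaf [67,86,44,1249])) (.node (.leaf [21,97,32,803]) (.leaf [10,7,215,1860]))) (.node (.node (.leaf [68,13,85,526]) (.leaf [69,58,1,1583])) (.node (.leaf [9,17,136,1142]) (.leaf []))))))))

def lK_3 : CfsgLib.Coset.Tr (List Nat) := (.node (.node (.node (.node (.node (.node (.node (.leaf [66,25,7,42]) (.leaf [5,26,229,1146])) (.node (.leaf [5,32,97,535]) (.leaf [22,97,45,1591]))) (.node (.node (.leaf [117,59,107,313]) (.leaf [5,7,12,1266])) (.node (.leaf [10,166,15,812]) (.leaf [39,16,260,1892])))) (.node (.node (.node (.leaf [67,26,32,190]) (.leaf [117,229,85,1205])) (.node (.leaf [67,31,173,766]) (.leaf [9,4,59,1676]))) (.node (.node (.leaf [9,27,16,475]) (.leaf [22,44,216,1541])) (.node (.leaf [39,57,146,874])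 (.leaf []))))) (.node (.node (.node (.node (.leaf [36,26,98,120]) (.leaf [116,88,86,1176])) (.node (.leaf [10,26,15,741]) (.leaf [39,16,260,1633]))) (.node (.node (.leaf [22,8,102,428]) (.leaf [38,139,15,1300])) (.node (.leaf [39,54,220,848]) (.leaf [21,16,98,1949])))) (.node (.node (.node (.leaf [67,88,7,211]) (.leaf [40,97,229,1216])) (.node (.leaf [116,229,78,796]) (.leaf [10,134,12,1835]))) (.node (.node (.leaf [116,104,138,502]) (.leaf [117,220,104,1560])) (.node (.leaf [5,48,30,1130]) (.leaf [])))))) (.node (.node (.node (.node (.node (.leaf [36,12,16,73]) (.leaf [69,58,16,1163])) (.node (.leaf [38,146,228,664]) (.leaf [67,107,102,1626]))) (.node (.node (.leaf [38,14,12,326]) (.leaf [20,98,225,1272])) (.node (.leaf [69,145,24,835]) (.leaf [116,57,1,1914])))) (.node (.node (.node (.leaf [40,1,104,202]) (.leaf [68,32,26,1211])) (.node (.leaf [68,27,25,780]) (.leaf [36,89,225,1699]))) (.node (.node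 (.leaf [66,107,86,484]) (.leaf [2,139,47,1554])) (.node (.leaf [116,85,145,1070]) (.leaf []))))) (.node (.node (.node (.node (.leaf [37,106,4,131]) (.leaf [38,17,48,1187])) (.node (.leaf [20,32,50,750]) (.leaf [20,78,50,1657]))) (.node (.node (.leaf [117,59,107,464]) (.leaf [5,27,77,1499])) (.node (.leaf [39,57,45,865]) (.leaf [10,7,215,2022])))) (.node (.node (.node (.leaf [68,105,29,302]) (.leaf [69,104,16,1248])) (.node (.leaf [38,60,138,801]) (.leaf [11,7,49,1859]))) (.node (.node (.leaf [67,26,6,524]) (.leaf [19,8,25,1580])) (.node (.leaf [11,47,104,1141]) (.leaf []))))))) (.node (.node (.node (.node (.node (.node (.leaf [67,12,54,70]) (.leaf [36,173,138,1156])) (.node (.leaf [20,102,8,538]) (.leaf [9,45,260,1604]))) (.node (.node (.leaf [39,3,138,318]) (.leaf [116,173,54,1269])) (.node (.leaf [22,54,229,829]) (.leaf [37,60,57,1906])))) (.node (.node (.node (.leaf [38,14,4,196]) (.leaf [40,57,220,1207]))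 (.node (.leaf [68,225,86,771]) (.leaf [116,57,1,1697]))) (.node (.node (.leaf [2,49,173,481]) (.leaf [22,77,106,1551])) (.node (.leaf [69,48,13,1023]) (.leaf []))))) (.node (.node (.node (.node (.leaf [68,27,31,124]) (.leaf [67,214,48,1184])) (.node (.leaf [10,31,143,743]) (.leaf [66,107,97,1641]))) (.node (.node (.leaf [19,50,16,457]) (.leaf [69,30,226,1302])) (.node (.leaf [117,45,57,860]) (.leaf [19,85,3,1973])))) (.node (.node (.node (.leaf [39,6,146,293]) (.leaf [68,215,80,1244])) (.node (.leaf [11,47,48,799]) (.leaf [66,105,215,1851]))) (.node (.node (.leaf [68,225,86,510]) (.leaf [68,87,6,1572])) (.node (.leaf [2,59,228,1138]) (.leaf [])))))) (.node (.node (.node (.node (.node (.leaf [37,13,4,118]) (.leaf [10,7,25,1170])) (.node (.leaf [40,4,104,696]) (.leaf [5,102,44,1630]))) (.node (.node (.leaf [37,106,228,329]) (.leaf [5,55,107,1287])) (.node (.leaf [116,228,29,846]) (.leaf [20,78,257,1929]))))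 (.node (.node (.node (.leaf [68,105,29,208]) (.leaf [2,146,57,1214])) (.node (.leaf [5,48,139,785]) (.leaf [21,25,83,1726]))) (.node (.node (.leaf [10,26,24,499]) (.leaf [67,214,226,1556])) (.node (.leaf [116,57,60,1122]) (.leaf []))))) (.node (.node (.node (.node (.leaf [69,138,222,133]) (.leaf [117,173,146,1202])) (.node (.leaf [5,58,25,753]) (.leaf [9,45,260,1671]))) (.node (.node (.leaf [9,58,49,471]) (.leaf [67,106,1,1510])) (.node (.leaf [117,24,102,871]) (.leaf [2,4,45,2046])))) (.node (.node (.node (.leaf [19,50,16,306]) (.leaf [38,139,261,1252])) (.node (.leaf [22,97,88,804]) (.leaf [39,47,14,1888]))) (.node (.node (.leaf [68,27,220,527]) (.leaf [67,31,27,1584])) (.node (.leaf [116,173,24,1144]) (.leaf []))))))))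

def lK_4 : CfsgLib.Coset.Tr (List Nat) := (.node (.node (.node (.node (.node (.node (.node (.leaf [2,1,29,23]) (.leaf [21,97,32,1145])) (.node (.leaf [66,139,149,532]) (.leaf [21,97,78,1585]))) (.node (.node (.leaf [36,107,25,307]) (.leaf [69,30,226,1253])) (.node (.leaf [5,102,139,805]) (.leaf [39,44,50,1891])))) (.node (.node (.node (.leaf [19,6,30,187]) (.leaf [22,77,106,1203])) (.node (.leaf [10,26,24,764]) (.leaf [37,60,214,1673]))) (.node (.node (.leaf [37,145,55,472]) (.leaf [2,50,45,1536])) (.node (.leaf [69,25,222,872]) (.leaf []))))) (.node (.node (.node (.node (.leaf [36,12,7,119]) (.leaf [39,54,220,1171])) (.node (.leaf [10,17,57,697]) (.leaf [39,44,50,1632]))) (.node (.node (.leaf [39,3,333,330]) (.leaf [116,102,60,1298])) (.node (.leaf [9,166,16,847]) (.leaf [19,80,214,1930])))) (.node (.node (.node (.leaf [68,105,85,209]) (.leaf [2,146,77,1215])) (.node (.leaf [20,17,85,786]) (.leaf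 [20,26,77,1727]))) (.node (.node (.leaf [67,31,8,501]) (.leaf [19,17,78,1558])) (.node (.leaf [116,102,60,1127]) (.leaf [])))))) (.node (.node (.node (.node (.node (.leaf [117,45,102,71]) (.leaf [67,216,87,1160])) (.node (.leaf [117,105,4,539]) (.leaf [10,78,173,1605]))) (.node (.node (.leaf [69,138,29,324]) (.leaf [2,139,97,1270])) (.node (.leaf [38,17,261,833]) (.leaf [37,16,58,1907])))) (.node (.node (.node (.leaf [37,50,8,198]) (.leaf [20,32,261,1208])) (.node (.leaf [67,80,54,777]) (.leaf [69,104,1,1698]))) (.node (.node (.leaf [36,89,138,482]) (.leaf [116,149,98,1552])) (.node (.leaf [20,102,24,1039]) (.leaf []))))) (.node (.node (.node (.node (.leaf [67,26,32,126]) (.leaf [66,229,12,1185])) (.node (.leaf [2,49,173,748]) (.leaf [68,60,102,1642]))) (.node (.node (.leaf [36,107,25,458]) (.leaf [69,89,257,1470])) (.node (.leaf [11,16,59,861]) (.leaf [116,102,1,1985])))) (.node (.node (.node (.leaf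 [40,1,104,297]) (.leaf [19,80,78,1245])) (.node (.leaf [37,60,6,800]) (.leaf [20,4,335,1856]))) (.node (.node (.leaf [20,102,104,512]) (.leaf [67,86,25,1574])) (.node (.leaf [2,80,228,1139]) (.leaf []))))))) (.node (.node (.node (.node (.node (.node (.leaf [116,83,4,43]) (.leaf [67,216,222,1147])) (.node (.leaf [68,13,85,536]) (.leaf [38,136,27,1603]))) (.node (.node (.leaf [40,1,143,314]) (.leaf [11,7,26,1267])) (.node (.leaf [36,173,30,825]) (.leaf [38,8,44,1896])))) (.node (.node (.node (.leaf [11,1,59,192]) (.leaf [2,146,77,1206])) (.node (.leaf [5,55,229,769]) (.leaf [21,25,83,1678]))) (.node (.node (.leaf [10,31,12,476]) (.leaf [5,45,262,1542])) (.node (.leaf [38,168,134,875]) (.leaf []))))) (.node (.node (.node (.node (.leaf [5,1,168,122]) (.leaf [9,55,60,1178])) (.node (.leaf [9,27,16,742]) (.leaf [38,8,44,1636]))) (.node (.node (.leaf [21,6,60,454]) (.leaf [69,104,16,1301])) (.node (.leaf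 [69,173,257,849]) (.leaf [21,4,86,1969])))) (.node (.node (.node (.leaf [38,14,4,291]) (.leaf [10,134,226,1220])) (.node (.leaf [40,29,86,797]) (.leaf [9,48,6,1850]))) (.node (.node (.leaf [5,55,229,508]) (.leaf [11,47,98,1565])) (.node (.leaf [20,17,6,1131]) (.leaf [])))))) (.node (.node (.node (.node (.node (.leaf [11,1,31,74]) (.leaf [69,145,12,1164])) (.node (.leaf [67,88,149,687]) (.leaf [39,47,139,1627]))) (.node (.node (.leaf [9,58,8,328]) (.leaf [10,134,226,1273])) (.node (.leaf [22,6,83,837]) (.leaf [36,89,47,1915])))) (.node (.node (.node (.leaf [19,86,216,204]) (.leaf [40,54,87,1212])) (.node (.leaf [69,149,26,784]) (.leaf [68,60,332,1701]))) (.node (.node (.leaf [11,57,85,485]) (.leaf [21,77,27,1555])) (.node (.leaf [66,146,173,1083]) (.leaf []))))) (.node (.node (.node (.node (.leaf [36,147,7,132]) (.leaf [40,47,229,1200])) (.node (.leaf [66,107,86,751]) (.leaf [38,136,27,1670]))) (.node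 (.node (.leaf [9,55,226,467]) (.leaf [116,106,87,1500])) (.node (.leaf [2,60,29,870]) (.leaf [21,8,261,2029])))) (.node (.node (.node (.leaf [21,6,60,303]) (.leaf [67,86,25,1249])) (.node (.leaf [2,59,149,802]) (.leaf [10,7,138,1860]))) (.node (.node (.leaf [20,31,16,526]) (.leaf [67,15,44,1582])) (.node (.leaf [37,60,49,1142]) (.leaf []))))))))

def lK_5 : CfsgLib.Coset.Tr (List Nat) := (.node (.node (.node (.node (.node (.node (.node (.leaf [117,24,57,41]) (.leaf [22,97,88,1146])) (.node (.leaf [5,32,15,535]) (.leaf [40,7,85,1589]))) (.node (.node (.leaf [116,106,80,313]) (.leaf [66,30,1,1266])) (.node (.leaf [40,57,149,806]) (.leaf [38,136,166,1892])))) (.node (.node (.node (.leaf [67,26,7,190]) (.leaf [2,86,173,1204])) (.node (.leaf [66,105,45,766]) (.leaf [37,88,3,1676]))) (.node (.node (.leaf [10,26,147,474]) (.leaf [67,214,105,1541])) (.node (.leaf [39,57,17,874]) (.leaf []))))) (.node (.node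 (.node (.node (.leaf [11,1,31,120]) (.leaf [117,49,3,1176])) (.node (.leaf [36,26,168,729]) (.leaf [38,136,166,1633]))) (.node (.node (.leaf [67,88,6,428]) (.leaf [20,102,333,1299])) (.node (.leaf [39,54,136,848]) (.leaf [19,212,13,1949])))) (.node (.node (.node (.leaf [68,105,333,210]) (.leaf [117,220,104,1216])) (.node (.leaf [40,44,49,796]) (.leaf [67,86,139,1805]))) (.node (.node (.leaf [116,104,87,502]) (.leaf [2,85,77,1560])) (.node (.leaf [10,31,226,1129]) (.leaf [])))))) (.node (.node (.node (.node (.node (.leaf [36,12,7,73]) (.leaf [38,17,261,1162])) (.node (.leaf [37,27,139,664]) (.leaf [5,83,54,1626]))) (.node (.node (.leaf [9,58,216,325]) (.leaf [21,97,78,1272])) (.node (.leaf [69,145,12,835]) (.leaf [9,4,214,1909])))) (.node (.node (.node (.leaf [117,49,60,202]) (.leaf [68,32,3,1211])) (.node (.leaf [67,26,149,778]) (.leaf [10,98,107,1699]))) (.node (.node (.leaf [66,107,12,484]) (.leaf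 [40,77,220,1553])) (.node (.leaf [40,4,104,1070]) (.leaf []))))) (.node (.node (.node (.node (.leaf [36,49,168,128]) (.leaf [39,4,27,1187])) (.node (.leaf [19,60,13,750]) (.leaf [67,107,226,1643]))) (.node (.node (.leaf [116,106,80,464]) (.leaf [5,27,12,1499])) (.node (.leaf [40,4,106,862]) (.leaf [10,7,138,2022])))) (.node (.node (.node (.leaf [68,105,8,302]) (.leaf [19,8,260,1246])) (.node (.leaf [39,16,50,801]) (.leaf [69,104,1,1859]))) (.node (.node (.leaf [66,25,149,523]) (.leaf [20,4,13,1580])) (.node (.leaf [11,47,48,1141]) (.leaf []))))))) (.node (.node (.node (.node (.node (.node (.leaf [5,1,15,70]) (.leaf [36,173,30,1156])) (.node (.leaf [19,14,216,537]) (.leaf [39,8,55,1604]))) (.node (.node (.leaf [38,146,4,318]) (.leaf [22,7,48,1268])) (.node (.leaf [67,216,87,829]) (.leaf [9,45,50,1906])))) (.node (.node (.node (.leaf [9,3,216,195]) (.leaf [117,229,146,1207])) (.node (.leaf [68,225,17,771])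 (.leaf [19,85,260,1681]))) (.node (.node (.leaf [40,24,59,481]) (.leaf [22,77,26,1551])) (.node (.leaf [67,106,173,876]) (.leaf []))))) (.node (.node (.node (.node (.leaf [68,27,4,124]) (.leaf [21,24,261,1183])) (.node (.leaf [69,107,59,743]) (.leaf [22,77,55,1641]))) (.node (.node (.leaf [5,26,107,456]) (.leaf [10,14,47,1302])) (.node (.leaf [116,47,50,860]) (.leaf [67,86,139,1972])))) (.node (.node (.node (.leaf [37,50,59,293]) (.leaf [68,215,14,1244])) (.node (.leaf [40,47,173,798]) (.leaf [22,7,87,1851]))) (.node (.node (.leaf [68,225,17,510]) (.leaf [68,32,260,1571])) (.node (.leaf [116,229,78,1138]) (.leaf [])))))) (.node (.node (.node (.node (.node (.leaf [5,1,168,76]) (.leaf [36,15,13,1170])) (.node (.leaf [117,87,3,696]) (.leaf [69,149,212,1628]))) (.node (.node (.leaf [9,58,57,329]) (.leaf [22,97,45,1287])) (.node (.leaf [10,7,25,845]) (.leaf [21,16,98,1929])))) (.node (.node (.node (.leaf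 [68,105,8,208]) (.leaf [38,50,333,1213])) (.node (.leaf [67,89,87,785]) (.leaf [21,25,14,1726]))) (.node (.node (.leaf [5,58,146,486]) (.leaf [5,83,146,1556])) (.node (.leaf [2,50,45,1122]) (.leaf []))))) (.node (.node (.node (.node (.leaf [69,138,143,133]) (.leaf [2,139,97,1202])) (.node (.leaf [36,173,225,752]) (.leaf [39,8,55,1671]))) (.node (.node (.leaf [38,59,16,471]) (.leaf [37,88,261,1508])) (.node (.leaf [2,60,54,871]) (.leaf [116,102,1,2046])))) (.node (.node (.node (.leaf [5,26,107,305]) (.leaf [39,12,134,1252])) (.node (.leaf [22,97,31,804]) (.leaf [10,78,173,1876]))) (.node (.node (.leaf [21,30,80,527]) (.leaf [67,31,1,1584])) (.node (.leaf [38,60,138,1143]) (.leaf []))))))))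

def lK_6 : CfsgLib.Coset.Tr (List Nat) := (.node (.node (.node (.node (.node (.node (.node (.leaf [116,47,4,41]) (.leaf [20,27,228,1145])) (.node (.leaf [21,30,102,533]) (.leaf [117,59,1,1589]))) (.node (.node (.leaf [36,107,145,307]) (.leaf [20,4,13,1264])) (.node (.leaf [2,88,47,806]) (.leaf [9,134,332,1891])))) (.node (.node (.node (.leaf [68,27,31,188]) (.leaf [116,149,44,1204])) (.node (.leaf [10,26,222,764]) (.leaf [37,16,58,1674]))) (.node (.node (.leaf [10,26,15,474]) (.leaf [2,50,78,1536])) (.node (.leaf [37,27,139,873]) (.leaf []))))) (.node (.node (.node (.node (.leaf [10,1,30,119]) (.leaf [117,45,57,1175])) (.node (.leaf [69,85,13,729]) (.leaf [9,134,332,1632]))) (.node (.node (.leaf [116,88,105,331]) (.leaf [20,102,24,1299])) (.node (.leaf [39,13,220,847]) (.leaf [68,215,102,1946])))) (.node (.node (.node (.leaf [19,104,4,210]) (.leaf [40,97,173,1215])) (.node (.leaf [40,24,80,795])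 (.leaf [66,146,1,1805]))) (.node (.node (.leaf [67,31,173,501]) (.leaf [40,54,87,1559])) (.node (.leaf [69,149,26,1129]) (.leaf [])))))) (.node (.node (.node (.node (.node (.leaf [37,13,15,72]) (.leaf [37,138,14,1162])) (.node (.leaf [116,104,138,539]) (.leaf [66,107,97,1625]))) (.node (.node (.leaf [38,59,16,325]) (.leaf [40,77,149,1270])) (.node (.leaf [11,13,49,834]) (.leaf [37,88,3,1909])))) (.node (.node (.node (.leaf [39,6,146,198]) (.leaf [5,83,146,1209])) (.node (.leaf [67,26,6,778]) (.leaf [36,59,136,1698]))) (.node (.node (.leaf [20,32,50,483]) (.leaf [117,229,85,1553])) (.node (.leaf [20,102,333,1039]) (.leaf []))))) (.node (.node (.node (.node (.leaf [69,85,7,128]) (.leaf [5,45,262,1185])) (.node (.leaf [11,25,85,749]) (.leaf [5,83,54,1643]))) (.node (.node (.leaf [36,107,145,458]) (.leaf [38,50,134,1471])) (.node (.leaf [117,49,3,862]) (.leaf [117,55,83,1985])))) (.node (.node (.node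 (.leaf [21,3,80,299]) (.leaf [68,87,6,1246])) (.node (.leaf [9,17,136,800]) (.leaf [39,4,145,1858]))) (.node (.node (.leaf [66,25,27,523]) (.leaf [5,27,136,1574])) (.node (.leaf [117,149,88,1140]) (.leaf []))))))) (.node (.node (.node (.node (.node (.node (.leaf [117,45,102,43]) (.leaf [2,88,102,1148])) (.node (.leaf [21,30,17,537]) (.leaf [39,44,260,1603]))) (.node (.node (.leaf [37,222,59,317]) (.leaf [67,31,1,1268])) (.node (.leaf [11,25,168,825]) (.leaf [21,77,98,1900])))) (.node (.node (.node (.leaf [37,106,4,195]) (.leaf [40,97,173,1206])) (.node (.leaf [19,257,105,770]) (.leaf [20,26,13,1681]))) (.node (.node (.leaf [10,31,143,476]) (.leaf [39,4,27,1544])) (.node (.leaf [67,106,8,876]) (.leaf []))))) (.node (.node (.node (.node (.leaf [20,3,16,123]) (.leaf [68,215,14,1183])) (.node (.leaf [38,50,145,742]) (.leaf [22,54,107,1638]))) (.node (.node (.leaf [66,89,15,456]) (.leaf [36,31,136,1301]))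 (.node (.leaf [39,57,146,850]) (.leaf [66,146,1,1972])))) (.node (.node (.node (.leaf [38,14,58,291]) (.leaf [11,47,98,1233])) (.node (.leaf [2,85,57,798]) (.leaf [37,88,261,1850]))) (.node (.node (.leaf [19,257,105,509]) (.leaf [19,80,27,1571])) (.node (.leaf [20,17,85,1131]) (.leaf [])))))) (.node (.node (.node (.node (.node (.leaf [66,139,7,76]) (.leaf [10,14,215,1164])) (.node (.leaf [36,26,104,694]) (.leaf [10,134,12,1628]))) (.node (.node (.leaf [37,106,228,328]) (.leaf [117,59,50,1283])) (.node (.leaf [36,15,1,845]) (.leaf [36,89,225,1915])))) (.node (.node (.node (.leaf [22,1,105,205]) (.leaf [9,166,44,1213])) (.node (.leaf [10,31,226,784]) (.leaf [69,89,134,1723]))) (.node (.node (.leaf [5,58,25,486]) (.leaf [20,32,261,1555])) (.node (.leaf [116,106,87,1084]) (.leaf []))))) (.node (.node (.node (.node (.leaf [69,138,222,132]) (.leaf [40,44,86,1201])) (.node (.leaf [36,173,47,752]) (.leaf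 [39,44,260,1670]))) (.node (.node (.leaf [69,138,29,470]) (.leaf [9,48,6,1508])) (.node (.leaf [117,24,102,870]) (.leaf [39,4,145,2033])))) (.node (.node (.node (.leaf [66,89,15,305]) (.leaf [5,27,136,1249])) (.node (.leaf [21,97,143,803]) (.leaf [36,149,25,1876]))) (.node (.node (.leaf [19,104,220,526]) (.leaf [11,7,26,1583])) (.node (.leaf [9,32,13,1143]) (.leaf []))))))))

def lK_7 : CfsgLib.Coset.Tr (List Nat) := (.node (.node (.node (.node (.node (.node (.node (.leaf [5,1,15,42]) (.leaf [5,102,30,1147])) (.node (.leaf [66,139,149,535]) (.leaf [5,55,107,1591]))) (.node (.node (.leaf [117,87,7,314]) (.leaf [67,15,44,1266])) (.node (.leaf [10,166,147,812]) (.leaf [37,16,3,1896])))) (.node (.node (.node (.leaf [22,1,58,190]) (.leaf [117,229,106,1205])) (.node (.leaf [66,262,15,769]) (.leaf [9,4,214,1676]))) (.node (.node (.leaf [39,13,60,475]) (.leaf [66,229,12,1542])) (.node (.leaf [9,14,220,874])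 (.leaf []))))) (.node (.node (.node (.node (.leaf [66,139,7,122]) (.leaf [40,4,106,1176])) (.node (.leaf [69,89,49,741]) (.leaf [37,16,3,1636]))) (.node (.node (.leaf [67,88,149,428]) (.leaf [39,12,134,1300])) (.node (.leaf [10,166,15,849]) (.leaf [20,78,257,1949])))) (.node (.node (.node (.leaf [22,1,105,211]) (.leaf [10,134,29,1220])) (.node (.leaf [2,59,228,796]) (.leaf [69,149,166,1835]))) (.node (.node (.leaf [66,262,15,508]) (.leaf [40,97,229,1560])) (.node (.leaf [67,89,87,1130]) (.leaf [])))))) (.node (.node (.node (.node (.node (.leaf [10,1,30,73]) (.leaf [11,13,49,1163])) (.node (.leaf [67,88,6,687]) (.leaf [67,107,226,1626]))) (.node (.node (.leaf [37,145,55,326]) (.leaf [10,134,29,1273])) (.node (.leaf [10,14,215,835]) (.leaf [2,4,24,1914])))) (.node (.node (.node (.leaf [68,143,4,204]) (.leaf [19,17,78,1211])) (.node (.leaf [21,30,80,780]) (.leaf [20,83,29,1701]))) (.node (.node (.leaf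 [22,15,106,484]) (.leaf [117,229,146,1554])) (.node (.leaf [5,27,12,1083]) (.leaf []))))) (.node (.node (.node (.node (.leaf [9,3,49,131]) (.leaf [2,146,57,1200])) (.node (.leaf [21,16,147,750]) (.leaf [21,77,98,1657]))) (.node (.node (.leaf [37,222,8,467]) (.leaf [66,146,173,1499])) (.node (.leaf [9,55,60,865]) (.leaf [20,83,6,2029])))) (.node (.node (.node (.leaf [19,6,220,302]) (.leaf [36,31,85,1248])) (.node (.leaf [116,173,24,802]) (.leaf [36,59,136,1859]))) (.node (.node (.leaf [66,87,55,524]) (.leaf [66,30,1,1582])) (.node (.leaf [36,149,215,1141]) (.leaf []))))))) (.node (.node (.node (.node (.node (.node (.leaf [116,83,4,71]) (.leaf [11,25,168,1156])) (.node (.leaf [20,102,104,538]) (.leaf [36,149,25,1605]))) (.node (.node (.leaf [39,3,333,318]) (.leaf [40,44,86,1269])) (.node (.leaf [37,138,14,833]) (.leaf [37,60,214,1906])))) (.node (.node (.node (.leaf [39,3,32,196]) (.leaf [21,77,27,1208]))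 (.node (.leaf [21,29,228,771]) (.leaf [2,4,24,1697]))) (.node (.node (.leaf [36,89,30,482]) (.leaf [5,31,262,1551])) (.node (.leaf [11,16,59,1023]) (.leaf []))))) (.node (.node (.node (.node (.leaf [19,14,98,124]) (.leaf [67,214,105,1184])) (.node (.leaf [116,149,29,748]) (.leaf [5,45,214,1641]))) (.node (.node (.leaf [20,27,60,457]) (.leaf [10,166,24,1470])) (.node (.leaf [117,45,97,860]) (.leaf [68,87,104,1973])))) (.node (.node (.node (.leaf [117,49,7,297]) (.leaf [21,24,261,1244])) (.node (.leaf [11,47,104,799]) (.leaf [19,85,3,1856]))) (.node (.node (.leaf [21,29,228,510]) (.leaf [19,8,31,1572])) (.node (.leaf [116,229,24,1139]) (.leaf [])))))) (.node (.node (.node (.node (.node (.leaf [37,13,15,118]) (.leaf [38,168,32,1171])) (.node (.leaf [116,85,145,696]) (.leaf [22,54,107,1630]))) (.node (.node (.leaf [38,146,4,330]) (.leaf [5,55,216,1287])) (.node (.leaf [40,24,80,846]) (.leaf [68,147,3,1930]))))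 (.node (.node (.node (.leaf [19,6,220,208]) (.leaf [117,220,139,1214])) (.node (.leaf [20,17,6,786]) (.leaf [19,17,214,1726]))) (.node (.node (.leaf [69,173,49,499]) (.leaf [68,32,3,1558])) (.node (.leaf [2,50,78,1122]) (.leaf []))))) (.node (.node (.node (.node (.leaf [19,6,4,187]) (.leaf [40,77,149,1202])) (.node (.leaf [22,30,89,753]) (.leaf [9,45,50,1673]))) (.node (.node (.leaf [9,58,216,471]) (.leaf [22,7,87,1510])) (.node (.leaf [36,147,14,872]) (.leaf [117,55,83,2046])))) (.node (.node (.node (.leaf [20,27,60,306]) (.leaf [36,143,17,1253])) (.node (.leaf [5,26,229,804]) (.leaf [39,47,139,1888]))) (.node (.node (.leaf [5,32,15,532]) (.leaf [22,7,48,1584])) (.node (.leaf [116,173,55,1144]) (.leaf []))))))))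

def lK_8 : CfsgLib.Coset.Tr (List Nat) := (.node (.node (.node (.node (.node (.node (.node (.leaf [116,47,7,23]) (.leaf [2,59,260,1144])) (.node (.leaf [67,12,146,532]) (.leaf [19,50,77,1585]))) (.node (.node (.leaf [20,27,225,306]) (.leaf [69,30,147,1253])) (.node (.leaf [67,216,83,805]) (.leaf [9,17,260,1888])))) (.node (.node (.node (.leaf [68,13,29,187]) (.leaf [66,229,97,1203])) (.node (.leaf [22,30,343,753]) (.leaf [9,45,136,1673]))) (.node (.node (.leaf [37,145,17,472]) (.leaf [22,7,226,1510])) (.node (.leaf [69,25,143,872]) (.leaf []))))) (.node (.node (.node (.node (.leaf [9,3,57,118]) (.leaf [38,168,145,1171])) (.node (.leaf [10,17,30,697]) (.leaf [22,54,333,1630]))) (.node (.node (.leaf [37,145,139,330]) (.leaf [2,50,44,1298])) (.node (.leaf [2,86,261,846]) (.leaf [19,80,143,1930])))) (.node (.node (.node (.leaf [19,104,30,209]) (.leaf [40,47,260,1214])) (.node (.leaf [68,60,80,786])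 (.leaf [19,85,31,1727]))) (.node (.node (.leaf [11,29,335,499]) (.leaf [19,17,27,1558])) (.node (.leaf [2,50,44,1127]) (.leaf [])))))) (.node (.node (.node (.node (.node (.leaf [2,1,98,71]) (.leaf [67,216,58,1160])) (.node (.leaf [68,225,337,538]) (.leaf [36,149,145,1605]))) (.node (.node (.leaf [69,138,15,324]) (.leaf [2,80,260,1269])) (.node (.leaf [39,12,145,833]) (.leaf [38,49,44,1907])))) (.node (.node (.node (.leaf [39,3,166,196]) (.leaf [20,32,257,1208])) (.node (.leaf [67,80,30,777]) (.leaf [117,29,77,1697]))) (.node (.node (.leaf [10,48,107,482]) (.leaf [40,54,80,1552])) (.node (.leaf [11,16,257,1023]) (.leaf []))))) (.node (.node (.node (.node (.leaf [66,48,31,126]) (.leaf [22,44,262,1184])) (.node (.leaf [40,24,87,748]) (.leaf [21,24,50,1642]))) (.node (.node (.leaf [20,27,225,457]) (.leaf [10,166,222,1470])) (.node (.leaf [36,49,58,861]) (.leaf [68,87,343,1973])))) (.node (.node (.node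 (.leaf [116,85,86,297]) (.leaf [68,32,30,1245])) (.node (.leaf [10,58,337,799]) (.leaf [20,4,105,1856]))) (.node (.node (.leaf [68,225,83,512]) (.leaf [20,26,335,1572])) (.node (.leaf [40,29,138,1139]) (.leaf []))))))) (.node (.node (.node (.node (.node (.node (.leaf [5,1,97,42]) (.leaf [22,25,214,1147])) (.node (.leaf [19,104,26,536]) (.leaf [22,97,225,1591]))) (.node (.node (.leaf [40,1,106,314]) (.leaf [69,58,14,1267])) (.node (.leaf [11,12,335,812]) (.leaf [38,8,13,1896])))) (.node (.node (.node (.leaf [69,85,17,192]) (.leaf [40,77,262,1205])) (.node (.leaf [22,12,225,769]) (.leaf [68,147,30,1678]))) (.node (.node (.leaf [39,13,222,475]) (.leaf [22,15,215,1542])) (.node (.leaf [9,166,106,875]) (.leaf []))))) (.node (.node (.node (.node (.leaf [67,80,146,122]) (.leaf [37,50,47,1178])) (.node (.leaf [11,12,337,741]) (.leaf [38,8,13,1636]))) (.node (.node (.leaf [68,50,17,454]) (.leaf [37,32,335,1300]))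 (.node (.leaf [11,12,149,849]) (.leaf [68,147,26,1969])))) (.node (.node (.node (.leaf [66,87,225,211]) (.leaf [69,107,212,1220])) (.node (.leaf [116,229,55,797]) (.leaf [11,15,336,1835]))) (.node (.node (.leaf [22,12,225,508]) (.leaf [10,78,89,1565])) (.node (.leaf [22,25,333,1130]) (.leaf [])))))) (.node (.node (.node (.node (.node (.leaf [69,48,17,74]) (.leaf [69,58,262,1163])) (.node (.leaf [66,48,106,687]) (.leaf [37,220,57,1627]))) (.node (.node (.leaf [39,15,333,326]) (.leaf [69,107,212,1273])) (.node (.leaf [22,6,48,837]) (.leaf [117,29,77,1914])))) (.node (.node (.node (.leaf [19,86,147,204]) (.leaf [40,54,59,1212])) (.node (.leaf [21,30,337,780]) (.leaf [21,24,212,1701]))) (.node (.node (.leaf [11,57,58,485]) (.leaf [40,57,262,1554])) (.node (.leaf [67,15,139,1083]) (.leaf []))))) (.node (.node (.node (.node (.leaf [38,59,337,131]) (.leaf [117,220,143,1200])) (.node (.leaf [22,15,26,751])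 (.leaf [19,60,335,1657]))) (.node (.node (.leaf [9,55,220,467]) (.leaf [117,105,50,1500])) (.node (.leaf [39,57,336,865]) (.leaf [21,8,225,2029])))) (.node (.node (.node (.leaf [68,50,17,303]) (.leaf [69,104,262,1248])) (.node (.leaf [40,29,105,802]) (.leaf [36,143,13,1860]))) (.node (.node (.leaf [22,8,222,524]) (.leaf [67,15,25,1582])) (.node (.leaf [39,8,14,1142]) (.leaf []))))))))

def lK_9 : CfsgLib.Coset.Tr (List Nat) := (.node (.node (.node (.node (.node (.node (.node (.leaf [2,1,54,41]) (.leaf [66,262,77,1146])) (.node (.leaf [68,143,220,533]) (.leaf [116,104,80,1589]))) (.node (.node (.leaf [116,106,49,313]) (.leaf [20,4,77,1264])) (.node (.leaf [117,173,106,806]) (.leaf [9,134,88,1892])))) (.node (.node (.node (.leaf [21,3,102,188]) (.leaf [40,54,145,1204])) (.node (.leaf [66,105,26,766]) (.leaf [37,16,261,1674]))) (.node (.node (.leaf [11,12,107,474]) (.leaf [5,58,54,1541])) (.node (.leaf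 [37,27,336,873]) (.leaf []))))) (.node (.node (.node (.node (.leaf [69,48,17,120]) (.leaf [2,60,98,1175])) (.node (.leaf [11,16,166,729]) (.leaf [9,134,88,1633]))) (.node (.node (.leaf [116,88,145,331]) (.leaf [21,29,257,1299])) (.node (.leaf [9,27,44,848]) (.leaf [68,215,332,1946])))) (.node (.node (.node (.leaf [20,3,87,210]) (.leaf [117,220,88,1216])) (.node (.leaf [2,86,261,795]) (.leaf [5,7,136,1805]))) (.node (.node (.leaf [40,3,85,502]) (.leaf [2,49,261,1559])) (.node (.leaf [11,24,173,1129]) (.leaf [])))))) (.node (.node (.node (.node (.node (.leaf [9,3,57,72]) (.leaf [39,12,145,1162])) (.node (.leaf [39,15,32,664]) (.leaf [22,77,215,1625]))) (.node (.node (.leaf [38,59,54,325]) (.leaf [19,50,77,1272])) (.node (.leaf [69,58,262,834]) (.leaf [38,49,106,1909])))) (.node (.node (.node (.leaf [116,85,59,202]) (.leaf [22,30,262,1209])) (.node (.leaf [22,8,105,778]) (.leaf [11,57,78,1699]))) (.node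 (.node (.leaf [20,32,215,483]) (.leaf [2,88,134,1553])) (.node (.leaf [117,87,89,1070]) (.leaf []))))) (.node (.node (.node (.node (.leaf [36,49,104,128]) (.leaf [37,32,14,1187])) (.node (.leaf [10,48,336,749]) (.leaf [5,83,212,1643]))) (.node (.node (.leaf [116,106,49,464]) (.leaf [9,166,337,1471])) (.node (.leaf [117,49,89,862]) (.leaf [36,143,13,2022])))) (.node (.node (.node (.leaf [21,3,337,299]) (.leaf [20,26,105,1246])) (.node (.leaf [38,60,27,801]) (.leaf [39,4,343,1858]))) (.node (.node (.leaf [5,32,86,523]) (.leaf [68,16,6,1580])) (.node (.leaf [40,47,228,1140]) (.leaf []))))))) (.node (.node (.node (.node (.node (.node (.leaf [66,25,8,70]) (.leaf [40,57,261,1148])) (.node (.leaf [19,14,147,537]) (.leaf [37,220,49,1604]))) (.node (.node (.leaf [39,6,336,317]) (.leaf [66,58,45,1268])) (.node (.leaf [67,216,58,829]) (.leaf [19,60,335,1900])))) (.node (.node (.node (.leaf [38,59,88,195]) (.leaf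 [2,139,102,1207])) (.node (.leaf [20,98,228,770]) (.leaf [68,16,104,1681]))) (.node (.node (.leaf [116,149,45,481]) (.leaf [39,4,134,1544])) (.node (.leaf [66,58,88,876]) (.leaf []))))) (.node (.node (.node (.node (.leaf [20,3,97,123]) (.leaf [21,24,225,1183])) (.node (.leaf [69,107,26,743]) (.leaf [22,54,333,1638]))) (.node (.node (.leaf [22,12,88,456]) (.leaf [10,14,25,1302])) (.node (.leaf [9,14,226,850]) (.leaf [5,7,136,1972])))) (.node (.node (.node (.leaf [39,6,17,293]) (.leaf [10,78,335,1233])) (.node (.leaf [117,149,104,798]) (.leaf [67,106,27,1851]))) (.node (.node (.leaf [20,98,228,509]) (.leaf [21,25,86,1571])) (.node (.leaf [116,229,54,1138]) (.leaf [])))))) (.node (.node (.node (.node (.node (.leaf [67,80,146,76]) (.leaf [69,30,12,1170])) (.node (.leaf [69,85,229,694]) (.leaf [11,15,173,1628]))) (.node (.node (.leaf [37,106,48,329]) (.leaf [40,7,139,1283])) (.node (.leaf [69,30,24,845])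 (.leaf [19,212,87,1929])))) (.node (.node (.node (.leaf [66,87,225,205]) (.leaf [39,54,222,1213])) (.node (.leaf [67,89,58,785]) (.leaf [11,29,337,1723]))) (.node (.node (.leaf [67,107,105,486]) (.leaf [67,214,102,1556])) (.node (.leaf [40,7,147,1084]) (.leaf []))))) (.node (.node (.node (.node (.leaf [36,147,16,133]) (.leaf [2,80,260,1201])) (.node (.leaf [10,48,149,752]) (.leaf [37,220,49,1671]))) (.node (.node (.leaf [36,12,229,470]) (.leaf [38,8,106,1508])) (.node (.leaf [116,83,50,871]) (.leaf [39,4,343,2033])))) (.node (.node (.node (.leaf [22,12,88,305]) (.leaf [39,12,27,1252])) (.node (.leaf [19,257,336,803]) (.leaf [36,149,145,1876]))) (.node (.node (.leaf [19,86,32,527]) (.leaf [11,7,134,1583])) (.node (.leaf [9,32,88,1143]) (.leaf []))))))))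

def lK_10 : CfsgLib.Coset.Tr (List Nat) := (.node (.node (.node (.node (.node (.node (.node (.leaf [117,24,97,23]) (.leaf [20,27,212,1145])) (.node (.leaf [68,143,25,533]) (.leaf [19,50,336,1585]))) (.node (.node (.leaf [11,30,104,307]) (.leaf [68,16,6,1264])) (.node (.leaf [22,25,229,805]) (.leaf [39,44,226,1891])))) (.node (.node (.node (.leaf [21,3,17,188]) (.leaf [5,31,333,1203])) (.node (.leaf [11,29,149,764]) (.leaf [38,49,44,1674]))) (.node (.node (.leaf [39,15,333,472]) (.leaf [117,55,77,1536])) (.node (.leaf [39,15,32,873]) (.leaf []))))) (.node (.node (.node (.node (.leaf [69,25,29,119]) (.leaf [2,60,55,1175])) (.node (.leaf [36,147,229,697]) (.leaf [39,44,226,1632]))) (.node (.node (.leaf [117,87,60,331]) (.leaf [117,29,134,1298])) (.node (.leaf [39,13,136,847]) (.leaf [20,83,85,1946])))) (.node (.node (.node (.leaf [20,3,336,209]) (.leaf [2,146,166,1215])) (.node (.leaf [116,228,45,795])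 (.leaf [68,16,343,1727]))) (.node (.node (.leaf [22,6,87,501]) (.leaf [40,54,59,1559])) (.node (.leaf [117,29,134,1127]) (.leaf [])))))) (.node (.node (.node (.node (.node (.leaf [9,3,8,72]) (.leaf [5,48,257,1160])) (.node (.leaf [117,105,107,539]) (.leaf [5,45,89,1625]))) (.node (.node (.leaf [36,12,229,324]) (.leaf [117,173,147,1270])) (.node (.leaf [36,59,48,834]) (.leaf [37,16,261,1907])))) (.node (.node (.node (.leaf [9,14,60,198]) (.leaf [67,214,102,1209])) (.node (.leaf [5,32,168,777]) (.leaf [36,59,85,1698]))) (.node (.node (.leaf [21,16,27,483]) (.leaf [2,86,220,1552])) (.node (.leaf [21,29,257,1039]) (.leaf []))))) (.node (.node (.node (.node (.leaf [22,1,102,126]) (.leaf [22,15,215,1185])) (.node (.leaf [11,25,58,749]) (.leaf [20,83,343,1642]))) (.node (.node (.leaf [11,30,104,458]) (.leaf [39,54,60,1471])) (.node (.leaf [11,16,257,861]) (.leaf [2,4,78,1985])))) (.node (.node (.node (.leaf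 [68,143,31,299]) (.leaf [21,25,332,1245])) (.node (.leaf [9,17,50,800]) (.leaf [38,139,48,1858]))) (.node (.node (.leaf [68,225,337,512]) (.leaf [5,27,80,1574])) (.node (.leaf [2,85,83,1140]) (.leaf []))))))) (.node (.node (.node (.node (.node (.node (.leaf [2,1,98,43]) (.leaf [117,173,85,1148])) (.node (.leaf [68,13,333,536]) (.leaf [39,44,168,1603]))) (.node (.node (.leaf [39,6,45,317]) (.leaf [11,7,134,1267])) (.node (.leaf [10,98,149,825]) (.leaf [19,60,97,1900])))) (.node (.node (.node (.leaf [11,1,257,192]) (.leaf [2,146,166,1206])) (.node (.leaf [21,13,78,770]) (.leaf [68,147,260,1678]))) (.node (.node (.leaf [11,15,89,476]) (.leaf [37,32,14,1544])) (.node (.leaf [38,168,333,875]) (.leaf []))))) (.node (.node (.node (.node (.leaf [68,13,8,123]) (.leaf [39,57,336,1178])) (.node (.leaf [9,27,106,742]) (.leaf [67,89,83,1638]))) (.node (.node (.leaf [21,6,257,454]) (.leaf [11,13,134,1301])) (.node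 (.leaf [37,222,47,850]) (.leaf [21,4,332,1969])))) (.node (.node (.node (.leaf [37,27,55,291]) (.leaf [10,78,89,1233])) (.node (.leaf [2,80,262,797]) (.leaf [38,8,106,1850]))) (.node (.node (.leaf [21,13,78,509]) (.leaf [10,78,335,1565])) (.node (.leaf [68,60,80,1131]) (.leaf [])))))) (.node (.node (.node (.node (.node (.leaf [11,1,166,74]) (.leaf [10,14,138,1164])) (.node (.leaf [11,16,31,694]) (.leaf [9,17,260,1627]))) (.node (.node (.leaf [38,6,88,328]) (.leaf [116,104,49,1283])) (.node (.leaf [66,58,215,837]) (.leaf [11,57,168,1915])))) (.node (.node (.node (.leaf [67,88,32,205]) (.leaf [2,49,261,1212])) (.node (.leaf [11,24,173,784]) (.leaf [11,29,107,1723]))) (.node (.node (.leaf [10,48,332,485]) (.leaf [20,32,257,1555])) (.node (.leaf [117,105,50,1084]) (.leaf []))))) (.node (.node (.node (.node (.leaf [10,1,145,132]) (.leaf [116,173,78,1201])) (.node (.leaf [5,31,214,751]) (.leaf [39,44,168,1670])))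 (.node (.node (.leaf [69,138,15,470]) (.leaf [40,7,147,1500])) (.node (.leaf [116,83,89,870]) (.leaf [38,139,48,2033])))) (.node (.node (.node (.leaf [21,6,257,303]) (.leaf [5,27,80,1249])) (.node (.leaf [19,257,77,803]) (.leaf [69,145,226,1860]))) (.node (.node (.leaf [20,31,97,526]) (.leaf [69,58,14,1583])) (.node (.leaf [39,8,139,1142]) (.leaf []))))))))

def lK_11 : CfsgLib.Coset.Tr (List Nat) := (.node (.node (.node (.node (.node (.node (.node (.leaf [66,25,8,42]) (.leaf [5,26,343,1146])) (.node (.leaf [67,12,146,535]) (.leaf [66,89,77,1591]))) (.node (.node (.leaf [40,3,147,313]) (.leaf [67,15,25,1266])) (.node (.leaf [69,173,134,812]) (.leaf [38,136,343,1892])))) (.node (.node (.node (.leaf [66,48,55,190]) (.leaf [2,88,97,1205])) (.node (.leaf [22,6,226,766]) (.leaf [38,49,106,1676]))) (.node (.node (.leaf [38,50,32,475]) (.leaf [22,44,262,1541])) (.node (.leaf [37,222,216,874]) (.leaf [])))))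 (.node (.node (.node (.node (.leaf [11,1,166,120]) (.leaf [117,49,89,1176])) (.node (.leaf [69,89,31,741]) (.leaf [38,136,343,1633]))) (.node (.node (.leaf [66,48,106,428]) (.leaf [39,12,27,1300])) (.node (.leaf [9,27,337,848]) (.leaf [21,16,214,1949])))) (.node (.node (.node (.leaf [67,88,32,211]) (.leaf [40,97,260,1216])) (.node (.leaf [40,44,105,796]) (.leaf [10,134,143,1835]))) (.node (.node (.leaf [40,3,139,502]) (.leaf [2,85,166,1560])) (.node (.leaf [67,89,58,1130]) (.leaf [])))))) (.node (.node (.node (.node (.node (.leaf [69,25,29,73]) (.leaf [36,59,48,1163])) (.node (.leaf [37,27,336,664]) (.leaf [5,83,212,1626]))) (.node (.node (.leaf [37,145,17,326]) (.leaf [19,50,336,1272])) (.node (.leaf [10,14,138,835]) (.leaf [116,57,3,1914])))) (.node (.node (.node (.leaf [40,1,146,202]) (.leaf [19,17,27,1211])) (.node (.leaf [19,86,32,780]) (.leaf [10,98,336,1699]))) (.node (.node (.leaf [5,31,89,484])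 (.leaf [2,139,102,1554])) (.node (.leaf [40,4,146,1070]) (.leaf []))))) (.node (.node (.node (.node (.leaf [37,106,15,131]) (.leaf [39,4,134,1187])) (.node (.leaf [19,60,87,750]) (.leaf [19,60,97,1657]))) (.node (.node (.leaf [40,3,147,464]) (.leaf [67,15,139,1499])) (.node (.leaf [37,50,47,865]) (.leaf [69,145,226,2022])))) (.node (.node (.node (.leaf [20,31,87,302]) (.leaf [11,13,26,1248])) (.node (.leaf [39,16,226,801]) (.leaf [36,59,85,1859]))) (.node (.node (.leaf [66,87,31,524]) (.leaf [20,4,77,1580])) (.node (.leaf [10,58,173,1141]) (.leaf []))))))) (.node (.node (.node (.node (.node (.node (.leaf [5,1,97,70]) (.leaf [10,98,149,1156])) (.node (.leaf [68,225,83,538]) (.leaf [39,8,335,1604]))) (.node (.node (.leaf [37,145,139,318]) (.leaf [116,173,78,1269])) (.node (.leaf [5,48,257,829]) (.leaf [9,45,136,1906])))) (.node (.node (.node (.leaf [37,27,17,196]) (.leaf [40,57,262,1207])) (.node (.leaf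 [21,29,215,771]) (.leaf [116,57,3,1697]))) (.node (.node (.leaf [2,49,220,481]) (.leaf [66,229,136,1551])) (.node (.leaf [36,49,58,1023]) (.leaf []))))) (.node (.node (.node (.node (.leaf [19,14,32,124]) (.leaf [5,58,54,1184])) (.node (.leaf [11,15,332,743]) (.leaf [66,107,136,1641]))) (.node (.node (.leaf [21,13,32,457]) (.leaf [36,143,262,1302])) (.node (.leaf [116,47,89,860]) (.leaf [19,85,25,1973])))) (.node (.node (.node (.leaf [9,14,168,293]) (.leaf [21,24,225,1244])) (.node (.leaf [36,149,57,799]) (.leaf [22,7,226,1851]))) (.node (.node (.leaf [21,29,215,510]) (.leaf [68,87,24,1572])) (.node (.leaf [2,59,262,1138]) (.leaf [])))))) (.node (.node (.node (.node (.node (.leaf [9,3,8,118]) (.leaf [10,7,47,1170])) (.node (.leaf [116,85,105,696]) (.leaf [67,89,83,1630]))) (.node (.node (.leaf [38,6,337,329]) (.leaf [66,89,168,1287])) (.node (.leaf [116,228,45,846]) (.leaf [20,78,261,1929])))) (.node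 (.node (.node (.leaf [20,31,87,208]) (.leaf [2,146,83,1214])) (.node (.leaf [22,25,333,785]) (.leaf [19,17,143,1726]))) (.node (.node (.leaf [69,173,31,499]) (.leaf [22,30,262,1556])) (.node (.leaf [117,55,77,1122]) (.leaf []))))) (.node (.node (.node (.node (.leaf [10,1,225,133]) (.leaf [117,173,147,1202])) (.node (.leaf [67,107,48,753]) (.leaf [39,8,335,1671]))) (.node (.node (.leaf [38,59,54,471]) (.leaf [67,106,27,1510])) (.node (.leaf [117,24,166,871]) (.leaf [2,4,78,2046])))) (.node (.node (.node (.leaf [21,13,32,306]) (.leaf [37,32,335,1252])) (.node (.leaf [66,262,168,804]) (.leaf [37,220,57,1888]))) (.node (.node (.leaf [21,30,337,527]) (.leaf [66,58,45,1584])) (.node (.leaf [40,29,49,1144]) (.leaf []))))))))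

def lK_12 : CfsgLib.Coset.Tr (List Nat) := (.node (.node (.node (.node (.node (.node (.node (.leaf [2,1,54,23]) (.leaf [19,257,77,1145])) (.node (.leaf [67,12,257,532]) (.leaf [21,97,216,1585]))) (.node (.node (.leaf [11,30,48,307]) (.leaf [36,143,262,1253])) (.node (.leaf [22,25,214,805]) (.leaf [9,134,54,1891])))) (.node (.node (.node (.leaf [20,3,97,187]) (.leaf [66,229,136,1203])) (.node (.leaf [69,173,31,764]) (.leaf [39,47,335,1673]))) (.node (.node (.leaf [39,15,138,472]) (.leaf [117,55,47,1536])) (.node (.leaf [36,147,229,872]) (.leaf []))))) (.node (.node (.node (.node (.leaf [69,25,15,119]) (.leaf [9,27,337,1171])) (.node (.leaf [69,25,143,697]) (.leaf [9,134,54,1632]))) (.node (.node (.leaf [37,145,336,330]) (.leaf [117,29,83,1298])) (.node (.leaf [9,166,106,847]) (.leaf [21,4,332,1930])))) (.node (.node (.node (.leaf [20,3,87,209]) (.leaf [117,149,139,1215])) (.node (.leaf [21,8,212,786])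 (.leaf [68,16,104,1727]))) (.node (.node (.leaf [66,105,26,501]) (.leaf [21,4,83,1558])) (.node (.leaf [117,29,83,1127]) (.leaf [])))))) (.node (.node (.node (.node (.node (.leaf [117,45,166,71]) (.leaf [22,54,214,1160])) (.node (.leaf [40,3,85,539]) (.leaf [10,78,337,1605]))) (.node (.node (.leaf [10,17,145,324]) (.leaf [2,139,134,1270])) (.node (.leaf [39,12,343,833]) (.leaf [9,48,59,1907])))) (.node (.node (.node (.leaf [39,6,17,198]) (.leaf [19,212,335,1208])) (.node (.leaf [5,32,86,777]) (.leaf [69,104,14,1698]))) (.node (.node (.leaf [10,48,336,482]) (.leaf [40,54,145,1552])) (.node (.leaf [21,29,60,1039]) (.leaf []))))) (.node (.node (.node (.node (.leaf [66,48,55,126]) (.leaf [22,15,55,1185])) (.node (.leaf [2,49,220,748]) (.leaf [21,24,212,1642]))) (.node (.node (.leaf [11,30,48,458]) (.leaf [11,29,337,1470])) (.node (.leaf [36,49,98,861]) (.leaf [116,102,3,1985])))) (.node (.node (.node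 (.leaf [40,1,146,297]) (.leaf [21,25,86,1245])) (.node (.leaf [39,8,14,800]) (.leaf [68,87,343,1856]))) (.node (.node (.leaf [21,6,215,512]) (.leaf [66,30,32,1574])) (.node (.leaf [2,80,262,1139]) (.leaf []))))))) (.node (.node (.node (.node (.node (.node (.leaf [116,83,7,43]) (.leaf [22,25,229,1147])) (.node (.leaf [20,31,97,536]) (.leaf [9,32,54,1603]))) (.node (.node (.leaf [116,88,145,314]) (.leaf [36,31,48,1267])) (.node (.leaf [11,25,78,825]) (.leaf [9,4,47,1896])))) (.node (.node (.node (.leaf [36,49,104,192]) (.leaf [117,149,139,1206])) (.node (.leaf [5,55,343,769]) (.leaf [19,17,143,1678]))) (.node (.node (.leaf [69,107,26,476]) (.leaf [5,45,333,1542])) (.node (.leaf [39,13,136,875]) (.leaf []))))) (.node (.node (.node (.node (.leaf [67,80,257,122]) (.leaf [9,55,168,1178])) (.node (.leaf [38,50,32,742]) (.leaf [9,4,47,1636]))) (.node (.node (.leaf [68,50,86,454]) (.leaf [11,13,26,1301]))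 (.node (.leaf [11,12,335,849]) (.leaf [19,80,143,1969])))) (.node (.node (.node (.leaf [37,27,17,291]) (.leaf [11,24,332,1220])) (.node (.leaf [40,29,138,797]) (.leaf [9,48,47,1850]))) (.node (.node (.leaf [5,55,343,508]) (.leaf [11,47,136,1565])) (.node (.leaf [68,60,14,1131]) (.leaf [])))))) (.node (.node (.node (.node (.node (.leaf [36,26,58,74]) (.leaf [36,15,17,1164])) (.node (.leaf [66,48,225,687]) (.leaf [37,220,214,1627]))) (.node (.node (.leaf [37,106,48,328]) (.leaf [11,24,332,1273])) (.node (.leaf [66,58,88,837]) (.leaf [11,57,78,1915])))) (.node (.node (.node (.leaf [21,3,337,204]) (.leaf [116,228,98,1212])) (.node (.leaf [10,31,29,784]) (.leaf [20,83,343,1701]))) (.node (.node (.leaf [10,48,149,485]) (.leaf [19,212,97,1555])) (.node (.leaf [67,15,212,1083]) (.leaf []))))) (.node (.node (.node (.node (.leaf [36,147,16,132]) (.leaf [40,47,260,1200])) (.node (.leaf [5,31,89,751]) (.leaf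 [9,32,54,1670]))) (.node (.node (.leaf [39,6,336,467]) (.leaf [40,7,88,1500])) (.node (.leaf [116,83,50,870]) (.leaf [68,215,332,2029])))) (.node (.node (.node (.leaf [68,50,86,303]) (.leaf [66,30,32,1249])) (.node (.leaf [2,59,260,802]) (.leaf [69,145,147,1860]))) (.node (.node (.leaf [19,104,26,526]) (.leaf [5,7,77,1582])) (.node (.leaf [9,17,50,1142]) (.leaf []))))))))

def lK_13 : CfsgLib.Coset.Tr (List Nat) := (.node (.node (.node (.node (.node (.node (.node (.leaf [117,24,97,41]) (.leaf [66,262,168,1146])) (.node (.leaf [66,139,27,535]) (.leaf [40,7,139,1589]))) (.node (.node (.leaf [40,3,88,313]) (.leaf [66,30,6,1266])) (.node (.leaf [40,57,261,806]) (.leaf [39,16,168,1892])))) (.node (.node (.node (.leaf [66,48,31,190]) (.leaf [2,86,220,1204])) (.node (.leaf [22,6,87,766]) (.leaf [37,88,12,1676]))) (.node (.node (.leaf [11,12,337,474]) (.leaf [5,58,212,1541])) (.node (.leaf [37,222,47,874])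 (.leaf []))))) (.node (.node (.node (.node (.leaf [36,26,58,120]) (.leaf [116,88,59,1176])) (.node (.leaf [69,85,229,729]) (.leaf [39,16,168,1633]))) (.node (.node (.leaf [22,8,58,428]) (.leaf [68,50,337,1299])) (.node (.leaf [38,168,145,848]) (.leaf [19,212,87,1949])))) (.node (.node (.node (.leaf [20,3,336,210]) (.leaf [2,85,166,1216])) (.node (.leaf [116,229,54,796]) (.leaf [67,86,212,1805]))) (.node (.node (.leaf [117,105,107,502]) (.leaf [117,220,88,1560])) (.node (.leaf [11,24,336,1129]) (.leaf [])))))) (.node (.node (.node (.node (.node (.leaf [69,25,15,73]) (.leaf [39,12,343,1162])) (.node (.leaf [39,15,166,664]) (.leaf [22,44,89,1626]))) (.node (.node (.leaf [37,13,228,325]) (.leaf [21,97,216,1272])) (.node (.leaf [36,15,17,835]) (.leaf [38,49,332,1909])))) (.node (.node (.node (.leaf [116,85,86,202]) (.leaf [21,4,14,1211])) (.node (.leaf [22,8,222,778]) (.leaf [11,57,168,1699]))) (.node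 (.node (.leaf [22,15,26,484]) (.leaf [40,77,262,1553])) (.node (.leaf [116,85,105,1070]) (.leaf []))))) (.node (.node (.node (.node (.leaf [11,1,257,128]) (.leaf [37,32,45,1187])) (.node (.leaf [21,16,27,750]) (.leaf [22,44,343,1643]))) (.node (.node (.leaf [40,3,88,464]) (.leaf [66,146,32,1499])) (.node (.leaf [40,4,143,862]) (.leaf [69,145,147,2022])))) (.node (.node (.node (.leaf [19,6,26,302]) (.leaf [20,26,335,1246])) (.node (.leaf [9,32,88,801]) (.leaf [69,104,14,1859]))) (.node (.node (.leaf [5,32,168,523]) (.leaf [68,16,24,1580])) (.node (.leaf [36,149,57,1141]) (.leaf []))))))) (.node (.node (.node (.node (.node (.node (.leaf [67,12,30,70]) (.leaf [11,25,78,1156])) (.node (.leaf [68,143,220,537]) (.leaf [9,45,222,1604]))) (.node (.node (.leaf [38,146,58,318]) (.leaf [22,7,83,1268])) (.node (.leaf [22,54,214,829]) (.leaf [39,47,55,1906])))) (.node (.node (.node (.leaf [38,59,337,195]) (.leaf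 [117,229,147,1207])) (.node (.leaf [20,14,24,771]) (.leaf [68,16,343,1681]))) (.node (.node (.leaf [40,24,87,481]) (.leaf [66,229,97,1551])) (.node (.leaf [66,58,215,876]) (.leaf []))))) (.node (.node (.node (.node (.leaf [21,3,17,124]) (.leaf [20,17,343,1183])) (.node (.leaf [11,15,89,743]) (.leaf [5,45,89,1641]))) (.node (.node (.leaf [5,26,216,456]) (.leaf [69,30,147,1302])) (.node (.leaf [2,60,55,860]) (.leaf [67,86,212,1972])))) (.node (.node (.node (.leaf [9,14,60,293]) (.leaf [20,17,29,1244])) (.node (.leaf [40,47,228,798]) (.leaf [66,105,88,1851]))) (.node (.node (.leaf [20,14,24,510]) (.leaf [21,25,332,1571])) (.node (.leaf [40,44,105,1138]) (.leaf [])))))) (.node (.node (.node (.node (.node (.leaf [67,80,257,76]) (.leaf [69,30,24,1170])) (.node (.leaf [117,87,89,696]) (.leaf [11,15,336,1628]))) (.node (.node (.leaf [38,6,88,329]) (.leaf [66,89,77,1287])) (.node (.leaf [10,7,47,845]) (.leaf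 [21,16,214,1929])))) (.node (.node (.node (.leaf [19,6,26,208]) (.leaf [9,166,337,1213])) (.node (.leaf [22,25,107,785]) (.leaf [68,147,30,1726]))) (.node (.node (.leaf [22,30,343,486]) (.leaf [22,30,216,1556])) (.node (.leaf [117,55,47,1122]) (.leaf []))))) (.node (.node (.node (.node (.leaf [10,1,145,133]) (.leaf [2,139,134,1202])) (.node (.leaf [10,48,332,752]) (.leaf [9,45,222,1671]))) (.node (.node (.leaf [37,13,48,471]) (.leaf [38,8,332,1508])) (.node (.leaf [116,83,89,871]) (.leaf [116,102,3,2046])))) (.node (.node (.node (.leaf [5,26,216,305]) (.leaf [37,32,146,1252])) (.node (.leaf [66,262,77,804]) (.leaf [10,78,337,1876]))) (.node (.node (.leaf [19,86,98,527]) (.leaf [66,58,26,1584])) (.node (.leaf [39,16,226,1143]) (.leaf []))))))))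

def lK_14 : CfsgLib.Coset.Tr (List Nat) := (.node (.node (.node (.node (.node (.node (.node (.leaf [116,47,7,41]) (.leaf [19,257,336,1145])) (.node (.leaf [19,14,147,533]) (.leaf [116,104,49,1589]))) (.node (.node (.leaf [10,58,335,307]) (.leaf [68,16,24,1264])) (.node (.leaf [117,173,85,806]) (.leaf [38,60,343,1891])))) (.node (.node (.node (.leaf [19,14,32,188]) (.leaf [40,54,80,1204])) (.node (.leaf [11,29,335,764]) (.leaf [9,48,59,1674]))) (.node (.node (.leaf [69,89,31,474]) (.leaf [116,57,107,1536])) (.node (.leaf [39,15,166,873]) (.leaf []))))) (.node (.node (.node (.node (.leaf [10,1,57,119]) (.leaf [116,47,89,1175])) (.node (.leaf [11,16,31,729]) (.leaf [38,60,343,1632]))) (.node (.node (.leaf [40,1,106,331]) (.leaf [21,29,60,1299])) (.node (.leaf [38,168,333,847]) (.leaf [21,8,225,1946])))) (.node (.node (.node (.leaf [19,104,30,210]) (.leaf [40,97,228,1215])) (.node (.leaf [40,24,145,795])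 (.leaf [66,146,6,1805]))) (.node (.node (.leaf [22,6,226,501]) (.leaf [116,228,98,1559])) (.node (.leaf [10,31,29,1129]) (.leaf [])))))) (.node (.node (.node (.node (.node (.leaf [38,6,16,72]) (.leaf [38,17,15,1162])) (.node (.leaf [40,3,139,539]) (.leaf [66,107,136,1625]))) (.node (.node (.leaf [37,13,48,325]) (.leaf [40,77,261,1270])) (.node (.leaf [36,59,78,834]) (.leaf [37,88,12,1909])))) (.node (.node (.node (.leaf [9,14,168,198]) (.leaf [22,30,216,1209])) (.node (.leaf [66,87,31,778]) (.leaf [11,7,212,1698]))) (.node (.node (.leaf [19,60,87,483]) (.leaf [2,88,97,1553])) (.node (.leaf [68,50,337,1039]) (.leaf []))))) (.node (.node (.node (.node (.leaf [69,85,17,128]) (.leaf [5,45,333,1185])) (.node (.leaf [10,48,107,749]) (.leaf [22,44,89,1643]))) (.node (.node (.leaf [10,58,335,458]) (.leaf [39,54,222,1471])) (.node (.leaf [116,88,59,862]) (.leaf [117,55,134,1985])))) (.node (.node (.node (.leaf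 [19,86,147,299]) (.leaf [68,87,24,1246])) (.node (.leaf [39,8,139,800]) (.leaf [37,138,146,1858]))) (.node (.node (.leaf [67,80,30,523]) (.leaf [66,30,173,1574])) (.node (.leaf [117,149,104,1140]) (.leaf []))))))) (.node (.node (.node (.node (.node (.node (.leaf [117,45,166,43]) (.leaf [117,173,106,1148])) (.node (.leaf [68,143,25,537]) (.leaf [9,32,332,1603]))) (.node (.node (.leaf [9,55,220,317]) (.leaf [66,58,26,1268])) (.node (.leaf [10,98,332,825]) (.leaf [21,77,214,1900])))) (.node (.node (.node (.leaf [37,106,15,195]) (.leaf [40,97,228,1206])) (.node (.leaf [20,98,212,770]) (.leaf [19,85,31,1681]))) (.node (.node (.leaf [11,15,332,476]) (.leaf [37,32,45,1544])) (.node (.leaf [22,6,48,876]) (.leaf []))))) (.node (.node (.node (.node (.leaf [68,13,29,123]) (.leaf [20,17,29,1183])) (.node (.leaf [39,13,222,742]) (.leaf [67,89,222,1638]))) (.node (.node (.leaf [22,12,31,456]) (.leaf [69,104,262,1301]))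 (.node (.leaf [37,222,216,850]) (.leaf [66,146,6,1972])))) (.node (.node (.node (.leaf [39,3,166,291]) (.leaf [11,47,136,1233])) (.node (.leaf [2,85,83,798]) (.leaf [38,8,332,1850]))) (.node (.node (.leaf [20,98,212,509]) (.leaf [68,32,30,1571])) (.node (.leaf [21,8,212,1131]) (.leaf [])))))) (.node (.node (.node (.node (.node (.leaf [66,139,8,76]) (.leaf [36,15,262,1164])) (.node (.leaf [11,16,166,694]) (.leaf [10,134,143,1628]))) (.node (.node (.leaf [38,6,337,328]) (.leaf [116,104,80,1283])) (.node (.leaf [69,30,12,845]) (.leaf [10,98,336,1915])))) (.node (.node (.node (.leaf [66,87,106,205]) (.leaf [39,54,60,1213])) (.node (.leaf [11,24,336,784]) (.leaf [10,166,222,1723]))) (.node (.node (.leaf [67,107,48,486]) (.leaf [19,212,335,1555])) (.node (.leaf [40,7,88,1084]) (.leaf []))))) (.node (.node (.node (.node (.leaf [10,1,225,132]) (.leaf [40,44,138,1201])) (.node (.leaf [11,57,58,752]) (.leaf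 [9,32,332,1670]))) (.node (.node (.leaf [10,17,145,470]) (.leaf [9,48,47,1508])) (.node (.leaf [117,24,166,870]) (.leaf [37,138,146,2033])))) (.node (.node (.node (.leaf [22,12,31,305]) (.leaf [66,30,173,1249])) (.node (.leaf [20,27,212,803]) (.leaf [11,30,98,1876]))) (.node (.node (.leaf [68,13,333,526]) (.leaf [36,31,48,1583])) (.node (.leaf [38,60,27,1143]) (.leaf []))))))))

def lK_15 : CfsgLib.Coset.Tr (List Nat) := (.node (.node (.node (.node (.node (.node (.node (.leaf [67,12,30,42]) (.leaf [67,216,83,1147])) (.node (.leaf [67,12,257,535]) (.leaf [66,89,168,1591]))) (.node (.node (.leaf [117,87,60,314]) (.leaf [5,7,77,1266])) (.node (.leaf [11,12,149,812]) (.leaf [9,4,6,1896])))) (.node (.node (.node (.leaf [22,1,102,190]) (.leaf [2,88,134,1205])) (.node (.leaf [22,12,45,769]) (.leaf [38,49,332,1676]))) (.node (.node (.leaf [9,27,106,475]) (.leaf [22,15,55,1542])) (.node (.leaf [9,14,226,874])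 (.leaf []))))) (.node (.node (.node (.node (.leaf [66,139,8,122]) (.leaf [40,4,143,1176])) (.node (.leaf [11,12,107,741]) (.leaf [9,4,6,1636]))) (.node (.node (.leaf [66,48,225,428]) (.leaf [37,32,146,1300])) (.node (.leaf [69,173,134,849]) (.leaf [20,78,261,1949])))) (.node (.node (.node (.leaf [66,87,106,211]) (.leaf [11,24,89,1220])) (.node (.leaf [2,59,262,796]) (.leaf [11,15,173,1835]))) (.node (.node (.leaf [22,12,45,508]) (.leaf [40,97,260,1560])) (.node (.leaf [22,25,107,1130]) (.leaf [])))))) (.node (.node (.node (.node (.node (.leaf [10,1,57,73]) (.leaf [36,59,78,1163])) (.node (.leaf [22,8,58,687]) (.leaf [22,44,343,1626]))) (.node (.node (.leaf [39,15,138,326]) (.leaf [11,24,89,1273])) (.node (.leaf [36,15,262,835]) (.leaf [2,4,44,1914])))) (.node (.node (.node (.leaf [68,143,31,204]) (.leaf [21,4,83,1211])) (.node (.leaf [19,86,98,780]) (.leaf [21,24,50,1701]))) (.node (.node (.leaf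 [5,31,214,484]) (.leaf [117,229,147,1554])) (.node (.leaf [66,146,32,1083]) (.leaf []))))) (.node (.node (.node (.node (.leaf [38,59,88,131]) (.leaf [2,146,83,1200])) (.node (.leaf [20,32,215,750]) (.leaf [21,77,214,1657]))) (.node (.node (.leaf [39,6,45,467]) (.leaf [67,15,212,1499])) (.node (.leaf [9,55,168,865]) (.leaf [20,83,85,2029])))) (.node (.node (.node (.leaf [20,31,336,302]) (.leaf [11,13,134,1248])) (.node (.leaf [40,29,49,802]) (.leaf [11,7,212,1859]))) (.node (.node (.leaf [22,8,105,524]) (.leaf [66,30,6,1582])) (.node (.leaf [10,58,337,1141]) (.leaf []))))))) (.node (.node (.node (.node (.node (.node (.leaf [116,83,7,71]) (.leaf [10,98,332,1156])) (.node (.leaf [21,6,215,538]) (.leaf [11,30,98,1605]))) (.node (.node (.leaf [37,145,336,318]) (.leaf [40,44,138,1269])) (.node (.leaf [38,17,15,833]) (.leaf [39,47,335,1906])))) (.node (.node (.node (.leaf [37,27,55,196]) (.leaf [19,212,97,1208]))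 (.node (.leaf [20,14,333,771]) (.leaf [2,4,44,1697]))) (.node (.node (.leaf [11,25,58,482]) (.leaf [5,31,333,1551])) (.node (.leaf [36,49,98,1023]) (.leaf []))))) (.node (.node (.node (.node (.leaf [21,3,102,124]) (.leaf [5,58,212,1184])) (.node (.leaf [116,149,45,748]) (.leaf [22,77,215,1641]))) (.node (.node (.leaf [19,50,105,457]) (.leaf [11,29,107,1470])) (.node (.leaf [2,60,98,860]) (.leaf [20,4,105,1973])))) (.node (.node (.node (.leaf [116,85,59,297]) (.leaf [20,17,343,1244])) (.node (.leaf [10,58,173,799]) (.leaf [19,85,25,1856]))) (.node (.node (.leaf [20,14,333,510]) (.leaf [20,26,105,1572])) (.node (.leaf [116,229,55,1139]) (.leaf [])))))) (.node (.node (.node (.node (.node (.leaf [38,6,16,118]) (.leaf [9,27,44,1171])) (.node (.leaf [40,4,146,696]) (.leaf [67,89,222,1630]))) (.node (.node (.leaf [38,146,58,330]) (.leaf [22,97,225,1287])) (.node (.leaf [40,24,145,846]) (.leaf [68,147,26,1930]))))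 (.node (.node (.node (.leaf [20,31,336,208]) (.leaf [117,220,143,1214])) (.node (.leaf [68,60,14,786]) (.leaf [68,147,260,1726]))) (.node (.node (.leaf [11,29,149,499]) (.leaf [21,4,14,1558])) (.node (.leaf [116,57,107,1122]) (.leaf []))))) (.node (.node (.node (.node (.leaf [68,13,8,187]) (.leaf [40,77,261,1202])) (.node (.leaf [67,107,105,753]) (.leaf [39,47,55,1673]))) (.node (.node (.leaf [37,13,228,471]) (.leaf [66,105,88,1510])) (.node (.leaf [10,17,30,872]) (.leaf [117,55,134,2046])))) (.node (.node (.node (.leaf [19,50,105,306]) (.leaf [10,14,25,1253])) (.node (.leaf [5,26,343,804]) (.leaf [37,220,214,1888]))) (.node (.node (.leaf [66,139,27,532]) (.leaf [22,7,83,1584])) (.node (.leaf [40,29,105,1144]) (.leaf []))))))))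

def lK_16 : CfsgLib.Coset.Tr (List Nat) := (.node (.node (.node (.node (.node (.node (.node (.leaf [116,77,4,23]) (.leaf [2,87,149,1144])) (.node (.leaf [5,173,97,532]) (.leaf [20,214,60,1585]))) (.node (.node (.leaf [21,87,143,306]) (.leaf [10,229,47,1253])) (.node (.leaf [5,226,30,805]) (.leaf [9,146,222,1888])))) (.node (.node (.node (.leaf [20,25,16,187]) (.leaf [22,168,26,1203])) (.node (.leaf [5,87,146,753]) (.leaf [37,168,57,1673]))) (.node (.node (.leaf [38,45,12,472]) (.leaf [66,222,215,1510])) (.node (.leaf [10,262,57,872]) (.leaf []))))) (.node (.node (.node (.node (.leaf [38,47,54,118]) (.leaf [39,332,136,1171])) (.node (.leaf [36,226,14,697]) (.leaf [5,226,257,1630]))) (.node (.node (.leaf [39,48,138,330]) (.leaf [2,89,24,1298])) (.node (.leaf [2,138,229,846]) (.leaf [21,31,86,1930])))) (.node (.node (.node (.leaf [19,343,4,209]) (.leaf [40,102,229,1214])) (.node (.leaf [21,104,50,786])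 (.leaf [20,220,13,1727]))) (.node (.node (.leaf [10,59,222,499]) (.leaf [68,98,26,1558])) (.node (.leaf [2,89,24,1127]) (.leaf [])))))) (.node (.node (.node (.node (.node (.leaf [2,3,55,71]) (.leaf [5,105,44,1160])) (.node (.leaf [21,85,228,538]) (.leaf [11,138,136,1605]))) (.node (.node (.leaf [36,24,14,324]) (.leaf [2,145,149,1269])) (.node (.leaf [37,333,45,833]) (.leaf [38,216,13,1907])))) (.node (.node (.node (.leaf [38,45,58,196]) (.leaf [21,336,147,1208])) (.node (.leaf [66,44,27,777]) (.leaf [117,54,47,1697]))) (.node (.node (.leaf [11,145,85,482]) (.leaf [116,260,44,1552])) (.node (.leaf [69,78,229,1023]) (.leaf []))))) (.node (.node (.node (.node (.leaf [67,45,7,126]) (.leaf [22,257,216,1184])) (.node (.leaf [40,55,59,748]) (.leaf [20,337,29,1642]))) (.node (.node (.leaf [21,87,143,457]) (.leaf [69,332,134,1470])) (.node (.leaf [69,78,13,861]) (.leaf [20,30,335,1973])))) (.node (.node (.node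 (.leaf [117,80,60,297]) (.leaf [19,337,27,1245])) (.node (.leaf [36,332,215,799]) (.leaf [68,336,104,1856]))) (.node (.node (.leaf [20,332,8,512]) (.leaf [19,29,260,1572])) (.node (.leaf [40,45,86,1139]) (.leaf []))))))) (.node (.node (.node (.node (.node (.node (.leaf [67,77,54,42]) (.leaf [5,226,139,1147])) (.node (.leaf [20,260,16,536]) (.leaf [5,215,216,1591]))) (.node (.node (.leaf [116,147,105,314]) (.leaf [69,98,1,1267])) (.node (.leaf [69,336,257,812]) (.leaf [37,54,12,1896])))) (.node (.node (.node (.leaf [69,136,7,192]) (.leaf [40,166,220,1205])) (.node (.leaf [66,333,80,769]) (.leaf [21,220,14,1678]))) (.node (.node (.leaf [38,226,145,475]) (.leaf [66,343,86,1542])) (.node (.leaf [9,343,16,875]) (.leaf []))))) (.node (.node (.node (.node (.leaf [5,6,86,122]) (.leaf [39,214,45,1178])) (.node (.leaf [10,59,147,741]) (.leaf [37,54,12,1636]))) (.node (.node (.leaf [20,80,8,454]) (.leaf [38,336,261,1300]))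 (.node (.leaf [10,212,147,849]) (.leaf [68,216,3,1969])))) (.node (.node (.node (.leaf [22,27,222,211]) (.leaf [69,337,166,1220])) (.node (.leaf [116,261,24,797]) (.leaf [69,335,212,1835]))) (.node (.node (.leaf [66,333,80,508]) (.leaf [36,336,57,1565])) (.node (.leaf [5,105,139,1130]) (.leaf [])))))) (.node (.node (.node (.node (.node (.leaf [69,78,7,74]) (.leaf [11,229,212,1163])) (.node (.leaf [22,173,102,687]) (.leaf [39,216,14,1627]))) (.node (.node (.leaf [38,45,228,326]) (.leaf [69,337,166,1273])) (.node (.leaf [67,225,8,837]) (.leaf [117,54,47,1914])))) (.node (.node (.node (.leaf [21,26,80,204]) (.leaf [116,262,44,1212])) (.node (.leaf [68,78,220,780]) (.leaf [68,257,102,1701]))) (.node (.node (.leaf [36,337,47,485]) (.leaf [40,83,220,1554])) (.node (.leaf [5,149,77,1083]) (.leaf []))))) (.node (.node (.node (.node (.leaf [9,12,216,131]) (.leaf [117,262,139,1200])) (.node (.leaf [66,216,12,751])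 (.leaf [20,216,215,1657]))) (.node (.node (.leaf [37,260,59,467]) (.leaf [117,145,1,1500])) (.node (.leaf [37,136,216,865]) (.leaf [68,228,102,2029])))) (.node (.node (.node (.leaf [20,80,8,303]) (.leaf [36,166,136,1248])) (.node (.leaf [116,220,55,802]) (.leaf [36,222,1,1860]))) (.node (.node (.leaf [67,45,149,524]) (.leaf [5,8,12,1582])) (.node (.leaf [37,168,6,1142]) (.leaf []))))))))

def lK_17 : CfsgLib.Coset.Tr (List Nat) := (.node (.node (.node (.node (.node (.node (.node (.leaf [2,3,29,41]) (.leaf [22,136,31,1146])) (.node (.leaf [19,83,216,533]) (.leaf [117,86,50,1589]))) (.node (.node (.leaf [117,86,4,313]) (.leaf [19,29,25,1264])) (.node (.leaf [2,104,102,806]) (.leaf [9,333,13,1892])))) (.node (.node (.node (.leaf [19,83,98,188]) (.leaf [116,260,98,1204])) (.node (.leaf [67,55,8,766]) (.leaf [9,228,214,1674]))) (.node (.node (.leaf [69,332,49,474]) (.leaf [67,229,48,1541])) (.node (.leaf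 [38,335,228,873]) (.leaf []))))) (.node (.node (.node (.node (.leaf [69,78,7,120]) (.leaf [117,78,97,1175])) (.node (.leaf [36,134,104,729]) (.leaf [9,333,13,1633]))) (.node (.node (.leaf [40,50,143,331]) (.leaf [68,212,83,1299])) (.node (.leaf [38,260,32,848]) (.leaf [21,104,261,1946])))) (.node (.node (.node (.leaf [68,335,85,210]) (.leaf [2,106,77,1216])) (.node (.leaf [2,138,229,795]) (.leaf [5,8,80,1805]))) (.node (.node (.leaf [117,145,4,502]) (.leaf [2,105,229,1559])) (.node (.leaf [69,335,59,1129]) (.leaf [])))))) (.node (.node (.node (.node (.node (.leaf [38,47,54,72]) (.leaf [37,333,45,1162])) (.node (.leaf [38,335,12,664]) (.leaf [5,225,214,1625]))) (.node (.node (.leaf [9,261,49,325]) (.leaf [20,214,60,1272])) (.node (.leaf [11,229,212,834]) (.leaf [9,15,59,1909])))) (.node (.node (.node (.leaf [117,80,7,202]) (.leaf [67,229,226,1209])) (.node (.leaf [66,226,55,778]) (.leaf [36,335,47,1699])))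 (.node (.node (.leaf [21,105,147,483]) (.leaf [117,260,106,1553])) (.node (.leaf [117,138,3,1070]) (.leaf []))))) (.node (.node (.node (.node (.leaf [11,14,59,128]) (.leaf [38,55,3,1187])) (.node (.leaf [36,335,138,749]) (.leaf [67,333,102,1643]))) (.node (.node (.leaf [117,86,4,464]) (.leaf [38,226,333,1471])) (.node (.leaf [116,147,86,862]) (.leaf [36,222,1,2022])))) (.node (.node (.node (.leaf [19,332,216,299]) (.leaf [19,29,31,1246])) (.node (.leaf [9,145,13,801]) (.leaf [37,333,335,1858]))) (.node (.node (.leaf [67,136,54,523]) (.leaf [19,29,3,1580])) (.node (.leaf [40,102,173,1140]) (.leaf []))))))) (.node (.node (.node (.node (.node (.node (.leaf [66,44,7,70]) (.leaf [40,83,149,1148])) (.node (.leaf [21,260,102,537]) (.leaf [37,226,6,1604]))) (.node (.node (.leaf [9,335,226,317]) (.leaf [67,55,27,1268])) (.node (.leaf [5,105,44,829]) (.leaf [20,216,215,1900])))) (.node (.node (.node (.leaf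 [9,12,49,195]) (.leaf [2,143,47,1207])) (.node (.leaf [21,87,216,770]) (.leaf [20,220,77,1681]))) (.node (.node (.leaf [116,260,29,481]) (.leaf [38,55,48,1544])) (.node (.leaf [22,149,83,876]) (.leaf []))))) (.node (.node (.node (.node (.leaf [19,24,30,123]) (.leaf [68,228,80,1183])) (.node (.leaf [10,49,12,743]) (.leaf [5,226,257,1638]))) (.node (.node (.leaf [66,214,80,456]) (.leaf [36,222,17,1302])) (.node (.leaf [9,139,220,850]) (.leaf [5,8,80,1972])))) (.node (.node (.node (.leaf [37,136,8,293]) (.leaf [36,336,215,1233])) (.node (.leaf [117,261,88,798]) (.leaf [67,225,1,1851]))) (.node (.node (.leaf [21,87,216,509]) (.leaf [19,337,78,1571])) (.node (.leaf [40,98,49,1138]) (.leaf [])))))) (.node (.node (.node (.node (.node (.leaf [5,6,86,76]) (.leaf [36,29,1,1170])) (.node (.leaf [36,134,168,694]) (.leaf [69,335,166,1628]))) (.node (.node (.leaf [9,261,8,329]) (.leaf [40,60,85,1283])) (.node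 (.leaf [36,29,13,845]) (.leaf [19,228,13,1929])))) (.node (.node (.node (.leaf [22,27,222,205]) (.leaf [38,226,134,1213])) (.node (.leaf [5,105,30,785]) (.leaf [69,332,257,1723]))) (.node (.node (.leaf [22,139,89,486]) (.leaf [5,222,25,1556])) (.node (.leaf [116,143,138,1084]) (.leaf []))))) (.node (.node (.node (.node (.leaf [36,226,7,133]) (.leaf [2,145,149,1201])) (.node (.leaf [11,215,85,752]) (.leaf [37,226,6,1671]))) (.node (.node (.leaf [10,262,225,470]) (.leaf [37,337,58,1508])) (.node (.leaf [2,107,29,871]) (.leaf [37,333,335,2033])))) (.node (.node (.node (.leaf [66,214,80,305]) (.leaf [38,336,15,1252])) (.node (.leaf [20,147,228,803]) (.leaf [11,138,136,1876]))) (.node (.node (.leaf [68,78,25,527]) (.leaf [36,166,78,1583])) (.node (.leaf [39,106,50,1143]) (.leaf []))))))))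

def lK_18 : CfsgLib.Coset.Tr (List Nat) := (.node (.node (.node (.node (.node (.node (.node (.leaf [117,44,57,23]) (.leaf [21,335,143,1145])) (.node (.leaf [21,260,17,533]) (.leaf [20,214,225,1585]))) (.node (.node (.leaf [10,85,89,307]) (.leaf [19,29,3,1264])) (.node (.leaf [67,262,222,805]) (.leaf [38,222,166,1891])))) (.node (.node (.node (.leaf [68,78,4,188]) (.leaf [5,88,262,1203])) (.node (.leaf [69,336,49,764]) (.leaf [38,216,13,1674]))) (.node (.node (.leaf [38,45,228,472]) (.leaf [116,97,60,1536])) (.node (.leaf [38,335,12,873]) (.leaf []))))) (.node (.node (.node (.node (.leaf [36,24,16,119]) (.leaf [116,77,50,1175])) (.node (.leaf [69,47,222,697]) (.leaf [38,222,166,1632]))) (.node (.node (.leaf [117,138,7,331]) (.leaf [116,166,107,1298])) (.node (.leaf [38,260,134,847]) (.leaf [20,337,6,1946])))) (.node (.node (.node (.leaf [68,335,333,209]) (.leaf [117,261,143,1215])) (.node (.leaf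 [116,262,29,795]) (.leaf [19,333,260,1727]))) (.node (.node (.leaf [66,222,45,501]) (.leaf [116,262,44,1559])) (.node (.leaf [116,166,107,1127]) (.leaf [])))))) (.node (.node (.node (.node (.node (.leaf [37,44,4,72]) (.leaf [22,212,229,1160])) (.node (.leaf [116,146,87,539]) (.leaf [22,168,55,1625]))) (.node (.node (.leaf [10,262,225,324]) (.leaf [117,228,146,1270])) (.node (.leaf [69,98,16,834]) (.leaf [9,228,214,1907])))) (.node (.node (.node (.leaf [37,136,59,198]) (.leaf [5,222,25,1209])) (.node (.leaf [66,44,149,777]) (.leaf [11,17,49,1698]))) (.node (.node (.leaf [19,225,13,483]) (.leaf [2,138,173,1552])) (.node (.leaf [68,212,83,1039]) (.leaf []))))) (.node (.node (.node (.node (.leaf [22,27,58,126]) (.leaf [66,343,86,1185])) (.node (.leaf [36,335,30,749]) (.leaf [68,257,332,1642]))) (.node (.node (.leaf [10,85,89,458]) (.leaf [9,343,44,1471])) (.node (.leaf [69,78,229,861]) (.leaf [2,7,45,1985]))))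 (.node (.node (.node (.leaf [68,214,4,299]) (.leaf [68,98,260,1245])) (.node (.leaf [37,168,49,800]) (.leaf [38,336,3,1858]))) (.node (.node (.leaf [21,85,228,512]) (.leaf [67,168,44,1574])) (.node (.leaf [2,106,57,1140]) (.leaf []))))))) (.node (.node (.node (.node (.node (.node (.leaf [2,3,55,43]) (.leaf [2,104,47,1148])) (.node (.leaf [19,343,220,536]) (.leaf [38,220,138,1603]))) (.node (.node (.leaf [37,260,8,317]) (.leaf [36,166,78,1267])) (.node (.leaf [36,337,138,825]) (.leaf [20,216,50,1900])))) (.node (.node (.node (.leaf [36,212,168,192]) (.leaf [117,261,143,1206])) (.node (.leaf [19,261,16,770]) (.leaf [19,102,214,1678]))) (.node (.node (.leaf [69,337,59,476]) (.leaf [38,55,3,1544])) (.node (.leaf [39,88,220,875]) (.leaf []))))) (.node (.node (.node (.node (.leaf [19,24,4,123]) (.leaf [37,136,216,1178])) (.node (.leaf [39,88,60,742]) (.leaf [5,226,44,1638]))) (.node (.node (.leaf [20,80,104,454])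 (.leaf [36,166,85,1301])) (.node (.leaf [39,214,17,850]) (.leaf [19,337,214,1969])))) (.node (.node (.node (.leaf [39,48,32,291]) (.leaf [36,336,57,1233])) (.node (.leaf [2,145,228,797]) (.leaf [37,337,58,1850]))) (.node (.node (.leaf [19,261,16,509]) (.leaf [36,336,215,1565])) (.node (.leaf [21,104,50,1131]) (.leaf [])))))) (.node (.node (.node (.node (.node (.leaf [36,134,98,74]) (.leaf [69,225,24,1164])) (.node (.leaf [69,136,13,694]) (.leaf [9,146,222,1627]))) (.node (.node (.leaf [9,261,57,328]) (.leaf [117,86,1,1283])) (.node (.leaf [67,225,173,837]) (.leaf [10,136,107,1915])))) (.node (.node (.node (.leaf [67,215,7,205]) (.leaf [2,105,229,1212])) (.node (.leaf [69,335,59,784]) (.leaf [10,212,24,1723]))) (.node (.node (.leaf [36,337,225,485]) (.leaf [21,336,147,1555])) (.node (.leaf [117,145,1,1084]) (.leaf []))))) (.node (.node (.node (.node (.leaf [69,215,143,132]) (.leaf [116,220,54,1201]))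 (.node (.leaf [22,80,106,751]) (.leaf [38,220,138,1670]))) (.node (.node (.leaf [36,24,14,470]) (.leaf [116,143,138,1500])) (.node (.leaf [2,107,54,870]) (.leaf [38,336,3,2033])))) (.node (.node (.node (.leaf [20,80,104,303]) (.leaf [67,168,44,1249])) (.node (.leaf [21,335,32,803]) (.leaf [10,16,215,1860]))) (.node (.node (.leaf [68,77,85,526]) (.leaf [69,98,1,1583])) (.node (.leaf [9,146,136,1142]) (.leaf []))))))))

def lK_19 : CfsgLib.Coset.Tr (List Nat) := (.node (.node (.node (.node (.node (.node (.node (.leaf [66,44,7,42]) (.leaf [5,106,229,1146])) (.node (.leaf [5,173,97,535]) (.leaf [22,136,45,1591]))) (.node (.node (.leaf [117,86,107,313]) (.leaf [5,8,12,1266])) (.node (.leaf [10,212,15,812]) (.leaf [39,106,260,1892])))) (.node (.node (.node (.leaf [67,45,32,190]) (.leaf [117,260,85,1205])) (.node (.leaf [67,55,173,766]) (.leaf [9,15,59,1676]))) (.node (.node (.leaf [9,138,16,475]) (.leaf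 [22,257,216,1541])) (.node (.leaf [39,214,146,874]) (.leaf []))))) (.node (.node (.node (.node (.leaf [36,134,98,120]) (.leaf [116,147,86,1176])) (.node (.leaf [10,59,15,741]) (.leaf [39,106,260,1633]))) (.node (.node (.leaf [22,173,102,428]) (.leaf [38,336,15,1300])) (.node (.leaf [39,332,220,848]) (.leaf [21,105,98,1949])))) (.node (.node (.node (.leaf [67,215,7,211]) (.leaf [40,134,229,1216])) (.node (.leaf [116,261,78,796]) (.leaf [10,257,12,1835]))) (.node (.node (.leaf [116,146,138,502]) (.leaf [117,262,104,1560])) (.node (.leaf [5,105,30,1130]) (.leaf [])))))) (.node (.node (.node (.node (.node (.leaf [36,24,16,73]) (.leaf [69,98,16,1163])) (.node (.leaf [38,335,228,664]) (.leaf [67,333,102,1626]))) (.node (.node (.leaf [38,45,12,326]) (.leaf [20,214,225,1272])) (.node (.leaf [69,225,24,835]) (.leaf [116,97,1,1914])))) (.node (.node (.node (.leaf [40,50,104,202]) (.leaf [68,98,26,1211])) (.node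 (.leaf [68,78,25,780]) (.leaf [36,335,225,1699]))) (.node (.node (.leaf [66,216,86,484]) (.leaf [2,143,47,1554])) (.node (.leaf [116,139,145,1070]) (.leaf []))))) (.node (.node (.node (.node (.leaf [37,332,4,131]) (.leaf [38,55,48,1187])) (.node (.leaf [20,143,50,750]) (.leaf [20,216,50,1657]))) (.node (.node (.leaf [117,86,107,464]) (.leaf [5,149,77,1499])) (.node (.leaf [39,214,45,865]) (.leaf [10,16,215,2022])))) (.node (.node (.node (.leaf [68,335,29,302]) (.leaf [69,168,16,1248])) (.node (.leaf [38,222,138,801]) (.leaf [11,17,49,1859]))) (.node (.node (.leaf [67,45,6,524]) (.leaf [19,29,25,1580])) (.node (.leaf [11,225,104,1141]) (.leaf []))))))) (.node (.node (.node (.node (.node (.node (.leaf [67,77,54,70]) (.leaf [36,337,138,1156])) (.node (.leaf [20,332,8,538]) (.leaf [9,336,260,1604]))) (.node (.node (.leaf [39,48,138,318]) (.leaf [116,220,54,1269])) (.node (.leaf [22,212,229,829]) (.leaf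 [37,168,57,1906])))) (.node (.node (.node (.leaf [38,45,4,196]) (.leaf [40,83,220,1207])) (.node (.leaf [68,261,86,771]) (.leaf [116,97,1,1697]))) (.node (.node (.leaf [2,105,173,481]) (.leaf [22,168,106,1551])) (.node (.leaf [69,78,13,1023]) (.leaf []))))) (.node (.node (.node (.node (.leaf [68,78,31,124]) (.leaf [67,229,48,1184])) (.node (.leaf [10,49,143,743]) (.leaf [66,216,97,1641]))) (.node (.node (.leaf [19,215,16,457]) (.leaf [69,57,226,1302])) (.node (.leaf [117,78,57,860]) (.leaf [19,333,3,1973])))) (.node (.node (.node (.leaf [39,49,146,293]) (.leaf [68,228,80,1244])) (.node (.leaf [11,225,48,799]) (.leaf [66,222,215,1851]))) (.node (.node (.leaf [68,261,86,510]) (.leaf [68,336,6,1572])) (.node (.leaf [2,87,228,1138]) (.leaf [])))))) (.node (.node (.node (.node (.node (.leaf [37,44,4,118]) (.leaf [10,16,25,1170])) (.node (.leaf [40,107,104,696]) (.leaf [5,226,44,1630]))) (.node (.node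 (.leaf [37,332,228,329]) (.leaf [5,215,107,1287])) (.node (.leaf [116,262,29,846]) (.leaf [20,216,257,1929])))) (.node (.node (.node (.leaf [68,335,29,208]) (.leaf [2,147,57,1214])) (.node (.leaf [5,105,139,785]) (.leaf [21,220,83,1726]))) (.node (.node (.leaf [10,59,24,499]) (.leaf [67,229,226,1556])) (.node (.leaf [116,97,60,1122]) (.leaf []))))) (.node (.node (.node (.node (.leaf [69,215,222,133]) (.leaf [117,228,146,1202])) (.node (.leaf [5,87,25,753]) (.leaf [9,336,260,1671]))) (.node (.node (.leaf [9,261,49,471]) (.leaf [67,225,1,1510])) (.node (.leaf [117,44,102,871]) (.leaf [2,7,45,2046])))) (.node (.node (.node (.leaf [19,215,16,306]) (.leaf [38,336,261,1252])) (.node (.leaf [22,136,88,804]) (.leaf [39,216,14,1888]))) (.node (.node (.leaf [68,78,220,527]) (.leaf [67,55,27,1584])) (.node (.leaf [116,220,24,1144]) (.leaf []))))))))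

def lK_20 : CfsgLib.Coset.Tr (List Nat) := (.node (.node (.node (.node (.node (.node (.node (.leaf [2,3,29,23]) (.leaf [21,335,32,1145])) (.node (.leaf [66,212,149,532]) (.leaf [21,335,78,1585]))) (.node (.node (.leaf [36,336,25,307]) (.leaf [69,57,226,1253])) (.node (.leaf [5,226,139,805]) (.leaf [39,337,50,1891])))) (.node (.node (.node (.leaf [19,24,30,187]) (.leaf [22,168,106,1203])) (.node (.leaf [10,59,24,764]) (.leaf [37,168,214,1673]))) (.node (.node (.leaf [37,343,55,472]) (.leaf [2,89,45,1536])) (.node (.leaf [69,47,222,872]) (.leaf []))))) (.node (.node (.node (.node (.leaf [36,24,7,119]) (.leaf [39,332,220,1171])) (.node (.leaf [10,262,57,697]) (.leaf [39,337,50,1632]))) (.node (.node (.leaf [39,48,333,330]) (.leaf [116,166,60,1298])) (.node (.leaf [9,343,16,847]) (.leaf [19,337,214,1930])))) (.node (.node (.node (.leaf [68,335,85,209]) (.leaf [2,147,77,1215])) (.node (.leaf [20,86,85,786])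 (.leaf [20,220,77,1727]))) (.node (.node (.leaf [67,55,8,501]) (.leaf [19,102,78,1558])) (.node (.leaf [116,166,60,1127]) (.leaf [])))))) (.node (.node (.node (.node (.node (.leaf [117,78,102,71]) (.leaf [67,262,87,1160])) (.node (.leaf [117,145,4,539]) (.leaf [10,168,173,1605]))) (.node (.node (.leaf [69,215,29,324]) (.leaf [2,143,97,1270])) (.node (.leaf [38,55,261,833]) (.leaf [37,54,58,1907])))) (.node (.node (.node (.leaf [37,136,8,198]) (.leaf [20,143,261,1208])) (.node (.leaf [67,136,54,777]) (.leaf [69,168,1,1698]))) (.node (.node (.leaf [36,335,138,482]) (.leaf [116,260,98,1552])) (.node (.leaf [20,332,24,1039]) (.leaf []))))) (.node (.node (.node (.node (.leaf [67,45,32,126]) (.leaf [66,343,12,1185])) (.node (.leaf [2,105,173,748]) (.leaf [68,257,102,1642]))) (.node (.node (.leaf [36,336,25,458]) (.leaf [69,332,257,1470])) (.node (.leaf [11,262,59,861]) (.leaf [116,166,1,1985])))) (.node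 (.node (.node (.leaf [40,50,104,297]) (.leaf [19,337,78,1245])) (.node (.leaf [37,168,6,800]) (.leaf [20,30,335,1856]))) (.node (.node (.leaf [20,332,104,512]) (.leaf [67,168,25,1574])) (.node (.leaf [2,145,228,1139]) (.leaf []))))))) (.node (.node (.node (.node (.node (.node (.leaf [116,134,4,43]) (.leaf [67,262,222,1147])) (.node (.leaf [68,77,85,536]) (.leaf [38,220,27,1603]))) (.node (.node (.leaf [40,50,143,314]) (.leaf [11,17,26,1267])) (.node (.leaf [36,337,30,825]) (.leaf [38,57,44,1896])))) (.node (.node (.node (.leaf [11,14,59,192]) (.leaf [2,147,77,1206])) (.node (.leaf [5,215,229,769]) (.leaf [21,220,83,1678]))) (.node (.node (.leaf [10,49,12,476]) (.leaf [5,225,262,1542])) (.node (.leaf [38,260,134,875]) (.leaf []))))) (.node (.node (.node (.node (.leaf [5,6,168,122]) (.leaf [9,335,60,1178])) (.node (.leaf [9,138,16,742]) (.leaf [38,57,44,1636]))) (.node (.node (.leaf [21,85,60,454])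 (.leaf [69,168,16,1301])) (.node (.leaf [69,336,257,849]) (.leaf [21,31,86,1969])))) (.node (.node (.node (.leaf [38,45,4,291]) (.leaf [10,257,226,1220])) (.node (.leaf [40,45,86,797]) (.leaf [9,228,6,1850]))) (.node (.node (.leaf [5,215,229,508]) (.leaf [11,225,98,1565])) (.node (.leaf [20,86,6,1131]) (.leaf [])))))) (.node (.node (.node (.node (.node (.leaf [11,14,31,74]) (.leaf [69,225,12,1164])) (.node (.leaf [67,215,149,687]) (.leaf [39,216,139,1627]))) (.node (.node (.leaf [9,261,8,328]) (.leaf [10,257,226,1273])) (.node (.leaf [22,149,83,837]) (.leaf [36,335,47,1915])))) (.node (.node (.node (.leaf [19,332,216,204]) (.leaf [40,78,87,1212])) (.node (.leaf [69,335,26,784]) (.leaf [68,257,332,1701]))) (.node (.node (.leaf [11,215,85,485]) (.leaf [21,336,27,1555])) (.node (.leaf [66,257,173,1083]) (.leaf []))))) (.node (.node (.node (.node (.leaf [36,226,7,132]) (.leaf [40,102,229,1200])) (.node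 (.leaf [66,216,86,751]) (.leaf [38,220,27,1670]))) (.node (.node (.leaf [9,335,226,467]) (.leaf [116,143,87,1500])) (.node (.leaf [2,107,29,870]) (.leaf [21,104,261,2029])))) (.node (.node (.node (.leaf [21,85,60,303]) (.leaf [67,168,25,1249])) (.node (.leaf [2,87,149,802]) (.leaf [10,16,138,1860]))) (.node (.node (.leaf [20,260,16,526]) (.leaf [67,97,44,1582])) (.node (.leaf [37,168,49,1142]) (.leaf []))))))))

def lK_21 : CfsgLib.Coset.Tr (List Nat) := (.node (.node (.node (.node (.node (.node (.node (.leaf [117,44,57,41]) (.leaf [22,136,88,1146])) (.node (.leaf [5,173,15,535]) (.leaf [40,60,85,1589]))) (.node (.node (.leaf [116,143,80,313]) (.leaf [66,54,1,1266])) (.node (.leaf [40,83,149,806]) (.leaf [38,220,166,1892])))) (.node (.node (.node (.leaf [67,45,7,190]) (.leaf [2,138,173,1204])) (.node (.leaf [66,222,45,766]) (.leaf [37,337,3,1676]))) (.node (.node (.leaf [10,59,147,474]) (.leaf [67,229,105,1541]))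 (.node (.leaf [39,214,17,874]) (.leaf []))))) (.node (.node (.node (.node (.leaf [11,14,31,120]) (.leaf [117,80,3,1176])) (.node (.leaf [36,134,168,729]) (.leaf [38,220,166,1633]))) (.node (.node (.leaf [67,215,6,428]) (.leaf [20,332,333,1299])) (.node (.leaf [39,332,136,848]) (.leaf [19,228,13,1949])))) (.node (.node (.node (.leaf [68,335,333,210]) (.leaf [117,262,104,1216])) (.node (.leaf [40,98,49,796]) (.leaf [67,168,139,1805]))) (.node (.node (.leaf [116,146,87,502]) (.leaf [2,106,77,1560])) (.node (.leaf [10,49,226,1129]) (.leaf [])))))) (.node (.node (.node (.node (.node (.leaf [36,24,7,73]) (.leaf [38,55,261,1162])) (.node (.leaf [37,134,139,664]) (.leaf [5,222,54,1626]))) (.node (.node (.leaf [9,261,216,325]) (.leaf [21,335,78,1272])) (.node (.leaf [69,225,12,835]) (.leaf [9,15,214,1909])))) (.node (.node (.node (.leaf [117,80,60,202]) (.leaf [68,98,3,1211])) (.node (.leaf [67,45,149,778])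 (.leaf [10,136,107,1699]))) (.node (.node (.leaf [66,216,12,484]) (.leaf [40,166,220,1553])) (.node (.leaf [40,107,104,1070]) (.leaf []))))) (.node (.node (.node (.node (.leaf [36,212,168,128]) (.leaf [39,58,27,1187])) (.node (.leaf [19,225,13,750]) (.leaf [67,333,226,1643]))) (.node (.node (.leaf [116,143,80,464]) (.leaf [5,149,12,1499])) (.node (.leaf [40,107,106,862]) (.leaf [10,16,138,2022])))) (.node (.node (.node (.leaf [68,335,8,302]) (.leaf [19,29,260,1246])) (.node (.leaf [39,106,50,801]) (.leaf [69,168,1,1859]))) (.node (.node (.leaf [66,44,149,523]) (.leaf [20,30,13,1580])) (.node (.leaf [11,225,48,1141]) (.leaf []))))))) (.node (.node (.node (.node (.node (.node (.leaf [5,6,15,70]) (.leaf [36,337,30,1156])) (.node (.leaf [19,83,216,537]) (.leaf [39,59,55,1604]))) (.node (.node (.leaf [38,335,4,318]) (.leaf [22,32,48,1268])) (.node (.leaf [67,262,87,829]) (.leaf [9,336,50,1906])))) (.node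 (.node (.node (.leaf [9,12,216,195]) (.leaf [117,260,146,1207])) (.node (.leaf [68,261,17,771]) (.leaf [19,333,260,1681]))) (.node (.node (.leaf [40,55,59,481]) (.leaf [22,168,26,1551])) (.node (.leaf [67,225,173,876]) (.leaf []))))) (.node (.node (.node (.node (.leaf [68,78,4,124]) (.leaf [21,333,261,1183])) (.node (.leaf [69,337,59,743]) (.leaf [22,168,55,1641]))) (.node (.node (.leaf [5,106,107,456]) (.leaf [10,229,47,1302])) (.node (.leaf [116,77,50,860]) (.leaf [67,168,139,1972])))) (.node (.node (.node (.leaf [37,136,59,293]) (.leaf [68,228,14,1244])) (.node (.leaf [40,102,173,798]) (.leaf [22,32,87,1851]))) (.node (.node (.leaf [68,261,17,510]) (.leaf [68,98,260,1571])) (.node (.leaf [116,261,78,1138]) (.leaf [])))))) (.node (.node (.node (.node (.node (.leaf [5,6,168,76]) (.leaf [36,29,13,1170])) (.node (.leaf [117,138,3,696]) (.leaf [69,335,212,1628]))) (.node (.node (.leaf [9,261,57,329])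 (.leaf [22,136,45,1287])) (.node (.leaf [10,16,25,845]) (.leaf [21,105,98,1929])))) (.node (.node (.node (.leaf [68,335,8,208]) (.leaf [38,226,333,1213])) (.node (.leaf [67,343,87,785]) (.leaf [21,220,14,1726]))) (.node (.node (.leaf [5,87,146,486]) (.leaf [5,222,146,1556])) (.node (.leaf [2,89,45,1122]) (.leaf []))))) (.node (.node (.node (.node (.leaf [69,215,143,133]) (.leaf [2,143,97,1202])) (.node (.leaf [36,337,225,752]) (.leaf [39,59,55,1671]))) (.node (.node (.leaf [38,214,16,471]) (.leaf [37,337,261,1508])) (.node (.leaf [2,107,54,871]) (.leaf [116,166,1,2046])))) (.node (.node (.node (.leaf [5,106,107,305]) (.leaf [39,228,134,1252])) (.node (.leaf [22,136,31,804]) (.leaf [10,168,173,1876]))) (.node (.node (.leaf [21,260,80,527]) (.leaf [67,55,1,1584])) (.node (.leaf [38,222,138,1143]) (.leaf []))))))))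

def lK_22 : CfsgLib.Coset.Tr (List Nat) := (.node (.node (.node (.node (.node (.node (.node (.leaf [116,77,4,41]) (.leaf [20,147,228,1145])) (.node (.leaf [21,260,102,533]) (.leaf [117,86,1,1589]))) (.node (.node (.leaf [36,336,145,307]) (.leaf [20,30,13,1264])) (.node (.leaf [2,104,47,806]) (.leaf [9,333,332,1891])))) (.node (.node (.node (.leaf [68,78,31,188]) (.leaf [116,260,44,1204])) (.node (.leaf [10,59,222,764]) (.leaf [37,54,58,1674]))) (.node (.node (.leaf [10,59,15,474]) (.leaf [2,89,78,1536])) (.node (.leaf [37,134,139,873]) (.leaf []))))) (.node (.node (.node (.node (.leaf [10,13,30,119]) (.leaf [117,78,57,1175])) (.node (.leaf [69,136,13,729]) (.leaf [9,333,332,1632]))) (.node (.node (.leaf [116,147,105,331]) (.leaf [20,332,24,1299])) (.node (.leaf [39,88,220,847]) (.leaf [68,228,102,1946])))) (.node (.node (.node (.leaf [19,343,4,210]) (.leaf [40,134,173,1215])) (.node (.leaf [40,55,80,795])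 (.leaf [66,257,1,1805]))) (.node (.node (.leaf [67,55,173,501]) (.leaf [40,78,87,1559])) (.node (.leaf [69,335,26,1129]) (.leaf [])))))) (.node (.node (.node (.node (.node (.leaf [37,44,15,72]) (.leaf [37,333,14,1162])) (.node (.leaf [116,146,138,539]) (.leaf [66,216,97,1625]))) (.node (.node (.leaf [38,214,16,325]) (.leaf [40,166,149,1270])) (.node (.leaf [11,229,49,834]) (.leaf [37,337,3,1909])))) (.node (.node (.node (.leaf [39,49,146,198]) (.leaf [5,222,146,1209])) (.node (.leaf [67,45,6,778]) (.leaf [36,257,136,1698]))) (.node (.node (.leaf [20,143,50,483]) (.leaf [117,260,85,1553])) (.node (.leaf [20,332,333,1039]) (.leaf []))))) (.node (.node (.node (.node (.leaf [69,136,7,128]) (.leaf [5,225,262,1185])) (.node (.leaf [11,145,85,749]) (.leaf [5,222,54,1643]))) (.node (.node (.leaf [36,336,145,458]) (.leaf [38,226,134,1471])) (.node (.leaf [117,80,3,862]) (.leaf [117,98,83,1985])))) (.node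 (.node (.node (.leaf [21,26,80,299]) (.leaf [68,336,6,1246])) (.node (.leaf [9,146,136,800]) (.leaf [39,58,145,1858]))) (.node (.node (.leaf [66,44,27,523]) (.leaf [5,149,136,1574])) (.node (.leaf [117,261,88,1140]) (.leaf []))))))) (.node (.node (.node (.node (.node (.node (.leaf [117,78,102,43]) (.leaf [2,104,102,1148])) (.node (.leaf [21,260,17,537]) (.leaf [39,337,260,1603]))) (.node (.node (.leaf [37,260,59,317]) (.leaf [67,55,1,1268])) (.node (.leaf [11,145,168,825]) (.leaf [21,336,98,1900])))) (.node (.node (.node (.leaf [37,332,4,195]) (.leaf [40,134,173,1206])) (.node (.leaf [19,261,105,770]) (.leaf [20,220,13,1681]))) (.node (.node (.leaf [10,49,143,476]) (.leaf [39,58,27,1544])) (.node (.leaf [67,225,8,876]) (.leaf []))))) (.node (.node (.node (.node (.leaf [20,25,16,123]) (.leaf [68,228,14,1183])) (.node (.leaf [38,226,145,742]) (.leaf [22,212,107,1638]))) (.node (.node (.leaf [66,214,15,456])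 (.leaf [36,166,136,1301])) (.node (.leaf [39,214,146,850]) (.leaf [66,257,1,1972])))) (.node (.node (.node (.leaf [38,45,58,291]) (.leaf [11,225,98,1233])) (.node (.leaf [2,106,57,798]) (.leaf [37,337,261,1850]))) (.node (.node (.leaf [19,261,105,509]) (.leaf [19,337,27,1571])) (.node (.leaf [20,86,85,1131]) (.leaf [])))))) (.node (.node (.node (.node (.node (.leaf [66,212,7,76]) (.leaf [10,229,215,1164])) (.node (.leaf [36,134,104,694]) (.leaf [10,257,12,1628]))) (.node (.node (.leaf [37,332,228,328]) (.leaf [117,86,50,1283])) (.node (.leaf [36,29,1,845]) (.leaf [36,335,225,1915])))) (.node (.node (.node (.leaf [22,27,105,205]) (.leaf [9,343,44,1213])) (.node (.leaf [10,49,226,784]) (.leaf [69,332,134,1723]))) (.node (.node (.leaf [5,87,25,486]) (.leaf [20,143,261,1555])) (.node (.leaf [116,143,87,1084]) (.leaf []))))) (.node (.node (.node (.node (.leaf [69,215,222,132]) (.leaf [40,98,86,1201]))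 (.node (.leaf [36,337,47,752]) (.leaf [39,337,260,1670]))) (.node (.node (.leaf [69,215,29,470]) (.leaf [9,228,6,1508])) (.node (.leaf [117,44,102,870]) (.leaf [39,58,145,2033])))) (.node (.node (.node (.leaf [66,214,15,305]) (.leaf [5,149,136,1249])) (.node (.leaf [21,335,143,803]) (.leaf [36,332,25,1876]))) (.node (.node (.leaf [19,343,220,526]) (.leaf [11,17,26,1583])) (.node (.leaf [9,145,13,1143]) (.leaf []))))))))

def lK_23 : CfsgLib.Coset.Tr (List Nat) := (.node (.node (.node (.node (.node (.node (.node (.leaf [5,6,15,42]) (.leaf [5,226,30,1147])) (.node (.leaf [66,212,149,535]) (.leaf [5,215,107,1591]))) (.node (.node (.leaf [117,138,7,314]) (.leaf [67,97,44,1266])) (.node (.leaf [10,212,147,812]) (.leaf [37,54,3,1896])))) (.node (.node (.node (.leaf [22,27,58,190]) (.leaf [117,260,106,1205])) (.node (.leaf [66,333,15,769]) (.leaf [9,15,214,1676]))) (.node (.node (.leaf [39,88,60,475]) (.leaf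 [66,343,12,1542])) (.node (.leaf [9,139,220,874]) (.leaf []))))) (.node (.node (.node (.node (.leaf [66,212,7,122]) (.leaf [40,107,106,1176])) (.node (.leaf [69,332,49,741]) (.leaf [37,54,3,1636]))) (.node (.node (.leaf [67,215,149,428]) (.leaf [39,228,134,1300])) (.node (.leaf [10,212,15,849]) (.leaf [20,216,257,1949])))) (.node (.node (.node (.leaf [22,27,105,211]) (.leaf [10,257,29,1220])) (.node (.leaf [2,87,228,796]) (.leaf [69,335,166,1835]))) (.node (.node (.leaf [66,333,15,508]) (.leaf [40,134,229,1560])) (.node (.leaf [67,343,87,1130]) (.leaf [])))))) (.node (.node (.node (.node (.node (.leaf [10,13,30,73]) (.leaf [11,229,49,1163])) (.node (.leaf [67,215,6,687]) (.leaf [67,333,226,1626]))) (.node (.node (.leaf [37,343,55,326]) (.leaf [10,257,29,1273])) (.node (.leaf [10,229,215,835]) (.leaf [2,7,24,1914])))) (.node (.node (.node (.leaf [68,214,4,204]) (.leaf [19,102,78,1211])) (.node (.leaf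 [21,260,80,780]) (.leaf [20,337,29,1701]))) (.node (.node (.leaf [22,80,106,484]) (.leaf [117,260,146,1554])) (.node (.leaf [5,149,12,1083]) (.leaf []))))) (.node (.node (.node (.node (.leaf [9,12,49,131]) (.leaf [2,147,57,1200])) (.node (.leaf [21,105,147,750]) (.leaf [21,336,98,1657]))) (.node (.node (.leaf [37,260,8,467]) (.leaf [66,257,173,1499])) (.node (.leaf [9,335,60,865]) (.leaf [20,337,6,2029])))) (.node (.node (.node (.leaf [19,24,220,302]) (.leaf [36,166,85,1248])) (.node (.leaf [116,220,24,802]) (.leaf [36,257,136,1859]))) (.node (.node (.leaf [66,226,55,524]) (.leaf [66,54,1,1582])) (.node (.leaf [36,332,215,1141]) (.leaf []))))))) (.node (.node (.node (.node (.node (.node (.leaf [116,134,4,71]) (.leaf [11,145,168,1156])) (.node (.leaf [20,332,104,538]) (.leaf [36,332,25,1605]))) (.node (.node (.leaf [39,48,333,318]) (.leaf [40,98,86,1269])) (.node (.leaf [37,333,14,833]) (.leaf [37,168,214,1906]))))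 (.node (.node (.node (.leaf [39,48,32,196]) (.leaf [21,336,27,1208])) (.node (.leaf [21,343,228,771]) (.leaf [2,7,24,1697]))) (.node (.node (.leaf [36,335,30,482]) (.leaf [5,88,262,1551])) (.node (.leaf [11,262,59,1023]) (.leaf []))))) (.node (.node (.node (.node (.leaf [19,83,98,124]) (.leaf [67,229,105,1184])) (.node (.leaf [116,260,29,748]) (.leaf [5,225,214,1641]))) (.node (.node (.leaf [20,147,60,457]) (.leaf [10,212,24,1470])) (.node (.leaf [117,78,97,860]) (.leaf [68,336,104,1973])))) (.node (.node (.node (.leaf [117,80,7,297]) (.leaf [21,333,261,1244])) (.node (.leaf [11,225,104,799]) (.leaf [19,333,3,1856]))) (.node (.node (.leaf [21,343,228,510]) (.leaf [19,29,31,1572])) (.node (.leaf [116,261,24,1139]) (.leaf [])))))) (.node (.node (.node (.node (.node (.leaf [37,44,15,118]) (.leaf [38,260,32,1171])) (.node (.leaf [116,139,145,696]) (.leaf [22,212,107,1630]))) (.node (.node (.leaf [38,335,4,330])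 (.leaf [5,215,216,1287])) (.node (.leaf [40,55,80,846]) (.leaf [68,216,3,1930])))) (.node (.node (.node (.leaf [19,24,220,208]) (.leaf [117,262,139,1214])) (.node (.leaf [20,86,6,786]) (.leaf [19,102,214,1726]))) (.node (.node (.leaf [69,336,49,499]) (.leaf [68,98,3,1558])) (.node (.leaf [2,89,78,1122]) (.leaf []))))) (.node (.node (.node (.node (.leaf [19,24,4,187]) (.leaf [40,166,149,1202])) (.node (.leaf [22,139,89,753]) (.leaf [9,336,50,1673]))) (.node (.node (.leaf [9,261,216,471]) (.leaf [22,32,87,1510])) (.node (.leaf [36,226,14,872]) (.leaf [117,98,83,2046])))) (.node (.node (.node (.leaf [20,147,60,306]) (.leaf [36,222,17,1253])) (.node (.leaf [5,106,229,804]) (.leaf [39,216,139,1888]))) (.node (.node (.leaf [5,173,15,532]) (.leaf [22,32,48,1584])) (.node (.leaf [116,220,55,1144]) (.leaf []))))))))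

def lK_24 : CfsgLib.Coset.Tr (List Nat) := (.node (.node (.node (.node (.node (.node (.node (.leaf [116,77,7,23]) (.leaf [2,87,260,1144])) (.node (.leaf [67,77,146,532]) (.leaf [19,215,77,1585]))) (.node (.node (.leaf [20,147,225,306]) (.leaf [69,57,147,1253])) (.node (.leaf [67,262,83,805]) (.leaf [9,146,260,1888])))) (.node (.node (.node (.leaf [68,77,29,187]) (.leaf [66,343,97,1203])) (.node (.leaf [22,139,343,753]) (.leaf [9,336,136,1673]))) (.node (.node (.leaf [37,343,17,472]) (.leaf [22,32,226,1510])) (.node (.leaf [69,47,143,872]) (.leaf []))))) (.node (.node (.node (.node (.leaf [9,12,57,118]) (.leaf [38,260,145,1171])) (.node (.leaf [10,262,30,697]) (.leaf [22,212,333,1630]))) (.node (.node (.leaf [37,343,139,330]) (.leaf [2,89,44,1298])) (.node (.leaf [2,138,261,846]) (.leaf [19,337,143,1930])))) (.node (.node (.node (.leaf [19,343,30,209]) (.leaf [40,102,260,1214])) (.node (.leaf [68,257,80,786])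 (.leaf [19,333,31,1727]))) (.node (.node (.leaf [11,226,335,499]) (.leaf [19,102,27,1558])) (.node (.leaf [2,89,44,1127]) (.leaf [])))))) (.node (.node (.node (.node (.node (.leaf [2,3,98,71]) (.leaf [67,262,58,1160])) (.node (.leaf [68,261,337,538]) (.leaf [36,332,145,1605]))) (.node (.node (.leaf [69,215,15,324]) (.leaf [2,145,260,1269])) (.node (.leaf [39,228,145,833]) (.leaf [38,216,44,1907])))) (.node (.node (.node (.leaf [39,48,166,196]) (.leaf [20,143,257,1208])) (.node (.leaf [67,136,30,777]) (.leaf [117,54,77,1697]))) (.node (.node (.leaf [10,104,107,482]) (.leaf [40,78,80,1552])) (.node (.leaf [11,262,257,1023]) (.leaf []))))) (.node (.node (.node (.node (.leaf [66,83,31,126]) (.leaf [22,257,262,1184])) (.node (.leaf [40,55,87,748]) (.leaf [21,333,50,1642]))) (.node (.node (.leaf [20,147,225,457]) (.leaf [10,212,222,1470])) (.node (.leaf [36,212,58,861]) (.leaf [68,336,343,1973])))) (.node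 (.node (.node (.leaf [116,139,86,297]) (.leaf [68,98,30,1245])) (.node (.leaf [10,85,337,799]) (.leaf [20,30,105,1856]))) (.node (.node (.leaf [68,261,83,512]) (.leaf [20,220,335,1572])) (.node (.leaf [40,45,138,1139]) (.leaf []))))))) (.node (.node (.node (.node (.node (.node (.leaf [5,6,97,42]) (.leaf [22,146,214,1147])) (.node (.leaf [19,343,26,536]) (.leaf [22,136,225,1591]))) (.node (.node (.leaf [40,50,106,314]) (.leaf [69,98,14,1267])) (.node (.leaf [11,143,335,812]) (.leaf [38,57,13,1896])))) (.node (.node (.node (.leaf [69,136,17,192]) (.leaf [40,166,262,1205])) (.node (.leaf [22,86,225,769]) (.leaf [68,216,30,1678]))) (.node (.node (.leaf [39,88,222,475]) (.leaf [22,80,215,1542])) (.node (.leaf [9,343,106,875]) (.leaf []))))) (.node (.node (.node (.node (.leaf [67,136,146,122]) (.leaf [37,136,47,1178])) (.node (.leaf [11,143,337,741]) (.leaf [38,57,13,1636]))) (.node (.node (.leaf [68,212,17,454])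 (.leaf [37,166,335,1300])) (.node (.leaf [11,143,149,849]) (.leaf [68,216,26,1969])))) (.node (.node (.node (.leaf [66,226,225,211]) (.leaf [69,337,212,1220])) (.node (.leaf [116,261,55,797]) (.leaf [11,147,336,1835]))) (.node (.node (.leaf [22,86,225,508]) (.leaf [10,168,89,1565])) (.node (.leaf [22,146,333,1130]) (.leaf [])))))) (.node (.node (.node (.node (.node (.leaf [69,78,17,74]) (.leaf [69,98,262,1163])) (.node (.leaf [66,83,106,687]) (.leaf [37,226,57,1627]))) (.node (.node (.leaf [39,261,333,326]) (.leaf [69,337,212,1273])) (.node (.leaf [22,149,48,837]) (.leaf [117,54,77,1914])))) (.node (.node (.node (.leaf [19,332,147,204]) (.leaf [40,78,59,1212])) (.node (.leaf [21,260,337,780]) (.leaf [21,333,212,1701]))) (.node (.node (.leaf [11,215,58,485]) (.leaf [40,83,262,1554])) (.node (.leaf [67,97,139,1083]) (.leaf []))))) (.node (.node (.node (.node (.leaf [38,214,337,131]) (.leaf [117,262,143,1200]))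 (.node (.leaf [22,80,26,751]) (.leaf [19,225,335,1657]))) (.node (.node (.leaf [9,335,220,467]) (.leaf [117,145,50,1500])) (.node (.leaf [39,214,336,865]) (.leaf [21,104,225,2029])))) (.node (.node (.node (.leaf [68,212,17,303]) (.leaf [69,168,262,1248])) (.node (.leaf [40,45,105,802]) (.leaf [36,222,13,1860]))) (.node (.node (.leaf [22,173,222,524]) (.leaf [67,97,25,1582])) (.node (.leaf [39,59,14,1142]) (.leaf []))))))))

def lK_25 : CfsgLib.Coset.Tr (List Nat) := (.node (.node (.node (.node (.node (.node (.node (.leaf [2,3,54,41]) (.leaf [66,333,77,1146])) (.node (.leaf [68,214,220,533]) (.leaf [116,146,80,1589]))) (.node (.node (.leaf [116,143,49,313]) (.leaf [20,30,77,1264])) (.node (.leaf [117,228,106,806]) (.leaf [9,333,88,1892])))) (.node (.node (.node (.leaf [21,26,102,188]) (.leaf [40,78,145,1204])) (.node (.leaf [66,222,26,766]) (.leaf [37,54,261,1674]))) (.node (.node (.leaf [11,143,107,474])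 (.leaf [5,87,54,1541])) (.node (.leaf [37,134,336,873]) (.leaf []))))) (.node (.node (.node (.node (.leaf [69,78,17,120]) (.leaf [2,107,98,1175])) (.node (.leaf [11,262,166,729]) (.leaf [9,333,88,1633]))) (.node (.node (.leaf [116,147,145,331]) (.leaf [21,343,257,1299])) (.node (.leaf [9,138,44,848]) (.leaf [68,228,332,1946])))) (.node (.node (.node (.leaf [20,25,87,210]) (.leaf [117,262,88,1216])) (.node (.leaf [2,138,261,795]) (.leaf [5,8,136,1805]))) (.node (.node (.leaf [40,89,85,502]) (.leaf [2,105,261,1559])) (.node (.leaf [11,222,173,1129]) (.leaf [])))))) (.node (.node (.node (.node (.node (.leaf [9,12,57,72]) (.leaf [39,228,145,1162])) (.node (.leaf [39,261,32,664]) (.leaf [22,168,215,1625]))) (.node (.node (.leaf [38,214,54,325]) (.leaf [19,215,77,1272])) (.node (.leaf [69,98,262,834]) (.leaf [38,216,106,1909])))) (.node (.node (.node (.leaf [116,139,59,202]) (.leaf [22,139,262,1209]))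 (.node (.leaf [22,173,105,778]) (.leaf [11,215,78,1699]))) (.node (.node (.leaf [20,143,215,483]) (.leaf [2,104,134,1553])) (.node (.leaf [117,138,89,1070]) (.leaf []))))) (.node (.node (.node (.node (.leaf [36,212,104,128]) (.leaf [37,166,14,1187])) (.node (.leaf [10,104,336,749]) (.leaf [5,222,212,1643]))) (.node (.node (.leaf [116,143,49,464]) (.leaf [9,343,337,1471])) (.node (.leaf [117,80,89,862]) (.leaf [36,222,13,2022])))) (.node (.node (.node (.leaf [21,26,337,299]) (.leaf [20,220,105,1246])) (.node (.leaf [38,222,27,801]) (.leaf [39,58,343,1858]))) (.node (.node (.leaf [5,173,86,523]) (.leaf [68,97,6,1580])) (.node (.leaf [40,102,228,1140]) (.leaf []))))))) (.node (.node (.node (.node (.node (.node (.leaf [66,44,8,70]) (.leaf [40,83,261,1148])) (.node (.leaf [19,83,147,537]) (.leaf [37,226,49,1604]))) (.node (.node (.leaf [39,49,336,317]) (.leaf [66,102,45,1268])) (.node (.leaf [67,262,58,829])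 (.leaf [19,225,335,1900])))) (.node (.node (.node (.leaf [38,214,88,195]) (.leaf [2,143,102,1207])) (.node (.leaf [20,214,228,770]) (.leaf [68,97,104,1681]))) (.node (.node (.leaf [116,260,45,481]) (.leaf [39,58,134,1544])) (.node (.leaf [66,102,88,876]) (.leaf []))))) (.node (.node (.node (.node (.leaf [20,25,97,123]) (.leaf [21,333,225,1183])) (.node (.leaf [69,337,26,743]) (.leaf [22,212,333,1638]))) (.node (.node (.leaf [22,86,88,456]) (.leaf [10,229,25,1302])) (.node (.leaf [9,139,226,850]) (.leaf [5,8,136,1972])))) (.node (.node (.node (.leaf [39,49,17,293]) (.leaf [10,168,335,1233])) (.node (.leaf [117,261,104,798]) (.leaf [67,225,27,1851]))) (.node (.node (.leaf [20,214,228,509]) (.leaf [21,220,86,1571])) (.node (.leaf [116,261,54,1138]) (.leaf [])))))) (.node (.node (.node (.node (.node (.leaf [67,136,146,76]) (.leaf [69,57,12,1170])) (.node (.leaf [69,136,229,694]) (.leaf [11,147,173,1628])))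 (.node (.node (.leaf [37,332,48,329]) (.leaf [40,60,139,1283])) (.node (.leaf [69,57,24,845]) (.leaf [19,228,87,1929])))) (.node (.node (.node (.leaf [66,226,225,205]) (.leaf [39,332,222,1213])) (.node (.leaf [67,343,58,785]) (.leaf [11,226,337,1723]))) (.node (.node (.leaf [67,333,105,486]) (.leaf [67,229,102,1556])) (.node (.leaf [40,60,147,1084]) (.leaf []))))) (.node (.node (.node (.node (.leaf [36,226,16,133]) (.leaf [2,145,260,1201])) (.node (.leaf [10,104,149,752]) (.leaf [37,226,49,1671]))) (.node (.node (.leaf [36,24,229,470]) (.leaf [38,57,106,1508])) (.node (.leaf [116,134,50,871]) (.leaf [39,58,343,2033])))) (.node (.node (.node (.leaf [22,86,88,305]) (.leaf [39,228,27,1252])) (.node (.leaf [19,261,336,803]) (.leaf [36,332,145,1876]))) (.node (.node (.leaf [19,332,32,527]) (.leaf [11,17,134,1583])) (.node (.leaf [9,145,88,1143]) (.leaf []))))))))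

def lK_26 : CfsgLib.Coset.Tr (List Nat) := (.node (.node (.node (.node (.node (.node (.node (.leaf [117,44,97,23]) (.leaf [20,147,212,1145])) (.node (.leaf [68,214,25,533]) (.leaf [19,215,336,1585]))) (.node (.node (.leaf [11,138,104,307]) (.leaf [68,97,6,1264])) (.node (.leaf [22,146,229,805]) (.leaf [39,337,226,1891])))) (.node (.node (.node (.leaf [21,26,17,188]) (.leaf [5,88,333,1203])) (.node (.leaf [11,226,149,764]) (.leaf [38,216,44,1674]))) (.node (.node (.leaf [39,261,333,472]) (.leaf [117,98,77,1536])) (.node (.leaf [39,261,32,873]) (.leaf []))))) (.node (.node (.node (.node (.leaf [69,47,29,119]) (.leaf [2,107,55,1175])) (.node (.leaf [36,226,229,697]) (.leaf [39,337,226,1632]))) (.node (.node (.leaf [117,138,60,331]) (.leaf [117,54,134,1298])) (.node (.leaf [39,88,136,847]) (.leaf [20,337,85,1946])))) (.node (.node (.node (.leaf [20,25,336,209]) (.leaf [2,147,166,1215])) (.node (.leaf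 [116,262,45,795]) (.leaf [68,97,343,1727]))) (.node (.node (.leaf [22,149,87,501]) (.leaf [40,78,59,1559])) (.node (.leaf [117,54,134,1127]) (.leaf [])))))) (.node (.node (.node (.node (.node (.leaf [9,12,8,72]) (.leaf [5,105,257,1160])) (.node (.leaf [117,145,107,539]) (.leaf [5,225,89,1625]))) (.node (.node (.leaf [36,24,229,324]) (.leaf [117,228,147,1270])) (.node (.leaf [36,257,48,834]) (.leaf [37,54,261,1907])))) (.node (.node (.node (.leaf [9,139,60,198]) (.leaf [67,229,102,1209])) (.node (.leaf [5,173,168,777]) (.leaf [36,257,85,1698]))) (.node (.node (.leaf [21,105,27,483]) (.leaf [2,138,220,1552])) (.node (.leaf [21,343,257,1039]) (.leaf []))))) (.node (.node (.node (.node (.leaf [22,27,102,126]) (.leaf [22,80,215,1185])) (.node (.leaf [11,145,58,749]) (.leaf [20,337,343,1642]))) (.node (.node (.leaf [11,138,104,458]) (.leaf [39,332,60,1471])) (.node (.leaf [11,262,257,861]) (.leaf [2,7,78,1985]))))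 (.node (.node (.node (.leaf [68,214,31,299]) (.leaf [21,220,332,1245])) (.node (.leaf [9,146,50,800]) (.leaf [38,336,48,1858]))) (.node (.node (.leaf [68,261,337,512]) (.leaf [5,149,80,1574])) (.node (.leaf [2,106,83,1140]) (.leaf []))))))) (.node (.node (.node (.node (.node (.node (.leaf [2,3,98,43]) (.leaf [117,228,85,1148])) (.node (.leaf [68,77,333,536]) (.leaf [39,337,168,1603]))) (.node (.node (.leaf [39,49,45,317]) (.leaf [11,17,134,1267])) (.node (.leaf [10,136,149,825]) (.leaf [19,225,97,1900])))) (.node (.node (.node (.leaf [11,14,257,192]) (.leaf [2,147,166,1206])) (.node (.leaf [21,87,78,770]) (.leaf [68,216,260,1678]))) (.node (.node (.leaf [11,147,89,476]) (.leaf [37,166,14,1544])) (.node (.leaf [38,260,333,875]) (.leaf []))))) (.node (.node (.node (.node (.leaf [68,77,8,123]) (.leaf [39,214,336,1178])) (.node (.leaf [9,138,106,742]) (.leaf [67,343,83,1638]))) (.node (.node (.leaf [21,85,257,454])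 (.leaf [11,229,134,1301])) (.node (.leaf [37,260,47,850]) (.leaf [21,31,332,1969])))) (.node (.node (.node (.leaf [37,134,55,291]) (.leaf [10,168,89,1233])) (.node (.leaf [2,145,262,797]) (.leaf [38,57,106,1850]))) (.node (.node (.leaf [21,87,78,509]) (.leaf [10,168,335,1565])) (.node (.leaf [68,257,80,1131]) (.leaf [])))))) (.node (.node (.node (.node (.node (.leaf [11,14,166,74]) (.leaf [10,229,138,1164])) (.node (.leaf [11,262,31,694]) (.leaf [9,146,260,1627]))) (.node (.node (.leaf [38,47,88,328]) (.leaf [116,146,49,1283])) (.node (.leaf [66,102,215,837]) (.leaf [11,215,168,1915])))) (.node (.node (.node (.leaf [67,215,32,205]) (.leaf [2,105,261,1212])) (.node (.leaf [11,222,173,784]) (.leaf [11,226,107,1723]))) (.node (.node (.leaf [10,104,332,485]) (.leaf [20,143,257,1555])) (.node (.leaf [117,145,50,1084]) (.leaf []))))) (.node (.node (.node (.node (.leaf [10,13,145,132]) (.leaf [116,220,78,1201]))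 (.node (.leaf [5,88,214,751]) (.leaf [39,337,168,1670]))) (.node (.node (.leaf [69,215,15,470]) (.leaf [40,60,147,1500])) (.node (.leaf [116,134,89,870]) (.leaf [38,336,48,2033])))) (.node (.node (.node (.leaf [21,85,257,303]) (.leaf [5,149,80,1249])) (.node (.leaf [19,261,77,803]) (.leaf [69,225,226,1860]))) (.node (.node (.leaf [20,260,97,526]) (.leaf [69,98,14,1583])) (.node (.leaf [39,59,139,1142]) (.leaf []))))))))

def lK_27 : CfsgLib.Coset.Tr (List Nat) := (.node (.node (.node (.node (.node (.node (.node (.leaf [66,44,8,42]) (.leaf [5,106,343,1146])) (.node (.leaf [67,77,146,535]) (.leaf [66,214,77,1591]))) (.node (.node (.leaf [40,89,147,313]) (.leaf [67,97,25,1266])) (.node (.leaf [69,336,134,812]) (.leaf [38,220,343,1892])))) (.node (.node (.node (.leaf [66,83,55,190]) (.leaf [2,104,97,1205])) (.node (.leaf [22,149,226,766]) (.leaf [38,216,106,1676]))) (.node (.node (.leaf [38,226,32,475])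 (.leaf [22,257,262,1541])) (.node (.leaf [37,260,216,874]) (.leaf []))))) (.node (.node (.node (.node (.leaf [11,14,166,120]) (.leaf [117,80,89,1176])) (.node (.leaf [69,332,31,741]) (.leaf [38,220,343,1633]))) (.node (.node (.leaf [66,83,106,428]) (.leaf [39,228,27,1300])) (.node (.leaf [9,138,337,848]) (.leaf [21,105,214,1949])))) (.node (.node (.node (.leaf [67,215,32,211]) (.leaf [40,134,260,1216])) (.node (.leaf [40,98,105,796]) (.leaf [10,257,143,1835]))) (.node (.node (.leaf [40,89,139,502]) (.leaf [2,106,166,1560])) (.node (.leaf [67,343,58,1130]) (.leaf [])))))) (.node (.node (.node (.node (.node (.leaf [69,47,29,73]) (.leaf [36,257,48,1163])) (.node (.leaf [37,134,336,664]) (.leaf [5,222,212,1626]))) (.node (.node (.leaf [37,343,17,326]) (.leaf [19,215,336,1272])) (.node (.leaf [10,229,138,835]) (.leaf [116,97,3,1914])))) (.node (.node (.node (.leaf [40,50,146,202]) (.leaf [19,102,27,1211]))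 (.node (.leaf [19,332,32,780]) (.leaf [10,136,336,1699]))) (.node (.node (.leaf [5,88,89,484]) (.leaf [2,143,102,1554])) (.node (.leaf [40,107,146,1070]) (.leaf []))))) (.node (.node (.node (.node (.leaf [37,332,15,131]) (.leaf [39,58,134,1187])) (.node (.leaf [19,225,87,750]) (.leaf [19,225,97,1657]))) (.node (.node (.leaf [40,89,147,464]) (.leaf [67,97,139,1499])) (.node (.leaf [37,136,47,865]) (.leaf [69,225,226,2022])))) (.node (.node (.node (.leaf [20,260,87,302]) (.leaf [11,229,26,1248])) (.node (.leaf [39,106,226,801]) (.leaf [36,257,85,1859]))) (.node (.node (.leaf [66,226,31,524]) (.leaf [20,30,77,1580])) (.node (.leaf [10,85,173,1141]) (.leaf []))))))) (.node (.node (.node (.node (.node (.node (.leaf [5,6,97,70]) (.leaf [10,136,149,1156])) (.node (.leaf [68,261,83,538]) (.leaf [39,59,335,1604]))) (.node (.node (.leaf [37,343,139,318]) (.leaf [116,220,78,1269])) (.node (.leaf [5,105,257,829])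 (.leaf [9,336,136,1906])))) (.node (.node (.node (.leaf [37,134,17,196]) (.leaf [40,83,262,1207])) (.node (.leaf [21,343,215,771]) (.leaf [116,97,3,1697]))) (.node (.node (.leaf [2,105,220,481]) (.leaf [66,343,136,1551])) (.node (.leaf [36,212,58,1023]) (.leaf []))))) (.node (.node (.node (.node (.leaf [19,83,32,124]) (.leaf [5,87,54,1184])) (.node (.leaf [11,147,332,743]) (.leaf [66,216,136,1641]))) (.node (.node (.leaf [21,87,32,457]) (.leaf [36,222,262,1302])) (.node (.leaf [116,77,89,860]) (.leaf [19,333,25,1973])))) (.node (.node (.node (.leaf [9,139,168,293]) (.leaf [21,333,225,1244])) (.node (.leaf [36,332,57,799]) (.leaf [22,32,226,1851]))) (.node (.node (.leaf [21,343,215,510]) (.leaf [68,336,24,1572])) (.node (.leaf [2,87,262,1138]) (.leaf [])))))) (.node (.node (.node (.node (.node (.leaf [9,12,8,118]) (.leaf [10,16,47,1170])) (.node (.leaf [116,139,105,696]) (.leaf [67,343,83,1630])))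 (.node (.node (.leaf [38,47,337,329]) (.leaf [66,214,168,1287])) (.node (.leaf [116,262,45,846]) (.leaf [20,216,261,1929])))) (.node (.node (.node (.leaf [20,260,87,208]) (.leaf [2,147,83,1214])) (.node (.leaf [22,146,333,785]) (.leaf [19,102,143,1726]))) (.node (.node (.leaf [69,336,31,499]) (.leaf [22,139,262,1556])) (.node (.leaf [117,98,77,1122]) (.leaf []))))) (.node (.node (.node (.node (.leaf [10,13,225,133]) (.leaf [117,228,147,1202])) (.node (.leaf [67,333,48,753]) (.leaf [39,59,335,1671]))) (.node (.node (.leaf [38,214,54,471]) (.leaf [67,225,27,1510])) (.node (.leaf [117,44,166,871]) (.leaf [2,7,78,2046])))) (.node (.node (.node (.leaf [21,87,32,306]) (.leaf [37,166,335,1252])) (.node (.leaf [66,333,168,804]) (.leaf [37,226,57,1888]))) (.node (.node (.leaf [21,260,337,527]) (.leaf [66,102,45,1584])) (.node (.leaf [40,45,49,1144]) (.leaf []))))))))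

def lK_28 : CfsgLib.Coset.Tr (List Nat) := (.node (.node (.node (.node (.node (.node (.node (.leaf [2,3,54,23]) (.leaf [19,261,77,1145])) (.node (.leaf [67,77,257,532]) (.leaf [21,335,216,1585]))) (.node (.node (.leaf [11,138,48,307]) (.leaf [36,222,262,1253])) (.node (.leaf [22,146,214,805]) (.leaf [9,333,54,1891])))) (.node (.node (.node (.leaf [20,25,97,187]) (.leaf [66,343,136,1203])) (.node (.leaf [69,336,31,764]) (.leaf [39,216,335,1673]))) (.node (.node (.leaf [39,261,138,472]) (.leaf [117,98,47,1536])) (.node (.leaf [36,226,229,872]) (.leaf []))))) (.node (.node (.node (.node (.leaf [69,47,15,119]) (.leaf [9,138,337,1171])) (.node (.leaf [69,47,143,697]) (.leaf [9,333,54,1632]))) (.node (.node (.leaf [37,343,336,330]) (.leaf [117,54,83,1298])) (.node (.leaf [9,343,106,847]) (.leaf [21,31,332,1930])))) (.node (.node (.node (.leaf [20,25,87,209]) (.leaf [117,261,139,1215])) (.node (.leaf [21,104,212,786])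 (.leaf [68,97,104,1727]))) (.node (.node (.leaf [66,222,26,501]) (.leaf [21,31,83,1558])) (.node (.leaf [117,54,83,1127]) (.leaf [])))))) (.node (.node (.node (.node (.node (.leaf [117,78,166,71]) (.leaf [22,212,214,1160])) (.node (.leaf [40,89,85,539]) (.leaf [10,168,337,1605]))) (.node (.node (.leaf [10,262,145,324]) (.leaf [2,143,134,1270])) (.node (.leaf [39,228,343,833]) (.leaf [9,228,59,1907])))) (.node (.node (.node (.leaf [39,49,17,198]) (.leaf [19,228,335,1208])) (.node (.leaf [5,173,86,777]) (.leaf [69,168,14,1698]))) (.node (.node (.leaf [10,104,336,482]) (.leaf [40,78,145,1552])) (.node (.leaf [21,343,60,1039]) (.leaf []))))) (.node (.node (.node (.node (.leaf [66,83,55,126]) (.leaf [22,80,55,1185])) (.node (.leaf [2,105,220,748]) (.leaf [21,333,212,1642]))) (.node (.node (.leaf [11,138,48,458]) (.leaf [11,226,337,1470])) (.node (.leaf [36,212,98,861]) (.leaf [116,166,3,1985])))) (.node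 (.node (.node (.leaf [40,50,146,297]) (.leaf [21,220,86,1245])) (.node (.leaf [39,59,14,800]) (.leaf [68,336,343,1856]))) (.node (.node (.leaf [21,85,215,512]) (.leaf [66,54,32,1574])) (.node (.leaf [2,145,262,1139]) (.leaf []))))))) (.node (.node (.node (.node (.node (.node (.leaf [116,134,7,43]) (.leaf [22,146,229,1147])) (.node (.leaf [20,260,97,536]) (.leaf [9,145,54,1603]))) (.node (.node (.leaf [116,147,145,314]) (.leaf [36,166,48,1267])) (.node (.leaf [11,145,78,825]) (.leaf [9,15,47,1896])))) (.node (.node (.node (.leaf [36,212,104,192]) (.leaf [117,261,139,1206])) (.node (.leaf [5,215,343,769]) (.leaf [19,102,143,1678]))) (.node (.node (.leaf [69,337,26,476]) (.leaf [5,225,333,1542])) (.node (.leaf [39,88,136,875]) (.leaf []))))) (.node (.node (.node (.node (.leaf [67,136,257,122]) (.leaf [9,335,168,1178])) (.node (.leaf [38,226,32,742]) (.leaf [9,15,47,1636]))) (.node (.node (.leaf [68,212,86,454])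 (.leaf [11,229,26,1301])) (.node (.leaf [11,143,335,849]) (.leaf [19,337,143,1969])))) (.node (.node (.node (.leaf [37,134,17,291]) (.leaf [11,222,332,1220])) (.node (.leaf [40,45,138,797]) (.leaf [9,228,47,1850]))) (.node (.node (.leaf [5,215,343,508]) (.leaf [11,225,136,1565])) (.node (.leaf [68,257,14,1131]) (.leaf [])))))) (.node (.node (.node (.node (.node (.leaf [36,134,58,74]) (.leaf [36,29,17,1164])) (.node (.leaf [66,83,225,687]) (.leaf [37,226,214,1627]))) (.node (.node (.leaf [37,332,48,328]) (.leaf [11,222,332,1273])) (.node (.leaf [66,102,88,837]) (.leaf [11,215,78,1915])))) (.node (.node (.node (.leaf [21,26,337,204]) (.leaf [116,262,98,1212])) (.node (.leaf [10,49,29,784]) (.leaf [20,337,343,1701]))) (.node (.node (.leaf [10,104,149,485]) (.leaf [19,228,97,1555])) (.node (.leaf [67,97,212,1083]) (.leaf []))))) (.node (.node (.node (.node (.leaf [36,226,16,132]) (.leaf [40,102,260,1200]))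 (.node (.leaf [5,88,89,751]) (.leaf [9,145,54,1670]))) (.node (.node (.leaf [39,49,336,467]) (.leaf [40,60,88,1500])) (.node (.leaf [116,134,50,870]) (.leaf [68,228,332,2029])))) (.node (.node (.node (.leaf [68,212,86,303]) (.leaf [66,54,32,1249])) (.node (.leaf [2,87,260,802]) (.leaf [69,225,147,1860]))) (.node (.node (.leaf [19,343,26,526]) (.leaf [5,8,77,1582])) (.node (.leaf [9,146,50,1142]) (.leaf []))))))))

def lK_29 : CfsgLib.Coset.Tr (List Nat) := (.node (.node (.node (.node (.node (.node (.node (.leaf [117,44,97,41]) (.leaf [66,333,168,1146])) (.node (.leaf [66,212,27,535]) (.leaf [40,60,139,1589]))) (.node (.node (.leaf [40,89,88,313]) (.leaf [66,54,6,1266])) (.node (.leaf [40,83,261,806]) (.leaf [39,106,168,1892])))) (.node (.node (.node (.leaf [66,83,31,190]) (.leaf [2,138,220,1204])) (.node (.leaf [22,149,87,766]) (.leaf [37,337,12,1676]))) (.node (.node (.leaf [11,143,337,474]) (.leaf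 [5,87,212,1541])) (.node (.leaf [37,260,47,874]) (.leaf []))))) (.node (.node (.node (.node (.leaf [36,134,58,120]) (.leaf [116,147,59,1176])) (.node (.leaf [69,136,229,729]) (.leaf [39,106,168,1633]))) (.node (.node (.leaf [22,173,58,428]) (.leaf [68,212,337,1299])) (.node (.leaf [38,260,145,848]) (.leaf [19,228,87,1949])))) (.node (.node (.node (.leaf [20,25,336,210]) (.leaf [2,106,166,1216])) (.node (.leaf [116,261,54,796]) (.leaf [67,168,212,1805]))) (.node (.node (.leaf [117,145,107,502]) (.leaf [117,262,88,1560])) (.node (.leaf [11,222,336,1129]) (.leaf [])))))) (.node (.node (.node (.node (.node (.leaf [69,47,15,73]) (.leaf [39,228,343,1162])) (.node (.leaf [39,261,166,664]) (.leaf [22,257,89,1626]))) (.node (.node (.leaf [37,44,228,325]) (.leaf [21,335,216,1272])) (.node (.leaf [36,29,17,835]) (.leaf [38,216,332,1909])))) (.node (.node (.node (.leaf [116,139,86,202]) (.leaf [21,31,14,1211]))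 (.node (.leaf [22,173,222,778]) (.leaf [11,215,168,1699]))) (.node (.node (.leaf [22,80,26,484]) (.leaf [40,166,262,1553])) (.node (.leaf [116,139,105,1070]) (.leaf []))))) (.node (.node (.node (.node (.leaf [11,14,257,128]) (.leaf [37,166,45,1187])) (.node (.leaf [21,105,27,750]) (.leaf [22,257,343,1643]))) (.node (.node (.leaf [40,89,88,464]) (.leaf [66,257,32,1499])) (.node (.leaf [40,107,143,862]) (.leaf [69,225,147,2022])))) (.node (.node (.node (.leaf [19,24,26,302]) (.leaf [20,220,335,1246])) (.node (.leaf [9,145,88,801]) (.leaf [69,168,14,1859]))) (.node (.node (.leaf [5,173,168,523]) (.leaf [68,97,24,1580])) (.node (.leaf [36,332,57,1141]) (.leaf []))))))) (.node (.node (.node (.node (.node (.node (.leaf [67,77,30,70]) (.leaf [11,145,78,1156])) (.node (.leaf [68,214,220,537]) (.leaf [9,336,222,1604]))) (.node (.node (.leaf [38,335,58,318]) (.leaf [22,32,83,1268])) (.node (.leaf [22,212,214,829])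 (.leaf [39,216,55,1906])))) (.node (.node (.node (.leaf [38,214,337,195]) (.leaf [117,260,147,1207])) (.node (.leaf [20,80,24,771]) (.leaf [68,97,343,1681]))) (.node (.node (.leaf [40,55,87,481]) (.leaf [66,343,97,1551])) (.node (.leaf [66,102,215,876]) (.leaf []))))) (.node (.node (.node (.node (.leaf [21,26,17,124]) (.leaf [20,86,343,1183])) (.node (.leaf [11,147,89,743]) (.leaf [5,225,89,1641]))) (.node (.node (.leaf [5,106,216,456]) (.leaf [69,57,147,1302])) (.node (.leaf [2,107,55,860]) (.leaf [67,168,212,1972])))) (.node (.node (.node (.leaf [9,139,60,293]) (.leaf [20,86,29,1244])) (.node (.leaf [40,102,228,798]) (.leaf [66,222,88,1851]))) (.node (.node (.leaf [20,80,24,510]) (.leaf [21,220,332,1571])) (.node (.leaf [40,98,105,1138]) (.leaf [])))))) (.node (.node (.node (.node (.node (.leaf [67,136,257,76]) (.leaf [69,57,24,1170])) (.node (.leaf [117,138,89,696]) (.leaf [11,147,336,1628])))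 (.node (.node (.leaf [38,47,88,329]) (.leaf [66,214,77,1287])) (.node (.leaf [10,16,47,845]) (.leaf [21,105,214,1929])))) (.node (.node (.node (.leaf [19,24,26,208]) (.leaf [9,343,337,1213])) (.node (.leaf [22,146,107,785]) (.leaf [68,216,30,1726]))) (.node (.node (.leaf [22,139,343,486]) (.leaf [22,139,216,1556])) (.node (.leaf [117,98,47,1122]) (.leaf []))))) (.node (.node (.node (.node (.leaf [10,13,145,133]) (.leaf [2,143,134,1202])) (.node (.leaf [10,104,332,752]) (.leaf [9,336,222,1671]))) (.node (.node (.leaf [37,44,48,471]) (.leaf [38,57,332,1508])) (.node (.leaf [116,134,89,871]) (.leaf [116,166,3,2046])))) (.node (.node (.node (.leaf [5,106,216,305]) (.leaf [37,166,146,1252])) (.node (.leaf [66,333,77,804]) (.leaf [10,168,337,1876]))) (.node (.node (.leaf [19,332,98,527]) (.leaf [66,102,26,1584])) (.node (.leaf [39,106,226,1143]) (.leaf []))))))))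

def lK_30 : CfsgLib.Coset.Tr (List Nat) := (.node (.node (.node (.node (.node (.node (.node (.leaf [116,77,7,41]) (.leaf [19,261,336,1145])) (.node (.leaf [19,83,147,533]) (.leaf [116,146,49,1589]))) (.node (.node (.leaf [10,85,335,307]) (.leaf [68,97,24,1264])) (.node (.leaf [117,228,85,806]) (.leaf [38,222,343,1891])))) (.node (.node (.node (.leaf [19,83,32,188]) (.leaf [40,78,80,1204])) (.node (.leaf [11,226,335,764]) (.leaf [9,228,59,1674]))) (.node (.node (.leaf [69,332,31,474]) (.leaf [116,97,107,1536])) (.node (.leaf [39,261,166,873]) (.leaf []))))) (.node (.node (.node (.node (.leaf [10,13,57,119]) (.leaf [116,77,89,1175])) (.node (.leaf [11,262,31,729]) (.leaf [38,222,343,1632]))) (.node (.node (.leaf [40,50,106,331]) (.leaf [21,343,60,1299])) (.node (.leaf [38,260,333,847]) (.leaf [21,104,225,1946])))) (.node (.node (.node (.leaf [19,343,30,210]) (.leaf [40,134,228,1215])) (.node (.leaf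 [40,55,145,795]) (.leaf [66,257,6,1805]))) (.node (.node (.leaf [22,149,226,501]) (.leaf [116,262,98,1559])) (.node (.leaf [10,49,29,1129]) (.leaf [])))))) (.node (.node (.node (.node (.node (.leaf [38,47,16,72]) (.leaf [38,55,15,1162])) (.node (.leaf [40,89,139,539]) (.leaf [66,216,136,1625]))) (.node (.node (.leaf [37,44,48,325]) (.leaf [40,166,261,1270])) (.node (.leaf [36,257,78,834]) (.leaf [37,337,12,1909])))) (.node (.node (.node (.leaf [9,139,168,198]) (.leaf [22,139,216,1209])) (.node (.leaf [66,226,31,778]) (.leaf [11,17,212,1698]))) (.node (.node (.leaf [19,225,87,483]) (.leaf [2,104,97,1553])) (.node (.leaf [68,212,337,1039]) (.leaf []))))) (.node (.node (.node (.node (.leaf [69,136,17,128]) (.leaf [5,225,333,1185])) (.node (.leaf [10,104,107,749]) (.leaf [22,257,89,1643]))) (.node (.node (.leaf [10,85,335,458]) (.leaf [39,332,222,1471])) (.node (.leaf [116,147,59,862]) (.leaf [117,98,134,1985]))))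 (.node (.node (.node (.leaf [19,332,147,299]) (.leaf [68,336,24,1246])) (.node (.leaf [39,59,139,800]) (.leaf [37,333,146,1858]))) (.node (.node (.leaf [67,136,30,523]) (.leaf [66,54,173,1574])) (.node (.leaf [117,261,104,1140]) (.leaf []))))))) (.node (.node (.node (.node (.node (.node (.leaf [117,78,166,43]) (.leaf [117,228,106,1148])) (.node (.leaf [68,214,25,537]) (.leaf [9,145,332,1603]))) (.node (.node (.leaf [9,335,220,317]) (.leaf [66,102,26,1268])) (.node (.leaf [10,136,332,825]) (.leaf [21,336,214,1900])))) (.node (.node (.node (.leaf [37,332,15,195]) (.leaf [40,134,228,1206])) (.node (.leaf [20,214,212,770]) (.leaf [19,333,31,1681]))) (.node (.node (.leaf [11,147,332,476]) (.leaf [37,166,45,1544])) (.node (.leaf [22,149,48,876]) (.leaf []))))) (.node (.node (.node (.node (.leaf [68,77,29,123]) (.leaf [20,86,29,1183])) (.node (.leaf [39,88,222,742]) (.leaf [67,343,222,1638]))) (.node (.node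 (.leaf [22,86,31,456]) (.leaf [69,168,262,1301])) (.node (.leaf [37,260,216,850]) (.leaf [66,257,6,1972])))) (.node (.node (.node (.leaf [39,48,166,291]) (.leaf [11,225,136,1233])) (.node (.leaf [2,106,83,798]) (.leaf [38,57,332,1850]))) (.node (.node (.leaf [20,214,212,509]) (.leaf [68,98,30,1571])) (.node (.leaf [21,104,212,1131]) (.leaf [])))))) (.node (.node (.node (.node (.node (.leaf [66,212,8,76]) (.leaf [36,29,262,1164])) (.node (.leaf [11,262,166,694]) (.leaf [10,257,143,1628]))) (.node (.node (.leaf [38,47,337,328]) (.leaf [116,146,80,1283])) (.node (.leaf [69,57,12,845]) (.leaf [10,136,336,1915])))) (.node (.node (.node (.leaf [66,226,106,205]) (.leaf [39,332,60,1213])) (.node (.leaf [11,222,336,784]) (.leaf [10,212,222,1723]))) (.node (.node (.leaf [67,333,48,486]) (.leaf [19,228,335,1555])) (.node (.leaf [40,60,88,1084]) (.leaf []))))) (.node (.node (.node (.node (.leaf [10,13,225,132])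 (.leaf [40,98,138,1201])) (.node (.leaf [11,215,58,752]) (.leaf [9,145,332,1670]))) (.node (.node (.leaf [10,262,145,470]) (.leaf [9,228,47,1508])) (.node (.leaf [117,44,166,870]) (.leaf [37,333,146,2033])))) (.node (.node (.node (.leaf [22,86,31,305]) (.leaf [66,54,173,1249])) (.node (.leaf [20,147,212,803]) (.leaf [11,138,98,1876]))) (.node (.node (.leaf [68,77,333,526]) (.leaf [36,166,48,1583])) (.node (.leaf [38,222,27,1143]) (.leaf []))))))))

def lK_31 : CfsgLib.Coset.Tr (List Nat) := (.node (.node (.node (.node (.node (.node (.node (.leaf [67,77,30,42]) (.leaf [67,262,83,1147])) (.node (.leaf [67,77,257,535]) (.leaf [66,214,168,1591]))) (.node (.node (.leaf [117,138,60,314]) (.leaf [5,8,77,1266])) (.node (.leaf [11,143,149,812]) (.leaf [9,15,6,1896])))) (.node (.node (.node (.leaf [22,27,102,190]) (.leaf [2,104,134,1205])) (.node (.leaf [22,86,45,769]) (.leaf [38,216,332,1676]))) (.node (.node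 (.leaf [9,138,106,475]) (.leaf [22,80,55,1542])) (.node (.leaf [9,139,226,874]) (.leaf []))))) (.node (.node (.node (.node (.leaf [66,212,8,122]) (.leaf [40,107,143,1176])) (.node (.leaf [11,143,107,741]) (.leaf [9,15,6,1636]))) (.node (.node (.leaf [66,83,225,428]) (.leaf [37,166,146,1300])) (.node (.leaf [69,336,134,849]) (.leaf [20,216,261,1949])))) (.node (.node (.node (.leaf [66,226,106,211]) (.leaf [11,222,89,1220])) (.node (.leaf [2,87,262,796]) (.leaf [11,147,173,1835]))) (.node (.node (.leaf [22,86,45,508]) (.leaf [40,134,260,1560])) (.node (.leaf [22,146,107,1130]) (.leaf [])))))) (.node (.node (.node (.node (.node (.leaf [10,13,57,73]) (.leaf [36,257,78,1163])) (.node (.leaf [22,173,58,687]) (.leaf [22,257,343,1626]))) (.node (.node (.leaf [39,261,138,326]) (.leaf [11,222,89,1273])) (.node (.leaf [36,29,262,835]) (.leaf [2,7,44,1914])))) (.node (.node (.node (.leaf [68,214,31,204]) (.leaf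 [21,31,83,1211])) (.node (.leaf [19,332,98,780]) (.leaf [21,333,50,1701]))) (.node (.node (.leaf [5,88,214,484]) (.leaf [117,260,147,1554])) (.node (.leaf [66,257,32,1083]) (.leaf []))))) (.node (.node (.node (.node (.leaf [38,214,88,131]) (.leaf [2,147,83,1200])) (.node (.leaf [20,143,215,750]) (.leaf [21,336,214,1657]))) (.node (.node (.leaf [39,49,45,467]) (.leaf [67,97,212,1499])) (.node (.leaf [9,335,168,865]) (.leaf [20,337,85,2029])))) (.node (.node (.node (.leaf [20,260,336,302]) (.leaf [11,229,134,1248])) (.node (.leaf [40,45,49,802]) (.leaf [11,17,212,1859]))) (.node (.node (.leaf [22,173,105,524]) (.leaf [66,54,6,1582])) (.node (.leaf [10,85,337,1141]) (.leaf []))))))) (.node (.node (.node (.node (.node (.node (.leaf [116,134,7,71]) (.leaf [10,136,332,1156])) (.node (.leaf [21,85,215,538]) (.leaf [11,138,98,1605]))) (.node (.node (.leaf [37,343,336,318]) (.leaf [40,98,138,1269])) (.node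 (.leaf [38,55,15,833]) (.leaf [39,216,335,1906])))) (.node (.node (.node (.leaf [37,134,55,196]) (.leaf [19,228,97,1208])) (.node (.leaf [20,80,333,771]) (.leaf [2,7,44,1697]))) (.node (.node (.leaf [11,145,58,482]) (.leaf [5,88,333,1551])) (.node (.leaf [36,212,98,1023]) (.leaf []))))) (.node (.node (.node (.node (.leaf [21,26,102,124]) (.leaf [5,87,212,1184])) (.node (.leaf [116,260,45,748]) (.leaf [22,168,215,1641]))) (.node (.node (.leaf [19,215,105,457]) (.leaf [11,226,107,1470])) (.node (.leaf [2,107,98,860]) (.leaf [20,30,105,1973])))) (.node (.node (.node (.leaf [116,139,59,297]) (.leaf [20,86,343,1244])) (.node (.leaf [10,85,173,799]) (.leaf [19,333,25,1856]))) (.node (.node (.leaf [20,80,333,510]) (.leaf [20,220,105,1572])) (.node (.leaf [116,261,55,1139]) (.leaf [])))))) (.node (.node (.node (.node (.node (.leaf [38,47,16,118]) (.leaf [9,138,44,1171])) (.node (.leaf [40,107,146,696]) (.leaf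 [67,343,222,1630]))) (.node (.node (.leaf [38,335,58,330]) (.leaf [22,136,225,1287])) (.node (.leaf [40,55,145,846]) (.leaf [68,216,26,1930])))) (.node (.node (.node (.leaf [20,260,336,208]) (.leaf [117,262,143,1214])) (.node (.leaf [68,257,14,786]) (.leaf [68,216,260,1726]))) (.node (.node (.leaf [11,226,149,499]) (.leaf [21,31,14,1558])) (.node (.leaf [116,97,107,1122]) (.leaf []))))) (.node (.node (.node (.node (.leaf [68,77,8,187]) (.leaf [40,166,261,1202])) (.node (.leaf [67,333,105,753]) (.leaf [39,216,55,1673]))) (.node (.node (.leaf [37,44,228,471]) (.leaf [66,222,88,1510])) (.node (.leaf [10,262,30,872]) (.leaf [117,98,134,2046])))) (.node (.node (.node (.leaf [19,215,105,306]) (.leaf [10,229,25,1253])) (.node (.leaf [5,106,343,804]) (.leaf [37,226,214,1888]))) (.node (.node (.leaf [66,212,27,532]) (.leaf [22,32,83,1584])) (.node (.leaf [40,45,105,1144]) (.leaf []))))))))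

/-- Their keys. -/
def lK : CfsgLib.Coset.Tr (List Nat) := (.node (.node (.node (.node (.node lK_0 lK_1) (.node lK_2 lK_3)) (.node (.node lK_4 lK_5) (.node lK_6 lK_7))) (.node (.node (.node lK_8 lK_9) (.node lK_10 lK_11)) (.node (.node lK_12 lK_13) (.node lK_14 lK_15)))) (.node (.node (.node (.node lK_16 lK_17) (.node lK_18 lK_19)) (.node (.node lK_20 lK_21) (.node lK_22 lK_23))) (.node (.node (.node lK_24 lK_25) (.node lK_26 lK_27)) (.node (.node lK_28 lK_29) (.node lK_30 lK_31)))))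

def lN_0 : CfsgLib.Coset.Tr (List Nat) := (.node (.node (.node (.node (.node (.node (.node (.leaf [3,26,13,36]) (.leaf [1448,1254,2961,1424])) (.node (.leaf [616,1768,1156,1134]) (.leaf [3688,2172,2212,2414]))) (.node (.node (.leaf [832,802,332,798]) (.leaf [3376,2738,2776,1636])) (.node (.leaf [1824,2424,1560,866]) (.leaf [2878,3450,2922,3810])))) (.node (.node (.node (.leaf [140,126,122,424]) (.leaf [3168,1428,1464,3180])) (.node (.leaf [2034,2093,1208,714]) (.leaf [3256,2498,3290,3268]))) (.node (.node (.leaf [1356,1334,1368,470]) (.leaf [3536,1904,3548,3562])) (.node (.leaf [1062,1154,1048,1120]) (.leaf []))))) (.node (.node (.node (.node (.leaf [56,262,258,272]) (.leaf [2118,3076,1338,1326])) (.node (.leaf [998,1789,1022,660]) (.leaf [2422,2346,3438,3690]))) (.node (.node (.leaf [412,1086,460,402]) (.leaf [2689,2772,1922,1908])) (.node (.leaf [1222,932,2625,1508]) (.leaf [3400,3124,3820,3664]))))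 (.node (.node (.node (.leaf [228,612,216,564]) (.leaf [2900,1546,2636,1557])) (.node (.leaf [810,2260,1492,1482]) (.leaf [2738,3648,2796,2714]))) (.node (.node (.leaf [958,813,1594,930]) (.leaf [3050,2020,2864,3616])) (.node (.leaf [1921,1884,2690,2820]) (.leaf [])))))) (.node (.node (.node (.node (.node (.leaf [65,160,42,16]) (.leaf [2174,2964,1284,2102])) (.node (.leaf [1566,644,1832,1820]) (.leaf [3702,3686,2250,2238]))) (.node (.node (.leaf [374,745,972,984]) (.leaf [1976,3254,1665,2408])) (.node (.leaf [904,2488,2500,2510]) (.leaf [3012,3456,3000,2988])))) (.node (.node (.node (.leaf [196,488,184,176]) (.leaf [1468,3210,3172,3218])) (.node (.leaf [758,2184,744,1848]) (.leaf [3394,2586,3683,3788]))) (.node (.node (.leaf [512,1464,498,1400]) (.leaf [2400,2678,1980,1972])) (.node (.leaf [1376,1174,1364,1352]) (.leaf []))))) (.node (.node (.node (.node (.leaf [312,336,96,84]) (.leaf [3114,2336,1390,3142]))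 (.node (.leaf [1660,686,1974,1985]) (.leaf [2460,2544,3206,3326]))) (.node (.node (.leaf [1228,1198,440,1194]) (.leaf [1864,3488,3242,2678])) (.node (.leaf [1008,1128,984,972]) (.leaf [3560,3502,3356,3538])))) (.node (.node (.node (.leaf [729,280,650,341]) (.leaf [1610,3324,1596,3336])) (.node (.leaf [2375,836,2310,2385]) (.leaf [3798,2800,3666,3822]))) (.node (.node (.leaf [1692,564,1668,1704]) (.leaf [2158,3668,3658,2132])) (.node (.leaf [1502,2846,2886,1217]) (.leaf []))))))) (.node (.node (.node (.node (.node (.node (.leaf [80,10,90,104]) (.leaf [1670,2270,1696,1264])) (.node (.leaf [1790,756,624,1802]) (.leaf [2214,2326,3694,3442]))) (.node (.node (.leaf [921,366,338,659]) (.leaf [2388,3396,2604,2580])) (.node (.leaf [1091,2464,1545,1530]) (.leaf [3038,3030,3032,2944])))) (.node (.node (.node (.leaf [456,144,408,156]) (.leaf [2276,2240,1462,2351])) (.node (.leaf [737,1419,2104,1288]) (.leaf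 [2522,3168,2546,3492]))) (.node (.node (.leaf [1396,514,486,510]) (.leaf [3314,1982,3570,1936])) (.node (.leaf [1536,1320,1080,1512]) (.leaf []))))) (.node (.node (.node (.node (.leaf [304,64,246,292]) (.leaf [3096,1372,3076,2700])) (.node (.leaf [680,1941,1952,690]) (.leaf [2582,2574,2576,2392]))) (.node (.node (.leaf [1176,420,1188,434]) (.leaf [1844,3430,3454,3464])) (.node (.leaf [964,2661,2080,2068]) (.leaf [3540,3313,3528,3348])))) (.node (.node (.node (.leaf [644,656,298,250]) (.leaf [3268,1568,3280,3256])) (.node (.leaf [2041,2244,2316,818]) (.leaf [3815,2752,2937,2874]))) (.node (.node (.leaf [557,1659,1576,892]) (.leaf [3626,2100,3148,3160])) (.node (.leaf [1194,1994,1184,1228]) (.leaf [])))))) (.node (.node (.node (.node (.node (.leaf [180,204,192,24]) (.leaf [2998,2730,1306,3020])) (.node (.leaf [1806,1882,1170,1792]) (.leaf [2304,3360,2364,3720]))) (.node (.node (.leaf [992,958,1016,380])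 (.leaf [3424,1700,3160,3148])) (.node (.leaf [2544,912,2520,2556]) (.leaf [3682,3042,3395,3836])))) (.node (.node (.node (.leaf [208,554,568,220]) (.leaf [2880,1527,1501,2619])) (.node (.leaf [1856,2216,776,766]) (.leaf [2656,2718,3592,3640]))) (.node (.node (.leaf [1515,516,1526,1539]) (.leaf [2456,2934,2446,2003])) (.node (.leaf [2798,1922,2740,2730]) (.leaf []))))) (.node (.node (.node (.node (.leaf [116,380,394,358]) (.leaf [2332,2078,2299,2091])) (.node (.leaf [2016,2040,708,1202]) (.leaf [2482,3304,3330,3210]))) (.node (.node (.leaf [1313,458,1324,1336]) (.leaf [1873,3504,3084,1897])) (.node (.leaf [2682,1016,2650,1870]) (.leaf [3485,3822,3604,3579])))) (.node (.node (.node (.leaf [780,312,792,326]) (.leaf [3368,1614,1642,2782])) (.node (.leaf [1983,856,2407,1657]) (.leaf [3768,3793,3756,2808]))) (.node (.node (.leaf [608,1746,1736,586]) (.leaf [3614,3677,2168,3052])) (.node (.leaf [1248,2940,1236,1958])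 (.leaf []))))))))

def lN_1 : CfsgLib.Coset.Tr (List Nat) := (.node (.node (.node (.node (.node (.node (.node (.leaf [17,52,6,64]) (.leaf [1704,2954,1262,1692])) (.node (.leaf [1136,1712,1114,622]) (.leaf [2203,2608,2786,2669]))) (.node (.node (.leaf [337,900,912,721]) (.leaf [1648,3238,3232,2264])) (.node (.leaf [2442,885,2454,2425]) (.leaf [2928,3696,3804,2916])))) (.node (.node (.node (.leaf [152,442,426,128]) (.leaf [2958,3102,1442,1430])) (.node (.leaf [2126,720,2136,2150]) (.leaf [2540,3380,2518,2506]))) (.node (.node (.leaf [486,1380,1396,496]) (.leaf [3300,2893,1933,3565])) (.node (.leaf [1124,2708,1078,1064]) (.leaf []))))) (.node (.node (.node (.node (.leaf [264,288,276,48]) (.leaf [2188,1348,1721,1786])) (.node (.leaf [1074,1850,1122,1050]) (.leaf [2376,3732,3720,2364]))) (.node (.node (.leaf [1094,416,454,546]) (.leaf [3436,1804,2416,2210])) (.node (.leaf [1586,2640,948,936]) (.leaf [3186,3538,3224,3178]))))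 (.node (.node (.node (.leaf [244,626,306,642]) (.leaf [2905,1584,1548,2630])) (.node (.leaf [826,1316,2289,2048]) (.leaf [3664,3785,3796,3400]))) (.node (.node (.leaf [541,1632,528,1093]) (.leaf [2326,2072,2049,2288])) (.node (.leaf [2489,1178,2837,2848]) (.leaf [])))))) (.node (.node (.node (.node (.node (.leaf [32,178,174,188]) (.leaf [1300,2224,2992,3002])) (.node (.leaf [660,1860,1034,998]) (.leaf [3642,2290,2986,2662]))) (.node (.node (.leaf [978,998,378,1012]) (.leaf [3412,1680,1756,2762])) (.node (.leaf [2506,2526,910,2540]) (.leaf [3472,3004,3522,3712])))) (.node (.node (.node (.leaf [529,192,540,445]) (.leaf [3226,2359,3189,1473])) (.node (.leaf [772,2200,1854,748]) (.leaf [2642,3564,2678,3242]))) (.node (.node (.leaf [522,1498,1486,1494]) (.leaf [2428,2837,1998,2440])) (.node (.leaf [2785,1116,2196,1141]) (.leaf []))))) (.node (.node (.node (.node (.leaf [352,100,364,112]) (.leaf [2604,1404,2388,2568]))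 (.node (.leaf [702,2012,688,1948]) (.leaf [3208,2632,2464,2472]))) (.node (.node (.leaf [445,1296,1092,529]) (.leaf [3246,2060,1870,2650])) (.node (.leaf [2667,988,1148,2199]) (.leaf [3516,3553,3468,3504])))) (.node (.node (.node (.leaf [296,738,646,310]) (.leaf [1622,3352,3340,1598])) (.node (.leaf [876,840,1404,842]) (.leaf [2816,3730,3752,3778]))) (.node (.node (.leaf [594,1724,580,1734]) (.leaf [2160,3614,3612,2856])) (.node (.leaf [2638,1950,2902,2915]) (.leaf []))))))) (.node (.node (.node (.node (.node (.node (.leaf [120,14,132,144]) (.leaf [2350,1276,2972,2277])) (.node (.leaf [1170,1816,1806,628]) (.leaf [2244,3709,3697,2221]))) (.node (.node (.leaf [934,354,942,954]) (.leaf [2264,3088,2594,1648])) (.node (.leaf [1682,2448,888,1574]) (.leaf [2986,3112,3642,3594])))) (.node (.node (.node (.leaf [160,470,402,460]) (.leaf [2965,2376,2341,1454])) (.node (.leaf [2108,1832,742,2182]) (.leaf [2560,3338,3494,2548])))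 (.node (.node (.leaf [1416,492,1430,1442]) (.leaf [3064,1964,2944,3032])) (.node (.leaf [2716,1102,2730,2740]) (.leaf []))))) (.node (.node (.node (.node (.leaf [88,82,76,320]) (.leaf [1385,2128,3112,3123])) (.node (.leaf [1956,1285,1272,1250]) (.leaf [2770,2442,2754,3414]))) (.node (.node (.leaf [436,1214,1232,1180]) (.leaf [3458,2557,1886,1836])) (.node (.leaf [2072,1040,2060,968]) (.leaf [3352,3833,3556,3544])))) (.node (.node (.node (.leaf [684,264,696,674]) (.leaf [3298,1576,3258,3284])) (.node (.leaf [2297,1396,2328,2358]) (.leaf [3816,2784,3396,3792]))) (.node (.node (.leaf [1580,1676,562,1690]) (.leaf [2142,3642,2128,3650])) (.node (.leaf [2620,2868,1218,2883]) (.leaf [])))))) (.node (.node (.node (.node (.node (.leaf [220,40,234,208]) (.leaf [3024,1645,3036,3060])) (.node (.leaf [1040,1734,670,1030]) (.leaf [3725,3440,2379,2306]))) (.node (.node (.leaf [1044,396,1056,1068]) (.leaf [1750,3068,1902,3094]))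 (.node (.leaf [2576,2165,2582,2608]) (.leaf [3133,3600,3121,3108])))) (.node (.node (.node (.leaf [572,548,214,238]) (.leaf [3194,1518,2704,3074])) (.node (.leaf [792,1452,780,830]) (.leaf [2710,3184,3198,3102]))) (.node (.node (.leaf [1492,1556,810,520]) (.leaf [3600,2904,3480,2004])) (.node (.leaf [1147,2816,2670,2789]) (.leaf []))))) (.node (.node (.node (.node (.leaf [396,229,156,408]) (.leaf [1436,3146,1425,2960])) (.node (.leaf [2056,710,2068,2080]) (.leaf [2844,3745,3733,2485]))) (.node (.node (.leaf [478,582,1354,1366]) (.leaf [1886,3520,3458,3446])) (.node (.leaf [1777,1044,1768,2186]) (.leaf [3512,3814,3716,3526])))) (.node (.node (.node (.leaf [328,818,836,784]) (.leaf [1632,3264,3362,3374])) (.node (.leaf [870,2420,1820,1832]) (.leaf [3738,3410,2850,2838]))) (.node (.node (.leaf [1728,1754,600,590]) (.leaf [2948,3548,3066,3044])) (.node (.leaf [1276,1238,1960,1240]) (.leaf []))))))))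

def lN_2 : CfsgLib.Coset.Tr (List Nat) := (.node (.node (.node (.node (.node (.node (.node (.leaf [10,30,23,44]) (.leaf [1264,2766,1708,1670])) (.node (.leaf [1130,1704,1106,612]) (.leaf [3694,2178,2214,2418]))) (.node (.node (.leaf [844,871,858,880]) (.leaf [1644,3230,3228,2256])) (.node (.leaf [1834,2430,1569,873]) (.leaf [3160,2922,3424,3626])))) (.node (.node (.node (.leaf [144,432,420,120]) (.leaf [3178,1438,1470,3186])) (.node (.leaf [1337,1202,2117,1312]) (.leaf [2532,3372,2508,2496]))) (.node (.node (.leaf [1364,1342,1376,476]) (.leaf [2831,3014,1913,1924])) (.node (.leaf [1116,2700,1070,1058]) (.leaf []))))) (.node (.node (.node (.node (.leaf [260,89,50,280]) (.leaf [2191,1344,1717,1778])) (.node (.leaf [1006,1795,1030,670]) (.leaf [3280,2370,3268,3290]))) (.node (.node (.leaf [1093,408,444,541]) (.leaf [2693,2780,1929,1918])) (.node (.leaf [2078,942,962,2054]) (.leaf [3180,3528,3216,3168]))))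 (.node (.node (.node (.leaf [236,620,226,574]) (.leaf [1551,3246,2908,2896])) (.node (.leaf [816,1309,2281,2045]) (.leaf [2746,3656,2804,2720]))) (.node (.node (.leaf [1600,532,1614,1624]) (.leaf [2316,2067,2041,2283])) (.node (.leaf [1925,1892,2697,2830]) (.leaf [])))))) (.node (.node (.node (.node (.node (.leaf [24,170,168,180]) (.leaf [2180,2972,1290,2106])) (.node (.leaf [659,1842,722,921]) (.leaf [3638,2284,2980,2652]))) (.node (.node (.leaf [382,750,982,994]) (.leaf [1997,3280,2431,2453])) (.node (.leaf [2498,2520,900,2534]) (.leaf [3020,3464,3010,2998])))) (.node (.node (.node (.leaf [496,184,510,486]) (.leaf [3216,2352,3180,1464])) (.node (.leaf [766,2190,754,1856]) (.leaf [3712,2596,3508,3472]))) (.node (.node (.leaf [516,1488,1476,1490]) (.leaf [2410,2680,1991,1978])) (.node (.leaf [2752,1108,2764,1754]) (.leaf []))))) (.node (.node (.node (.node (.leaf [316,344,100,92]) (.leaf [3122,1442,3138,1384]))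 (.node (.leaf [696,2006,684,1946]) (.leaf [2466,2554,3214,3332]))) (.node (.node (.leaf [1240,1267,1254,1276]) (.leaf [3240,2054,1860,2644])) (.node (.leaf [1016,1138,992,980]) (.leaf [3785,3473,3834,3388])))) (.node (.node (.node (.leaf [288,732,636,300]) (.leaf [1618,3332,1604,3346])) (.node (.leaf [856,2392,846,1410]) (.leaf [2808,3720,3744,3768]))) (.node (.node (.leaf [1698,572,1676,1712]) (.leaf [3650,2826,2152,2142])) (.node (.leaf [2629,1944,2894,2906]) (.leaf []))))))) (.node (.node (.node (.node (.node (.node (.leaf [41,112,66,4]) (.leaf [2340,1273,2964,2271])) (.node (.leaf [1798,764,632,1808]) (.leaf [2236,3632,2224,3698]))) (.node (.node (.leaf [925,348,936,948]) (.leaf [2396,3404,2610,2588])) (.node (.leaf [941,2480,928,1589]) (.leaf [2978,3108,3636,3588])))) (.node (.node (.node (.leaf [464,152,418,166]) (.leaf [2091,3198,2356,2332])) (.node (.leaf [2101,1824,732,2172]) (.leaf [2528,3178,2554,3502])))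 (.node (.node (.leaf [1410,890,882,856]) (.leaf [3060,1956,2940,3024])) (.node (.leaf [1546,1328,1088,1520]) (.leaf []))))) (.node (.node (.node (.node (.leaf [84,74,72,312]) (.leaf [3102,1376,3082,2710])) (.node (.leaf [1950,698,676,700]) (.leaf [2760,2436,2748,3410]))) (.node (.node (.leaf [1184,428,1194,440]) (.leaf [3450,2138,1842,1890])) (.node (.leaf [2064,1032,2052,960]) (.leaf [3548,3320,3536,3358])))) (.node (.node (.node (.leaf [284,676,266,256]) (.leaf [3290,1572,3256,3280])) (.node (.leaf [2048,2254,2327,826]) (.leaf [2774,3772,3374,3362]))) (.node (.node (.leaf [1573,1668,552,1680]) (.leaf [3634,2104,3150,3164])) (.node (.leaf [1206,2860,2032,2022]) (.leaf [])))))) (.node (.node (.node (.node (.node (.leaf [188,212,198,32]) (.leaf [3002,1621,3016,1300])) (.node (.leaf [1034,1728,660,1022]) (.leaf [2314,3366,2370,3726]))) (.node (.node (.leaf [1024,386,1002,1036]) (.leaf [1741,3060,1896,3085]))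 (.node (.leaf [2552,918,2530,2566]) (.leaf [3072,3141,3100,3196])))) (.node (.node (.node (.leaf [564,540,204,228]) (.leaf [2890,1532,1509,2624])) (.node (.leaf [2225,782,2237,2248]) (.leaf [2700,3181,3192,3096]))) (.node (.node (.leaf [1523,524,1530,1545]) (.leaf [2008,3594,3580,3602])) (.node (.leaf [1141,2808,2664,2785]) (.leaf []))))) (.node (.node (.node (.node (.leaf [388,249,114,366]) (.leaf [1431,3148,1417,2959])) (.node (.leaf [2026,2046,714,1208]) (.leaf [2836,3296,2488,3734]))) (.node (.node (.leaf [470,577,1344,1356]) (.leaf [1879,3512,3090,1901])) (.node (.leaf [1769,1024,1776,1726]) (.leaf [3504,3804,3708,3516])))) (.node (.node (.node (.leaf [788,320,798,332]) (.leaf [3338,1914,1624,1614])) (.node (.leaf [866,2414,1812,1824]) (.leaf [3776,3796,3762,2818]))) (.node (.node (.leaf [1158,590,618,1108]) (.leaf [2940,3540,3060,3036])) (.node (.leaf [1258,2948,1246,1966]) (.leaf []))))))))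

def lN_3 : CfsgLib.Coset.Tr (List Nat) := (.node (.node (.node (.node (.node (.node (.node (.leaf [72,2,84,96]) (.leaf [1712,2960,1266,1698])) (.node (.leaf [628,1780,1792,1170]) (.leaf [2208,2318,3686,3432]))) (.node (.node (.leaf [341,908,918,729]) (.leaf [3230,3389,1652,2596])) (.node (.leaf [1080,2461,1536,1524]) (.leaf [2938,3702,3812,2924])))) (.node (.node (.node (.leaf [428,448,146,136]) (.leaf [2274,2233,1456,2342])) (.node (.leaf [2132,728,2146,2158]) (.leaf [3760,2512,3774,3748]))) (.node (.node (.leaf [1392,504,480,506]) (.leaf [3306,2900,1942,3574])) (.node (.leaf [1528,1072,1516,1084]) (.leaf []))))) (.node (.node (.node (.node (.leaf [272,296,282,56]) (.leaf [3087,1360,1880,1743])) (.node (.leaf [672,1935,1944,686]) (.leaf [2386,3738,3728,2372]))) (.node (.node (.leaf [1110,1150,1134,1156]) (.leaf [1836,3420,3446,3458])) (.node (.leaf [1592,2646,956,946]) (.leaf [3566,3222,3316,3302]))))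 (.node (.node (.node (.leaf [636,648,288,240]) (.leaf [2912,1592,1556,2637])) (.node (.leaf [2283,2310,818,2316]) (.leaf [3804,2749,2928,2868]))) (.node (.node (.leaf [545,1642,532,1097]) (.leaf [2358,2114,2095,2297])) (.node (.leaf [1188,1992,1176,1226]) (.leaf [])))))) (.node (.node (.node (.node (.node (.leaf [176,137,26,196]) (.leaf [2990,2724,1296,3014])) (.node (.leaf [668,1868,1042,1004]) (.leaf [3592,2296,2656,2976]))) (.node (.node (.leaf [984,950,1008,374]) (.leaf [3418,1686,1758,2766])) (.node (.leaf [2510,2149,2536,904]) (.leaf [3675,3036,3385,3828])))) (.node (.node (.node (.leaf [538,200,546,454]) (.leaf [2594,1480,2264,3232])) (.node (.leaf [1848,2210,768,758]) (.leaf [2650,3570,2682,3246]))) (.node (.node (.leaf [1480,1504,524,808]) (.leaf [2449,2928,2437,1994])) (.node (.leaf [2789,1126,2200,1147]) (.leaf []))))) (.node (.node (.node (.node (.leaf [108,372,384,348]) (.leaf [2608,1412,2392,2576]))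 (.node (.leaf [712,2030,2022,2032]) (.leaf [2474,3300,3324,3204]))) (.node (.node (.leaf [449,1304,1098,537]) (.leaf [3494,2690,2560,2526])) (.node (.leaf [2676,1012,2644,1860]) (.leaf [3524,3556,3474,3514])))) (.node (.node (.node (.leaf [748,302,762,772]) (.leaf [3362,1608,1632,2774])) (.node (.leaf [882,850,1410,846]) (.leaf [3748,3052,2812,3760]))) (.node (.node (.leaf [600,1740,1728,576]) (.leaf [2164,3622,3616,2864])) (.node (.leaf [2920,1226,2872,2932]) (.leaf []))))))) (.node (.node (.node (.node (.node (.node (.leaf [128,22,138,152]) (.leaf [1325,2984,1312,2117])) (.node (.leaf [1560,636,1824,1812]) (.leaf [2252,3716,3706,2228]))) (.node (.node (.leaf [364,966,352,390]) (.leaf [1971,3256,1657,2407])) (.node (.leaf [1688,2456,894,1578]) (.leaf [3148,2990,3626,3424])))) (.node (.node (.node (.leaf [192,480,180,168]) (.leaf [2972,2382,2350,1463])) (.node (.leaf [1289,772,2178,736]) (.leaf [3387,2580,3673,3780])))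 (.node (.node (.leaf [1426,500,1439,1450]) (.leaf [3580,1974,2008,3482])) (.node (.leaf [1368,1164,1356,1344]) (.leaf []))))) (.node (.node (.node (.node (.leaf [98,328,320,76]) (.leaf [3108,2329,1381,3133])) (.node (.leaf [1964,1293,1280,1256]) (.leaf [3328,2616,2472,2464]))) (.node (.node (.leaf [1224,1188,432,1190]) (.leaf [3466,2563,1894,1846])) (.node (.leaf [1724,974,2193,1772]) (.leaf [3552,3492,3348,3528])))) (.node (.node (.node (.leaf [690,274,704,680]) (.leaf [1937,1600,3304,3315])) (.node (.leaf [2364,832,2304,2376]) (.leaf [3824,2792,3404,3802]))) (.node (.node (.leaf [893,604,1686,556]) (.leaf [2148,3660,3648,2124])) (.node (.leaf [2624,2878,1223,2890]) (.leaf [])))))) (.node (.node (.node (.node (.node (.leaf [48,254,252,264]) (.leaf [3028,1654,3040,3068])) (.node (.leaf [1906,662,1748,1882]) (.leaf [2412,2340,3432,3686]))) (.node (.node (.leaf [1052,404,1064,1078]) (.leaf [1756,2888,3412,2750]))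 (.node (.leaf [1212,925,2617,1505]) (.leaf [3142,3604,3126,3114])))) (.node (.node (.node (.leaf [580,218,594,604]) (.leaf [2894,1536,2629,1553])) (.node (.leaf [798,1454,788,832]) (.leaf [2730,3580,2716,2798]))) (.node (.node (.leaf [950,805,1584,926]) (.leaf [3610,2911,3489,2013])) (.node (.leaf [1919,2534,2825,2692]) (.leaf []))))) (.node (.node (.node (.node (.leaf [404,233,166,418]) (.leaf [1457,3160,2275,2969])) (.node (.leaf [2028,2089,1200,710]) (.leaf [2852,3752,3742,2492]))) (.node (.node (.leaf [1350,1058,474,1372]) (.leaf [3528,1896,3540,3552])) (.node (.leaf [1786,1050,1775,2188]) (.leaf [3833,3761,3786,3676])))) (.node (.node (.node (.leaf [828,792,324,794]) (.leaf [1640,3274,3370,3380])) (.node (.leaf [1816,2404,868,1564]) (.leaf [2868,3444,2916,3804]))) (.node (.node (.leaf [1736,1760,608,598]) (.leaf [2864,2668,3050,2164])) (.node (.leaf [1441,1248,2953,1419]) (.leaf []))))))))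

def lN_4 : CfsgLib.Coset.Tr (List Nat) := (.node (.node (.node (.node (.node (.node (.node (.leaf [5,28,18,40]) (.leaf [1262,2762,1704,1668])) (.node (.leaf [620,1770,1162,1138]) (.leaf [3686,2176,2208,2412]))) (.node (.node (.leaf [840,864,852,878]) (.leaf [3382,2743,2782,1642])) (.node (.leaf [1826,2426,1564,868]) (.leaf [3158,2916,3422,3624])))) (.node (.node (.node (.leaf [136,130,124,428]) (.leaf [3172,1434,1468,3182])) (.node (.leaf [1334,1201,2112,1310]) (.leaf [3258,2504,3298,3272]))) (.node (.node (.leaf [1360,1336,1374,472]) (.leaf [2821,3018,1916,1920])) (.node (.leaf [1066,1159,1054,1126]) (.leaf []))))) (.node (.node (.node (.node (.leaf [252,85,48,276]) (.leaf [2120,3078,1340,1330])) (.node (.leaf [1002,1790,1024,664]) (.leaf [3278,2364,3266,3288]))) (.node (.node (.leaf [416,1088,466,406]) (.leaf [2697,2774,1925,1912])) (.node (.leaf [2076,936,960,2052]) (.leaf [3404,3128,3824,3670]))))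 (.node (.node (.node (.leaf [232,614,222,570]) (.leaf [1548,3240,2905,2899])) (.node (.leaf [812,2264,1494,1486]) (.leaf [2740,3650,2798,2716]))) (.node (.node (.leaf [1598,528,1608,1622]) (.leaf [3056,2024,2862,3620])) (.node (.leaf [1929,1886,2693,2824]) (.leaf [])))))) (.node (.node (.node (.node (.node (.leaf [70,162,47,20]) (.leaf [2178,2966,1289,2105])) (.node (.leaf [649,1836,720,913]) (.leaf [3706,3689,2252,2242]))) (.node (.node (.leaf [376,747,976,988]) (.leaf [1993,3276,2425,2454])) (.node (.leaf [908,2494,2504,2516]) (.leaf [3014,3462,3004,2990])))) (.node (.node (.node (.leaf [492,180,504,482]) (.leaf [1470,3214,3178,3224])) (.node (.leaf [762,2192,748,1854]) (.leaf [3708,2592,3504,3468]))) (.node (.node (.leaf [510,1472,496,1396]) (.leaf [2406,2682,1982,1970])) (.node (.leaf [2748,1104,2760,1752]) (.leaf []))))) (.node (.node (.node (.node (.leaf [320,340,98,88]) (.leaf [3120,1440,3132,1380]))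 (.node (.leaf [1666,692,1979,1990]) (.leaf [2464,2550,3208,3328]))) (.node (.node (.leaf [1236,1260,1248,1274]) (.leaf [1870,3484,3246,2682])) (.node (.leaf [1012,1130,990,978]) (.leaf [3783,3468,3829,3384])))) (.node (.node (.node (.leaf [730,284,654,346]) (.leaf [1614,3330,1600,3338])) (.node (.leaf [852,2388,840,1406]) (.leaf [3800,2806,3668,3826]))) (.node (.node (.leaf [1696,566,1670,1708]) (.leaf [3648,2822,2148,2138])) (.node (.leaf [1508,2854,2891,1222]) (.leaf []))))))) (.node (.node (.node (.node (.node (.node (.leaf [39,110,61,0]) (.leaf [1678,2274,1701,1269])) (.node (.leaf [1794,758,630,1804]) (.leaf [2232,3624,2220,3696]))) (.node (.node (.leaf [914,368,346,654]) (.leaf [2390,3400,2612,2584])) (.node (.leaf [937,2472,924,1587]) (.leaf [3044,3034,3030,2948])))) (.node (.node (.node (.leaf [460,148,412,160]) (.leaf [2088,3192,2353,2335])) (.node (.leaf [738,1424,2106,1290]) (.leaf [2526,3172,2548,3494])))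 (.node (.node (.leaf [1404,889,876,854]) (.leaf [3320,1990,3572,1938])) (.node (.leaf [1538,1326,1082,1514]) (.leaf []))))) (.node (.node (.node (.node (.leaf [308,66,250,298]) (.leaf [3100,1370,3072,2702])) (.node (.leaf [1944,696,672,698]) (.leaf [2588,2578,2574,2396]))) (.node (.node (.leaf [1182,424,1192,438]) (.leaf [3446,2136,1836,1886])) (.node (.leaf [971,2656,2085,2070]) (.leaf [3544,3316,3532,3352])))) (.node (.node (.node (.leaf [276,672,264,252]) (.leaf [3274,1565,3282,3262])) (.node (.leaf [2042,2246,2322,821]) (.leaf [2772,3768,3372,3360]))) (.node (.node (.leaf [558,1664,1578,894]) (.leaf [3628,2108,3144,3156])) (.node (.leaf [1200,2856,2028,2018]) (.leaf [])))))) (.node (.node (.node (.node (.node (.leaf [182,208,200,28]) (.leaf [3000,1625,3012,1298])) (.node (.leaf [1808,1874,1174,1798]) (.leaf [2308,3364,2368,3722]))) (.node (.node (.leaf [1020,384,996,1032]) (.leaf [3430,1697,3162,3154]))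 (.node (.leaf [2548,922,2526,2560]) (.leaf [3074,3132,3098,3194])))) (.node (.node (.node (.leaf [212,558,574,226]) (.leaf [2886,1528,1502,2623])) (.node (.leaf [2221,784,2233,2244]) (.leaf [2658,2722,3598,3644]))) (.node (.node (.leaf [1516,518,1528,1540]) (.leaf [2004,3588,3576,3600])) (.node (.leaf [2804,1928,2746,2734]) (.leaf []))))) (.node (.node (.node (.node (.leaf [384,241,108,360]) (.leaf [2336,2086,2300,2097])) (.node (.leaf [2020,2044,716,1204]) (.leaf [2832,3288,2484,3732]))) (.node (.node (.leaf [1318,462,1326,1338]) (.leaf [1881,3510,3086,1905])) (.node (.leaf [1765,1020,1780,1718]) (.leaf [3486,3826,3608,3586])))) (.node (.node (.node (.leaf [786,316,796,330]) (.leaf [3336,1910,1620,1610])) (.node (.leaf [1988,858,2409,1664]) (.leaf [3774,3800,3760,2812]))) (.node (.node (.leaf [1154,588,612,1106]) (.leaf [3620,3682,2166,3056])) (.node (.leaf [1252,2944,1242,1962]) (.leaf []))))))))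

def lN_5 : CfsgLib.Coset.Tr (List Nat) := (.node (.node (.node (.node (.node (.node (.node (.leaf [22,54,11,68]) (.leaf [1708,2956,1264,1696])) (.node (.leaf [624,1776,1790,1166]) (.leaf [2206,2612,2790,2674]))) (.node (.node (.leaf [339,904,920,723]) (.leaf [3228,3384,1644,2592])) (.node (.leaf [2446,880,2456,2433]) (.leaf [2930,3704,3808,2918])))) (.node (.node (.node (.leaf [420,444,144,132]) (.leaf [2962,3100,1451,1438])) (.node (.leaf [2128,724,2142,2152]) (.leaf [3756,2508,3768,3744]))) (.node (.node (.leaf [488,1389,1400,498]) (.leaf [3304,2897,1937,3571])) (.node (.leaf [1524,1068,1512,1080]) (.leaf []))))) (.node (.node (.node (.node (.leaf [266,292,284,52]) (.leaf [3085,1356,1872,1741])) (.node (.leaf [1076,1854,1126,1054]) (.leaf [2378,3740,3724,2366]))) (.node (.node (.leaf [1104,1140,1128,1152]) (.leaf [3438,1808,2422,2218])) (.node (.leaf [1590,2644,954,942]) (.leaf [3565,3216,3313,3300]))))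 (.node (.node (.node (.leaf [248,632,310,646]) (.leaf [2910,1586,1555,2633])) (.node (.leaf [2284,2304,822,2319]) (.leaf [3666,3788,3798,3402]))) (.node (.node (.leaf [551,1638,530,1101]) (.leaf [2353,2112,2088,2294])) (.node (.leaf [2494,1185,2838,2850]) (.leaf [])))))) (.node (.node (.node (.node (.node (.leaf [168,133,24,192]) (.leaf [1304,2230,2996,3008])) (.node (.leaf [666,1864,1038,1000]) (.leaf [3590,2292,2652,2980]))) (.node (.node (.leaf [982,1004,382,1018]) (.leaf [3410,1684,1752,2760])) (.node (.leaf [2508,2153,2532,902]) (.leaf [3474,3008,3524,3718])))) (.node (.node (.node (.leaf [537,196,542,449]) (.leaf [2592,1476,2256,3228])) (.node (.leaf [776,2202,1856,754]) (.leaf [2640,3573,2680,3244]))) (.node (.node (.leaf [1476,1500,516,806]) (.leaf [2432,2840,2002,2447])) (.node (.leaf [2794,1118,2204,1150]) (.leaf []))))) (.node (.node (.node (.node (.leaf [356,104,370,118]) (.leaf [2612,1408,2390,2572]))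 (.node (.leaf [708,2028,2016,2030]) (.leaf [3214,2634,2466,2480]))) (.node (.node (.leaf [447,1300,1100,531]) (.leaf [3492,2688,2558,2522])) (.node (.leaf [2674,990,1144,2206]) (.leaf [3522,3560,3472,3508])))) (.node (.node (.node (.leaf [746,300,756,770]) (.leaf [1630,3356,3346,1604])) (.node (.leaf [880,842,1408,844]) (.leaf [3744,3048,2808,3756]))) (.node (.node (.leaf [598,1722,586,1736]) (.leaf [2168,3618,3614,2860])) (.node (.leaf [2916,1228,2868,2928]) (.leaf []))))))) (.node (.node (.node (.node (.node (.node (.leaf [122,16,140,148]) (.leaf [1321,2976,1308,2115])) (.node (.leaf [1172,1820,1810,634]) (.leaf [2246,3712,3700,2222]))) (.node (.node (.leaf [360,960,348,384]) (.leaf [2260,3092,2596,1652])) (.node (.leaf [1686,2450,893,1577]) (.leaf [3146,2988,3624,3422])))) (.node (.node (.node (.leaf [164,476,406,466]) (.leaf [2966,2379,2344,1458])) (.node (.leaf [1287,770,2172,732]) (.leaf [2566,3344,3500,2552])))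 (.node (.node (.leaf [1420,494,1434,1445]) (.leaf [3576,1968,2004,3480])) (.node (.leaf [2720,1098,2734,2746]) (.leaf []))))) (.node (.node (.node (.node (.leaf [96,324,312,72]) (.leaf [1386,2134,3116,3128])) (.node (.leaf [1962,1286,1278,1252]) (.leaf [3326,2620,2476,2460]))) (.node (.node (.leaf [438,1220,1230,1182]) (.leaf [3460,2558,1888,1840])) (.node (.leaf [1723,972,2185,1766]) (.leaf [3354,3836,3558,3546])))) (.node (.node (.node (.leaf [688,268,702,678]) (.leaf [1933,1596,3300,3313])) (.node (.leaf [2302,1398,2338,2363]) (.leaf [3820,2790,3400,3796]))) (.node (.node (.leaf [891,602,1680,552]) (.leaf [2146,3644,2132,3658])) (.node (.leaf [2619,2874,1214,2880]) (.leaf [])))))) (.node (.node (.node (.node (.node (.leaf [224,42,238,214]) (.leaf [3032,1649,3038,3064])) (.node (.leaf [1897,660,1740,1873]) (.leaf [3731,3436,2385,2310]))) (.node (.node (.leaf [1048,398,1062,1072]) (.leaf [1752,2882,3410,2748]))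 (.node (.leaf [2572,2170,2584,2612]) (.leaf [3134,3606,3124,3110])))) (.node (.node (.node (.leaf [578,216,588,602]) (.leaf [3198,1520,2710,3082])) (.node (.leaf [800,1456,784,836]) (.leaf [2726,3576,2714,2796]))) (.node (.node (.leaf [1494,1553,812,522]) (.leaf [3602,2906,3482,2008])) (.node (.leaf [1909,2538,2828,2688]) (.leaf []))))) (.node (.node (.node (.node (.leaf [400,237,162,414]) (.leaf [1453,3156,2269,2970])) (.node (.leaf [2063,716,2070,2085]) (.leaf [2846,3748,3736,2486]))) (.node (.node (.leaf [1346,1056,468,1370]) (.leaf [1892,3526,3464,3454])) (.node (.leaf [1781,1048,1764,2194]) (.leaf [3831,3756,3781,3672])))) (.node (.node (.node (.leaf [330,824,834,786]) (.leaf [1636,3270,3364,3376])) (.node (.leaf [1812,2402,866,1560]) (.leaf [3742,3413,2852,2842]))) (.node (.node (.leaf [1732,1752,606,592]) (.leaf [2856,2664,3048,2160])) (.node (.leaf [1278,1246,1962,1242]) (.leaf []))))))))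

def lN_6 : CfsgLib.Coset.Tr (List Nat) := (.node (.node (.node (.node (.node (.node (.node (.leaf [15,50,1,60]) (.leaf [1266,2768,1712,1676])) (.node (.leaf [1134,1708,1110,616]) (.leaf [2197,2604,2784,2665]))) (.node (.node (.leaf [846,872,856,882]) (.leaf [1652,3234,3230,2260])) (.node (.leaf [2436,877,2448,2427]) (.leaf [3162,2926,3430,3630])))) (.node (.node (.node (.leaf [146,436,428,124]) (.leaf [2952,3098,1440,1432])) (.node (.leaf [1342,1209,2122,1314]) (.leaf [2534,3378,2512,2498]))) (.node (.node (.leaf [480,1383,1392,494]) (.leaf [2829,3020,1908,1922])) (.node (.leaf [1122,2704,1074,1060]) (.leaf []))))) (.node (.node (.node (.node (.leaf [256,94,52,284]) (.leaf [2192,1346,1725,1784])) (.node (.leaf [1070,1848,1116,1046]) (.leaf [3282,2374,3274,3294]))) (.node (.node (.leaf [1101,414,446,551]) (.leaf [3432,1800,2412,2208])) (.node (.leaf [2086,944,968,2060]) (.leaf [3185,3534,3220,3171]))))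 (.node (.node (.node (.leaf [240,624,300,636]) (.leaf [1558,3244,2914,2903])) (.node (.leaf [820,1310,2286,2043]) (.leaf [3660,3780,3792,3396]))) (.node (.node (.leaf [1604,536,1618,1630]) (.leaf [2322,2068,2042,2287])) (.node (.leaf [2485,1180,2833,2844]) (.leaf [])))))) (.node (.node (.node (.node (.node (.leaf [26,174,176,184]) (.leaf [1298,2220,2988,3000])) (.node (.leaf [653,1846,724,917]) (.leaf [3640,2280,2976,2656]))) (.node (.node (.leaf [974,996,372,1010]) (.leaf [2002,3278,2432,2457])) (.node (.leaf [2502,2522,906,2538]) (.leaf [3468,3000,3516,3708])))) (.node (.node (.node (.leaf [498,190,512,488]) (.leaf [3218,2354,3182,1468])) (.node (.leaf [768,2196,1848,744]) (.leaf [3716,2600,3512,3478]))) (.node (.node (.leaf [520,1490,1482,1492]) (.leaf [2430,2833,1996,2438])) (.node (.leaf [2754,1112,2770,1762]) (.leaf []))))) (.node (.node (.node (.node (.leaf [348,96,360,108]) (.leaf [3128,1450,3140,1386]))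 (.node (.leaf [704,2004,690,1952]) (.leaf [3206,2628,2460,2476]))) (.node (.node (.leaf [1242,1268,1252,1278]) (.leaf [3242,2058,1864,2642])) (.node (.leaf [2665,984,1140,2197]) (.leaf [3790,3476,3839,3392])))) (.node (.node (.node (.leaf [292,734,640,304]) (.leaf [1620,3348,3336,1596])) (.node (.leaf [862,2396,850,1414]) (.leaf [2812,3726,3748,3774]))) (.node (.node (.leaf [590,1716,576,1728]) (.leaf [3656,2828,2156,2144])) (.node (.leaf [2633,1948,2892,2910]) (.leaf []))))))) (.node (.node (.node (.node (.node (.node (.leaf [46,114,71,8]) (.leaf [2346,1281,2970,2269])) (.node (.leaf [1166,1812,1802,624]) (.leaf [2242,3630,2228,3706]))) (.node (.node (.leaf [929,350,940,952]) (.leaf [2256,3084,2592,1644])) (.node (.leaf [944,2476,930,1594]) (.leaf [2980,3114,3638,3590])))) (.node (.node (.node (.leaf [156,468,396,456]) (.leaf [2098,3196,2362,2339])) (.node (.leaf [2105,1826,736,2178]) (.leaf [2558,3336,3492,2546])))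 (.node (.node (.leaf [1412,897,884,860]) (.leaf [3068,1960,2942,3028])) (.node (.leaf [2712,1092,2724,2736]) (.leaf []))))) (.node (.node (.node (.node (.leaf [92,78,74,316]) (.leaf [1381,2124,3108,3121])) (.node (.leaf [1948,706,678,702]) (.leaf [2762,2444,2750,3412]))) (.node (.node (.leaf [432,1212,1224,1178]) (.leaf [3452,2142,1846,1894])) (.node (.leaf [2068,1036,2056,964]) (.leaf [3348,3828,3552,3540])))) (.node (.node (.node (.leaf [280,680,268,260]) (.leaf [3292,1580,3252,3276])) (.node (.leaf [2293,1392,2330,2354]) (.leaf [2780,3778,3380,3370]))) (.node (.node (.leaf [1577,1670,556,1686]) (.leaf [2138,3636,2124,3648])) (.node (.leaf [1208,2864,2034,2026]) (.leaf [])))))) (.node (.node (.node (.node (.node (.leaf [216,38,228,204]) (.leaf [3010,1626,3020,1306])) (.node (.leaf [1038,1730,666,1026]) (.leaf [3720,3433,2376,2304]))) (.node (.node (.leaf [1028,392,1004,1042]) (.leaf [1747,3064,1898,3089]))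 (.node (.leaf [2568,2161,2580,2604]) (.leaf [3082,3138,3102,3198])))) (.node (.node (.node (.leaf [568,546,208,234]) (.leaf [3192,1514,2700,3076])) (.node (.leaf [2230,789,2238,2250]) (.leaf [2704,3188,3194,3098]))) (.node (.node (.leaf [1488,1549,804,518]) (.leaf [2010,3598,3586,3608])) (.node (.leaf [1149,2814,2666,2793]) (.leaf []))))) (.node (.node (.node (.node (.leaf [392,245,118,370]) (.leaf [1428,3144,1422,2955])) (.node (.leaf [2055,708,2066,2079]) (.leaf [2842,3294,2492,3742]))) (.node (.node (.leaf [472,579,1348,1360]) (.leaf [1884,3516,3456,3444])) (.node (.leaf [1774,1026,1787,1720]) (.leaf [3508,3810,3712,3522])))) (.node (.node (.node (.leaf [324,816,828,782]) (.leaf [3344,1916,1628,1616])) (.node (.leaf [868,2418,1816,1826]) (.leaf [3733,3408,2844,2833]))) (.node (.node (.leaf [1162,596,620,1112]) (.leaf [2942,3544,3068,3040])) (.node (.leaf [1272,1236,1956,1238]) (.leaf []))))))))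

def lN_7 : CfsgLib.Coset.Tr (List Nat) := (.node (.node (.node (.node (.node (.node (.node (.leaf [74,4,92,100]) (.leaf [1668,2268,1692,1262])) (.node (.leaf [632,1782,1798,1174]) (.leaf [2212,2324,3688,3434]))) (.node (.node (.leaf [913,360,336,649]) (.leaf [3236,3394,1650,2600])) (.node (.leaf [1084,2469,1540,1528]) (.leaf [3036,3026,3024,2940])))) (.node (.node (.node (.leaf [424,452,148,140]) (.leaf [2272,2237,1458,2344])) (.node (.leaf [733,1417,2100,1286]) (.leaf [3762,2516,3776,3754]))) (.node (.node (.leaf [1398,506,484,508]) (.leaf [3312,1980,3564,1932])) (.node (.leaf [1532,1076,1520,1088]) (.leaf []))))) (.node (.node (.node (.node (.leaf [300,62,240,288]) (.leaf [3094,1362,1876,1750])) (.node (.leaf [678,1932,1948,688]) (.leaf [2580,2570,2568,2388]))) (.node (.node (.leaf [1112,1142,1138,1162]) (.leaf [1840,3426,3448,3460])) (.node (.leaf [960,2653,2076,2064]) (.leaf [3574,3220,3318,3306]))))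 (.node (.node (.node (.leaf [640,654,292,246]) (.leaf [3264,1561,3276,3252])) (.node (.leaf [2288,2314,827,2326]) (.leaf [3809,2756,2931,2870]))) (.node (.node (.leaf [553,1657,1572,890]) (.leaf [2360,2120,2096,2301])) (.node (.leaf [1196,1996,1180,1232]) (.leaf [])))))) (.node (.node (.node (.node (.node (.leaf [172,142,28,200]) (.leaf [2994,2726,1302,3018])) (.node (.leaf [1800,1872,1164,1788]) (.leaf [3598,2298,2658,2984]))) (.node (.node (.leaf [988,952,1014,376]) (.leaf [3420,1693,3156,3144])) (.node (.leaf [2518,2154,2540,910]) (.leaf [3677,3041,3390,3832])))) (.node (.node (.node (.leaf [204,552,564,216]) (.leaf [2600,1484,2262,3236])) (.node (.leaf [1852,2208,774,760]) (.leaf [2652,2712,3590,3638]))) (.node (.node (.leaf [1486,1506,522,812]) (.leaf [2450,2931,2440,1998])) (.node (.leaf [2796,1920,2738,2726]) (.leaf []))))) (.node (.node (.node (.node (.leaf [112,374,390,352]) (.leaf [2330,2076,2293,2093]))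 (.node (.leaf [714,2038,2026,2034]) (.leaf [2476,3306,3326,3206]))) (.node (.node (.leaf [1309,456,1320,1332]) (.leaf [3500,2696,2566,2530])) (.node (.leaf [2680,1010,2640,1862]) (.leaf [3480,3816,3600,3576])))) (.node (.node (.node (.leaf [754,308,766,776]) (.leaf [3366,1610,1638,2778])) (.node (.leaf [1981,852,2401,1659]) (.leaf [3752,3056,2816,3766]))) (.node (.node (.leaf [604,1744,1734,580]) (.leaf [3612,3672,2160,3048])) (.node (.leaf [2927,1232,2874,2937]) (.leaf []))))))) (.node (.node (.node (.node (.node (.node (.leaf [63,158,37,12]) (.leaf [1328,2980,1314,2122])) (.node (.leaf [1564,638,1826,1816]) (.leaf [3697,3684,2244,2233]))) (.node (.node (.leaf [368,968,358,394]) (.leaf [1968,3252,1662,2403])) (.node (.leaf [902,2484,2496,2508]) (.leaf [3150,2996,3634,3428])))) (.node (.node (.node (.leaf [200,484,182,172]) (.leaf [1464,3204,3168,3216])) (.node (.leaf [1290,778,2180,738]) (.leaf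 [3389,2585,3678,3784]))) (.node (.node (.leaf [504,1466,492,1394]) (.leaf [3586,1978,2010,3486])) (.node (.leaf [1372,1166,1362,1350]) (.leaf []))))) (.node (.node (.node (.node (.leaf [104,334,318,80]) (.leaf [3112,2333,1385,3139])) (.node (.leaf [1656,684,1970,1982]) (.leaf [3330,2626,2482,2470]))) (.node (.node (.leaf [1230,1190,438,1192]) (.leaf [1860,3481,3240,2676])) (.node (.leaf [1720,976,2189,1774]) (.leaf [3558,3496,3354,3534])))) (.node (.node (.node (.leaf [721,276,648,337]) (.leaf [1938,1606,3308,3320])) (.node (.leaf [2368,830,2308,2380]) (.leaf [3792,2796,3660,3816]))) (.node (.node (.leaf [894,610,1688,558]) (.leaf [2150,3664,3652,2126])) (.node (.leaf [1501,2844,2880,1214]) (.leaf [])))))) (.node (.node (.node (.node (.node (.leaf [50,258,260,268]) (.leaf [2114,3072,1332,1320])) (.node (.leaf [1901,670,1744,1879]) (.leaf [2414,2348,3434,3688]))) (.node (.node (.leaf [408,1080,456,396])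 (.leaf [1758,2890,3418,2758])) (.node (.leaf [1216,926,2622,1503]) (.leaf [3396,3121,3816,3660])))) (.node (.node (.node (.leaf [586,224,598,608]) (.leaf [2896,1538,2635,1551])) (.node (.leaf [804,2256,1488,1478]) (.leaf [2732,3586,2722,2806]))) (.node (.node (.leaf [953,806,1589,928]) (.leaf [3048,2016,2856,3612])) (.node (.leaf [1917,2540,2820,2690]) (.leaf []))))) (.node (.node (.node (.node (.leaf [132,122,120,420]) (.leaf [1462,3158,2276,2973])) (.node (.leaf [2032,2096,1206,712]) (.leaf [3254,2496,3288,3266]))) (.node (.node (.leaf [1354,1064,478,1378]) (.leaf [3532,1902,3544,3556])) (.node (.leaf [1058,1153,1046,1116]) (.leaf [3838,3764,3791,3680])))) (.node (.node (.node (.leaf [834,794,330,796]) (.leaf [3374,2737,2774,1632])) (.node (.leaf [1820,2408,870,1566]) (.leaf [2872,3448,2920,3806]))) (.node (.node (.leaf [612,1764,1154,1130]) (.leaf [2860,2672,3052,2168])) (.node (.leaf [1443,1252,2959,1417])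 (.leaf []))))))))

def lN_8 : CfsgLib.Coset.Tr (List Nat) := (.node (.node (.node (.node (.node (.node (.node (.leaf [1,24,15,38]) (.leaf [1450,1258,2963,1426])) (.node (.leaf [618,1772,1158,1132]) (.leaf [3684,2174,2210,2416]))) (.node (.node (.leaf [838,800,334,802]) (.leaf [3378,2745,2778,1638])) (.node (.leaf [1828,2428,1563,865]) (.leaf [2876,3452,2924,3812])))) (.node (.node (.node (.leaf [138,124,128,426]) (.leaf [3170,1430,1466,3184])) (.node (.leaf [2038,2098,1210,718]) (.leaf [3260,2500,3296,3270]))) (.node (.node (.leaf [1358,1332,1370,468]) (.leaf [3538,1906,3550,3560])) (.node (.leaf [1060,1161,1050,1122]) (.leaf []))))) (.node (.node (.node (.node (.leaf [58,260,262,274]) (.leaf [2116,3080,1336,1324])) (.node (.leaf [996,1792,1020,662]) (.leaf [2418,2350,3442,3694]))) (.node (.node (.leaf [414,1082,462,400]) (.leaf [2691,2776,1920,1916])) (.node (.leaf [1220,934,2627,1510]) (.leaf [3402,3126,3822,3666]))))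 (.node (.node (.node (.leaf [230,616,218,566]) (.leaf [2902,1542,2638,1559])) (.node (.leaf [808,2262,1496,1480]) (.leaf [2736,3654,2800,2712]))) (.node (.node (.leaf [954,814,1590,934]) (.leaf [3054,2022,2858,3618])) (.node (.leaf [1923,1888,2688,2828]) (.leaf [])))))) (.node (.node (.node (.node (.node (.leaf [67,164,40,18]) (.leaf [2172,2968,1287,2101])) (.node (.leaf [1569,646,1834,1818]) (.leaf [3699,3692,2248,2237]))) (.node (.node (.leaf [372,749,974,986]) (.leaf [1978,3260,1667,2410])) (.node (.leaf [906,2490,2502,2514]) (.leaf [3016,3460,3002,2992])))) (.node (.node (.node (.leaf [202,490,190,178]) (.leaf [1474,3208,3176,3222])) (.node (.leaf [756,2188,746,1850]) (.leaf [3392,2588,3681,3790]))) (.node (.node (.leaf [508,1471,500,1398]) (.leaf [2402,2676,1986,1969])) (.node (.leaf [1378,1170,1366,1354]) (.leaf []))))) (.node (.node (.node (.node (.leaf [314,338,102,86]) (.leaf [3116,2338,1386,3140]))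 (.node (.leaf [1662,690,1968,1987]) (.leaf [2462,2546,3204,3324]))) (.node (.node (.leaf [1234,1196,442,1198]) (.leaf [1868,3483,3248,2686])) (.node (.leaf [1010,1132,986,974]) (.leaf [3562,3500,3358,3536])))) (.node (.node (.node (.leaf [723,282,658,339]) (.leaf [1608,3328,1598,3340])) (.node (.leaf [2370,839,2314,2382]) (.leaf [3796,2802,3664,3820]))) (.node (.node (.leaf [1695,570,1672,1706]) (.leaf [2156,3670,3656,2134])) (.node (.leaf [1506,2850,2882,1219]) (.leaf []))))))) (.node (.node (.node (.node (.node (.node (.leaf [82,6,94,106]) (.leaf [1674,2278,1702,1270])) (.node (.leaf [1788,760,626,1800]) (.leaf [2218,2322,3690,3438]))) (.node (.node (.leaf [922,364,344,656]) (.leaf [2392,3398,2608,2582])) (.node (.leaf [1086,2470,1542,1534]) (.leaf [3042,3028,3026,2946])))) (.node (.node (.node (.leaf [458,146,410,158]) (.leaf [2278,2242,1460,2349])) (.node (.leaf [742,1422,2108,1292]) (.leaf [2520,3171,2544,3496])))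 (.node (.node (.leaf [1402,512,490,514]) (.leaf [3322,1986,3568,1940])) (.node (.leaf [1540,1324,1084,1516]) (.leaf []))))) (.node (.node (.node (.node (.leaf [306,68,244,294]) (.leaf [3098,1368,3074,2704])) (.node (.leaf [682,1942,1954,694]) (.leaf [2586,2572,2570,2394]))) (.node (.node (.leaf [1178,422,1190,432]) (.leaf [1846,3428,3452,3466])) (.node (.leaf [968,2654,2086,2072]) (.leaf [3542,3315,3530,3350])))) (.node (.node (.node (.leaf [646,658,296,248]) (.leaf [3272,1562,3284,3258])) (.node (.leaf [2045,2248,2320,816]) (.leaf [3810,2758,2934,2878]))) (.node (.node (.leaf [562,1662,1580,896]) (.leaf [3624,2107,3146,3158])) (.node (.leaf [1198,2002,1186,1234]) (.leaf [])))))) (.node (.node (.node (.node (.node (.leaf [184,206,196,26]) (.leaf [2996,2734,1304,3022])) (.node (.leaf [1804,1878,1168,1794]) (.leaf [2306,3363,2367,3725]))) (.node (.node (.leaf [994,956,1018,382]) (.leaf [3428,1694,3164,3150]))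 (.node (.leaf [2546,914,2522,2558]) (.leaf [3680,3044,3393,3838])))) (.node (.node (.node (.leaf [210,560,570,222]) (.leaf [2882,1524,1506,2621])) (.node (.leaf [1858,2218,778,764]) (.leaf [2662,2716,3594,3642]))) (.node (.node (.leaf [1512,522,1524,1536]) (.leaf [2458,2938,2444,2001])) (.node (.leaf [2802,1926,2742,2728]) (.leaf []))))) (.node (.node (.node (.node (.leaf [118,382,392,356]) (.leaf [2328,2084,2297,2095])) (.node (.leaf [2018,2042,710,1200]) (.leaf [2480,3310,3332,3214]))) (.node (.node (.leaf [1316,464,1330,1340]) (.leaf [1875,3506,3088,1899])) (.node (.leaf [2686,1018,2646,1868]) (.leaf [3490,3820,3606,3584])))) (.node (.node (.node (.leaf [782,314,794,324]) (.leaf [3370,1618,1640,2780])) (.node (.leaf [1986,860,2402,1663]) (.leaf [3770,3795,3758,2810]))) (.node (.node (.leaf [610,1750,1738,584]) (.leaf [3618,3680,2162,3054])) (.node (.leaf [1250,2942,1238,1956]) (.leaf []))))))))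

def lN_9 : CfsgLib.Coset.Tr (List Nat) := (.node (.node (.node (.node (.node (.node (.node (.leaf [19,58,4,66]) (.leaf [1707,2953,1260,1694])) (.node (.leaf [1138,1710,1112,620]) (.leaf [2199,2610,2792,2667]))) (.node (.node (.leaf [343,902,916,725]) (.leaf [1654,3236,3238,2266])) (.node (.leaf [2439,882,2453,2431]) (.leaf [2932,3698,3806,2920])))) (.node (.node (.node (.leaf [154,440,430,130]) (.leaf [2956,3106,1444,1435])) (.node (.leaf [2124,722,2138,2148]) (.leaf [2542,3382,2516,2504]))) (.node (.node (.leaf [484,1386,1398,500]) (.leaf [3302,2895,1934,3566])) (.node (.leaf [1126,2710,1076,1066]) (.leaf []))))) (.node (.node (.node (.node (.leaf [268,290,280,50]) (.leaf [2195,1354,1718,1780])) (.node (.leaf [1072,1858,1120,1048]) (.leaf [2380,3734,3722,2368]))) (.node (.node (.leaf [1097,418,450,545]) (.leaf [3442,1806,2418,2214])) (.node (.leaf [1584,2642,950,938]) (.leaf [3189,3536,3226,3175]))))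 (.node (.node (.node (.leaf [246,630,304,640]) (.leaf [2908,1588,1551,2635])) (.node (.leaf [824,1318,2291,2050]) (.leaf [3668,3787,3800,3406]))) (.node (.node (.leaf [548,1634,534,1102]) (.leaf [2324,2074,2051,2290])) (.node (.leaf [2492,1182,2842,2852]) (.leaf [])))))) (.node (.node (.node (.node (.node (.leaf [34,176,178,190]) (.leaf [1302,2226,2994,3006])) (.node (.leaf [662,1862,1032,996]) (.leaf [3646,2286,2982,2660]))) (.node (.node (.leaf [976,1002,376,1014]) (.leaf [3408,1682,1754,2764])) (.node (.leaf [2504,2530,908,2542]) (.leaf [3476,3006,3520,3714])))) (.node (.node (.node (.leaf [533,194,544,451]) (.leaf [3224,2362,3186,1470])) (.node (.leaf [774,2204,1852,750]) (.leaf [2644,3568,2676,3240]))) (.node (.node (.leaf [526,1496,1484,1498]) (.leaf [2426,2839,1994,2437])) (.node (.leaf [2787,1124,2202,1143]) (.leaf []))))) (.node (.node (.node (.node (.leaf [354,102,366,114]) (.leaf [2606,1406,2394,2570]))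 (.node (.leaf [706,2015,694,1954]) (.leaf [3212,2630,2468,2478]))) (.node (.node (.leaf [451,1298,1096,533]) (.leaf [3248,2062,1868,2646])) (.node (.leaf [2669,992,1142,2203]) (.leaf [3518,3555,3470,3506])))) (.node (.node (.node (.leaf [298,742,644,308]) (.leaf [1626,3354,3342,1602])) (.node (.leaf [878,844,1406,840]) (.leaf [2818,3728,3754,3776]))) (.node (.node (.leaf [592,1718,582,1732]) (.leaf [2162,3612,3618,2858])) (.node (.leaf [2636,1954,2900,2913]) (.leaf []))))))) (.node (.node (.node (.node (.node (.node (.leaf [124,12,136,146]) (.leaf [2348,1282,2974,2279])) (.node (.leaf [1168,1822,1804,630]) (.leaf [2248,3711,3699,2225]))) (.node (.node (.leaf [930,358,944,958]) (.leaf [2262,3090,2600,1650])) (.node (.leaf [1680,2452,891,1573]) (.leaf [2984,3118,3644,3598])))) (.node (.node (.node (.leaf [162,474,400,462]) (.leaf [2971,2380,2347,1452])) (.node (.leaf [2106,1834,738,2180]) (.leaf [2562,3340,3498,2550])))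 (.node (.node (.leaf [1418,496,1432,1440]) (.leaf [3070,1966,2950,3034])) (.node (.leaf [2718,1096,2728,2742]) (.leaf []))))) (.node (.node (.node (.node (.leaf [94,80,82,322]) (.leaf [1390,2130,3114,3126])) (.node (.leaf [1958,1288,1274,1248]) (.leaf [2766,2446,2758,3418]))) (.node (.node (.leaf [440,1218,1228,1184]) (.leaf [3456,2560,1884,1838])) (.node (.leaf [2074,1038,2058,966]) (.leaf [3356,3835,3560,3550])))) (.node (.node (.node (.leaf [686,266,698,672]) (.leaf [3296,1583,3260,3286])) (.node (.leaf [2299,1394,2332,2356]) (.leaf [3818,2786,3398,3794]))) (.node (.node (.leaf [1578,1678,558,1688]) (.leaf [2140,3638,2130,3654])) (.node (.leaf [2617,2870,1212,2884]) (.leaf [])))))) (.node (.node (.node (.node (.node (.leaf [222,44,232,210]) (.leaf [3026,1651,3042,3062])) (.node (.leaf [1042,1736,668,1028]) (.leaf [3728,3434,2386,2312]))) (.node (.node (.leaf [1046,400,1058,1070]) (.leaf [1748,3070,1906,3092]))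 (.node (.leaf [2574,2163,2588,2610]) (.leaf [3139,3602,3123,3112])))) (.node (.node (.node (.leaf [574,550,212,236]) (.leaf [3202,1516,2706,3080])) (.node (.leaf [794,1458,782,828]) (.leaf [2706,3190,3202,3104]))) (.node (.node (.leaf [1496,1554,808,524]) (.leaf [3604,2909,3485,2007])) (.node (.leaf [1144,2818,2674,2790]) (.leaf []))))) (.node (.node (.node (.node (.leaf [398,231,158,410]) (.leaf [1438,3152,1427,2962])) (.node (.leaf [2060,713,2072,2086]) (.leaf [2848,3747,3735,2489]))) (.node (.node (.leaf [476,587,1352,1364]) (.leaf [1890,3522,3462,3450])) (.node (.leaf [1783,1046,1767,2184]) (.leaf [3514,3812,3718,3524])))) (.node (.node (.node (.leaf [332,822,832,788]) (.leaf [1634,3266,3360,3372])) (.node (.leaf [873,2422,1818,1834]) (.leaf [3735,3416,2848,2837]))) (.node (.node (.leaf [1730,1756,602,588]) (.leaf [2950,3550,3070,3046])) (.node (.leaf [1280,1242,1964,1244]) (.leaf []))))))))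

def lN_10 : CfsgLib.Coset.Tr (List Nat) := (.node (.node (.node (.node (.node (.node (.node (.leaf [8,32,21,46]) (.leaf [1270,2764,1714,1674])) (.node (.leaf [1128,1706,1104,614]) (.leaf [3692,2182,2216,2420]))) (.node (.node (.leaf [848,866,860,884]) (.leaf [1646,3228,3234,2258])) (.node (.leaf [1832,2432,1566,870]) (.leaf [3166,2920,3426,3632])))) (.node (.node (.node (.leaf [148,434,424,122]) (.leaf [3176,1436,1474,3190])) (.node (.leaf [1340,1206,2120,1316]) (.leaf [2536,3376,2510,2500]))) (.node (.node (.leaf [1366,1340,1378,478]) (.leaf [2822,3016,1911,1930])) (.node (.leaf [1118,2702,1068,1056]) (.leaf []))))) (.node (.node (.node (.node (.leaf [258,87,56,282]) (.leaf [2187,1350,1726,1776])) (.node (.leaf [1004,1799,1028,668]) (.leaf [3286,2368,3270,3296]))) (.node (.node (.leaf [1099,410,448,543]) (.leaf [2694,2782,1927,1914])) (.node (.leaf [2082,938,966,2058]) (.leaf [3182,3530,3218,3172]))))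 (.node (.node (.node (.leaf [238,622,224,572]) (.leaf [1552,3248,2907,2895])) (.node (.leaf [818,1313,2283,2041]) (.leaf [2744,3658,2806,2722]))) (.node (.node (.leaf [1602,534,1612,1626]) (.leaf [2318,2064,2046,2285])) (.node (.leaf [1926,1894,2695,2826]) (.leaf [])))))) (.node (.node (.node (.node (.node (.leaf [28,168,172,182]) (.leaf [2182,2970,1292,2108])) (.node (.leaf [651,1844,728,919]) (.leaf [3636,2288,2978,2654]))) (.node (.node (.leaf [380,755,980,992]) (.leaf [1999,3284,2429,2451])) (.node (.leaf [2496,2524,902,2532]) (.leaf [3022,3466,3008,2996])))) (.node (.node (.node (.leaf [500,186,508,484]) (.leaf [3220,2357,3185,1467])) (.node (.leaf [764,2194,752,1858]) (.leaf [3714,2598,3510,3476]))) (.node (.node (.leaf [518,1492,1478,1488]) (.leaf [2408,2684,1989,1976])) (.node (.leaf [2758,1110,2766,1758]) (.leaf []))))) (.node (.node (.node (.node (.leaf [322,346,106,94]) (.leaf [3130,1446,3136,1388]))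 (.node (.leaf [698,2008,686,1944]) (.leaf [2468,2552,3212,3334]))) (.node (.node (.leaf [1244,1262,1256,1280]) (.leaf [3244,2052,1862,2640])) (.node (.leaf [1018,1134,994,982]) (.leaf [3787,3475,3832,3390])))) (.node (.node (.node (.leaf [290,736,638,302]) (.leaf [1616,3334,1606,3344])) (.node (.leaf [858,2394,844,1408]) (.leaf [2810,3722,3746,3770]))) (.node (.node (.leaf [1701,574,1678,1710]) (.leaf [3654,2820,2154,2140])) (.node (.leaf [2631,1952,2898,2904]) (.leaf []))))))) (.node (.node (.node (.node (.node (.node (.leaf [43,116,64,6]) (.leaf [2345,1274,2967,2273])) (.node (.leaf [1796,766,634,1810]) (.leaf [2240,3628,2226,3704]))) (.node (.node (.leaf [926,352,938,950]) (.leaf [2398,3406,2614,2590])) (.node (.leaf [946,2475,932,1592]) (.leaf [2976,3110,3640,3592])))) (.node (.node (.node (.leaf [466,154,416,164]) (.leaf [2092,3200,2355,2331])) (.node (.leaf [2102,1830,734,2174]) (.leaf [2530,3175,2552,3500])))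 (.node (.node (.leaf [1408,894,880,858]) (.leaf [3062,1958,2946,3026])) (.node (.leaf [1544,1330,1090,1522]) (.leaf []))))) (.node (.node (.node (.node (.leaf [86,72,78,314]) (.leaf [3106,1378,3078,2708])) (.node (.leaf [1952,702,680,704]) (.leaf [2764,2438,2752,3408]))) (.node (.node (.leaf [1186,430,1198,442]) (.leaf [3448,2144,1840,1888])) (.node (.leaf [2067,1034,2054,962]) (.leaf [3550,3322,3538,3356])))) (.node (.node (.node (.leaf [282,678,272,258]) (.leaf [3288,1579,3254,3278])) (.node (.leaf [2050,2252,2325,824]) (.leaf [2778,3774,3378,3366]))) (.node (.node (.leaf [1574,1674,554,1682]) (.leaf [3632,2111,3152,3166])) (.node (.leaf [1204,2862,2036,2020]) (.leaf [])))))) (.node (.node (.node (.node (.node (.leaf [190,214,202,34]) (.leaf [3006,1628,3018,1302])) (.node (.leaf [1032,1732,662,1020]) (.leaf [2312,3368,2372,3728]))) (.node (.node (.leaf [1026,390,1000,1038]) (.leaf [1745,3062,1900,3091]))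 (.node (.leaf [2554,920,2528,2564]) (.leaf [3078,3134,3106,3200])))) (.node (.node (.node (.leaf [566,542,206,230]) (.leaf [2888,1534,1511,2626])) (.node (.leaf [2228,786,2242,2252]) (.leaf [2702,3186,3196,3100]))) (.node (.node (.leaf [1518,527,1534,1542]) (.leaf [2014,3592,3584,3606])) (.node (.leaf [1143,2810,2668,2787]) (.leaf []))))) (.node (.node (.node (.node (.leaf [390,250,112,364]) (.leaf [1433,3150,1419,2953])) (.node (.leaf [2024,2050,718,1210]) (.leaf [2840,3292,2490,3740]))) (.node (.node (.leaf [468,581,1346,1358]) (.leaf [1876,3514,3094,1902])) (.node (.leaf [1767,1028,1783,1722]) (.leaf [3506,3806,3710,3518])))) (.node (.node (.node (.leaf [790,322,802,334]) (.leaf [3342,1908,1626,1612])) (.node (.leaf [865,2412,1814,1828]) (.leaf [3778,3799,3766,2816]))) (.node (.node (.leaf [1156,594,616,1110]) (.leaf [2944,3542,3064,3038])) (.node (.leaf [1256,2950,1244,1964]) (.leaf []))))))))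

def lN_11 : CfsgLib.Coset.Tr (List Nat) := (.node (.node (.node (.node (.node (.node (.node (.leaf [76,0,88,98]) (.leaf [1714,2962,1270,1702])) (.node (.leaf [630,1784,1794,1168]) (.leaf [2210,2316,3684,3436]))) (.node (.node (.leaf [344,910,922,726]) (.leaf [3234,3392,1646,2598])) (.node (.leaf [1083,2466,1539,1526]) (.leaf [2936,3706,3814,2926])))) (.node (.node (.node (.leaf [426,450,152,138]) (.leaf [2268,2235,1452,2347])) (.node (.leaf [2134,730,2144,2156]) (.leaf [3764,2514,3772,3750]))) (.node (.node (.leaf [1394,508,482,504]) (.leaf [3308,2902,1938,3572])) (.node (.leaf [1531,1078,1522,1090]) (.leaf []))))) (.node (.node (.node (.node (.leaf [274,298,286,58]) (.leaf [3089,1364,1874,1747])) (.node (.leaf [674,1936,1946,684]) (.leaf [2384,3742,3730,2374]))) (.node (.node (.leaf [1108,1146,1132,1158]) (.leaf [1838,3422,3444,3456])) (.node (.leaf [1594,2650,958,944]) (.leaf [3568,3224,3322,3310]))))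 (.node (.node (.node (.leaf [638,650,290,242]) (.leaf [2914,1590,1558,2639])) (.node (.leaf [2286,2308,820,2323]) (.leaf [3806,2755,2932,2872]))) (.node (.node (.leaf [546,1636,538,1094]) (.leaf [2355,2122,2092,2292])) (.node (.leaf [1190,1998,1178,1224]) (.leaf [])))))) (.node (.node (.node (.node (.node (.leaf [174,135,32,198]) (.leaf [2988,2728,1298,3012])) (.node (.leaf [670,1870,1040,1006]) (.leaf [3596,2294,2660,2982]))) (.node (.node (.leaf [986,948,1010,372]) (.leaf [3416,1690,1760,2768])) (.node (.leaf [2514,2156,2538,906]) (.leaf [3673,3038,3387,3830])))) (.node (.node (.node (.leaf [534,202,548,452]) (.leaf [2598,1482,2258,3234])) (.node (.leaf [1850,2212,770,756]) (.leaf [2648,3575,2684,3250]))) (.node (.node (.leaf [1482,1508,520,810]) (.leaf [2455,2932,2443,1992])) (.node (.leaf [2790,1120,2206,1144]) (.leaf []))))) (.node (.node (.node (.node (.leaf [110,376,386,350]) (.leaf [2614,1414,2398,2578]))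 (.node (.leaf [716,2034,2020,2036]) (.leaf [2472,3302,3328,3208]))) (.node (.node (.leaf [452,1306,1102,534]) (.leaf [3498,2694,2562,2524])) (.node (.leaf [2678,1008,2642,1864]) (.leaf [3526,3559,3478,3512])))) (.node (.node (.node (.leaf [750,306,760,774]) (.leaf [3360,1612,1634,2772])) (.node (.leaf [886,848,1414,850]) (.leaf [3750,3054,2814,3764]))) (.node (.node (.leaf [602,1742,1730,578]) (.leaf [2170,3620,3622,2866])) (.node (.leaf [2924,1231,2876,2938]) (.leaf []))))))) (.node (.node (.node (.node (.node (.node (.leaf [130,18,142,154]) (.leaf [1330,2979,1316,2120])) (.node (.leaf [1563,642,1828,1814]) (.leaf [2250,3718,3702,2230]))) (.node (.node (.leaf [366,962,354,388]) (.leaf [1973,3258,1659,2401])) (.node (.leaf [1690,2454,896,1580]) (.leaf [3152,2992,3632,3426])))) (.node (.node (.node (.leaf [194,482,186,170]) (.leaf [2974,2386,2348,1461])) (.node (.leaf [1294,774,2176,740]) (.leaf [3385,2582,3675,3782])))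 (.node (.node (.leaf [1424,502,1437,1448]) (.leaf [3582,1972,2012,3488])) (.node (.leaf [1370,1168,1358,1346]) (.leaf []))))) (.node (.node (.node (.node (.leaf [102,330,314,78]) (.leaf [3110,2331,1382,3134])) (.node (.leaf [1966,1294,1282,1258]) (.leaf [3332,2618,2480,2466]))) (.node (.node (.leaf [1226,1192,434,1188]) (.leaf [3464,2567,1892,1844])) (.node (.leaf [1717,980,2191,1770]) (.leaf [3554,3494,3350,3530])))) (.node (.node (.node (.leaf [694,272,706,682]) (.leaf [1942,1602,3306,3318])) (.node (.leaf [2367,828,2306,2379]) (.leaf [3826,2794,3406,3800]))) (.node (.node (.leaf [898,606,1684,560]) (.leaf [2152,3662,3650,2128])) (.node (.leaf [2626,2876,1221,2888]) (.leaf [])))))) (.node (.node (.node (.node (.node (.leaf [52,252,256,266]) (.leaf [3034,1652,3046,3070])) (.node (.leaf [1905,666,1742,1881]) (.leaf [2416,2342,3436,3684]))) (.node (.node (.leaf [1054,406,1066,1076]) (.leaf [1760,2884,3416,2756]))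 (.node (.leaf [1214,929,2619,1501]) (.leaf [3140,3610,3128,3116])))) (.node (.node (.node (.leaf [582,222,592,606]) (.leaf [2898,1540,2631,1549])) (.node (.leaf [802,1462,790,838]) (.leaf [2728,3584,2718,2802]))) (.node (.node (.leaf [949,808,1587,924]) (.leaf [3608,2914,3486,2010])) (.node (.leaf [1910,2536,2823,2698]) (.leaf []))))) (.node (.node (.node (.node (.leaf [406,234,164,416]) (.leaf [1459,3164,2273,2967])) (.node (.leaf [2030,2090,1202,708]) (.leaf [2850,3754,3738,2494]))) (.node (.node (.leaf [1348,1062,472,1374]) (.leaf [3530,1898,3542,3554])) (.node (.leaf [1784,1054,1773,2192]) (.leaf [3835,3763,3784,3678])))) (.node (.node (.node (.leaf [830,796,326,792]) (.leaf [1642,3272,3368,3382])) (.node (.leaf [1819,2407,872,1568]) (.leaf [2870,3447,2919,3809]))) (.node (.node (.leaf [1738,1762,610,596]) (.leaf [2862,2670,3056,2166])) (.node (.leaf [1444,1250,2956,1421]) (.leaf []))))))))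

def lN_12 : CfsgLib.Coset.Tr (List Nat) := (.node (.node (.node (.node (.node (.node (.node (.leaf [7,34,16,42]) (.leaf [1261,2760,1706,1672])) (.node (.leaf [622,1774,1160,1136]) (.leaf [3690,2180,2218,2422]))) (.node (.node (.leaf [842,868,854,876]) (.leaf [3380,2747,2780,1640])) (.node (.leaf [1830,2434,1570,874]) (.leaf [3156,2918,3420,3628])))) (.node (.node (.node (.leaf [142,128,130,430]) (.leaf [3174,1432,1472,3188])) (.node (.leaf [1333,1204,2115,1308]) (.leaf [3262,2506,3294,3274]))) (.node (.node (.leaf [1362,1338,1372,474]) (.leaf [2826,3012,1915,1926])) (.node (.leaf [1064,1163,1052,1124]) (.leaf []))))) (.node (.node (.node (.node (.leaf [254,91,54,278]) (.leaf [2122,3082,1342,1328])) (.node (.leaf [1000,1797,1026,666]) (.leaf [3276,2366,3264,3292]))) (.node (.node (.leaf [418,1090,464,404]) (.leaf [2698,2778,1931,1910])) (.node (.leaf [2080,940,964,2056]) (.leaf [3406,3130,3826,3668]))))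 (.node (.node (.node (.leaf [234,618,220,568]) (.leaf [1555,3242,2910,2892])) (.node (.leaf [814,2266,1498,1484]) (.leaf [2742,3652,2802,2718]))) (.node (.node (.leaf [1596,530,1610,1620]) (.leaf [3058,2026,2866,3622])) (.node (.leaf [1930,1890,2699,2822]) (.leaf [])))))) (.node (.node (.node (.node (.node (.leaf [68,166,45,22]) (.leaf [2176,2974,1294,2110])) (.node (.leaf [656,1838,726,922]) (.leaf [3704,3695,2254,2240]))) (.node (.node (.leaf [378,752,978,990]) (.leaf [1995,3282,2427,2448])) (.node (.leaf [910,2492,2506,2518]) (.leaf [3018,3458,3006,2994])))) (.node (.node (.node (.leaf [494,182,506,480]) (.leaf [1473,3212,3175,3226])) (.node (.leaf [760,2186,750,1852]) (.leaf [3710,2594,3506,3470]))) (.node (.node (.leaf [514,1475,502,1402]) (.leaf [2404,2686,1984,1975])) (.node (.leaf [2750,1106,2762,1756]) (.leaf []))))) (.node (.node (.node (.node (.leaf [318,342,104,90]) (.leaf [3124,1444,3134,1382]))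 (.node (.leaf [1664,694,1977,1988]) (.leaf [2470,2548,3210,3330]))) (.node (.node (.leaf [1238,1264,1250,1272]) (.leaf [1866,3490,3250,2684])) (.node (.leaf [1014,1136,988,976]) (.leaf [3781,3470,3831,3386])))) (.node (.node (.node (.leaf [726,286,656,344]) (.leaf [1612,3326,1602,3342])) (.node (.leaf [854,2390,842,1404]) (.leaf [3802,2804,3670,3824]))) (.node (.node (.leaf [1702,568,1674,1714]) (.leaf [3652,2824,2150,2136])) (.node (.leaf [1510,2852,2889,1220]) (.leaf []))))))) (.node (.node (.node (.node (.node (.node (.leaf [37,108,63,2]) (.leaf [1676,2276,1698,1266])) (.node (.leaf [1792,762,628,1806]) (.leaf [2234,3626,2222,3700]))) (.node (.node (.leaf [917,370,342,653]) (.leaf [2394,3402,2606,2586])) (.node (.leaf [938,2478,926,1584]) (.leaf [3046,3032,3034,2950])))) (.node (.node (.node (.leaf [462,150,414,162]) (.leaf [2095,3194,2358,2328])) (.node (.leaf [740,1426,2110,1294]) (.leaf [2524,3176,2550,3498])))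 (.node (.node (.leaf [1406,892,878,852]) (.leaf [3318,1988,3574,1942])) (.node (.leaf [1542,1322,1086,1518]) (.leaf []))))) (.node (.node (.node (.node (.leaf [310,70,248,296]) (.leaf [3104,1374,3080,2706])) (.node (.leaf [1946,700,674,696]) (.leaf [2590,2576,2578,2398]))) (.node (.node (.leaf [1180,426,1196,436]) (.leaf [3444,2140,1838,1884])) (.node (.leaf [966,2662,2082,2074]) (.leaf [3546,3318,3534,3354])))) (.node (.node (.node (.leaf [278,674,270,254]) (.leaf [3270,1570,3286,3260])) (.node (.leaf [2046,2250,2318,823]) (.leaf [2776,3770,3376,3364]))) (.node (.node (.leaf [560,1666,1582,898]) (.leaf [3630,2102,3154,3162])) (.node (.leaf [1202,2858,2030,2016]) (.leaf [])))))) (.node (.node (.node (.node (.node (.leaf [186,210,194,30]) (.leaf [3004,1623,3014,1296])) (.node (.leaf [1810,1880,1172,1796]) (.leaf [2310,3371,2375,3731]))) (.node (.node (.leaf [1022,388,998,1034]) (.leaf [3426,1702,3166,3152]))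 (.node (.leaf [2550,916,2524,2562]) (.leaf [3076,3136,3096,3192])))) (.node (.node (.node (.leaf [214,562,572,224]) (.leaf [2884,1531,1505,2617])) (.node (.leaf [2222,781,2234,2246]) (.leaf [2660,2720,3596,3646]))) (.node (.node (.leaf [1520,521,1532,1546]) (.leaf [2007,3590,3579,3604])) (.node (.leaf [2806,1930,2744,2732]) (.leaf []))))) (.node (.node (.node (.node (.leaf [386,243,110,362]) (.leaf [2338,2082,2302,2099])) (.node (.leaf [2022,2048,712,1206]) (.leaf [2834,3290,2486,3736]))) (.node (.node (.leaf [1314,466,1328,1342]) (.leaf [1882,3508,3092,1906])) (.node (.leaf [1771,1022,1779,1716]) (.leaf [3489,3824,3610,3583])))) (.node (.node (.node (.leaf [784,318,800,328]) (.leaf [3340,1912,1622,1608])) (.node (.leaf [1990,862,2411,1666]) (.leaf [3772,3803,3764,2814]))) (.node (.node (.leaf [1152,592,614,1104]) (.leaf [3622,3679,2170,3058])) (.node (.leaf [1254,2946,1240,1960]) (.leaf []))))))))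

def lN_13 : CfsgLib.Coset.Tr (List Nat) := (.node (.node (.node (.node (.node (.node (.node (.leaf [20,56,9,70]) (.leaf [1711,2959,1268,1700])) (.node (.leaf [626,1778,1788,1164]) (.leaf [2204,2614,2794,2672]))) (.node (.node (.leaf [346,906,914,730]) (.leaf [3232,3386,1648,2594])) (.node (.leaf [2444,886,2458,2435]) (.leaf [2934,3700,3810,2922])))) (.node (.node (.node (.leaf [422,446,150,134]) (.leaf [2960,3104,1449,1436])) (.node (.leaf [2130,726,2140,2154]) (.leaf [3758,2510,3770,3746]))) (.node (.node (.leaf [490,1390,1402,502]) (.leaf [3310,2899,1940,3568])) (.node (.leaf [1527,1070,1514,1082]) (.leaf []))))) (.node (.node (.node (.node (.leaf [270,294,278,54]) (.leaf [3091,1358,1878,1745])) (.node (.leaf [1078,1856,1124,1052]) (.leaf [2382,3736,3726,2370]))) (.node (.node (.leaf [1106,1144,1130,1154]) (.leaf [3440,1810,2420,2216])) (.node (.leaf [1588,2648,952,940]) (.leaf [3571,3218,3315,3304]))))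 (.node (.node (.node (.leaf [250,634,308,644]) (.leaf [2907,1594,1552,2628])) (.node (.leaf [2281,2306,816,2320]) (.leaf [3670,3790,3802,3404]))) (.node (.node (.leaf [543,1640,536,1099]) (.leaf [2356,2116,2091,2299])) (.node (.leaf [2490,1186,2840,2854]) (.leaf [])))))) (.node (.node (.node (.node (.node (.leaf [170,139,30,194]) (.leaf [1306,2228,2998,3010])) (.node (.leaf [664,1866,1036,1002]) (.leaf [3588,2300,2654,2978]))) (.node (.node (.leaf [980,1006,380,1016]) (.leaf [3414,1688,1762,2770])) (.node (.leaf [2512,2151,2534,900]) (.leaf [3478,3010,3526,3716])))) (.node (.node (.node (.leaf [531,198,550,447]) (.leaf [2596,1478,2260,3230])) (.node (.leaf [778,2206,1858,752]) (.leaf [2646,3566,2686,3248]))) (.node (.node (.leaf [1478,1502,518,804]) (.leaf [2434,2842,2000,2445])) (.node (.leaf [2793,1122,2198,1149]) (.leaf []))))) (.node (.node (.node (.node (.leaf [358,106,368,116]) (.leaf [2610,1410,2396,2574]))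 (.node (.leaf [710,2032,2018,2028]) (.leaf [3210,2638,2470,2482]))) (.node (.node (.leaf [454,1302,1094,538]) (.leaf [3496,2692,2556,2520])) (.node (.leaf [2672,994,1150,2204]) (.leaf [3520,3563,3476,3510])))) (.node (.node (.node (.leaf [744,304,758,768]) (.leaf [1628,3358,3344,1606])) (.node (.leaf [884,846,1412,848]) (.leaf [3746,3050,2810,3758]))) (.node (.node (.leaf [596,1726,584,1738]) (.leaf [2166,3616,3620,2862])) (.node (.leaf [2919,1224,2870,2931]) (.leaf []))))))) (.node (.node (.node (.node (.node (.node (.leaf [126,20,134,150]) (.leaf [1322,2982,1310,2112])) (.node (.leaf [1174,1818,1808,632]) (.leaf [2254,3714,3704,2226]))) (.node (.node (.leaf [362,964,350,386]) (.leaf [2266,3094,2602,1654])) (.node (.leaf [1684,2458,898,1582]) (.leaf [3144,2994,3628,3420])))) (.node (.node (.node (.leaf [166,478,404,464]) (.leaf [2968,2385,2342,1456])) (.node (.leaf [1284,768,2174,734]) (.leaf [2564,3346,3502,2554])))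 (.node (.node (.leaf [1422,498,1428,1447]) (.leaf [3578,1970,2006,3484])) (.node (.leaf [2722,1100,2732,2744]) (.leaf []))))) (.node (.node (.node (.node (.leaf [100,326,316,74]) (.leaf [1388,2132,3118,3130])) (.node (.leaf [1960,1290,1276,1254]) (.leaf [3324,2624,2474,2462]))) (.node (.node (.leaf [442,1222,1234,1186]) (.leaf [3462,2565,1890,1842])) (.node (.leaf [1719,978,2194,1764]) (.leaf [3358,3838,3562,3548])))) (.node (.node (.node (.leaf [692,270,700,676]) (.leaf [1934,1598,3302,3316])) (.node (.leaf [2300,1402,2336,2361]) (.leaf [3822,2788,3402,3798]))) (.node (.node (.leaf [888,600,1682,554]) (.leaf [2144,3646,2134,3656])) (.node (.leaf [2622,2872,1216,2887]) (.leaf [])))))) (.node (.node (.node (.node (.node (.leaf [226,46,236,212]) (.leaf [3030,1647,3044,3066])) (.node (.leaf [1899,668,1746,1875]) (.leaf [3726,3442,2382,2314]))) (.node (.node (.leaf [1050,402,1060,1074]) (.leaf [1754,2880,3408,2752]))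 (.node (.leaf [2578,2168,2590,2614]) (.leaf [3136,3608,3130,3118])))) (.node (.node (.node (.leaf [576,220,590,600]) (.leaf [3200,1522,2708,3078])) (.node (.leaf [796,1460,786,834]) (.leaf [2724,3579,2712,2800]))) (.node (.node (.leaf [1498,1558,814,526]) (.leaf [3606,2912,3490,2014])) (.node (.leaf [1914,2532,2827,2694]) (.leaf []))))) (.node (.node (.node (.node (.leaf [402,238,160,412]) (.leaf [1455,3162,2271,2964])) (.node (.leaf [2058,719,2074,2082]) (.leaf [2854,3750,3740,2490]))) (.node (.node (.leaf [1344,1060,470,1368]) (.leaf [1894,3524,3466,3452])) (.node (.leaf [1779,1052,1771,2190]) (.leaf [3829,3758,3783,3674])))) (.node (.node (.node (.leaf [334,826,838,790]) (.leaf [1638,3268,3366,3378])) (.node (.leaf [1815,2401,864,1562]) (.leaf [3740,3419,2854,2840]))) (.node (.node (.leaf [1734,1758,604,594]) (.leaf [2858,2666,3054,2162])) (.node (.leaf [1282,1244,1966,1246]) (.leaf []))))))))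

def lN_14 : CfsgLib.Coset.Tr (List Nat) := (.node (.node (.node (.node (.node (.node (.node (.leaf [13,48,3,62]) (.leaf [1269,2770,1710,1678])) (.node (.leaf [1132,1714,1108,618]) (.leaf [2201,2606,2788,2671]))) (.node (.node (.leaf [850,875,862,886]) (.leaf [1650,3232,3236,2262])) (.node (.leaf [2441,878,2451,2429]) (.leaf [3164,2924,3428,3634])))) (.node (.node (.node (.leaf [150,438,422,126]) (.leaf [2954,3096,1446,1429])) (.node (.leaf [1338,1210,2118,1318]) (.leaf [2538,3374,2514,2502]))) (.node (.node (.leaf [482,1384,1394,492]) (.leaf [2825,3022,1919,1928])) (.node (.leaf [1120,2706,1072,1062]) (.leaf []))))) (.node (.node (.node (.node (.leaf [262,92,58,286]) (.leaf [2185,1352,1723,1782])) (.node (.leaf [1068,1852,1118,1044]) (.leaf [3284,2372,3272,3298]))) (.node (.node (.leaf [1102,412,452,548]) (.leaf [3434,1802,2414,2212])) (.node (.leaf [2084,946,970,2062]) (.leaf [3190,3532,3222,3176]))))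 (.node (.node (.node (.leaf [242,628,302,638]) (.leaf [1556,3250,2912,2901])) (.node (.leaf [822,1314,2284,2047]) (.leaf [3662,3782,3794,3398]))) (.node (.node (.leaf [1606,538,1616,1628]) (.leaf [2320,2071,2045,2281])) (.node (.leaf [2486,1177,2834,2846]) (.leaf [])))))) (.node (.node (.node (.node (.node (.leaf [30,172,170,186]) (.leaf [1296,2222,2990,3004])) (.node (.leaf [654,1840,730,914]) (.leaf [3644,2282,2984,2658]))) (.node (.node (.leaf [972,1000,374,1008]) (.leaf [2000,3286,2434,2459])) (.node (.leaf [2500,2528,904,2536]) (.leaf [3470,3002,3518,3710])))) (.node (.node (.node (.leaf [502,188,514,490]) (.leaf [3222,2360,3190,1474])) (.node (.leaf [770,2198,1850,746]) (.leaf [3718,2602,3514,3474]))) (.node (.node (.leaf [524,1494,1480,1496]) (.leaf [2424,2835,1992,2443])) (.node (.leaf [2756,1114,2768,1760]) (.leaf []))))) (.node (.node (.node (.node (.leaf [350,98,362,110]) (.leaf [3126,1448,3142,1390]))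 (.node (.leaf [700,2011,692,1950]) (.leaf [3204,2636,2462,2474]))) (.node (.node (.leaf [1246,1271,1258,1282]) (.leaf [3250,2056,1866,2648])) (.node (.leaf [2671,986,1146,2201]) (.leaf [3788,3478,3837,3394])))) (.node (.node (.node (.leaf [294,740,642,306]) (.leaf [1624,3350,3338,1600])) (.node (.leaf [860,2398,848,1412]) (.leaf [2814,3724,3750,3772]))) (.node (.node (.leaf [588,1720,578,1730]) (.leaf [3658,2830,2158,2146])) (.node (.leaf [2635,1946,2896,2908]) (.leaf []))))))) (.node (.node (.node (.node (.node (.node (.leaf [44,118,69,10]) (.leaf [2343,1278,2969,2275])) (.node (.leaf [1164,1814,1800,626]) (.leaf [2238,3634,2230,3702]))) (.node (.node (.leaf [932,356,946,956]) (.leaf [2258,3086,2598,1646])) (.node (.leaf [942,2483,934,1590]) (.leaf [2982,3116,3646,3596])))) (.node (.node (.node (.leaf [158,472,398,458]) (.leaf [2096,3202,2360,2337])) (.node (.leaf [2110,1828,740,2176]) (.leaf [2556,3342,3496,2544])))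 (.node (.node (.leaf [1414,898,886,862]) (.leaf [3066,1962,2948,3030])) (.node (.leaf [2714,1094,2726,2738]) (.leaf []))))) (.node (.node (.node (.node (.leaf [90,76,80,318]) (.leaf [1382,2126,3110,3124])) (.node (.leaf [1954,704,682,706]) (.leaf [2768,2440,2756,3416]))) (.node (.node (.leaf [434,1216,1226,1176]) (.leaf [3454,2146,1844,1892])) (.node (.leaf [2071,1042,2062,970]) (.leaf [3350,3830,3554,3542])))) (.node (.node (.node (.leaf [286,682,274,262]) (.leaf [3294,1574,3262,3282])) (.node (.leaf [2295,1400,2334,2352]) (.leaf [2782,3776,3382,3368]))) (.node (.node (.leaf [1582,1672,560,1684]) (.leaf [2136,3640,2126,3652])) (.node (.leaf [1210,2866,2038,2024]) (.leaf [])))))) (.node (.node (.node (.node (.node (.leaf [218,36,230,206]) (.leaf [3008,1631,3022,1304])) (.node (.leaf [1036,1738,664,1024]) (.leaf [3722,3439,2380,2308]))) (.node (.node (.leaf [1030,394,1006,1040]) (.leaf [1743,3066,1904,3087]))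 (.node (.leaf [2570,2167,2586,2606]) (.leaf [3080,3143,3104,3202])))) (.node (.node (.node (.leaf [570,544,210,232]) (.leaf [3196,1512,2702,3072])) (.node (.leaf [2226,790,2240,2254]) (.leaf [2708,3183,3200,3106]))) (.node (.node (.leaf [1490,1550,806,516]) (.leaf [2013,3596,3583,3610])) (.node (.leaf [1150,2812,2672,2794]) (.leaf []))))) (.node (.node (.node (.node (.leaf [394,246,116,368]) (.leaf [1434,3154,1420,2957])) (.node (.leaf [2052,714,2064,2076]) (.leaf [2838,3298,2494,3738]))) (.node (.node (.leaf [474,584,1350,1362]) (.leaf [1888,3518,3460,3448])) (.node (.leaf [1772,1030,1785,1724]) (.leaf [3510,3808,3714,3520])))) (.node (.node (.node (.leaf [326,820,830,780]) (.leaf [3346,1918,1630,1618])) (.node (.leaf [874,2416,1822,1830]) (.leaf [3736,3414,2846,2834]))) (.node (.node (.leaf [1160,598,622,1114]) (.leaf [2946,3546,3062,3042])) (.node (.leaf [1274,1240,1958,1236]) (.leaf []))))))))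

def lN_15 : CfsgLib.Coset.Tr (List Nat) := (.node (.node (.node (.node (.node (.node (.node (.leaf [78,8,86,102]) (.leaf [1672,2272,1695,1261])) (.node (.leaf [634,1786,1796,1172]) (.leaf [2216,2320,3692,3440]))) (.node (.node (.leaf [919,362,340,651]) (.leaf [3238,3391,1654,2602])) (.node (.leaf [1088,2462,1546,1532]) (.leaf [3040,3024,3028,2942])))) (.node (.node (.node (.leaf [430,454,154,142]) (.leaf [2270,2239,1454,2341])) (.node (.leaf [734,1420,2102,1284]) (.leaf [3766,2518,3778,3752]))) (.node (.node (.leaf [1400,510,488,512]) (.leaf [3316,1984,3566,1934])) (.node (.leaf [1534,1074,1518,1086]) (.leaf []))))) (.node (.node (.node (.node (.leaf [302,60,242,290]) (.leaf [3092,1366,1882,1748])) (.node (.leaf [676,1938,1950,692]) (.leaf [2584,2568,2572,2390]))) (.node (.node (.leaf [1114,1148,1136,1160]) (.leaf [1842,3424,3450,3462])) (.node (.leaf [963,2658,2079,2066]) (.leaf [3572,3226,3320,3308]))))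 (.node (.node (.node (.leaf [642,652,294,244]) (.leaf [3266,1566,3278,3254])) (.node (.leaf [2290,2312,825,2324]) (.leaf [3812,2750,2938,2876]))) (.node (.node (.leaf [554,1660,1574,888]) (.leaf [2362,2118,2098,2303])) (.node (.leaf [1192,2000,1182,1230]) (.leaf [])))))) (.node (.node (.node (.node (.node (.leaf [178,140,34,202]) (.leaf [2992,2732,1300,3016])) (.node (.leaf [1802,1876,1166,1790]) (.leaf [3594,2302,2662,2986]))) (.node (.node (.leaf [990,954,1012,378]) (.leaf [3422,1698,3158,3146])) (.node (.leaf [2516,2159,2542,908]) (.leaf [3679,3047,3388,3834])))) (.node (.node (.node (.leaf [206,556,566,218]) (.leaf [2602,1486,2266,3238])) (.node (.leaf [1854,2214,772,762]) (.leaf [2654,2714,3588,3636]))) (.node (.node (.leaf [1484,1510,526,814]) (.leaf [2452,2937,2438,1996])) (.node (.leaf [2800,1924,2736,2724]) (.leaf []))))) (.node (.node (.node (.node (.leaf [114,378,388,354]) (.leaf [2334,2080,2295,2089]))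 (.node (.leaf [718,2036,2024,2038]) (.leaf [2478,3308,3334,3212]))) (.node (.node (.leaf [1310,460,1322,1334]) (.leaf [3502,2698,2564,2528])) (.node (.leaf [2684,1014,2648,1866]) (.leaf [3482,3818,3602,3580])))) (.node (.node (.node (.leaf [752,310,764,778]) (.leaf [3364,1616,1636,2776])) (.node (.leaf [1984,854,2404,1661]) (.leaf [3754,3058,2818,3762]))) (.node (.node (.leaf [606,1748,1732,582]) (.leaf [3616,3674,2164,3050])) (.node (.leaf [2922,1235,2878,2934]) (.leaf []))))))) (.node (.node (.node (.node (.node (.node (.leaf [61,156,39,14]) (.leaf [1326,2987,1318,2118])) (.node (.leaf [1570,640,1830,1822]) (.leaf [3700,3690,2246,2234]))) (.node (.node (.leaf [370,970,356,392]) (.leaf [1974,3262,1660,2405])) (.node (.leaf [900,2486,2498,2512]) (.leaf [3154,2998,3630,3430])))) (.node (.node (.node (.leaf [198,486,188,174]) (.leaf [1467,3206,3171,3220])) (.node (.leaf [1292,776,2182,742]) (.leaf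 [3391,2591,3676,3786]))) (.node (.node (.leaf [506,1468,494,1392]) (.leaf [3584,1976,2014,3490])) (.node (.leaf [1374,1172,1360,1348]) (.leaf []))))) (.node (.node (.node (.node (.leaf [106,332,322,82]) (.leaf [3118,2335,1388,3136])) (.node (.leaf [1658,688,1972,1980]) (.leaf [3334,2622,2478,2468]))) (.node (.node (.leaf [1232,1194,436,1196]) (.leaf [1862,3486,3244,2680])) (.node (.leaf [1727,982,2186,1768]) (.leaf [3556,3498,3352,3532])))) (.node (.node (.node (.leaf [725,278,652,343]) (.leaf [1940,1604,3310,3322])) (.node (.leaf [2372,835,2312,2386]) (.leaf [3794,2798,3662,3818]))) (.node (.node (.leaf [896,608,1690,562]) (.leaf [2154,3666,3654,2130])) (.node (.leaf [1505,2848,2884,1212]) (.leaf [])))))) (.node (.node (.node (.node (.node (.leaf [54,256,254,270]) (.leaf [2112,3074,1334,1322])) (.node (.leaf [1902,664,1750,1876]) (.leaf [2420,2344,3440,3692]))) (.node (.node (.leaf [410,1084,458,398])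 (.leaf [1762,2886,3414,2754])) (.node (.leaf [1218,930,2620,1507]) (.leaf [3398,3123,3818,3662])))) (.node (.node (.node (.leaf [584,226,596,610]) (.leaf [2892,1544,2633,1555])) (.node (.leaf [806,2258,1490,1476]) (.leaf [2734,3583,2720,2804]))) (.node (.node (.leaf [956,810,1592,932]) (.leaf [3052,2018,2860,3614])) (.node (.leaf [1913,2542,2831,2696]) (.leaf []))))) (.node (.node (.node (.node (.leaf [134,120,126,422]) (.leaf [1460,3166,2278,2975])) (.node (.leaf [2036,2094,1204,716]) (.leaf [3252,2502,3292,3264]))) (.node (.node (.leaf [1352,1066,476,1376]) (.leaf [3534,1900,3546,3558])) (.node (.leaf [1056,1156,1044,1118]) (.leaf [3836,3766,3789,3682])))) (.node (.node (.node (.leaf [836,798,328,800]) (.leaf [3372,2740,2772,1634])) (.node (.leaf [1822,2410,874,1570]) (.leaf [2874,3455,2927,3815]))) (.node (.node (.leaf [614,1766,1152,1128]) (.leaf [2866,2674,3058,2170])) (.node (.leaf [1446,1256,2954,1423])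 (.leaf []))))))))

def lN_16 : CfsgLib.Coset.Tr (List Nat) := (.node (.node (.node (.node (.node (.node (.node (.leaf [2,27,12,37]) (.leaf [1449,1255,2960,1425])) (.node (.leaf [617,1769,1157,1135]) (.leaf [3689,2173,2213,2415]))) (.node (.node (.leaf [833,803,333,799]) (.leaf [3377,2739,2777,1637])) (.node (.leaf [1825,2425,1561,867]) (.leaf [2879,3451,2923,3811])))) (.node (.node (.node (.leaf [141,127,123,425]) (.leaf [3169,1429,1465,3181])) (.node (.leaf [2035,2092,1209,715]) (.leaf [3257,2499,3291,3269]))) (.node (.node (.leaf [1357,1335,1369,471]) (.leaf [3537,1905,3549,3563])) (.node (.leaf [1063,1155,1049,1121]) (.leaf []))))) (.node (.node (.node (.node (.leaf [57,263,259,273]) (.leaf [2119,3077,1339,1327])) (.node (.leaf [999,1788,1023,661]) (.leaf [2423,2347,3439,3691]))) (.node (.node (.leaf [413,1087,461,403]) (.leaf [2688,2773,1923,1909])) (.node (.leaf [1223,933,2624,1509]) (.leaf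 [3401,3125,3821,3665])))) (.node (.node (.node (.leaf [229,613,217,565]) (.leaf [2901,1547,2637,1556])) (.node (.leaf [811,2261,1493,1483]) (.leaf [2739,3649,2797,2715]))) (.node (.node (.leaf [959,812,1595,931]) (.leaf [3051,2021,2865,3617])) (.node (.leaf [1920,1885,2691,2821]) (.leaf [])))))) (.node (.node (.node (.node (.node (.leaf [64,161,43,17]) (.leaf [2175,2965,1285,2103])) (.node (.leaf [1567,645,1833,1821]) (.leaf [3703,3687,2251,2239]))) (.node (.node (.leaf [375,744,973,985]) (.leaf [1977,3255,1664,2409])) (.node (.leaf [905,2489,2501,2511]) (.leaf [3013,3457,3001,2989])))) (.node (.node (.node (.leaf [197,489,185,177]) (.leaf [1469,3211,3173,3219])) (.node (.leaf [759,2185,745,1849]) (.leaf [3395,2587,3682,3789]))) (.node (.node (.leaf [513,1465,499,1401]) (.leaf [2401,2679,1981,1973])) (.node (.leaf [1377,1175,1365,1353]) (.leaf []))))) (.node (.node (.node (.node (.leaf [313,337,97,85])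 (.leaf [3115,2337,1391,3143])) (.node (.leaf [1661,687,1975,1984]) (.leaf [2461,2545,3207,3327]))) (.node (.node (.leaf [1229,1199,441,1195]) (.leaf [1865,3489,3243,2679])) (.node (.leaf [1009,1129,985,973]) (.leaf [3561,3503,3357,3539])))) (.node (.node (.node (.leaf [728,281,651,340]) (.leaf [1611,3325,1597,3337])) (.node (.leaf [2374,837,2311,2384]) (.leaf [3799,2801,3667,3823]))) (.node (.node (.leaf [1693,565,1669,1705]) (.leaf [2159,3669,3659,2133])) (.node (.leaf [1503,2847,2887,1216]) (.leaf []))))))) (.node (.node (.node (.node (.node (.node (.leaf [81,11,91,105]) (.leaf [1671,2271,1697,1265])) (.node (.leaf [1791,757,625,1803]) (.leaf [2215,2327,3695,3443]))) (.node (.node (.leaf [920,367,339,658]) (.leaf [2389,3397,2605,2581])) (.node (.leaf [1090,2465,1544,1531]) (.leaf [3039,3031,3033,2945])))) (.node (.node (.node (.leaf [457,145,409,157]) (.leaf [2277,2241,1463,2350])) (.node (.leaf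 [736,1418,2105,1289]) (.leaf [2523,3169,2547,3493]))) (.node (.node (.leaf [1397,515,487,511]) (.leaf [3315,1983,3571,1937])) (.node (.leaf [1537,1321,1081,1513]) (.leaf []))))) (.node (.node (.node (.node (.leaf [305,65,247,293]) (.leaf [3097,1373,3077,2701])) (.node (.leaf [681,1940,1953,691]) (.leaf [2583,2575,2577,2393]))) (.node (.node (.leaf [1177,421,1189,435]) (.leaf [1845,3431,3455,3465])) (.node (.leaf [965,2660,2081,2069]) (.leaf [3541,3312,3529,3349])))) (.node (.node (.node (.leaf [645,657,299,251]) (.leaf [3269,1569,3281,3257])) (.node (.leaf [2040,2245,2317,819]) (.leaf [3814,2753,2936,2875]))) (.node (.node (.leaf [556,1658,1577,893]) (.leaf [3627,2101,3149,3161])) (.node (.leaf [1195,1995,1185,1229]) (.leaf [])))))) (.node (.node (.node (.node (.node (.leaf [181,205,193,25]) (.leaf [2999,2731,1307,3021])) (.node (.leaf [1807,1883,1171,1793]) (.leaf [2305,3361,2365,3721]))) (.node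 (.node (.leaf [993,959,1017,381]) (.leaf [3425,1701,3161,3149])) (.node (.leaf [2545,913,2521,2557]) (.leaf [3683,3043,3394,3837])))) (.node (.node (.node (.leaf [209,555,569,221]) (.leaf [2881,1526,1500,2618])) (.node (.leaf [1857,2217,777,767]) (.leaf [2657,2719,3593,3641]))) (.node (.node (.leaf [1514,517,1527,1538]) (.leaf [2457,2935,2447,2002])) (.node (.leaf [2799,1923,2741,2731]) (.leaf []))))) (.node (.node (.node (.node (.leaf [117,381,395,359]) (.leaf [2333,2079,2298,2090])) (.node (.leaf [2017,2041,709,1203]) (.leaf [2483,3305,3331,3211]))) (.node (.node (.leaf [1312,459,1325,1337]) (.leaf [1872,3505,3085,1896])) (.node (.leaf [2683,1017,2651,1871]) (.leaf [3484,3823,3605,3578])))) (.node (.node (.node (.leaf [781,313,793,327]) (.leaf [3369,1615,1643,2783])) (.node (.leaf [1982,857,2406,1656]) (.leaf [3769,3792,3757,2809]))) (.node (.node (.leaf [609,1747,1737,587]) (.leaf [3615,3676,2169,3053]))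 (.node (.leaf [1249,2941,1237,1959]) (.leaf []))))))))

def lN_17 : CfsgLib.Coset.Tr (List Nat) := (.node (.node (.node (.node (.node (.node (.node (.leaf [16,53,7,65]) (.leaf [1705,2955,1263,1693])) (.node (.leaf [1137,1713,1115,623]) (.leaf [2202,2609,2787,2668]))) (.node (.node (.leaf [336,901,913,720]) (.leaf [1649,3239,3233,2265])) (.node (.leaf [2443,884,2455,2424]) (.leaf [2929,3697,3805,2917])))) (.node (.node (.node (.leaf [153,443,427,129]) (.leaf [2959,3103,1443,1431])) (.node (.leaf [2127,721,2137,2151]) (.leaf [2541,3381,2519,2507]))) (.node (.node (.leaf [487,1381,1397,497]) (.leaf [3301,2892,1932,3564])) (.node (.leaf [1125,2709,1079,1065]) (.leaf []))))) (.node (.node (.node (.node (.leaf [265,289,277,49]) (.leaf [2189,1349,1720,1787])) (.node (.leaf [1075,1851,1123,1051]) (.leaf [2377,3733,3721,2365]))) (.node (.node (.leaf [1095,417,455,547]) (.leaf [3437,1805,2417,2211])) (.node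 (.leaf [1587,2641,949,937]) (.leaf [3187,3539,3225,3179])))) (.node (.node (.node (.leaf [245,627,307,643]) (.leaf [2904,1585,1549,2631])) (.node (.leaf [827,1317,2288,2049]) (.leaf [3665,3784,3797,3401]))) (.node (.node (.leaf [540,1633,529,1092]) (.leaf [2327,2073,2048,2289])) (.node (.leaf [2488,1179,2836,2849]) (.leaf [])))))) (.node (.node (.node (.node (.node (.leaf [33,179,175,189]) (.leaf [1301,2225,2993,3003])) (.node (.leaf [661,1861,1035,999]) (.leaf [3643,2291,2987,2663]))) (.node (.node (.leaf [979,999,379,1013]) (.leaf [3413,1681,1757,2763])) (.node (.leaf [2507,2527,911,2541]) (.leaf [3473,3005,3523,3713])))) (.node (.node (.node (.leaf [528,193,541,444]) (.leaf [3227,2358,3188,1472])) (.node (.leaf [773,2201,1855,749]) (.leaf [2643,3565,2679,3243]))) (.node (.node (.leaf [523,1499,1487,1495]) (.leaf [2429,2836,1999,2441])) (.node (.leaf [2784,1117,2197,1140]) (.leaf []))))) (.node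 (.node (.node (.node (.leaf [353,101,365,113]) (.leaf [2605,1405,2389,2569])) (.node (.leaf [703,2013,689,1949]) (.leaf [3209,2633,2465,2473]))) (.node (.node (.leaf [444,1297,1093,528]) (.leaf [3247,2061,1871,2651])) (.node (.leaf [2666,989,1149,2198]) (.leaf [3517,3552,3469,3505])))) (.node (.node (.node (.leaf [297,739,647,311]) (.leaf [1623,3353,3341,1599])) (.node (.leaf [877,841,1405,843]) (.leaf [2817,3731,3753,3779]))) (.node (.node (.leaf [595,1725,581,1735]) (.leaf [2161,3615,3613,2857])) (.node (.leaf [2639,1951,2903,2914]) (.leaf []))))))) (.node (.node (.node (.node (.node (.node (.leaf [121,15,133,145]) (.leaf [2351,1277,2973,2276])) (.node (.leaf [1171,1817,1807,629]) (.leaf [2245,3708,3696,2220]))) (.node (.node (.leaf [935,355,943,955]) (.leaf [2265,3089,2595,1649])) (.node (.leaf [1683,2449,889,1575]) (.leaf [2987,3113,3643,3595])))) (.node (.node (.node (.leaf [161,471,403,461])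 (.leaf [2964,2377,2340,1455])) (.node (.leaf [2109,1833,743,2183]) (.leaf [2561,3339,3495,2549]))) (.node (.node (.leaf [1417,493,1431,1443]) (.leaf [3065,1965,2945,3033])) (.node (.leaf [2717,1103,2731,2741]) (.leaf []))))) (.node (.node (.node (.node (.leaf [89,83,77,321]) (.leaf [1384,2129,3113,3122])) (.node (.leaf [1957,1284,1273,1251]) (.leaf [2771,2443,2755,3415]))) (.node (.node (.leaf [437,1215,1233,1181]) (.leaf [3459,2556,1887,1837])) (.node (.leaf [2073,1041,2061,969]) (.leaf [3353,3832,3557,3545])))) (.node (.node (.node (.leaf [685,265,697,675]) (.leaf [3299,1577,3259,3285])) (.node (.leaf [2296,1397,2329,2359]) (.leaf [3817,2785,3397,3793]))) (.node (.node (.leaf [1581,1677,563,1691]) (.leaf [2143,3643,2129,3651])) (.node (.leaf [2621,2869,1219,2882]) (.leaf [])))))) (.node (.node (.node (.node (.node (.leaf [221,41,235,209]) (.leaf [3025,1644,3037,3061])) (.node (.leaf [1041,1735,671,1031])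 (.leaf [3724,3441,2378,2307]))) (.node (.node (.leaf [1045,397,1057,1069]) (.leaf [1751,3069,1903,3095])) (.node (.leaf [2577,2164,2583,2609]) (.leaf [3132,3601,3120,3109])))) (.node (.node (.node (.leaf [573,549,215,239]) (.leaf [3195,1519,2705,3075])) (.node (.leaf [793,1453,781,831]) (.leaf [2711,3185,3199,3103]))) (.node (.node (.leaf [1493,1557,811,521]) (.leaf [3601,2905,3481,2005])) (.node (.leaf [1146,2817,2671,2788]) (.leaf []))))) (.node (.node (.node (.node (.leaf [397,228,157,409]) (.leaf [1437,3147,1424,2961])) (.node (.leaf [2057,711,2069,2081]) (.leaf [2845,3744,3732,2484]))) (.node (.node (.leaf [479,583,1355,1367]) (.leaf [1887,3521,3459,3447])) (.node (.leaf [1776,1045,1769,2187]) (.leaf [3513,3815,3717,3527])))) (.node (.node (.node (.leaf [329,819,837,785]) (.leaf [1633,3265,3363,3375])) (.node (.leaf [871,2421,1821,1833]) (.leaf [3739,3411,2851,2839]))) (.node (.node (.leaf [1729,1755,601,591])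 (.leaf [2949,3549,3067,3045])) (.node (.leaf [1277,1239,1961,1241]) (.leaf []))))))))

def lN_18 : CfsgLib.Coset.Tr (List Nat) := (.node (.node (.node (.node (.node (.node (.node (.leaf [11,31,22,45]) (.leaf [1265,2767,1709,1671])) (.node (.leaf [1131,1705,1107,613]) (.leaf [3695,2179,2215,2419]))) (.node (.node (.leaf [845,870,859,881]) (.leaf [1645,3231,3229,2257])) (.node (.leaf [1835,2431,1568,872]) (.leaf [3161,2923,3425,3627])))) (.node (.node (.node (.leaf [145,433,421,121]) (.leaf [3179,1439,1471,3187])) (.node (.leaf [1336,1203,2116,1313]) (.leaf [2533,3373,2509,2497]))) (.node (.node (.leaf [1365,1343,1377,477]) (.leaf [2830,3015,1912,1925])) (.node (.leaf [1117,2701,1071,1059]) (.leaf []))))) (.node (.node (.node (.node (.leaf [261,88,51,281]) (.leaf [2190,1345,1716,1779])) (.node (.leaf [1007,1794,1031,671]) (.leaf [3281,2371,3269,3291]))) (.node (.node (.leaf [1092,409,445,540]) (.leaf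 [2692,2781,1928,1919])) (.node (.leaf [2079,943,963,2055]) (.leaf [3181,3529,3217,3169])))) (.node (.node (.node (.leaf [237,621,227,575]) (.leaf [1550,3247,2909,2897])) (.node (.leaf [817,1308,2280,2044]) (.leaf [2747,3657,2805,2721]))) (.node (.node (.leaf [1601,533,1615,1625]) (.leaf [2317,2066,2040,2282])) (.node (.leaf [1924,1893,2696,2831]) (.leaf [])))))) (.node (.node (.node (.node (.node (.leaf [25,171,169,181]) (.leaf [2181,2973,1291,2107])) (.node (.leaf [658,1843,723,920]) (.leaf [3639,2285,2981,2653]))) (.node (.node (.leaf [383,751,983,995]) (.leaf [1996,3281,2430,2452])) (.node (.leaf [2499,2521,901,2535]) (.leaf [3021,3465,3011,2999])))) (.node (.node (.node (.leaf [497,185,511,487]) (.leaf [3217,2353,3181,1465])) (.node (.leaf [767,2191,755,1857]) (.leaf [3713,2597,3509,3473]))) (.node (.node (.leaf [517,1489,1477,1491]) (.leaf [2411,2681,1990,1979])) (.node (.leaf [2753,1109,2765,1755])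 (.leaf []))))) (.node (.node (.node (.node (.leaf [317,345,101,93]) (.leaf [3123,1443,3139,1385])) (.node (.leaf [697,2007,685,1947]) (.leaf [2467,2555,3215,3333]))) (.node (.node (.leaf [1241,1266,1255,1277]) (.leaf [3241,2055,1861,2645])) (.node (.leaf [1017,1139,993,981]) (.leaf [3784,3472,3835,3389])))) (.node (.node (.node (.leaf [289,733,637,301]) (.leaf [1619,3333,1605,3347])) (.node (.leaf [857,2393,847,1411]) (.leaf [2809,3721,3745,3769]))) (.node (.node (.leaf [1699,573,1677,1713]) (.leaf [3651,2827,2153,2143])) (.node (.leaf [2628,1945,2895,2907]) (.leaf []))))))) (.node (.node (.node (.node (.node (.node (.leaf [40,113,67,5]) (.leaf [2341,1272,2965,2270])) (.node (.leaf [1799,765,633,1809]) (.leaf [2237,3633,2225,3699]))) (.node (.node (.leaf [924,349,937,949]) (.leaf [2397,3405,2611,2589])) (.node (.leaf [940,2481,929,1588]) (.leaf [2979,3109,3637,3589])))) (.node (.node (.node (.leaf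 [465,153,419,167]) (.leaf [2090,3199,2357,2333])) (.node (.leaf [2100,1825,733,2173]) (.leaf [2529,3179,2555,3503]))) (.node (.node (.leaf [1411,891,883,857]) (.leaf [3061,1957,2941,3025])) (.node (.leaf [1547,1329,1089,1521]) (.leaf []))))) (.node (.node (.node (.node (.leaf [85,75,73,313]) (.leaf [3103,1377,3083,2711])) (.node (.leaf [1951,699,677,701]) (.leaf [2761,2437,2749,3411]))) (.node (.node (.leaf [1185,429,1195,441]) (.leaf [3451,2139,1843,1891])) (.node (.leaf [2065,1033,2053,961]) (.leaf [3549,3321,3537,3359])))) (.node (.node (.node (.leaf [285,677,267,257]) (.leaf [3291,1573,3257,3281])) (.node (.leaf [2049,2255,2326,827]) (.leaf [2775,3773,3375,3363]))) (.node (.node (.leaf [1572,1669,553,1681]) (.leaf [3635,2105,3151,3165])) (.node (.leaf [1207,2861,2033,2023]) (.leaf [])))))) (.node (.node (.node (.node (.node (.leaf [189,213,199,33]) (.leaf [3003,1620,3017,1301])) (.node (.leaf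 [1035,1729,661,1023]) (.leaf [2315,3367,2371,3727]))) (.node (.node (.leaf [1025,387,1003,1037]) (.leaf [1740,3061,1897,3084])) (.node (.leaf [2553,919,2531,2567]) (.leaf [3073,3140,3101,3197])))) (.node (.node (.node (.leaf [565,541,205,229]) (.leaf [2891,1533,1508,2625])) (.node (.leaf [2224,783,2236,2249]) (.leaf [2701,3180,3193,3097]))) (.node (.node (.leaf [1522,525,1531,1544]) (.leaf [2009,3595,3581,3603])) (.node (.leaf [1140,2809,2665,2784]) (.leaf []))))) (.node (.node (.node (.node (.leaf [389,248,115,367]) (.leaf [1430,3149,1416,2958])) (.node (.leaf [2027,2047,715,1209]) (.leaf [2837,3297,2489,3735]))) (.node (.node (.leaf [471,576,1345,1357]) (.leaf [1878,3513,3091,1900])) (.node (.leaf [1768,1025,1777,1727]) (.leaf [3505,3805,3709,3517])))) (.node (.node (.node (.leaf [789,321,799,333]) (.leaf [3339,1915,1625,1615])) (.node (.leaf [867,2415,1813,1825]) (.leaf [3777,3797,3763,2819])))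 (.node (.node (.leaf [1159,591,619,1109]) (.leaf [2941,3541,3061,3037])) (.node (.leaf [1259,2949,1247,1967]) (.leaf []))))))))

def lN_19 : CfsgLib.Coset.Tr (List Nat) := (.node (.node (.node (.node (.node (.node (.node (.leaf [73,3,85,97]) (.leaf [1713,2961,1267,1699])) (.node (.leaf [629,1781,1793,1171]) (.leaf [2209,2319,3687,3433]))) (.node (.node (.leaf [340,909,919,728]) (.leaf [3231,3388,1653,2597])) (.node (.leaf [1081,2460,1537,1525]) (.leaf [2939,3703,3813,2925])))) (.node (.node (.node (.leaf [429,449,147,137]) (.leaf [2275,2232,1457,2343])) (.node (.leaf [2133,729,2147,2159]) (.leaf [3761,2513,3775,3749]))) (.node (.node (.leaf [1393,505,481,507]) (.leaf [3307,2901,1943,3575])) (.node (.leaf [1529,1073,1517,1085]) (.leaf []))))) (.node (.node (.node (.node (.leaf [273,297,283,57]) (.leaf [3086,1361,1881,1742])) (.node (.leaf [673,1934,1945,687]) (.leaf [2387,3739,3729,2373]))) (.node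 (.node (.leaf [1111,1151,1135,1157]) (.leaf [1837,3421,3447,3459])) (.node (.leaf [1593,2647,957,947]) (.leaf [3567,3223,3317,3303])))) (.node (.node (.node (.leaf [637,649,289,241]) (.leaf [2913,1593,1557,2636])) (.node (.leaf [2282,2311,819,2317]) (.leaf [3805,2748,2929,2869]))) (.node (.node (.leaf [544,1643,533,1096]) (.leaf [2359,2115,2094,2296])) (.node (.leaf [1189,1993,1177,1227]) (.leaf [])))))) (.node (.node (.node (.node (.node (.leaf [177,136,27,197]) (.leaf [2991,2725,1297,3015])) (.node (.leaf [669,1869,1043,1005]) (.leaf [3593,2297,2657,2977]))) (.node (.node (.leaf [985,951,1009,375]) (.leaf [3419,1687,1759,2767])) (.node (.leaf [2511,2148,2537,905]) (.leaf [3674,3037,3384,3829])))) (.node (.node (.node (.leaf [539,201,547,455]) (.leaf [2595,1481,2265,3233])) (.node (.leaf [1849,2211,769,759]) (.leaf [2651,3571,2683,3247]))) (.node (.node (.leaf [1481,1505,525,809]) (.leaf [2448,2929,2436,1995]))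 (.node (.leaf [2788,1127,2201,1146]) (.leaf []))))) (.node (.node (.node (.node (.leaf [109,373,385,349]) (.leaf [2609,1413,2393,2577])) (.node (.leaf [713,2031,2023,2033]) (.leaf [2475,3301,3325,3205]))) (.node (.node (.leaf [448,1305,1099,536]) (.leaf [3495,2691,2561,2527])) (.node (.leaf [2677,1013,2645,1861]) (.leaf [3525,3557,3475,3515])))) (.node (.node (.node (.leaf [749,303,763,773]) (.leaf [3363,1609,1633,2775])) (.node (.leaf [883,851,1411,847]) (.leaf [3749,3053,2813,3761]))) (.node (.node (.leaf [601,1741,1729,577]) (.leaf [2165,3623,3617,2865])) (.node (.leaf [2921,1227,2873,2933]) (.leaf []))))))) (.node (.node (.node (.node (.node (.node (.leaf [129,23,139,153]) (.leaf [1324,2985,1313,2116])) (.node (.leaf [1561,637,1825,1813]) (.leaf [2253,3717,3707,2229]))) (.node (.node (.leaf [365,967,353,391]) (.leaf [1970,3257,1656,2406])) (.node (.leaf [1689,2457,895,1579]) (.leaf [3149,2991,3627,3425]))))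 (.node (.node (.node (.leaf [193,481,181,169]) (.leaf [2973,2383,2351,1462])) (.node (.leaf [1288,773,2179,737]) (.leaf [3386,2581,3672,3781]))) (.node (.node (.leaf [1427,501,1438,1451]) (.leaf [3581,1975,2009,3483])) (.node (.leaf [1369,1165,1357,1345]) (.leaf []))))) (.node (.node (.node (.node (.leaf [99,329,321,77]) (.leaf [3109,2328,1380,3132])) (.node (.leaf [1965,1292,1281,1257]) (.leaf [3329,2617,2473,2465]))) (.node (.node (.leaf [1225,1189,433,1191]) (.leaf [3467,2562,1895,1847])) (.node (.leaf [1725,975,2192,1773]) (.leaf [3553,3493,3349,3529])))) (.node (.node (.node (.leaf [691,275,705,681]) (.leaf [1936,1601,3305,3314])) (.node (.leaf [2365,833,2305,2377]) (.leaf [3825,2793,3405,3803]))) (.node (.node (.leaf [892,605,1687,557]) (.leaf [2149,3661,3649,2125])) (.node (.leaf [2625,2879,1222,2891]) (.leaf [])))))) (.node (.node (.node (.node (.node (.leaf [49,255,253,265]) (.leaf [3029,1655,3041,3069]))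 (.node (.leaf [1907,663,1749,1883]) (.leaf [2413,2341,3433,3687]))) (.node (.node (.leaf [1053,405,1065,1079]) (.leaf [1757,2889,3413,2751])) (.node (.leaf [1213,924,2616,1504]) (.leaf [3143,3605,3127,3115])))) (.node (.node (.node (.leaf [581,219,595,605]) (.leaf [2895,1537,2628,1552])) (.node (.leaf [799,1455,789,833]) (.leaf [2731,3581,2717,2799]))) (.node (.node (.leaf [951,804,1585,927]) (.leaf [3611,2910,3488,2012])) (.node (.leaf [1918,2535,2824,2693]) (.leaf []))))) (.node (.node (.node (.node (.leaf [405,232,167,419]) (.leaf [1456,3161,2274,2968])) (.node (.leaf [2029,2088,1201,711]) (.leaf [2853,3753,3743,2493]))) (.node (.node (.leaf [1351,1059,475,1373]) (.leaf [3529,1897,3541,3553])) (.node (.leaf [1787,1051,1774,2189]) (.leaf [3832,3760,3787,3677])))) (.node (.node (.node (.leaf [829,793,325,795]) (.leaf [1641,3275,3371,3381])) (.node (.leaf [1817,2405,869,1565]) (.leaf [2869,3445,2917,3805])))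 (.node (.node (.leaf [1737,1761,609,599]) (.leaf [2865,2669,3051,2165])) (.node (.leaf [1440,1249,2952,1418]) (.leaf []))))))))

def lN_20 : CfsgLib.Coset.Tr (List Nat) := (.node (.node (.node (.node (.node (.node (.node (.leaf [4,29,19,41]) (.leaf [1263,2763,1705,1669])) (.node (.leaf [621,1771,1163,1139]) (.leaf [3687,2177,2209,2413]))) (.node (.node (.leaf [841,865,853,879]) (.leaf [3383,2742,2783,1643])) (.node (.leaf [1827,2427,1565,869]) (.leaf [3159,2917,3423,3625])))) (.node (.node (.node (.leaf [137,131,125,429]) (.leaf [3173,1435,1469,3183])) (.node (.leaf [1335,1200,2113,1311]) (.leaf [3259,2505,3299,3273]))) (.node (.node (.leaf [1361,1337,1375,473]) (.leaf [2820,3019,1917,1921])) (.node (.leaf [1067,1158,1055,1127]) (.leaf []))))) (.node (.node (.node (.node (.leaf [253,84,49,277]) (.leaf [2121,3079,1341,1331])) (.node (.leaf [1003,1791,1025,665]) (.leaf [3279,2365,3267,3289]))) (.node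 (.node (.leaf [417,1089,467,407]) (.leaf [2696,2775,1924,1913])) (.node (.leaf [2077,937,961,2053]) (.leaf [3405,3129,3825,3671])))) (.node (.node (.node (.leaf [233,615,223,571]) (.leaf [1549,3241,2904,2898])) (.node (.leaf [813,2265,1495,1487]) (.leaf [2741,3651,2799,2717]))) (.node (.node (.leaf [1599,529,1609,1623]) (.leaf [3057,2025,2863,3621])) (.node (.leaf [1928,1887,2692,2825]) (.leaf [])))))) (.node (.node (.node (.node (.node (.leaf [71,163,46,21]) (.leaf [2179,2967,1288,2104])) (.node (.leaf [648,1837,721,912]) (.leaf [3707,3688,2253,2243]))) (.node (.node (.leaf [377,746,977,989]) (.leaf [1992,3277,2424,2455])) (.node (.leaf [909,2495,2505,2517]) (.leaf [3015,3463,3005,2991])))) (.node (.node (.node (.leaf [493,181,505,483]) (.leaf [1471,3215,3179,3225])) (.node (.leaf [763,2193,749,1855]) (.leaf [3709,2593,3505,3469]))) (.node (.node (.leaf [511,1473,497,1397]) (.leaf [2407,2683,1983,1971]))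 (.node (.leaf [2749,1105,2761,1753]) (.leaf []))))) (.node (.node (.node (.node (.leaf [321,341,99,89]) (.leaf [3121,1441,3133,1381])) (.node (.leaf [1667,693,1978,1991]) (.leaf [2465,2551,3209,3329]))) (.node (.node (.leaf [1237,1261,1249,1275]) (.leaf [1871,3485,3247,2683])) (.node (.leaf [1013,1131,991,979]) (.leaf [3782,3469,3828,3385])))) (.node (.node (.node (.leaf [731,285,655,347]) (.leaf [1615,3331,1601,3339])) (.node (.leaf [853,2389,841,1407]) (.leaf [3801,2807,3669,3827]))) (.node (.node (.leaf [1697,567,1671,1709]) (.leaf [3649,2823,2149,2139])) (.node (.leaf [1509,2855,2890,1223]) (.leaf []))))))) (.node (.node (.node (.node (.node (.node (.leaf [38,111,60,1]) (.leaf [1679,2275,1700,1268])) (.node (.leaf [1795,759,631,1805]) (.leaf [2233,3625,2221,3697]))) (.node (.node (.leaf [915,369,347,655]) (.leaf [2391,3401,2613,2585])) (.node (.leaf [936,2473,925,1586]) (.leaf [3045,3035,3031,2949]))))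 (.node (.node (.node (.leaf [461,149,413,161]) (.leaf [2089,3193,2352,2334])) (.node (.leaf [739,1425,2107,1291]) (.leaf [2527,3173,2549,3495]))) (.node (.node (.leaf [1405,888,877,855]) (.leaf [3321,1991,3573,1939])) (.node (.leaf [1539,1327,1083,1515]) (.leaf []))))) (.node (.node (.node (.node (.leaf [309,67,251,299]) (.leaf [3101,1371,3073,2703])) (.node (.leaf [1945,697,673,699]) (.leaf [2589,2579,2575,2397]))) (.node (.node (.leaf [1183,425,1193,439]) (.leaf [3447,2137,1837,1887])) (.node (.leaf [970,2657,2084,2071]) (.leaf [3545,3317,3533,3353])))) (.node (.node (.node (.leaf [277,673,265,253]) (.leaf [3275,1564,3283,3263])) (.node (.leaf [2043,2247,2323,820]) (.leaf [2773,3769,3373,3361]))) (.node (.node (.leaf [559,1665,1579,895]) (.leaf [3629,2109,3145,3157])) (.node (.leaf [1201,2857,2029,2019]) (.leaf [])))))) (.node (.node (.node (.node (.node (.leaf [183,209,201,29]) (.leaf [3001,1624,3013,1299]))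 (.node (.leaf [1809,1875,1175,1799]) (.leaf [2309,3365,2369,3723]))) (.node (.node (.leaf [1021,385,997,1033]) (.leaf [3431,1696,3163,3155])) (.node (.leaf [2549,923,2527,2561]) (.leaf [3075,3133,3099,3195])))) (.node (.node (.node (.leaf [213,559,575,227]) (.leaf [2887,1529,1503,2622])) (.node (.leaf [2220,785,2232,2245]) (.leaf [2659,2723,3599,3645]))) (.node (.node (.leaf [1517,519,1529,1541]) (.leaf [2005,3589,3577,3601])) (.node (.leaf [2805,1929,2747,2735]) (.leaf []))))) (.node (.node (.node (.node (.leaf [385,240,109,361]) (.leaf [2337,2087,2301,2096])) (.node (.leaf [2021,2045,717,1205]) (.leaf [2833,3289,2485,3733]))) (.node (.node (.leaf [1319,463,1327,1339]) (.leaf [1880,3511,3087,1904])) (.node (.leaf [1764,1021,1781,1719]) (.leaf [3487,3827,3609,3587])))) (.node (.node (.node (.leaf [787,317,797,331]) (.leaf [3337,1911,1621,1611])) (.node (.leaf [1989,859,2408,1665]) (.leaf [3775,3801,3761,2813])))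 (.node (.node (.leaf [1155,589,613,1107]) (.leaf [3621,3683,2167,3057])) (.node (.leaf [1253,2945,1243,1963]) (.leaf []))))))))

def lN_21 : CfsgLib.Coset.Tr (List Nat) := (.node (.node (.node (.node (.node (.node (.node (.leaf [23,55,10,69]) (.leaf [1709,2957,1265,1697])) (.node (.leaf [625,1777,1791,1167]) (.leaf [2207,2613,2791,2675]))) (.node (.node (.leaf [338,905,921,722]) (.leaf [3229,3385,1645,2593])) (.node (.leaf [2447,881,2457,2432]) (.leaf [2931,3705,3809,2919])))) (.node (.node (.node (.leaf [421,445,145,133]) (.leaf [2963,3101,1450,1439])) (.node (.leaf [2129,725,2143,2153]) (.leaf [3757,2509,3769,3745]))) (.node (.node (.leaf [489,1388,1401,499]) (.leaf [3305,2896,1936,3570])) (.node (.leaf [1525,1069,1513,1081]) (.leaf []))))) (.node (.node (.node (.node (.leaf [267,293,285,53]) (.leaf [3084,1357,1873,1740])) (.node (.leaf [1077,1855,1127,1055]) (.leaf [2379,3741,3725,2367]))) (.node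 (.node (.leaf [1105,1141,1129,1153]) (.leaf [3439,1809,2423,2219])) (.node (.leaf [1591,2645,955,943]) (.leaf [3564,3217,3312,3301])))) (.node (.node (.node (.leaf [249,633,311,647]) (.leaf [2911,1587,1554,2632])) (.node (.leaf [2285,2305,823,2318]) (.leaf [3667,3789,3799,3403]))) (.node (.node (.leaf [550,1639,531,1100]) (.leaf [2352,2113,2089,2295])) (.node (.leaf [2495,1184,2839,2851]) (.leaf [])))))) (.node (.node (.node (.node (.node (.leaf [169,132,25,193]) (.leaf [1305,2231,2997,3009])) (.node (.leaf [667,1865,1039,1001]) (.leaf [3591,2293,2653,2981]))) (.node (.node (.leaf [983,1005,383,1019]) (.leaf [3411,1685,1753,2761])) (.node (.leaf [2509,2152,2533,903]) (.leaf [3475,3009,3525,3719])))) (.node (.node (.node (.leaf [536,197,543,448]) (.leaf [2593,1477,2257,3229])) (.node (.leaf [777,2203,1857,755]) (.leaf [2641,3572,2681,3245]))) (.node (.node (.leaf [1477,1501,517,807]) (.leaf [2433,2841,2003,2446]))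 (.node (.leaf [2795,1119,2205,1151]) (.leaf []))))) (.node (.node (.node (.node (.leaf [357,105,371,119]) (.leaf [2613,1409,2391,2573])) (.node (.leaf [709,2029,2017,2031]) (.leaf [3215,2635,2467,2481]))) (.node (.node (.leaf [446,1301,1101,530]) (.leaf [3493,2689,2559,2523])) (.node (.leaf [2675,991,1145,2207]) (.leaf [3523,3561,3473,3509])))) (.node (.node (.node (.leaf [747,301,757,771]) (.leaf [1631,3357,3347,1605])) (.node (.leaf [881,843,1409,845]) (.leaf [3745,3049,2809,3757]))) (.node (.node (.leaf [599,1723,587,1737]) (.leaf [2169,3619,3615,2861])) (.node (.leaf [2917,1229,2869,2929]) (.leaf []))))))) (.node (.node (.node (.node (.node (.node (.leaf [123,17,141,149]) (.leaf [1320,2977,1309,2114])) (.node (.leaf [1173,1821,1811,635]) (.leaf [2247,3713,3701,2223]))) (.node (.node (.leaf [361,961,349,385]) (.leaf [2261,3093,2597,1653])) (.node (.leaf [1687,2451,892,1576]) (.leaf [3147,2989,3625,3423]))))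 (.node (.node (.node (.leaf [165,477,407,467]) (.leaf [2967,2378,2345,1459])) (.node (.leaf [1286,771,2173,733]) (.leaf [2567,3345,3501,2553]))) (.node (.node (.leaf [1421,495,1435,1444]) (.leaf [3577,1969,2005,3481])) (.node (.leaf [2721,1099,2735,2747]) (.leaf []))))) (.node (.node (.node (.node (.leaf [97,325,313,73]) (.leaf [1387,2135,3117,3129])) (.node (.leaf [1963,1287,1279,1253]) (.leaf [3327,2621,2477,2461]))) (.node (.node (.leaf [439,1221,1231,1183]) (.leaf [3461,2559,1889,1841])) (.node (.leaf [1722,973,2184,1767]) (.leaf [3355,3837,3559,3547])))) (.node (.node (.node (.leaf [689,269,703,679]) (.leaf [1932,1597,3301,3312])) (.node (.leaf [2303,1399,2339,2362]) (.leaf [3821,2791,3401,3797]))) (.node (.node (.leaf [890,603,1681,553]) (.leaf [2147,3645,2133,3659])) (.node (.leaf [2618,2875,1215,2881]) (.leaf [])))))) (.node (.node (.node (.node (.node (.leaf [225,43,239,215]) (.leaf [3033,1648,3039,3065]))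 (.node (.leaf [1896,661,1741,1872]) (.leaf [3730,3437,2384,2311]))) (.node (.node (.leaf [1049,399,1063,1073]) (.leaf [1753,2883,3411,2749])) (.node (.leaf [2573,2171,2585,2613]) (.leaf [3135,3607,3125,3111])))) (.node (.node (.node (.leaf [579,217,589,603]) (.leaf [3199,1521,2711,3083])) (.node (.leaf [801,1457,785,837]) (.leaf [2727,3577,2715,2797]))) (.node (.node (.leaf [1495,1552,813,523]) (.leaf [3603,2907,3483,2009])) (.node (.leaf [1908,2539,2829,2689]) (.leaf []))))) (.node (.node (.node (.node (.leaf [401,236,163,415]) (.leaf [1452,3157,2268,2971])) (.node (.leaf [2062,717,2071,2084]) (.leaf [2847,3749,3737,2487]))) (.node (.node (.leaf [1347,1057,469,1371]) (.leaf [1893,3527,3465,3455])) (.node (.leaf [1780,1049,1765,2195]) (.leaf [3830,3757,3780,3673])))) (.node (.node (.node (.leaf [331,825,835,787]) (.leaf [1637,3271,3365,3377])) (.node (.leaf [1813,2403,867,1561]) (.leaf [3743,3412,2853,2843])))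 (.node (.node (.leaf [1733,1753,607,593]) (.leaf [2857,2665,3049,2161])) (.node (.leaf [1279,1247,1963,1243]) (.leaf []))))))))

def lN_22 : CfsgLib.Coset.Tr (List Nat) := (.node (.node (.node (.node (.node (.node (.node (.leaf [14,51,0,61]) (.leaf [1267,2769,1713,1677])) (.node (.leaf [1135,1709,1111,617]) (.leaf [2196,2605,2785,2664]))) (.node (.node (.leaf [847,873,857,883]) (.leaf [1653,3235,3231,2261])) (.node (.leaf [2437,876,2449,2426]) (.leaf [3163,2927,3431,3631])))) (.node (.node (.node (.leaf [147,437,429,125]) (.leaf [2953,3099,1441,1433])) (.node (.leaf [1343,1208,2123,1315]) (.leaf [2535,3379,2513,2499]))) (.node (.node (.leaf [481,1382,1393,495]) (.leaf [2828,3021,1909,1923])) (.node (.leaf [1123,2705,1075,1061]) (.leaf []))))) (.node (.node (.node (.node (.leaf [257,95,53,285]) (.leaf [2193,1347,1724,1785])) (.node (.leaf [1071,1849,1117,1047]) (.leaf [3283,2375,3275,3295]))) (.node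 (.node (.leaf [1100,415,447,550]) (.leaf [3433,1801,2413,2209])) (.node (.leaf [2087,945,969,2061]) (.leaf [3184,3535,3221,3170])))) (.node (.node (.node (.leaf [241,625,301,637]) (.leaf [1559,3245,2915,2902])) (.node (.leaf [821,1311,2287,2042]) (.leaf [3661,3781,3793,3397]))) (.node (.node (.leaf [1605,537,1619,1631]) (.leaf [2323,2069,2043,2286])) (.node (.leaf [2484,1181,2832,2845]) (.leaf [])))))) (.node (.node (.node (.node (.node (.leaf [27,175,177,185]) (.leaf [1299,2221,2989,3001])) (.node (.leaf [652,1847,725,916]) (.leaf [3641,2281,2977,2657]))) (.node (.node (.leaf [975,997,373,1011]) (.leaf [2003,3279,2433,2456])) (.node (.leaf [2503,2523,907,2539]) (.leaf [3469,3001,3517,3709])))) (.node (.node (.node (.leaf [499,191,513,489]) (.leaf [3219,2355,3183,1469])) (.node (.leaf [769,2197,1849,745]) (.leaf [3717,2601,3513,3479]))) (.node (.node (.leaf [521,1491,1483,1493]) (.leaf [2431,2832,1997,2439]))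 (.node (.leaf [2755,1113,2771,1763]) (.leaf []))))) (.node (.node (.node (.node (.leaf [349,97,361,109]) (.leaf [3129,1451,3141,1387])) (.node (.leaf [705,2005,691,1953]) (.leaf [3207,2629,2461,2477]))) (.node (.node (.leaf [1243,1269,1253,1279]) (.leaf [3243,2059,1865,2643])) (.node (.leaf [2664,985,1141,2196]) (.leaf [3791,3477,3838,3393])))) (.node (.node (.node (.leaf [293,735,641,305]) (.leaf [1621,3349,3337,1597])) (.node (.leaf [863,2397,851,1415]) (.leaf [2813,3727,3749,3775]))) (.node (.node (.leaf [591,1717,577,1729]) (.leaf [3657,2829,2157,2145])) (.node (.leaf [2632,1949,2893,2911]) (.leaf []))))))) (.node (.node (.node (.node (.node (.node (.leaf [47,115,70,9]) (.leaf [2347,1280,2971,2268])) (.node (.leaf [1167,1813,1803,625]) (.leaf [2243,3631,2229,3707]))) (.node (.node (.leaf [928,351,941,953]) (.leaf [2257,3085,2593,1645])) (.node (.leaf [945,2477,931,1595]) (.leaf [2981,3115,3639,3591]))))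 (.node (.node (.node (.leaf [157,469,397,457]) (.leaf [2099,3197,2363,2338])) (.node (.leaf [2104,1827,737,2179]) (.leaf [2559,3337,3493,2547]))) (.node (.node (.leaf [1413,896,885,861]) (.leaf [3069,1961,2943,3029])) (.node (.leaf [2713,1093,2725,2737]) (.leaf []))))) (.node (.node (.node (.node (.leaf [93,79,75,317]) (.leaf [1380,2125,3109,3120])) (.node (.leaf [1949,707,679,703]) (.leaf [2763,2445,2751,3413]))) (.node (.node (.leaf [433,1213,1225,1179]) (.leaf [3453,2143,1847,1895])) (.node (.leaf [2069,1037,2057,965]) (.leaf [3349,3829,3553,3541])))) (.node (.node (.node (.leaf [281,681,269,261]) (.leaf [3293,1581,3253,3277])) (.node (.leaf [2292,1393,2331,2355]) (.leaf [2781,3779,3381,3371]))) (.node (.node (.leaf [1576,1671,557,1687]) (.leaf [2139,3637,2125,3649])) (.node (.leaf [1209,2865,2035,2027]) (.leaf [])))))) (.node (.node (.node (.node (.node (.leaf [217,39,229,205]) (.leaf [3011,1627,3021,1307]))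 (.node (.leaf [1039,1731,667,1027]) (.leaf [3721,3432,2377,2305]))) (.node (.node (.leaf [1029,393,1005,1043]) (.leaf [1746,3065,1899,3088])) (.node (.leaf [2569,2160,2581,2605]) (.leaf [3083,3139,3103,3199])))) (.node (.node (.node (.leaf [569,547,209,235]) (.leaf [3193,1515,2701,3077])) (.node (.leaf [2231,788,2239,2251]) (.leaf [2705,3189,3195,3099]))) (.node (.node (.leaf [1489,1548,805,519]) (.leaf [2011,3599,3587,3609])) (.node (.leaf [1148,2815,2667,2792]) (.leaf []))))) (.node (.node (.node (.node (.leaf [393,244,119,371]) (.leaf [1429,3145,1423,2954])) (.node (.leaf [2054,709,2067,2078]) (.leaf [2843,3295,2493,3743]))) (.node (.node (.leaf [473,578,1349,1361]) (.leaf [1885,3517,3457,3445])) (.node (.leaf [1775,1027,1786,1721]) (.leaf [3509,3811,3713,3523])))) (.node (.node (.node (.leaf [325,817,829,783]) (.leaf [3345,1917,1629,1617])) (.node (.leaf [869,2419,1817,1827]) (.leaf [3732,3409,2845,2832])))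 (.node (.node (.leaf [1163,597,621,1113]) (.leaf [2943,3545,3069,3041])) (.node (.leaf [1273,1237,1957,1239]) (.leaf []))))))))

def lN_23 : CfsgLib.Coset.Tr (List Nat) := (.node (.node (.node (.node (.node (.node (.node (.leaf [75,5,93,101]) (.leaf [1669,2269,1693,1263])) (.node (.leaf [633,1783,1799,1175]) (.leaf [2213,2325,3689,3435]))) (.node (.node (.leaf [912,361,337,648]) (.leaf [3237,3395,1651,2601])) (.node (.leaf [1085,2468,1541,1529]) (.leaf [3037,3027,3025,2941])))) (.node (.node (.node (.leaf [425,453,149,141]) (.leaf [2273,2236,1459,2345])) (.node (.leaf [732,1416,2101,1287]) (.leaf [3763,2517,3777,3755]))) (.node (.node (.leaf [1399,507,485,509]) (.leaf [3313,1981,3565,1933])) (.node (.leaf [1533,1077,1521,1089]) (.leaf []))))) (.node (.node (.node (.node (.leaf [301,63,241,289]) (.leaf [3095,1363,1877,1751])) (.node (.leaf [679,1933,1949,689]) (.leaf [2581,2571,2569,2389]))) (.node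 (.node (.leaf [1113,1143,1139,1163]) (.leaf [1841,3427,3449,3461])) (.node (.leaf [961,2652,2077,2065]) (.leaf [3575,3221,3319,3307])))) (.node (.node (.node (.leaf [641,655,293,247]) (.leaf [3265,1560,3277,3253])) (.node (.leaf [2289,2315,826,2327]) (.leaf [3808,2757,2930,2871]))) (.node (.node (.leaf [552,1656,1573,891]) (.leaf [2361,2121,2097,2300])) (.node (.leaf [1197,1997,1181,1233]) (.leaf [])))))) (.node (.node (.node (.node (.node (.leaf [173,143,29,201]) (.leaf [2995,2727,1303,3019])) (.node (.leaf [1801,1873,1165,1789]) (.leaf [3599,2299,2659,2985]))) (.node (.node (.leaf [989,953,1015,377]) (.leaf [3421,1692,3157,3145])) (.node (.leaf [2519,2155,2541,911]) (.leaf [3676,3040,3391,3833])))) (.node (.node (.node (.leaf [205,553,565,217]) (.leaf [2601,1485,2263,3237])) (.node (.leaf [1853,2209,775,761]) (.leaf [2653,2713,3591,3639]))) (.node (.node (.leaf [1487,1507,523,813]) (.leaf [2451,2930,2441,1999]))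 (.node (.leaf [2797,1921,2739,2727]) (.leaf []))))) (.node (.node (.node (.node (.leaf [113,375,391,353]) (.leaf [2331,2077,2292,2092])) (.node (.leaf [715,2039,2027,2035]) (.leaf [2477,3307,3327,3207]))) (.node (.node (.leaf [1308,457,1321,1333]) (.leaf [3501,2697,2567,2531])) (.node (.leaf [2681,1011,2641,1863]) (.leaf [3481,3817,3601,3577])))) (.node (.node (.node (.leaf [755,309,767,777]) (.leaf [3367,1611,1639,2779])) (.node (.leaf [1980,853,2400,1658]) (.leaf [3753,3057,2817,3767]))) (.node (.node (.leaf [605,1745,1735,581]) (.leaf [3613,3673,2161,3049])) (.node (.leaf [2926,1233,2875,2936]) (.leaf []))))))) (.node (.node (.node (.node (.node (.node (.leaf [62,159,36,13]) (.leaf [1329,2981,1315,2123])) (.node (.leaf [1565,639,1827,1817]) (.leaf [3696,3685,2245,2232]))) (.node (.node (.leaf [369,969,359,395]) (.leaf [1969,3253,1663,2402])) (.node (.leaf [903,2485,2497,2509]) (.leaf [3151,2997,3635,3429]))))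 (.node (.node (.node (.leaf [201,485,183,173]) (.leaf [1465,3205,3169,3217])) (.node (.leaf [1291,779,2181,739]) (.leaf [3388,2584,3679,3785]))) (.node (.node (.leaf [505,1467,493,1395]) (.leaf [3587,1979,2011,3487])) (.node (.leaf [1373,1167,1363,1351]) (.leaf []))))) (.node (.node (.node (.node (.leaf [105,335,319,81]) (.leaf [3113,2332,1384,3138])) (.node (.leaf [1657,685,1971,1983]) (.leaf [3331,2627,2483,2471]))) (.node (.node (.leaf [1231,1191,439,1193]) (.leaf [1861,3480,3241,2677])) (.node (.leaf [1721,977,2188,1775]) (.leaf [3559,3497,3355,3535])))) (.node (.node (.node (.leaf [720,277,649,336]) (.leaf [1939,1607,3309,3321])) (.node (.leaf [2369,831,2309,2381]) (.leaf [3793,2797,3661,3817]))) (.node (.node (.leaf [895,611,1689,559]) (.leaf [2151,3665,3653,2127])) (.node (.leaf [1500,2845,2881,1215]) (.leaf [])))))) (.node (.node (.node (.node (.node (.leaf [51,259,261,269]) (.leaf [2115,3073,1333,1321]))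 (.node (.leaf [1900,671,1745,1878]) (.leaf [2415,2349,3435,3689]))) (.node (.node (.leaf [409,1081,457,397]) (.leaf [1759,2891,3419,2759])) (.node (.leaf [1217,927,2623,1502]) (.leaf [3397,3120,3817,3661])))) (.node (.node (.node (.leaf [587,225,599,609]) (.leaf [2897,1539,2634,1550])) (.node (.leaf [805,2257,1489,1479]) (.leaf [2733,3587,2723,2807]))) (.node (.node (.leaf [952,807,1588,929]) (.leaf [3049,2017,2857,3613])) (.node (.leaf [1916,2541,2821,2691]) (.leaf []))))) (.node (.node (.node (.node (.leaf [133,123,121,421]) (.leaf [1463,3159,2277,2972])) (.node (.leaf [2033,2097,1207,713]) (.leaf [3255,2497,3289,3267]))) (.node (.node (.leaf [1355,1065,479,1379]) (.leaf [3533,1903,3545,3557])) (.node (.leaf [1059,1152,1047,1117]) (.leaf [3839,3765,3790,3681])))) (.node (.node (.node (.leaf [835,795,331,797]) (.leaf [3375,2736,2775,1633])) (.node (.leaf [1821,2409,871,1567]) (.leaf [2873,3449,2921,3807])))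 (.node (.node (.leaf [613,1765,1155,1131]) (.leaf [2861,2673,3053,2169])) (.node (.leaf [1442,1253,2958,1416]) (.leaf []))))))))

def lN_24 : CfsgLib.Coset.Tr (List Nat) := (.node (.node (.node (.node (.node (.node (.node (.leaf [0,25,14,39]) (.leaf [1451,1259,2962,1427])) (.node (.leaf [619,1773,1159,1133]) (.leaf [3685,2175,2211,2417]))) (.node (.node (.leaf [839,801,335,803]) (.leaf [3379,2744,2779,1639])) (.node (.leaf [1829,2429,1562,864]) (.leaf [2877,3453,2925,3813])))) (.node (.node (.node (.leaf [139,125,129,427]) (.leaf [3171,1431,1467,3185])) (.node (.leaf [2039,2099,1211,719]) (.leaf [3261,2501,3297,3271]))) (.node (.node (.leaf [1359,1333,1371,469]) (.leaf [3539,1907,3551,3561])) (.node (.leaf [1061,1160,1051,1123]) (.leaf []))))) (.node (.node (.node (.node (.leaf [59,261,263,275]) (.leaf [2117,3081,1337,1325])) (.node (.leaf [997,1793,1021,663]) (.leaf [2419,2351,3443,3695]))) (.node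 (.node (.leaf [415,1083,463,401]) (.leaf [2690,2777,1921,1917])) (.node (.leaf [1221,935,2626,1511]) (.leaf [3403,3127,3823,3667])))) (.node (.node (.node (.leaf [231,617,219,567]) (.leaf [2903,1543,2639,1558])) (.node (.leaf [809,2263,1497,1481]) (.leaf [2737,3655,2801,2713]))) (.node (.node (.leaf [955,815,1591,935]) (.leaf [3055,2023,2859,3619])) (.node (.leaf [1922,1889,2689,2829]) (.leaf [])))))) (.node (.node (.node (.node (.node (.leaf [66,165,41,19]) (.leaf [2173,2969,1286,2100])) (.node (.leaf [1568,647,1835,1819]) (.leaf [3698,3693,2249,2236]))) (.node (.node (.leaf [373,748,975,987]) (.leaf [1979,3261,1666,2411])) (.node (.leaf [907,2491,2503,2515]) (.leaf [3017,3461,3003,2993])))) (.node (.node (.node (.leaf [203,491,191,179]) (.leaf [1475,3209,3177,3223])) (.node (.leaf [757,2189,747,1851]) (.leaf [3393,2589,3680,3791]))) (.node (.node (.leaf [509,1470,501,1399]) (.leaf [2403,2677,1987,1968]))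 (.node (.leaf [1379,1171,1367,1355]) (.leaf []))))) (.node (.node (.node (.node (.leaf [315,339,103,87]) (.leaf [3117,2339,1387,3141])) (.node (.leaf [1663,691,1969,1986]) (.leaf [2463,2547,3205,3325]))) (.node (.node (.leaf [1235,1197,443,1199]) (.leaf [1869,3482,3249,2687])) (.node (.leaf [1011,1133,987,975]) (.leaf [3563,3501,3359,3537])))) (.node (.node (.node (.leaf [722,283,659,338]) (.leaf [1609,3329,1599,3341])) (.node (.leaf [2371,838,2315,2383]) (.leaf [3797,2803,3665,3821]))) (.node (.node (.leaf [1694,571,1673,1707]) (.leaf [2157,3671,3657,2135])) (.node (.leaf [1507,2851,2883,1218]) (.leaf []))))))) (.node (.node (.node (.node (.node (.node (.leaf [83,7,95,107]) (.leaf [1675,2279,1703,1271])) (.node (.leaf [1789,761,627,1801]) (.leaf [2219,2323,3691,3439]))) (.node (.node (.leaf [923,365,345,657]) (.leaf [2393,3399,2609,2583])) (.node (.leaf [1087,2471,1543,1535]) (.leaf [3043,3029,3027,2947]))))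 (.node (.node (.node (.leaf [459,147,411,159]) (.leaf [2279,2243,1461,2348])) (.node (.leaf [743,1423,2109,1293]) (.leaf [2521,3170,2545,3497]))) (.node (.node (.leaf [1403,513,491,515]) (.leaf [3323,1987,3569,1941])) (.node (.leaf [1541,1325,1085,1517]) (.leaf []))))) (.node (.node (.node (.node (.leaf [307,69,245,295]) (.leaf [3099,1369,3075,2705])) (.node (.leaf [683,1943,1955,695]) (.leaf [2587,2573,2571,2395]))) (.node (.node (.leaf [1179,423,1191,433]) (.leaf [1847,3429,3453,3467])) (.node (.leaf [969,2655,2087,2073]) (.leaf [3543,3314,3531,3351])))) (.node (.node (.node (.leaf [647,659,297,249]) (.leaf [3273,1563,3285,3259])) (.node (.leaf [2044,2249,2321,817]) (.leaf [3811,2759,2935,2879]))) (.node (.node (.leaf [563,1663,1581,897]) (.leaf [3625,2106,3147,3159])) (.node (.leaf [1199,2003,1187,1235]) (.leaf [])))))) (.node (.node (.node (.node (.node (.leaf [185,207,197,27]) (.leaf [2997,2735,1305,3023]))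 (.node (.leaf [1805,1879,1169,1795]) (.leaf [2307,3362,2366,3724]))) (.node (.node (.leaf [995,957,1019,383]) (.leaf [3429,1695,3165,3151])) (.node (.leaf [2547,915,2523,2559]) (.leaf [3681,3045,3392,3839])))) (.node (.node (.node (.leaf [211,561,571,223]) (.leaf [2883,1525,1507,2620])) (.node (.leaf [1859,2219,779,765]) (.leaf [2663,2717,3595,3643]))) (.node (.node (.leaf [1513,523,1525,1537]) (.leaf [2459,2939,2445,2000])) (.node (.leaf [2803,1927,2743,2729]) (.leaf []))))) (.node (.node (.node (.node (.leaf [119,383,393,357]) (.leaf [2329,2085,2296,2094])) (.node (.leaf [2019,2043,711,1201]) (.leaf [2481,3311,3333,3215]))) (.node (.node (.leaf [1317,465,1331,1341]) (.leaf [1874,3507,3089,1898])) (.node (.leaf [2687,1019,2647,1869]) (.leaf [3491,3821,3607,3585])))) (.node (.node (.node (.leaf [783,315,795,325]) (.leaf [3371,1619,1641,2781])) (.node (.leaf [1987,861,2403,1662]) (.leaf [3771,3794,3759,2811])))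 (.node (.node (.leaf [611,1751,1739,585]) (.leaf [3619,3681,2163,3055])) (.node (.leaf [1251,2943,1239,1957]) (.leaf []))))))))

def lN_25 : CfsgLib.Coset.Tr (List Nat) := (.node (.node (.node (.node (.node (.node (.node (.leaf [18,59,5,67]) (.leaf [1706,2952,1261,1695])) (.node (.leaf [1139,1711,1113,621]) (.leaf [2198,2611,2793,2666]))) (.node (.node (.leaf [342,903,917,724]) (.leaf [1655,3237,3239,2267])) (.node (.leaf [2438,883,2452,2430]) (.leaf [2933,3699,3807,2921])))) (.node (.node (.node (.leaf [155,441,431,131]) (.leaf [2957,3107,1445,1434])) (.node (.leaf [2125,723,2139,2149]) (.leaf [2543,3383,2517,2505]))) (.node (.node (.leaf [485,1387,1399,501]) (.leaf [3303,2894,1935,3567])) (.node (.leaf [1127,2711,1077,1067]) (.leaf []))))) (.node (.node (.node (.node (.leaf [269,291,281,51]) (.leaf [2194,1355,1719,1781])) (.node (.leaf [1073,1859,1121,1049]) (.leaf [2381,3735,3723,2369]))) (.node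 (.node (.leaf [1096,419,451,544]) (.leaf [3443,1807,2419,2215])) (.node (.leaf [1585,2643,951,939]) (.leaf [3188,3537,3227,3174])))) (.node (.node (.node (.leaf [247,631,305,641]) (.leaf [2909,1589,1550,2634])) (.node (.leaf [825,1319,2290,2051]) (.leaf [3669,3786,3801,3407]))) (.node (.node (.leaf [549,1635,535,1103]) (.leaf [2325,2075,2050,2291])) (.node (.leaf [2493,1183,2843,2853]) (.leaf [])))))) (.node (.node (.node (.node (.node (.leaf [35,177,179,191]) (.leaf [1303,2227,2995,3007])) (.node (.leaf [663,1863,1033,997]) (.leaf [3647,2287,2983,2661]))) (.node (.node (.leaf [977,1003,377,1015]) (.leaf [3409,1683,1755,2765])) (.node (.leaf [2505,2531,909,2543]) (.leaf [3477,3007,3521,3715])))) (.node (.node (.node (.leaf [532,195,545,450]) (.leaf [3225,2363,3187,1471])) (.node (.leaf [775,2205,1853,751]) (.leaf [2645,3569,2677,3241]))) (.node (.node (.leaf [527,1497,1485,1499]) (.leaf [2427,2838,1995,2436]))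 (.node (.leaf [2786,1125,2203,1142]) (.leaf []))))) (.node (.node (.node (.node (.leaf [355,103,367,115]) (.leaf [2607,1407,2395,2571])) (.node (.leaf [707,2014,695,1955]) (.leaf [3213,2631,2469,2479]))) (.node (.node (.leaf [450,1299,1097,532]) (.leaf [3249,2063,1869,2647])) (.node (.leaf [2668,993,1143,2202]) (.leaf [3519,3554,3471,3507])))) (.node (.node (.node (.leaf [299,743,645,309]) (.leaf [1627,3355,3343,1603])) (.node (.leaf [879,845,1407,841]) (.leaf [2819,3729,3755,3777]))) (.node (.node (.leaf [593,1719,583,1733]) (.leaf [2163,3613,3619,2859])) (.node (.leaf [2637,1955,2901,2912]) (.leaf []))))))) (.node (.node (.node (.node (.node (.node (.leaf [125,13,137,147]) (.leaf [2349,1283,2975,2278])) (.node (.leaf [1169,1823,1805,631]) (.leaf [2249,3710,3698,2224]))) (.node (.node (.leaf [931,359,945,959]) (.leaf [2263,3091,2601,1651])) (.node (.leaf [1681,2453,890,1572]) (.leaf [2985,3119,3645,3599]))))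 (.node (.node (.node (.leaf [163,475,401,463]) (.leaf [2970,2381,2346,1453])) (.node (.leaf [2107,1835,739,2181]) (.leaf [2563,3341,3499,2551]))) (.node (.node (.leaf [1419,497,1433,1441]) (.leaf [3071,1967,2951,3035])) (.node (.leaf [2719,1097,2729,2743]) (.leaf []))))) (.node (.node (.node (.node (.leaf [95,81,83,323]) (.leaf [1391,2131,3115,3127])) (.node (.leaf [1959,1289,1275,1249]) (.leaf [2767,2447,2759,3419]))) (.node (.node (.leaf [441,1219,1229,1185]) (.leaf [3457,2561,1885,1839])) (.node (.leaf [2075,1039,2059,967]) (.leaf [3357,3834,3561,3551])))) (.node (.node (.node (.leaf [687,267,699,673]) (.leaf [3297,1582,3261,3287])) (.node (.leaf [2298,1395,2333,2357]) (.leaf [3819,2787,3399,3795]))) (.node (.node (.leaf [1579,1679,559,1689]) (.leaf [2141,3639,2131,3655])) (.node (.leaf [2616,2871,1213,2885]) (.leaf [])))))) (.node (.node (.node (.node (.node (.leaf [223,45,233,211]) (.leaf [3027,1650,3043,3063]))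 (.node (.leaf [1043,1737,669,1029]) (.leaf [3729,3435,2387,2313]))) (.node (.node (.leaf [1047,401,1059,1071]) (.leaf [1749,3071,1907,3093])) (.node (.leaf [2575,2162,2589,2611]) (.leaf [3138,3603,3122,3113])))) (.node (.node (.node (.leaf [575,551,213,237]) (.leaf [3203,1517,2707,3081])) (.node (.leaf [795,1459,783,829]) (.leaf [2707,3191,3203,3105]))) (.node (.node (.leaf [1497,1555,809,525]) (.leaf [3605,2908,3484,2006])) (.node (.leaf [1145,2819,2675,2791]) (.leaf []))))) (.node (.node (.node (.node (.leaf [399,230,159,411]) (.leaf [1439,3153,1426,2963])) (.node (.leaf [2061,712,2073,2087]) (.leaf [2849,3746,3734,2488]))) (.node (.node (.leaf [477,586,1353,1365]) (.leaf [1891,3523,3463,3451])) (.node (.leaf [1782,1047,1766,2185]) (.leaf [3515,3813,3719,3525])))) (.node (.node (.node (.leaf [333,823,833,789]) (.leaf [1635,3267,3361,3373])) (.node (.leaf [872,2423,1819,1835]) (.leaf [3734,3417,2849,2836])))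 (.node (.node (.leaf [1731,1757,603,589]) (.leaf [2951,3551,3071,3047])) (.node (.leaf [1281,1243,1965,1245]) (.leaf []))))))))

def lN_26 : CfsgLib.Coset.Tr (List Nat) := (.node (.node (.node (.node (.node (.node (.node (.leaf [9,33,20,47]) (.leaf [1271,2765,1715,1675])) (.node (.leaf [1129,1707,1105,615]) (.leaf [3693,2183,2217,2421]))) (.node (.node (.leaf [849,867,861,885]) (.leaf [1647,3229,3235,2259])) (.node (.leaf [1833,2433,1567,871]) (.leaf [3167,2921,3427,3633])))) (.node (.node (.node (.leaf [149,435,425,123]) (.leaf [3177,1437,1475,3191])) (.node (.leaf [1341,1207,2121,1317]) (.leaf [2537,3377,2511,2501]))) (.node (.node (.leaf [1367,1341,1379,479]) (.leaf [2823,3017,1910,1931])) (.node (.leaf [1119,2703,1069,1057]) (.leaf []))))) (.node (.node (.node (.node (.leaf [259,86,57,283]) (.leaf [2186,1351,1727,1777])) (.node (.leaf [1005,1798,1029,669]) (.leaf [3287,2369,3271,3297]))) (.node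 (.node (.leaf [1098,411,449,542]) (.leaf [2695,2783,1926,1915])) (.node (.leaf [2083,939,967,2059]) (.leaf [3183,3531,3219,3173])))) (.node (.node (.node (.leaf [239,623,225,573]) (.leaf [1553,3249,2906,2894])) (.node (.leaf [819,1312,2282,2040]) (.leaf [2745,3659,2807,2723]))) (.node (.node (.leaf [1603,535,1613,1627]) (.leaf [2319,2065,2047,2284])) (.node (.leaf [1927,1895,2694,2827]) (.leaf [])))))) (.node (.node (.node (.node (.node (.leaf [29,169,173,183]) (.leaf [2183,2971,1293,2109])) (.node (.leaf [650,1845,729,918]) (.leaf [3637,2289,2979,2655]))) (.node (.node (.leaf [381,754,981,993]) (.leaf [1998,3285,2428,2450])) (.node (.leaf [2497,2525,903,2533]) (.leaf [3023,3467,3009,2997])))) (.node (.node (.node (.leaf [501,187,509,485]) (.leaf [3221,2356,3184,1466])) (.node (.leaf [765,2195,753,1859]) (.leaf [3715,2599,3511,3477]))) (.node (.node (.leaf [519,1493,1479,1489]) (.leaf [2409,2685,1988,1977]))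 (.node (.leaf [2759,1111,2767,1759]) (.leaf []))))) (.node (.node (.node (.node (.leaf [323,347,107,95]) (.leaf [3131,1447,3137,1389])) (.node (.leaf [699,2009,687,1945]) (.leaf [2469,2553,3213,3335]))) (.node (.node (.leaf [1245,1263,1257,1281]) (.leaf [3245,2053,1863,2641])) (.node (.leaf [1019,1135,995,983]) (.leaf [3786,3474,3833,3391])))) (.node (.node (.node (.leaf [291,737,639,303]) (.leaf [1617,3335,1607,3345])) (.node (.leaf [859,2395,845,1409]) (.leaf [2811,3723,3747,3771]))) (.node (.node (.leaf [1700,575,1679,1711]) (.leaf [3655,2821,2155,2141])) (.node (.leaf [2630,1953,2899,2905]) (.leaf []))))))) (.node (.node (.node (.node (.node (.node (.leaf [42,117,65,7]) (.leaf [2344,1275,2966,2272])) (.node (.leaf [1797,767,635,1811]) (.leaf [2241,3629,2227,3705]))) (.node (.node (.leaf [927,353,939,951]) (.leaf [2399,3407,2615,2591])) (.node (.leaf [947,2474,933,1593]) (.leaf [2977,3111,3641,3593]))))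 (.node (.node (.node (.leaf [467,155,417,165]) (.leaf [2093,3201,2354,2330])) (.node (.leaf [2103,1831,735,2175]) (.leaf [2531,3174,2553,3501]))) (.node (.node (.leaf [1409,895,881,859]) (.leaf [3063,1959,2947,3027])) (.node (.leaf [1545,1331,1091,1523]) (.leaf []))))) (.node (.node (.node (.node (.leaf [87,73,79,315]) (.leaf [3107,1379,3079,2709])) (.node (.leaf [1953,703,681,705]) (.leaf [2765,2439,2753,3409]))) (.node (.node (.leaf [1187,431,1199,443]) (.leaf [3449,2145,1841,1889])) (.node (.leaf [2066,1035,2055,963]) (.leaf [3551,3323,3539,3357])))) (.node (.node (.node (.leaf [283,679,273,259]) (.leaf [3289,1578,3255,3279])) (.node (.leaf [2051,2253,2324,825]) (.leaf [2779,3775,3379,3367]))) (.node (.node (.leaf [1575,1675,555,1683]) (.leaf [3633,2110,3153,3167])) (.node (.leaf [1205,2863,2037,2021]) (.leaf [])))))) (.node (.node (.node (.node (.node (.leaf [191,215,203,35]) (.leaf [3007,1629,3019,1303]))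 (.node (.leaf [1033,1733,663,1021]) (.leaf [2313,3369,2373,3729]))) (.node (.node (.leaf [1027,391,1001,1039]) (.leaf [1744,3063,1901,3090])) (.node (.leaf [2555,921,2529,2565]) (.leaf [3079,3135,3107,3201])))) (.node (.node (.node (.leaf [567,543,207,231]) (.leaf [2889,1535,1510,2627])) (.node (.leaf [2229,787,2243,2253]) (.leaf [2703,3187,3197,3101]))) (.node (.node (.leaf [1519,526,1535,1543]) (.leaf [2015,3593,3585,3607])) (.node (.leaf [1142,2811,2669,2786]) (.leaf []))))) (.node (.node (.node (.node (.leaf [391,251,113,365]) (.leaf [1432,3151,1418,2952])) (.node (.leaf [2025,2051,719,1211]) (.leaf [2841,3293,2491,3741]))) (.node (.node (.leaf [469,580,1347,1359]) (.leaf [1877,3515,3095,1903])) (.node (.leaf [1766,1029,1782,1723]) (.leaf [3507,3807,3711,3519])))) (.node (.node (.node (.leaf [791,323,803,335]) (.leaf [3343,1909,1627,1613])) (.node (.leaf [864,2413,1815,1829]) (.leaf [3779,3798,3767,2817])))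 (.node (.node (.leaf [1157,595,617,1111]) (.leaf [2945,3543,3065,3039])) (.node (.leaf [1257,2951,1245,1965]) (.leaf []))))))))

def lN_27 : CfsgLib.Coset.Tr (List Nat) := (.node (.node (.node (.node (.node (.node (.node (.leaf [77,1,89,99]) (.leaf [1715,2963,1271,1703])) (.node (.leaf [631,1785,1795,1169]) (.leaf [2211,2317,3685,3437]))) (.node (.node (.leaf [345,911,923,727]) (.leaf [3235,3393,1647,2599])) (.node (.leaf [1082,2467,1538,1527]) (.leaf [2937,3707,3815,2927])))) (.node (.node (.node (.leaf [427,451,153,139]) (.leaf [2269,2234,1453,2346])) (.node (.leaf [2135,731,2145,2157]) (.leaf [3765,2515,3773,3751]))) (.node (.node (.leaf [1395,509,483,505]) (.leaf [3309,2903,1939,3573])) (.node (.leaf [1530,1079,1523,1091]) (.leaf []))))) (.node (.node (.node (.node (.leaf [275,299,287,59]) (.leaf [3088,1365,1875,1746])) (.node (.leaf [675,1937,1947,685]) (.leaf [2385,3743,3731,2375]))) (.node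 (.node (.leaf [1109,1147,1133,1159]) (.leaf [1839,3423,3445,3457])) (.node (.leaf [1595,2651,959,945]) (.leaf [3569,3225,3323,3311])))) (.node (.node (.node (.leaf [639,651,291,243]) (.leaf [2915,1591,1559,2638])) (.node (.leaf [2287,2309,821,2322]) (.leaf [3807,2754,2933,2873]))) (.node (.node (.leaf [547,1637,539,1095]) (.leaf [2354,2123,2093,2293])) (.node (.leaf [1191,1999,1179,1225]) (.leaf [])))))) (.node (.node (.node (.node (.node (.leaf [175,134,33,199]) (.leaf [2989,2729,1299,3013])) (.node (.leaf [671,1871,1041,1007]) (.leaf [3597,2295,2661,2983]))) (.node (.node (.leaf [987,949,1011,373]) (.leaf [3417,1691,1761,2769])) (.node (.leaf [2515,2157,2539,907]) (.leaf [3672,3039,3386,3831])))) (.node (.node (.node (.leaf [535,203,549,453]) (.leaf [2599,1483,2259,3235])) (.node (.leaf [1851,2213,771,757]) (.leaf [2649,3574,2685,3251]))) (.node (.node (.leaf [1483,1509,521,811]) (.leaf [2454,2933,2442,1993]))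 (.node (.leaf [2791,1121,2207,1145]) (.leaf []))))) (.node (.node (.node (.node (.leaf [111,377,387,351]) (.leaf [2615,1415,2399,2579])) (.node (.leaf [717,2035,2021,2037]) (.leaf [2473,3303,3329,3209]))) (.node (.node (.leaf [453,1307,1103,535]) (.leaf [3499,2695,2563,2525])) (.node (.leaf [2679,1009,2643,1865]) (.leaf [3527,3558,3479,3513])))) (.node (.node (.node (.leaf [751,307,761,775]) (.leaf [3361,1613,1635,2773])) (.node (.leaf [887,849,1415,851]) (.leaf [3751,3055,2815,3765]))) (.node (.node (.leaf [603,1743,1731,579]) (.leaf [2171,3621,3623,2867])) (.node (.leaf [2925,1230,2877,2939]) (.leaf []))))))) (.node (.node (.node (.node (.node (.node (.leaf [131,19,143,155]) (.leaf [1331,2978,1317,2121])) (.node (.leaf [1562,643,1829,1815]) (.leaf [2251,3719,3703,2231]))) (.node (.node (.leaf [367,963,355,389]) (.leaf [1972,3259,1658,2400])) (.node (.leaf [1691,2455,897,1581]) (.leaf [3153,2993,3633,3427]))))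 (.node (.node (.node (.leaf [195,483,187,171]) (.leaf [2975,2387,2349,1460])) (.node (.leaf [1295,775,2177,741]) (.leaf [3384,2583,3674,3783]))) (.node (.node (.leaf [1425,503,1436,1449]) (.leaf [3583,1973,2013,3489])) (.node (.leaf [1371,1169,1359,1347]) (.leaf []))))) (.node (.node (.node (.node (.leaf [103,331,315,79]) (.leaf [3111,2330,1383,3135])) (.node (.leaf [1967,1295,1283,1259]) (.leaf [3333,2619,2481,2467]))) (.node (.node (.leaf [1227,1193,435,1189]) (.leaf [3465,2566,1893,1845])) (.node (.leaf [1716,981,2190,1771]) (.leaf [3555,3495,3351,3531])))) (.node (.node (.node (.leaf [695,273,707,683]) (.leaf [1943,1603,3307,3319])) (.node (.leaf [2366,829,2307,2378]) (.leaf [3827,2795,3407,3801]))) (.node (.node (.leaf [899,607,1685,561]) (.leaf [2153,3663,3651,2129])) (.node (.leaf [2627,2877,1220,2889]) (.leaf [])))))) (.node (.node (.node (.node (.node (.leaf [53,253,257,267]) (.leaf [3035,1653,3047,3071]))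 (.node (.leaf [1904,667,1743,1880]) (.leaf [2417,2343,3437,3685]))) (.node (.node (.leaf [1055,407,1067,1077]) (.leaf [1761,2885,3417,2757])) (.node (.leaf [1215,928,2618,1500]) (.leaf [3141,3611,3129,3117])))) (.node (.node (.node (.leaf [583,223,593,607]) (.leaf [2899,1541,2630,1548])) (.node (.leaf [803,1463,791,839]) (.leaf [2729,3585,2719,2803]))) (.node (.node (.leaf [948,809,1586,925]) (.leaf [3609,2915,3487,2011])) (.node (.leaf [1911,2537,2822,2699]) (.leaf []))))) (.node (.node (.node (.node (.leaf [407,235,165,417]) (.leaf [1458,3165,2272,2966])) (.node (.leaf [2031,2091,1203,709]) (.leaf [2851,3755,3739,2495]))) (.node (.node (.leaf [1349,1063,473,1375]) (.leaf [3531,1899,3543,3555])) (.node (.leaf [1785,1055,1772,2193]) (.leaf [3834,3762,3785,3679])))) (.node (.node (.node (.leaf [831,797,327,793]) (.leaf [1643,3273,3369,3383])) (.node (.leaf [1818,2406,873,1569]) (.leaf [2871,3446,2918,3808])))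 (.node (.node (.leaf [1739,1763,611,597]) (.leaf [2863,2671,3057,2167])) (.node (.leaf [1445,1251,2957,1420]) (.leaf []))))))))

def lN_28 : CfsgLib.Coset.Tr (List Nat) := (.node (.node (.node (.node (.node (.node (.node (.leaf [6,35,17,43]) (.leaf [1260,2761,1707,1673])) (.node (.leaf [623,1775,1161,1137]) (.leaf [3691,2181,2219,2423]))) (.node (.node (.leaf [843,869,855,877]) (.leaf [3381,2746,2781,1641])) (.node (.leaf [1831,2435,1571,875]) (.leaf [3157,2919,3421,3629])))) (.node (.node (.node (.leaf [143,129,131,431]) (.leaf [3175,1433,1473,3189])) (.node (.leaf [1332,1205,2114,1309]) (.leaf [3263,2507,3295,3275]))) (.node (.node (.leaf [1363,1339,1373,475]) (.leaf [2827,3013,1914,1927])) (.node (.leaf [1065,1162,1053,1125]) (.leaf []))))) (.node (.node (.node (.node (.leaf [255,90,55,279]) (.leaf [2123,3083,1343,1329])) (.node (.leaf [1001,1796,1027,667]) (.leaf [3277,2367,3265,3293]))) (.node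 (.node (.leaf [419,1091,465,405]) (.leaf [2699,2779,1930,1911])) (.node (.leaf [2081,941,965,2057]) (.leaf [3407,3131,3827,3669])))) (.node (.node (.node (.leaf [235,619,221,569]) (.leaf [1554,3243,2911,2893])) (.node (.leaf [815,2267,1499,1485]) (.leaf [2743,3653,2803,2719]))) (.node (.node (.leaf [1597,531,1611,1621]) (.leaf [3059,2027,2867,3623])) (.node (.leaf [1931,1891,2698,2823]) (.leaf [])))))) (.node (.node (.node (.node (.node (.leaf [69,167,44,23]) (.leaf [2177,2975,1295,2111])) (.node (.leaf [657,1839,727,923]) (.leaf [3705,3694,2255,2241]))) (.node (.node (.leaf [379,753,979,991]) (.leaf [1994,3283,2426,2449])) (.node (.leaf [911,2493,2507,2519]) (.leaf [3019,3459,3007,2995])))) (.node (.node (.node (.leaf [495,183,507,481]) (.leaf [1472,3213,3174,3227])) (.node (.leaf [761,2187,751,1853]) (.leaf [3711,2595,3507,3471]))) (.node (.node (.leaf [515,1474,503,1403]) (.leaf [2405,2687,1985,1974]))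 (.node (.leaf [2751,1107,2763,1757]) (.leaf []))))) (.node (.node (.node (.node (.leaf [319,343,105,91]) (.leaf [3125,1445,3135,1383])) (.node (.leaf [1665,695,1976,1989]) (.leaf [2471,2549,3211,3331]))) (.node (.node (.leaf [1239,1265,1251,1273]) (.leaf [1867,3491,3251,2685])) (.node (.leaf [1015,1137,989,977]) (.leaf [3780,3471,3830,3387])))) (.node (.node (.node (.leaf [727,287,657,345]) (.leaf [1613,3327,1603,3343])) (.node (.leaf [855,2391,843,1405]) (.leaf [3803,2805,3671,3825]))) (.node (.node (.leaf [1703,569,1675,1715]) (.leaf [3653,2825,2151,2137])) (.node (.leaf [1511,2853,2888,1221]) (.leaf []))))))) (.node (.node (.node (.node (.node (.node (.leaf [36,109,62,3]) (.leaf [1677,2277,1699,1267])) (.node (.leaf [1793,763,629,1807]) (.leaf [2235,3627,2223,3701]))) (.node (.node (.leaf [916,371,343,652]) (.leaf [2395,3403,2607,2587])) (.node (.leaf [939,2479,927,1585]) (.leaf [3047,3033,3035,2951]))))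 (.node (.node (.node (.leaf [463,151,415,163]) (.leaf [2094,3195,2359,2329])) (.node (.leaf [741,1427,2111,1295]) (.leaf [2525,3177,2551,3499]))) (.node (.node (.leaf [1407,893,879,853]) (.leaf [3319,1989,3575,1943])) (.node (.leaf [1543,1323,1087,1519]) (.leaf []))))) (.node (.node (.node (.node (.leaf [311,71,249,297]) (.leaf [3105,1375,3081,2707])) (.node (.leaf [1947,701,675,697]) (.leaf [2591,2577,2579,2399]))) (.node (.node (.leaf [1181,427,1197,437]) (.leaf [3445,2141,1839,1885])) (.node (.leaf [967,2663,2083,2075]) (.leaf [3547,3319,3535,3355])))) (.node (.node (.node (.leaf [279,675,271,255]) (.leaf [3271,1571,3287,3261])) (.node (.leaf [2047,2251,2319,822]) (.leaf [2777,3771,3377,3365]))) (.node (.node (.leaf [561,1667,1583,899]) (.leaf [3631,2103,3155,3163])) (.node (.leaf [1203,2859,2031,2017]) (.leaf [])))))) (.node (.node (.node (.node (.node (.leaf [187,211,195,31]) (.leaf [3005,1622,3015,1297]))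 (.node (.leaf [1811,1881,1173,1797]) (.leaf [2311,3370,2374,3730]))) (.node (.node (.leaf [1023,389,999,1035]) (.leaf [3427,1703,3167,3153])) (.node (.leaf [2551,917,2525,2563]) (.leaf [3077,3137,3097,3193])))) (.node (.node (.node (.leaf [215,563,573,225]) (.leaf [2885,1530,1504,2616])) (.node (.leaf [2223,780,2235,2247]) (.leaf [2661,2721,3597,3647]))) (.node (.node (.leaf [1521,520,1533,1547]) (.leaf [2006,3591,3578,3605])) (.node (.leaf [2807,1931,2745,2733]) (.leaf []))))) (.node (.node (.node (.node (.leaf [387,242,111,363]) (.leaf [2339,2083,2303,2098])) (.node (.leaf [2023,2049,713,1207]) (.leaf [2835,3291,2487,3737]))) (.node (.node (.leaf [1315,467,1329,1343]) (.leaf [1883,3509,3093,1907])) (.node (.leaf [1770,1023,1778,1717]) (.leaf [3488,3825,3611,3582])))) (.node (.node (.node (.leaf [785,319,801,329]) (.leaf [3341,1913,1623,1609])) (.node (.leaf [1991,863,2410,1667]) (.leaf [3773,3802,3765,2815])))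 (.node (.node (.leaf [1153,593,615,1105]) (.leaf [3623,3678,2171,3059])) (.node (.leaf [1255,2947,1241,1961]) (.leaf []))))))))

def lN_29 : CfsgLib.Coset.Tr (List Nat) := (.node (.node (.node (.node (.node (.node (.node (.leaf [21,57,8,71]) (.leaf [1710,2958,1269,1701])) (.node (.leaf [627,1779,1789,1165]) (.leaf [2205,2615,2795,2673]))) (.node (.node (.leaf [347,907,915,731]) (.leaf [3233,3387,1649,2595])) (.node (.leaf [2445,887,2459,2434]) (.leaf [2935,3701,3811,2923])))) (.node (.node (.node (.leaf [423,447,151,135]) (.leaf [2961,3105,1448,1437])) (.node (.leaf [2131,727,2141,2155]) (.leaf [3759,2511,3771,3747]))) (.node (.node (.leaf [491,1391,1403,503]) (.leaf [3311,2898,1941,3569])) (.node (.leaf [1526,1071,1515,1083]) (.leaf []))))) (.node (.node (.node (.node (.leaf [271,295,279,55]) (.leaf [3090,1359,1879,1744])) (.node (.leaf [1079,1857,1125,1053]) (.leaf [2383,3737,3727,2371]))) (.node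 (.node (.leaf [1107,1145,1131,1155]) (.leaf [3441,1811,2421,2217])) (.node (.leaf [1589,2649,953,941]) (.leaf [3570,3219,3314,3305])))) (.node (.node (.node (.leaf [251,635,309,645]) (.leaf [2906,1595,1553,2629])) (.node (.leaf [2280,2307,817,2321]) (.leaf [3671,3791,3803,3405]))) (.node (.node (.leaf [542,1641,537,1098]) (.leaf [2357,2117,2090,2298])) (.node (.leaf [2491,1187,2841,2855]) (.leaf [])))))) (.node (.node (.node (.node (.node (.leaf [171,138,31,195]) (.leaf [1307,2229,2999,3011])) (.node (.leaf [665,1867,1037,1003]) (.leaf [3589,2301,2655,2979]))) (.node (.node (.leaf [981,1007,381,1017]) (.leaf [3415,1689,1763,2771])) (.node (.leaf [2513,2150,2535,901]) (.leaf [3479,3011,3527,3717])))) (.node (.node (.node (.leaf [530,199,551,446]) (.leaf [2597,1479,2261,3231])) (.node (.leaf [779,2207,1859,753]) (.leaf [2647,3567,2687,3249]))) (.node (.node (.leaf [1479,1503,519,805]) (.leaf [2435,2843,2001,2444]))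 (.node (.leaf [2792,1123,2199,1148]) (.leaf []))))) (.node (.node (.node (.node (.leaf [359,107,369,117]) (.leaf [2611,1411,2397,2575])) (.node (.leaf [711,2033,2019,2029]) (.leaf [3211,2639,2471,2483]))) (.node (.node (.leaf [455,1303,1095,539]) (.leaf [3497,2693,2557,2521])) (.node (.leaf [2673,995,1151,2205]) (.leaf [3521,3562,3477,3511])))) (.node (.node (.node (.leaf [745,305,759,769]) (.leaf [1629,3359,3345,1607])) (.node (.leaf [885,847,1413,849]) (.leaf [3747,3051,2811,3759]))) (.node (.node (.leaf [597,1727,585,1739]) (.leaf [2167,3617,3621,2863])) (.node (.leaf [2918,1225,2871,2930]) (.leaf []))))))) (.node (.node (.node (.node (.node (.node (.leaf [127,21,135,151]) (.leaf [1323,2983,1311,2113])) (.node (.leaf [1175,1819,1809,633]) (.leaf [2255,3715,3705,2227]))) (.node (.node (.leaf [363,965,351,387]) (.leaf [2267,3095,2603,1655])) (.node (.leaf [1685,2459,899,1583]) (.leaf [3145,2995,3629,3421]))))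 (.node (.node (.node (.leaf [167,479,405,465]) (.leaf [2969,2384,2343,1457])) (.node (.leaf [1285,769,2175,735]) (.leaf [2565,3347,3503,2555]))) (.node (.node (.leaf [1423,499,1429,1446]) (.leaf [3579,1971,2007,3485])) (.node (.leaf [2723,1101,2733,2745]) (.leaf []))))) (.node (.node (.node (.node (.leaf [101,327,317,75]) (.leaf [1389,2133,3119,3131])) (.node (.leaf [1961,1291,1277,1255]) (.leaf [3325,2625,2475,2463]))) (.node (.node (.leaf [443,1223,1235,1187]) (.leaf [3463,2564,1891,1843])) (.node (.leaf [1718,979,2195,1765]) (.leaf [3359,3839,3563,3549])))) (.node (.node (.node (.leaf [693,271,701,677]) (.leaf [1935,1599,3303,3317])) (.node (.leaf [2301,1403,2337,2360]) (.leaf [3823,2789,3403,3799]))) (.node (.node (.leaf [889,601,1683,555]) (.leaf [2145,3647,2135,3657])) (.node (.leaf [2623,2873,1217,2886]) (.leaf [])))))) (.node (.node (.node (.node (.node (.leaf [227,47,237,213]) (.leaf [3031,1646,3045,3067]))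 (.node (.leaf [1898,669,1747,1874]) (.leaf [3727,3443,2383,2315]))) (.node (.node (.leaf [1051,403,1061,1075]) (.leaf [1755,2881,3409,2753])) (.node (.leaf [2579,2169,2591,2615]) (.leaf [3137,3609,3131,3119])))) (.node (.node (.node (.leaf [577,221,591,601]) (.leaf [3201,1523,2709,3079])) (.node (.leaf [797,1461,787,835]) (.leaf [2725,3578,2713,2801]))) (.node (.node (.leaf [1499,1559,815,527]) (.leaf [3607,2913,3491,2015])) (.node (.leaf [1915,2533,2826,2695]) (.leaf []))))) (.node (.node (.node (.node (.leaf [403,239,161,413]) (.leaf [1454,3163,2270,2965])) (.node (.leaf [2059,718,2075,2083]) (.leaf [2855,3751,3741,2491]))) (.node (.node (.leaf [1345,1061,471,1369]) (.leaf [1895,3525,3467,3453])) (.node (.leaf [1778,1053,1770,2191]) (.leaf [3828,3759,3782,3675])))) (.node (.node (.node (.leaf [335,827,839,791]) (.leaf [1639,3269,3367,3379])) (.node (.leaf [1814,2400,865,1563]) (.leaf [3741,3418,2855,2841])))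 (.node (.node (.leaf [1735,1759,605,595]) (.leaf [2859,2667,3055,2163])) (.node (.leaf [1283,1245,1967,1247]) (.leaf []))))))))

def lN_30 : CfsgLib.Coset.Tr (List Nat) := (.node (.node (.node (.node (.node (.node (.node (.leaf [12,49,2,63]) (.leaf [1268,2771,1711,1679])) (.node (.leaf [1133,1715,1109,619]) (.leaf [2200,2607,2789,2670]))) (.node (.node (.leaf [851,874,863,887]) (.leaf [1651,3233,3237,2263])) (.node (.leaf [2440,879,2450,2428]) (.leaf [3165,2925,3429,3635])))) (.node (.node (.node (.leaf [151,439,423,127]) (.leaf [2955,3097,1447,1428])) (.node (.leaf [1339,1211,2119,1319]) (.leaf [2539,3375,2515,2503]))) (.node (.node (.leaf [483,1385,1395,493]) (.leaf [2824,3023,1918,1929])) (.node (.leaf [1121,2707,1073,1063]) (.leaf []))))) (.node (.node (.node (.node (.leaf [263,93,59,287]) (.leaf [2184,1353,1722,1783])) (.node (.leaf [1069,1853,1119,1045]) (.leaf [3285,2373,3273,3299]))) (.node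 (.node (.leaf [1103,413,453,549]) (.leaf [3435,1803,2415,2213])) (.node (.leaf [2085,947,971,2063]) (.leaf [3191,3533,3223,3177])))) (.node (.node (.node (.leaf [243,629,303,639]) (.leaf [1557,3251,2913,2900])) (.node (.leaf [823,1315,2285,2046]) (.leaf [3663,3783,3795,3399]))) (.node (.node (.leaf [1607,539,1617,1629]) (.leaf [2321,2070,2044,2280])) (.node (.leaf [2487,1176,2835,2847]) (.leaf [])))))) (.node (.node (.node (.node (.node (.leaf [31,173,171,187]) (.leaf [1297,2223,2991,3005])) (.node (.leaf [655,1841,731,915]) (.leaf [3645,2283,2985,2659]))) (.node (.node (.leaf [973,1001,375,1009]) (.leaf [2001,3287,2435,2458])) (.node (.leaf [2501,2529,905,2537]) (.leaf [3471,3003,3519,3711])))) (.node (.node (.node (.leaf [503,189,515,491]) (.leaf [3223,2361,3191,1475])) (.node (.leaf [771,2199,1851,747]) (.leaf [3719,2603,3515,3475]))) (.node (.node (.leaf [525,1495,1481,1497]) (.leaf [2425,2834,1993,2442]))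 (.node (.leaf [2757,1115,2769,1761]) (.leaf []))))) (.node (.node (.node (.node (.leaf [351,99,363,111]) (.leaf [3127,1449,3143,1391])) (.node (.leaf [701,2010,693,1951]) (.leaf [3205,2637,2463,2475]))) (.node (.node (.leaf [1247,1270,1259,1283]) (.leaf [3251,2057,1867,2649])) (.node (.leaf [2670,987,1147,2200]) (.leaf [3789,3479,3836,3395])))) (.node (.node (.node (.leaf [295,741,643,307]) (.leaf [1625,3351,3339,1601])) (.node (.leaf [861,2399,849,1413]) (.leaf [2815,3725,3751,3773]))) (.node (.node (.leaf [589,1721,579,1731]) (.leaf [3659,2831,2159,2147])) (.node (.leaf [2634,1947,2897,2909]) (.leaf []))))))) (.node (.node (.node (.node (.node (.node (.leaf [45,119,68,11]) (.leaf [2342,1279,2968,2274])) (.node (.leaf [1165,1815,1801,627]) (.leaf [2239,3635,2231,3703]))) (.node (.node (.leaf [933,357,947,957]) (.leaf [2259,3087,2599,1647])) (.node (.leaf [943,2482,935,1591]) (.leaf [2983,3117,3647,3597]))))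 (.node (.node (.node (.leaf [159,473,399,459]) (.leaf [2097,3203,2361,2336])) (.node (.leaf [2111,1829,741,2177]) (.leaf [2557,3343,3497,2545]))) (.node (.node (.leaf [1415,899,887,863]) (.leaf [3067,1963,2949,3031])) (.node (.leaf [2715,1095,2727,2739]) (.leaf []))))) (.node (.node (.node (.node (.leaf [91,77,81,319]) (.leaf [1383,2127,3111,3125])) (.node (.leaf [1955,705,683,707]) (.leaf [2769,2441,2757,3417]))) (.node (.node (.leaf [435,1217,1227,1177]) (.leaf [3455,2147,1845,1893])) (.node (.leaf [2070,1043,2063,971]) (.leaf [3351,3831,3555,3543])))) (.node (.node (.node (.leaf [287,683,275,263]) (.leaf [3295,1575,3263,3283])) (.node (.leaf [2294,1401,2335,2353]) (.leaf [2783,3777,3383,3369]))) (.node (.node (.leaf [1583,1673,561,1685]) (.leaf [2137,3641,2127,3653])) (.node (.leaf [1211,2867,2039,2025]) (.leaf [])))))) (.node (.node (.node (.node (.node (.leaf [219,37,231,207]) (.leaf [3009,1630,3023,1305]))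 (.node (.leaf [1037,1739,665,1025]) (.leaf [3723,3438,2381,2309]))) (.node (.node (.leaf [1031,395,1007,1041]) (.leaf [1742,3067,1905,3086])) (.node (.leaf [2571,2166,2587,2607]) (.leaf [3081,3142,3105,3203])))) (.node (.node (.node (.leaf [571,545,211,233]) (.leaf [3197,1513,2703,3073])) (.node (.leaf [2227,791,2241,2255]) (.leaf [2709,3182,3201,3107]))) (.node (.node (.leaf [1491,1551,807,517]) (.leaf [2012,3597,3582,3611])) (.node (.leaf [1151,2813,2673,2795]) (.leaf []))))) (.node (.node (.node (.node (.leaf [395,247,117,369]) (.leaf [1435,3155,1421,2956])) (.node (.leaf [2053,715,2065,2077]) (.leaf [2839,3299,2495,3739]))) (.node (.node (.leaf [475,585,1351,1363]) (.leaf [1889,3519,3461,3449])) (.node (.leaf [1773,1031,1784,1725]) (.leaf [3511,3809,3715,3521])))) (.node (.node (.node (.leaf [327,821,831,781]) (.leaf [3347,1919,1631,1619])) (.node (.leaf [875,2417,1823,1831]) (.leaf [3737,3415,2847,2835])))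 (.node (.node (.leaf [1161,599,623,1115]) (.leaf [2947,3547,3063,3043])) (.node (.leaf [1275,1241,1959,1237]) (.leaf []))))))))

def lN_31 : CfsgLib.Coset.Tr (List Nat) := (.node (.node (.node (.node (.node (.node (.node (.leaf [79,9,87,103]) (.leaf [1673,2273,1694,1260])) (.node (.leaf [635,1787,1797,1173]) (.leaf [2217,2321,3693,3441]))) (.node (.node (.leaf [918,363,341,650]) (.leaf [3239,3390,1655,2603])) (.node (.leaf [1089,2463,1547,1533]) (.leaf [3041,3025,3029,2943])))) (.node (.node (.node (.leaf [431,455,155,143]) (.leaf [2271,2238,1455,2340])) (.node (.leaf [735,1421,2103,1285]) (.leaf [3767,2519,3779,3753]))) (.node (.node (.leaf [1401,511,489,513]) (.leaf [3317,1985,3567,1935])) (.node (.leaf [1535,1075,1519,1087]) (.leaf []))))) (.node (.node (.node (.node (.leaf [303,61,243,291]) (.leaf [3093,1367,1883,1749])) (.node (.leaf [677,1939,1951,693]) (.leaf [2585,2569,2573,2391]))) (.node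 (.node (.leaf [1115,1149,1137,1161]) (.leaf [1843,3425,3451,3463])) (.node (.leaf [962,2659,2078,2067]) (.leaf [3573,3227,3321,3309])))) (.node (.node (.node (.leaf [643,653,295,245]) (.leaf [3267,1567,3279,3255])) (.node (.leaf [2291,2313,824,2325]) (.leaf [3813,2751,2939,2877]))) (.node (.node (.leaf [555,1661,1575,889]) (.leaf [2363,2119,2099,2302])) (.node (.leaf [1193,2001,1183,1231]) (.leaf [])))))) (.node (.node (.node (.node (.node (.leaf [179,141,35,203]) (.leaf [2993,2733,1301,3017])) (.node (.leaf [1803,1877,1167,1791]) (.leaf [3595,2303,2663,2987]))) (.node (.node (.leaf [991,955,1013,379]) (.leaf [3423,1699,3159,3147])) (.node (.leaf [2517,2158,2543,909]) (.leaf [3678,3046,3389,3835])))) (.node (.node (.node (.leaf [207,557,567,219]) (.leaf [2603,1487,2267,3239])) (.node (.leaf [1855,2215,773,763]) (.leaf [2655,2715,3589,3637]))) (.node (.node (.leaf [1485,1511,527,815]) (.leaf [2453,2936,2439,1997]))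 (.node (.leaf [2801,1925,2737,2725]) (.leaf []))))) (.node (.node (.node (.node (.leaf [115,379,389,355]) (.leaf [2335,2081,2294,2088])) (.node (.leaf [719,2037,2025,2039]) (.leaf [2479,3309,3335,3213]))) (.node (.node (.leaf [1311,461,1323,1335]) (.leaf [3503,2699,2565,2529])) (.node (.leaf [2685,1015,2649,1867]) (.leaf [3483,3819,3603,3581])))) (.node (.node (.node (.leaf [753,311,765,779]) (.leaf [3365,1617,1637,2777])) (.node (.leaf [1985,855,2405,1660]) (.leaf [3755,3059,2819,3763]))) (.node (.node (.leaf [607,1749,1733,583]) (.leaf [3617,3675,2165,3051])) (.node (.leaf [2923,1234,2879,2935]) (.leaf []))))))) (.node (.node (.node (.node (.node (.node (.leaf [60,157,38,15]) (.leaf [1327,2986,1319,2119])) (.node (.leaf [1571,641,1831,1823]) (.leaf [3701,3691,2247,2235]))) (.node (.node (.leaf [371,971,357,393]) (.leaf [1975,3263,1661,2404])) (.node (.leaf [901,2487,2499,2513]) (.leaf [3155,2999,3631,3431]))))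 (.node (.node (.node (.leaf [199,487,189,175]) (.leaf [1466,3207,3170,3221])) (.node (.leaf [1293,777,2183,743]) (.leaf [3390,2590,3677,3787]))) (.node (.node (.leaf [507,1469,495,1393]) (.leaf [3585,1977,2015,3491])) (.node (.leaf [1375,1173,1361,1349]) (.leaf []))))) (.node (.node (.node (.node (.leaf [107,333,323,83]) (.leaf [3119,2334,1389,3137])) (.node (.leaf [1659,689,1973,1981]) (.leaf [3335,2623,2479,2469]))) (.node (.node (.leaf [1233,1195,437,1197]) (.leaf [1863,3487,3245,2681])) (.node (.leaf [1726,983,2187,1769]) (.leaf [3557,3499,3353,3533])))) (.node (.node (.node (.leaf [724,279,653,342]) (.leaf [1941,1605,3311,3323])) (.node (.leaf [2373,834,2313,2387]) (.leaf [3795,2799,3663,3819]))) (.node (.node (.leaf [897,609,1691,563]) (.leaf [2155,3667,3655,2131])) (.node (.leaf [1504,2849,2885,1213]) (.leaf [])))))) (.node (.node (.node (.node (.node (.leaf [55,257,255,271]) (.leaf [2113,3075,1335,1323]))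 (.node (.leaf [1903,665,1751,1877]) (.leaf [2421,2345,3441,3693]))) (.node (.node (.leaf [411,1085,459,399]) (.leaf [1763,2887,3415,2755])) (.node (.leaf [1219,931,2621,1506]) (.leaf [3399,3122,3819,3663])))) (.node (.node (.node (.leaf [585,227,597,611]) (.leaf [2893,1545,2632,1554])) (.node (.leaf [807,2259,1491,1477]) (.leaf [2735,3582,2721,2805]))) (.node (.node (.leaf [957,811,1593,933]) (.leaf [3053,2019,2861,3615])) (.node (.leaf [1912,2543,2830,2697]) (.leaf []))))) (.node (.node (.node (.node (.leaf [135,121,127,423]) (.leaf [1461,3167,2279,2974])) (.node (.leaf [2037,2095,1205,717]) (.leaf [3253,2503,3293,3265]))) (.node (.node (.leaf [1353,1067,477,1377]) (.leaf [3535,1901,3547,3559])) (.node (.leaf [1057,1157,1045,1119]) (.leaf [3837,3767,3788,3683])))) (.node (.node (.node (.leaf [837,799,329,801]) (.leaf [3373,2741,2773,1635])) (.node (.leaf [1823,2411,875,1571]) (.leaf [2875,3454,2926,3814])))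 (.node (.node (.leaf [615,1767,1153,1129]) (.leaf [2867,2675,3059,2171])) (.node (.leaf [1447,1257,2955,1422]) (.leaf []))))))))

/-- Products with the generators. -/
def lN : CfsgLib.Coset.Tr (List Nat) := (.node (.node (.node (.node (.node lN_0 lN_1) (.node lN_2 lN_3)) (.node (.node lN_4 lN_5) (.node lN_6 lN_7))) (.node (.node (.node lN_8 lN_9) (.node lN_10 lN_11)) (.node (.node lN_12 lN_13) (.node lN_14 lN_15)))) (.node (.node (.node (.node lN_16 lN_17) (.node lN_18 lN_19)) (.node (.node lN_20 lN_21) (.node lN_22 lN_23))) (.node (.node (.node lN_24 lN_25) (.node lN_26 lN_27)) (.node (.node lN_28 lN_29) (.node lN_30 lN_31)))))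

/-- A conjugating word. -/
def cU2 : List Nat := [1,2,3,5,4,3,2,3,4,1,2,3,2,3,1,2,3,5,4,3,2,1]

/-- A conjugating word. -/
def cUU2 : List Nat := [1,2,3,5,4,3,2,3,1,2,3,4,2,3,1,2,3,5,4,3,2,1]

/-- A conjugating word. -/
def cTU : List Nat := [5,3,6,1,2,3,5,4,3,2,1]

/-- A conjugating word. -/
def cTU2 : List Nat := [4,1,2,3,6,2,3,2,3,6,2,3,1,2,3,1,2]

/-- A conjugating word. -/
def cTUU2 : List Nat := [4,1,2,3,5,2,3,2,3,5,2,3,1,2,3,1,2]

end CfsgLib.HeldEnd.HeF
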