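import Cfsg.Agent.HeldType.HeKeys
import Cfsg.Agent.HeldType.HeData

/-!
# Centralizers of the involutions of `Cfsg.Spor.He`

`U = a` has centralizer `M` of order 161280, `T = d` has centralizer of order 21504, and the four
group `⟨U, U'⟩` has centralizer of index two in `M`.
-/

set_option autoImplicit false
set_option maxRecDepth 100000
set_option maxHeartbeats 1000000
set_option Elab.async false

namespace CfsgLib.HeldEnd.HeF

open CfsgLib.Coset
open CfsgLib.Coset.He (Lg sq_all closure_Lg)

/-- The central involution. -/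
noncomputable abbrev T : Cfsg.Spor.He := ev Lg [3]
/-- The other involution. -/
noncomputable abbrev U : Cfsg.Spor.He := ev Lg [0]
/-- Its partner. -/
noncomputable abbrev U2 : Cfsg.Spor.He := ev Lg u2

theorem finite : Finite Cfsg.Spor.He := He.card_le.1

attribute [local instance] finite

theorem commute_of_same {v w : List Nat} (h : same (v ++ w) (w ++ v) = true) :
    Commute (ev Lg v) (ev Lg w) := by
  show ev Lg v * ev Lg w = ev Lg w * ev Lg v
  rw [← ev_append, ← ev_append]
  exact eq_of_same h

theorem orderOf_invol {w : List Nat} (h : same (w ++ w) [] = true) (hne : same w [] = false)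
    (hl : lett w = true) : orderOf (ev Lg w) = 2 := by
  refine orderOf_eq_prime ?_ ?_
  · rw [pow_two, ← ev_append, eq_of_same h, ev_nil]
  · rw [← ev_nil (L := Lg)]
    exact ne_of_not_same hl rfl hne

theorem orderOf_T : orderOf T = 2 :=
  orderOf_invol (by decide +kernel) (by decide +kernel) (by decide +kernel)

theorem orderOf_U : orderOf U = 2 :=
  orderOf_invol (by decide +kernel) (by decide +kernel) (by decide +kernel)

theorem orderOf_U2 : orderOf U2 = 2 :=
  orderOf_invol (by decide +kernel) (by decide +kernel) (by decide +kernel)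

theorem commute_TU : Commute T U := commute_of_same (by decide +kernel)
theorem commute_TU2 : Commute T U2 := commute_of_same (by decide +kernel)
theorem commute_UU2 : Commute U U2 := commute_of_same (by decide +kernel)

theorem U2_ne_U : U2 ≠ U :=
  ne_of_not_same (by decide +kernel) (by decide +kernel) (by decide +kernel)

/-! ### The centralizer of `T` -/

theorem card_cent_T : Nat.card (Subgroup.centralizer ({T} : Set Cfsg.Spor.He)) = 21504 := by
  have hz : ev Lg [3, 6] * T * (ev Lg [3, 6])⁻¹ = He.Inv2B.Z := by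
    rw [← ev_conjW]
    exact eq_of_same (by decide +kernel)
  rw [← He.Inv2B.card_Cz.1]
  refine Nat.card_congr (((MulAut.conj (ev Lg [3, 6])).subgroupMap _).trans
    (MulEquiv.subgroupCongr ?_)).toEquiv
  ext x
  rw [Subgroup.mem_map, Subgroup.mem_centralizer_singleton_iff]
  constructor
  · rintro ⟨y, hy, rfl⟩
    rw [Subgroup.mem_centralizer_singleton_iff] at hy
    show MulAut.conj _ y * He.Inv2B.Z = He.Inv2B.Z * MulAut.conj _ y
    rw [← hz, ← MulAut.conj_apply, ← map_mul, ← map_mul, hy]
  · intro hx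
    refine ⟨(MulAut.conj (ev Lg [3, 6])).symm x, ?_, (MulAut.conj (ev Lg [3, 6])).apply_symm_apply x⟩
    rw [Subgroup.mem_centralizer_singleton_iff]
    refine (MulAut.conj (ev Lg [3, 6])).injective ?_
    rw [map_mul, map_mul, MulEquiv.apply_symm_apply, MulAut.conj_apply, hz, hx]

/-! ### The centralizer of `U` -/

/-- Word of the representative of a node. -/
noncomputable def repW (s : Nat) : Nat → List Nat :=
  Nat.rec (fun _ => []) (fun _ ih i => cond (Nat.beq i 0) []
    (ih (eb (He.M.E i)) ++ [ex (He.M.E i)])) s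

/-- The node is reached within the given number of steps. -/
noncomputable def reach (s : Nat) : Nat → Bool :=
  Nat.rec (fun i => Nat.beq i 0) (fun _ ih i => cond (Nat.beq i 0) true (ih (eb (He.M.E i)))) s

theorem rep_defs : ∀ i, i < 25212 → i ≠ 0 → eb (He.M.E i) < i := by
  intro i hi hi0
  have hd := He.M.hdefs
  unfold checkDefs at hd
  simp only [cond_false_eq_true] at hd
  have h := of_allBelow hd.2.2.2 i hi
  have hb : Nat.beq i 0 = false := by
    cases hh : Nat.beq i 0
    · rfl
    · exact absurd (Nat.eq_of_beq_eq_true hh) hi0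
  rw [hb, cond_false, cond_false_eq_true] at h
  exact Nat.ble_eq.mp h.1

theorem ev_repW : ∀ (s i : Nat), i < 25212 → reach s i = true →
    ev Lg (repW s i) = rp Lg He.M.E i := by
  intro s
  induction s with
  | zero =>
    intro i _ h
    rw [Nat.eq_of_beq_eq_true h]
    rfl
  | succ s ih =>
    intro i hi h
    rcases Nat.eq_zero_or_pos i with rfl | hpos
    · rfl
    obtain ⟨j, rfl⟩ : ∃ j, i = j + 1 := ⟨i - 1, by omega⟩
    have hb : Nat.beq (j + 1) 0 = false := rfl
    have hlt := rep_defs (j + 1) hi (by omega)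
    change cond (Nat.beq (j + 1) 0) true (reach s (eb (He.M.E (j + 1)))) = true at h
    rw [hb, cond_false] at h
    show ev Lg (cond (Nat.beq (j + 1) 0) []
      (repW s (eb (He.M.E (j + 1))) ++ [ex (He.M.E (j + 1))])) = _
    rw [hb, cond_false, ev_append, ih _ (by omega) h, ev_cons, ev_nil, mul_one,
      ← rpAux_of_le Lg He.M.E rep_defs _ (by omega) j (by omega)]
    simp [rp, rpAux]

/-- Only the unit coset has a representative centralising `U`. -/
theorem rep_checks : allBelow 15 24990 (fun i => cond (Nat.beq i 0) true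
    (cond (Nat.beq (tget He.M.Tb i 0) i)
      (cond (Nat.ble (Nat.add (He.M.Rep i) 1) 25212) (cond (reach 24 (He.M.Rep i))
        (cond (lett (repW 24 (He.M.Rep i)))
          (cond (same (repW 24 (He.M.Rep i) ++ [0]) (0 :: repW 24 (He.M.Rep i))) false true)
        false) false) false) true)) = true := by decide +kernel

theorem card_M : Nat.card (genW Lg He.M.subs) = 161280 := by
  refine le_antisymm He.card_M.2 ?_
  obtain ⟨-, h⟩ := He.M_table.finite_card_le (by decide) (closure_Lg ▸ le_top) He.card_M.1 le_rfl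
  rw [closure_Lg, Subgroup.card_top, He.card_and_injective.1] at h
  omega

/-- The table lists each coset of `M` once. -/
theorem rep_inj {i j : Nat} (hi : i < 24990) (hj : j < 24990)
    (h : rp Lg He.M.E (He.M.Rep i) * (rp Lg He.M.E (He.M.Rep j))⁻¹ ∈ genW Lg He.M.subs) : i = j := by
  let f : Fin 24990 → Cfsg.Spor.He ⧸ genW Lg He.M.subs := fun i =>
    QuotientGroup.mk (rp Lg He.M.E (He.M.Rep i))⁻¹
  have hf : Function.Surjective f := fun q => by
    induction q using QuotientGroup.induction_on with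
    | _ g =>
      obtain ⟨i, hi, hg⟩ := He.M_table.cover (by decide) (g := g⁻¹) (closure_Lg ▸ Subgroup.mem_top _)
      refine ⟨⟨i, hi⟩, QuotientGroup.eq.mpr ?_⟩
      simpa [mul_inv_rev] using inv_mem hg
  have hc : Nat.card (Cfsg.Spor.He ⧸ genW Lg He.M.subs) = Nat.card (Fin 24990) := by
    have := (genW Lg He.M.subs).card_mul_index
    rw [card_M, He.card_and_injective.1] at this
    rw [Nat.card_fin]
    show (genW Lg He.M.subs).index = 24990
    omega
  exact congrArg Fin.val (((Nat.bijective_iff_surjective_and_card f).mpr ⟨hf, hc.symm⟩).1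
    (a₁ := ⟨i, hi⟩) (a₂ := ⟨j, hj⟩) (QuotientGroup.eq.mpr (by simpa using h)))

theorem cent_U_eq : Subgroup.centralizer ({U} : Set Cfsg.Spor.He) = genW Lg He.M.subs := by
  have hM : genW Lg He.M.subs ≤ Subgroup.centralizer ({U} : Set Cfsg.Spor.He) := by
    refine (Subgroup.closure_le _).mpr ?_
    rintro _ ⟨w, hw, rfl⟩
    refine Subgroup.mem_centralizer_singleton_iff.mpr (commute_of_same ?_)
    have hc : allList (fun w => same (w ++ [0]) ([0] ++ w)) He.M.subs = true := by decide +kernel
    exact allList_iff.mp hc w hw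
  refine le_antisymm (fun g hg => ?_) hM
  obtain ⟨i, hi, hgi⟩ := He.M_table.cover (by decide) (g := g) (closure_Lg ▸ Subgroup.mem_top g)
  rcases Nat.eq_zero_or_pos i with rfl | hpos
  · simpa [He.M_table.zero, rp_zero] using hgi
  exfalso
  have h := of_allBelow rep_checks i hi
  have hb : Nat.beq i 0 = false := by
    cases hh : Nat.beq i 0
    · rfl
    · exact absurd (Nat.eq_of_beq_eq_true hh) (by omega)
  have hU : rp Lg He.M.E (He.M.Rep i) ∈ Subgroup.centralizer ({U} : Set Cfsg.Spor.He) := by
    have h2 := mul_mem (inv_mem (hM hgi)) hg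
    simpa [mul_assoc] using h2
  have hstep := He.M_table.step i hi 0 (by rw [He.len_Lg]; norm_num)
  have hfix : Nat.beq (tget He.M.Tb i 0) i = true := by
    refine Nat.beq_eq.mpr (rep_inj hi (He.M_table.lt i hi 0 (by rw [He.len_Lg]; norm_num)) ?_).symm
    have e : rp Lg He.M.E (He.M.Rep i) * fl Lg 0 = fl Lg 0 * rp Lg He.M.E (He.M.Rep i) := by
      simpa using Subgroup.mem_centralizer_singleton_iff.mp hU
    rw [e, mul_assoc] at hstep
    have hU' : fl Lg 0 ∈ genW Lg He.M.subs := by
      simpa using ev_mem_genW (L := Lg) (show [0] ∈ He.M.subs by decide)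
    exact (Subgroup.mul_mem_cancel_left _ hU').mp hstep
  simp only [hb, cond_false, hfix, cond_true, cond_false_eq_true] at h
  obtain ⟨hlt, hr, hl, hs⟩ := h
  have hs' : same (repW 24 (He.M.Rep i) ++ [0]) (0 :: repW 24 (He.M.Rep i)) = false := by
    revert hs
    cases same (repW 24 (He.M.Rep i) ++ [0]) (0 :: repW 24 (He.M.Rep i)) <;> simp
  refine ne_of_not_same (lett_append hl rfl)
    (show lett (0 :: repW 24 (He.M.Rep i)) = true from lett_append (v := [0]) rfl hl) hs' ?_
  rw [ev_append, show (0 :: repW 24 (He.M.Rep i)) = [0] ++ repW 24 (He.M.Rep i) from rfl,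
    ev_append, ev_repW 24 _ (Nat.ble_eq.mp hlt) hr]
  simpa using Subgroup.mem_centralizer_singleton_iff.mp hU

theorem card_cent_U : Nat.card (Subgroup.centralizer ({U} : Set Cfsg.Spor.He)) = 161280 := by
  rw [cent_U_eq, card_M]

/-- The centralizer of `U` permutes `U'` and `U U'`. -/
theorem stable {g : Cfsg.Spor.He} (hg : Commute g U) :
    g * U2 * g⁻¹ = U2 ∨ g * U2 * g⁻¹ = U * U2 := by
  have hmem : g ∈ Subgroup.centralizer ({U} : Set Cfsg.Spor.He) :=
    Subgroup.mem_centralizer_singleton_iff.mpr hg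
  rw [cent_U_eq, genW, ← Subgroup.mem_toSubmonoid, Subgroup.closure_toSubmonoid_of_finite] at hmem
  clear hg
  induction hmem using Submonoid.closure_induction_right with
  | one => left; simp
  | mul_right y _ x hx ih =>
    obtain ⟨w, hw, rfl⟩ := hx
    have hc : allList (fun w => cond (same (conjW w u2) u2) true (same (conjW w u2) ([0] ++ u2)))
        He.M.subs = true := by decide +kernel
    have h := allList_iff.mp hc w hw
    have hyu : y * U * y⁻¹ = U := by
      have : y ∈ Subgroup.centralizer ({U} : Set Cfsg.Spor.He) := by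
        rw [cent_U_eq, genW, ← Subgroup.mem_toSubmonoid, Subgroup.closure_toSubmonoid_of_finite]
        assumption
      exact mul_inv_eq_iff_eq_mul.mpr (Subgroup.mem_centralizer_singleton_iff.mp this)
    have hUU : U * U = 1 := by
      show ev Lg [0] * ev Lg [0] = 1
      simp [sq_all]
    cases hb : same (conjW w u2) u2
    · rw [hb, cond_false] at h
      have h' := eq_of_same h
      rw [ev_conjW, ev_append] at h'
      rw [show y * ev Lg w * U2 * (y * ev Lg w)⁻¹ = y * (ev Lg w * U2 * (ev Lg w)⁻¹) * y⁻¹ by group,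
        h', show y * (U * U2) * y⁻¹ = (y * U * y⁻¹) * (y * U2 * y⁻¹) by group, hyu]
      rcases ih with e | e <;> rw [e]
      · exact Or.inr rfl
      · left; rw [← mul_assoc, hUU, one_mul]
    · have h' := eq_of_same hb
      rw [ev_conjW] at h'
      rw [show y * ev Lg w * U2 * (y * ev Lg w)⁻¹ = y * (ev Lg w * U2 * (ev Lg w)⁻¹) * y⁻¹ by group,
        h']
      exact ih

/-- The centralizer of the four group. -/
abbrev K0 : Subgroup Cfsg.Spor.He := Subgroup.centralizer ({U, U2} : Set Cfsg.Spor.He)

theorem mem_K0 {x : Cfsg.Spor.He} : x ∈ K0 ↔ Commute x U ∧ Commute x U2 := by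
  rw [Subgroup.mem_centralizer_iff]
  simp only [Set.mem_insert_iff, Set.mem_singleton_iff, forall_eq_or_imp, forall_eq]
  exact ⟨fun h => ⟨h.1.symm, h.2.symm⟩, fun h => ⟨h.1.symm, h.2.symm⟩⟩

theorem card_K0 : Nat.card K0 = 80640 := by
  set M := Subgroup.centralizer ({U} : Set Cfsg.Spor.He) with hM
  have hle : K0 ≤ M := fun x hx => Subgroup.mem_centralizer_singleton_iff.mpr (mem_K0.mp hx).1
  have hidx : (K0.subgroupOf M).index = 2 := by
    have hs : ev Lg [1, 0, 1] ∈ M :=
      Subgroup.mem_centralizer_singleton_iff.mpr (commute_of_same (by decide +kernel))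
    have hse : ev Lg [1, 0, 1] * U2 * (ev Lg [1, 0, 1])⁻¹ = U * U2 := by
      show _ = ev Lg [0] * ev Lg u2
      rw [← ev_conjW, ← ev_append]
      exact eq_of_same (by decide +kernel)
    have hne : U * U2 ≠ U2 := fun e => by
      have h1 : U = 1 := mul_right_cancel (e.trans (one_mul U2).symm)
      have h2 := orderOf_U
      rw [h1, orderOf_one] at h2
      omega
    rw [Subgroup.index_eq_two_iff]
    refine ⟨⟨_, hs⟩, fun b => ?_⟩
    have hb : Commute (b : Cfsg.Spor.He) U := Subgroup.mem_centralizer_singleton_iff.mp b.2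
    have hs' : Commute (ev Lg [1, 0, 1]) U := Subgroup.mem_centralizer_singleton_iff.mp hs
    have hbU : (b : Cfsg.Spor.He) * U * (b : Cfsg.Spor.He)⁻¹ = U :=
      mul_inv_eq_iff_eq_mul.mpr hb.eq
    simp only [Subgroup.mem_subgroupOf, Subgroup.coe_mul, mem_K0, hb, hb.mul_left hs', true_and,
      Commute, SemiconjBy, ← mul_inv_eq_iff_eq_mul]
    have e : (b : Cfsg.Spor.He) * ev Lg [1, 0, 1] * U2 * ((b : Cfsg.Spor.He) * ev Lg [1, 0, 1])⁻¹ =
        U * ((b : Cfsg.Spor.He) * U2 * (b : Cfsg.Spor.He)⁻¹) := by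
      rw [show (b : Cfsg.Spor.He) * ev Lg [1, 0, 1] * U2 * ((b : Cfsg.Spor.He) * ev Lg [1, 0, 1])⁻¹ =
        (b : Cfsg.Spor.He) * (ev Lg [1, 0, 1] * U2 * (ev Lg [1, 0, 1])⁻¹) * (b : Cfsg.Spor.He)⁻¹ by group,
        hse, show (b : Cfsg.Spor.He) * (U * U2) * (b : Cfsg.Spor.He)⁻¹ =
        ((b : Cfsg.Spor.He) * U * (b : Cfsg.Spor.He)⁻¹) *
          ((b : Cfsg.Spor.He) * U2 * (b : Cfsg.Spor.He)⁻¹) by group, hbU]
    rw [e]
    have hbs : (b : Cfsg.Spor.He) * ev Lg [1, 0, 1] * U * ((b : Cfsg.Spor.He) * ev Lg [1, 0, 1])⁻¹ = U :=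
      mul_inv_eq_iff_eq_mul.mpr (hb.mul_left hs').eq
    rcases stable hb with h | h <;> rw [h]
    · exact Or.inr ⟨⟨hbU, rfl⟩, fun hh => hne hh.2⟩
    · refine Or.inl ⟨⟨hbs, ?_⟩, fun hh => hne hh.2⟩
      rw [← mul_assoc, show U * U = 1 from by show ev Lg [0] * ev Lg [0] = 1; simp [sq_all], one_mul]
  have h := (K0.subgroupOf M).card_mul_index
  rw [hidx, Nat.card_congr (Subgroup.subgroupOfEquivOfLe hle).toEquiv, hM, card_cent_U] at h
  omega

end CfsgLib.HeldEnd.HeF
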