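import Cfsg.Agent.Coset.He.Inv2B

/-!
# Elements of `Cfsg.Spor.He` compared on four points

Two elements are equal when they move four base points alike. Lists of words with their images of
the base give subgroups with their elements.
-/

set_option autoImplicit false
set_option maxRecDepth 100000

namespace CfsgLib.HeldEnd.HeF

open CfsgLib.Coset
open CfsgLib.Coset.He (Lg sq_all matches_ρ len_Lg)

/-- The base. -/
def basePts : List Nat := [5, 6, 15, 42]

/-- The images of the base under a word. -/
noncomputable def key (w : List Nat) : List Nat :=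
  List.rec [] (fun b _ ih => follow (tget He.Top.Tb) b w :: ih) basePts

/-- Move a key by a word. -/
noncomputable def kmove (K : List Nat) (g : List Nat) : List Nat :=
  List.rec [] (fun b _ ih => follow (tget He.Top.Tb) b g :: ih) K

/-- The letters are generators. -/
noncomputable def lett (w : List Nat) : Bool := allList (fun x => Nat.ble (Nat.add x 1) 7) w

/-- A number ordering the keys. -/
noncomputable def knum (K : List Nat) : Nat :=
  List.rec 0 (fun b _ ih => Nat.add b (Nat.mul 4096 ih)) K

theorem lt_of_lett {w : List Nat} (h : lett w = true) : ∀ l ∈ w, l < (Lg).length := fun l hl => by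
  rw [len_Lg]
  exact Nat.ble_eq.mp (allList_iff.mp h l hl)

theorem lett_append {v w : List Nat} (hv : lett v = true) (hw : lett w = true) :
    lett (v ++ w) = true :=
  allList_iff.mpr fun x hx => (List.mem_append.mp hx).elim (allList_iff.mp hv x) (allList_iff.mp hw x)

theorem lett_reverse {w : List Nat} (hw : lett w = true) : lett w.reverse = true :=
  allList_iff.mpr fun x hx => allList_iff.mp hw x (List.mem_reverse.mp hx)

theorem key_eq_map (w : List Nat) : key w = basePts.map fun b => follow (tget He.Top.Tb) b w := rfl

theorem kmove_eq_map (K : List Nat) (g : List Nat) :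
    kmove K g = K.map fun b => follow (tget He.Top.Tb) b g := by
  induction K with
  | nil => rfl
  | cons b K ih => exact congrArg (follow (tget He.Top.Tb) b g :: ·) ih

theorem key_append (v w : List Nat) : key (v ++ w) = kmove (key v) w := by
  rw [kmove_eq_map, key_eq_map, key_eq_map, List.map_map]
  exact List.map_congr_left fun b _ => follow_append _ b v w

theorem ev_eq_of_key {v w : List Nat} (hv : lett v = true) (hw : lett w = true)
    (h : key v = key w) : ev Lg v = ev Lg w := by
  have hl : ∀ u : List Nat, lett u = true → checkLetters (Lg).length [u] = true := fun u hu =>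
    allList_iff.mpr fun x hx => allList_iff.mpr fun l hl => by
      rw [List.mem_singleton.mp hx] at hl
      exact Nat.ble_eq.mpr (lt_of_lett hu l hl)
  refine matches_ρ.ev_eq_of_base He.Inv2B.base_bot (hl v hv) (hl w hw) (allList_iff.mpr fun b hb => ?_)
  rw [key_eq_map, key_eq_map] at h
  exact Nat.beq_eq.mpr (List.map_eq_map_iff.mp h b hb) ▸ rfl

theorem key_eq_of_ev {v w : List Nat} (hv : lett v = true) (hw : lett w = true)
    (h : ev Lg v = ev Lg w) : key v = key w := by
  rw [key_eq_map, key_eq_map]
  refine List.map_congr_left fun b hb => ?_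
  have hb' : b < 2058 := by
    simp only [basePts, List.mem_cons, List.not_mem_nil, or_false] at hb
    omega
  rw [← matches_ρ.follow_eq v ⟨b, hb'⟩ (lt_of_lett hv), ← matches_ρ.follow_eq w ⟨b, hb'⟩ (lt_of_lett hw), h]

theorem wordEq_self : ∀ u : List Nat, wordEq u u = true
  | [] => rfl
  | a :: u => by
    show cond (Nat.beq a a) (wordEq u u) false = true
    rw [Nat.beq_refl, wordEq_self u]
    rfl

/-- Equality of the elements as a test. -/
noncomputable def same (v w : List Nat) : Bool :=
  cond (lett v) (cond (lett w) (wordEq (key v) (key w)) false) false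

theorem eq_of_same {v w : List Nat} (h : same v w = true) : ev Lg v = ev Lg w := by
  simp only [same, cond_false_eq_true] at h
  exact ev_eq_of_key h.1 h.2.1 (eq_of_wordEq h.2.2)

theorem same_of_eq {v w : List Nat} (hv : lett v = true) (hw : lett w = true)
    (h : ev Lg v = ev Lg w) : same v w = true := by
  simp only [same, cond_false_eq_true]
  exact ⟨hv, hw, by rw [key_eq_of_ev hv hw h]; exact wordEq_self _⟩

theorem ne_of_not_same {v w : List Nat} (hv : lett v = true) (hw : lett w = true)
    (h : same v w = false) : ev Lg v ≠ ev Lg w := fun e => by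
  rw [same_of_eq hv hw e] at h
  exact Bool.noConfusion h

theorem ev_reverse (w : List Nat) : ev Lg w.reverse = (ev Lg w)⁻¹ := by
  induction w with
  | nil => simp
  | cons l w ih =>
    rw [List.reverse_cons, ev_append, ih, ev_cons, ev_cons, ev_nil, mul_one, mul_inv_rev,
      inv_eq_of_mul_eq_one_right (sq_all l)]

/-- The word of a conjugate. -/
def conjW (c x : List Nat) : List Nat := c ++ x ++ c.reverse

theorem ev_conjW (c x : List Nat) : ev Lg (conjW c x) = ev Lg c * ev Lg x * (ev Lg c)⁻¹ := by
  rw [conjW, ev_append, ev_append, ev_reverse]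

theorem isConj_of_same {c x y : List Nat} (h : same (conjW c x) y = true) :
    IsConj (ev Lg x) (ev Lg y) :=
  isConj_iff.mpr ⟨ev Lg c, by rw [← ev_conjW]; exact eq_of_same h⟩

/-- The product of the generators listed. -/
def flat (gens : List (List Nat)) (I : List Nat) : List Nat := (I.map fun j => gens.getD j []).flatten

theorem ev_flat_mem (gens : List (List Nat)) : ∀ I : List Nat, ev Lg (flat gens I) ∈ genW Lg gens
  | [] => by simp [flat]
  | j :: I => by
    rw [flat, List.map_cons, List.flatten_cons, ev_append]
    refine mul_mem ?_ (ev_flat_mem gens I)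
    rcases lt_or_ge j gens.length with hj | hj
    · rw [List.getD_eq_getElem _ _ hj]; exact ev_mem_genW (List.getElem_mem hj)
    · rw [List.getD_eq_default _ _ hj]; simp

/-- A listed subgroup: keys increase, start at the unit and are closed under the generators. -/
noncomputable def checkGroup (d N one : Nat) (gens : List (List Nat))
    (I K Nb : Tr (List Nat)) : Bool :=
  cond (Nat.ble (Nat.add one 1) N) (cond (wordEq (K.get one) basePts) (cond (allList lett gens)
    (allBelow d N fun i => cond (lett (flat gens (I.get i)))
      (cond (wordEq (key (flat gens (I.get i))) (K.get i))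
        (cond (cond (Nat.ble (Nat.add i 2) N)
            (Nat.ble (Nat.add (knum (K.get i)) 1) (knum (K.get (Nat.add i 1)))) true)
          (allBelow 3 gens.length fun j => cond (Nat.ble (Nat.add ((Nb.get i).getD j 0) 1) N)
            (wordEq (kmove (K.get i) (gens.getD j [])) (K.get ((Nb.get i).getD j 0))) false)
          false) false) false) false) false) false

theorem increasing {N : Nat} {f : Nat → Nat} (h : ∀ i, i + 1 < N → f i < f (i + 1)) :
    ∀ i j, i < j → j < N → f i < f j := by
  intro i j hij hj
  induction j with
  | zero => omega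
  | succ j ih =>
    rcases Nat.lt_succ_iff_lt_or_eq.mp hij with h' | rfl
    · exact (ih h' (by omega)).trans (h j hj)
    · exact h i hj

theorem group_of_check {d N one : Nat} {gens : List (List Nat)} {I K Nb : Tr (List Nat)}
    (hc : checkGroup d N one gens I K Nb = true) [Finite Cfsg.Spor.He] :
    Nat.card (genW Lg gens) = N ∧
      (∀ i < N, lett (flat gens (I.get i)) = true ∧ key (flat gens (I.get i)) = K.get i) ∧
      ∀ x ∈ genW Lg gens, ∃ i < N, x = ev Lg (flat gens (I.get i)) := by
  simp only [checkGroup, cond_false_eq_true] at hc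
  obtain ⟨h1, hone, hg, h⟩ := hc
  have hW : ∀ i < N, lett (flat gens (I.get i)) = true ∧ key (flat gens (I.get i)) = K.get i := by
    intro i hi
    have := of_allBelow h i hi
    simp only [cond_false_eq_true] at this
    exact ⟨this.1, eq_of_wordEq this.2.1⟩
  have hinc : ∀ i, i + 1 < N → knum (K.get i) < knum (K.get (i + 1)) := by
    intro i hi
    have := of_allBelow h i (by omega)
    simp only [cond_false_eq_true] at this
    have h3 := this.2.2.1
    rw [Nat.ble_eq.mpr (show Nat.add i 2 ≤ N by simp; omega), cond_true] at h3
    exact Nat.ble_eq.mp h3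
  have hinj : ∀ i < N, ∀ j < N, K.get i = K.get j → i = j := by
    intro i hi j hj he
    rcases lt_trichotomy i j with h' | h' | h'
    · exact absurd (congrArg knum he) (increasing hinc i j h' hj).ne
    · exact h'
    · exact absurd (congrArg knum he.symm) (increasing hinc j i h' hi).ne
  have hmem : ∀ x ∈ genW Lg gens, ∃ i < N, x = ev Lg (flat gens (I.get i)) := by
    intro x hx
    rw [genW, ← Subgroup.mem_toSubmonoid, Subgroup.closure_toSubmonoid_of_finite] at hx
    induction hx using Submonoid.closure_induction_right with
    | one =>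
      refine ⟨one, Nat.ble_eq.mp h1, (ev_nil (L := Lg)).symm.trans (ev_eq_of_key rfl
        (hW one (Nat.ble_eq.mp h1)).1 ?_)⟩
      rw [(hW one (Nat.ble_eq.mp h1)).2, eq_of_wordEq hone]
      rfl
    | mul_right y _ g hg' ih =>
      obtain ⟨i, hi, rfl⟩ := ih
      obtain ⟨w, hw, rfl⟩ := hg'
      obtain ⟨j, hj, rfl⟩ := List.getElem_of_mem hw
      have hi' := of_allBelow h i hi
      simp only [cond_false_eq_true] at hi'
      have hj' := of_allBelow hi'.2.2.2 j hj
      simp only [cond_false_eq_true] at hj'
      refine ⟨_, Nat.ble_eq.mp hj'.1, ?_⟩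
      rw [← ev_append]
      refine ev_eq_of_key (lett_append (hW i hi).1 (allList_iff.mp hg _ (List.getElem_mem hj)))
        (hW _ (Nat.ble_eq.mp hj'.1)).1 ?_
      rw [key_append, (hW i hi).2, (hW _ (Nat.ble_eq.mp hj'.1)).2, ← eq_of_wordEq hj'.2,
        List.getD_eq_getElem _ _ hj]
  refine ⟨le_antisymm ?_ ?_, hW, hmem⟩
  · let f : Fin N → genW Lg gens := fun i => ⟨_, ev_flat_mem gens (I.get i)⟩
    refine (Nat.card_le_card_of_surjective f fun x => ?_).trans_eq (Nat.card_fin N)
    obtain ⟨i, hi, he⟩ := hmem x x.2
    exact ⟨⟨i, hi⟩, Subtype.ext he.symm⟩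
  · refine (Nat.card_fin N).symm.trans_le (Nat.card_le_card_of_injective
      (fun i : Fin N => (⟨_, ev_flat_mem gens (I.get i)⟩ : genW Lg gens)) fun i j he => Fin.ext ?_)
    refine hinj i i.2 j j.2 ?_
    rw [← (hW i i.2).2, ← (hW j j.2).2]
    exact key_eq_of_ev (hW i i.2).1 (hW j j.2).1 (congrArg Subtype.val he)

end CfsgLib.HeldEnd.HeF
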