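import Cfsg.Agent.HeldType.HeCent
import Cfsg.Agent.HeldType.EndGame

/-!
# Fusion of the two-elements of `Cfsg.Spor.He` in the centralizer of `⟨T, U⟩`

Everything is reduced to listed Sylow subgroups.
-/

set_option autoImplicit false
set_option maxRecDepth 100000
set_option maxHeartbeats 1000000
set_option Elab.async false

namespace CfsgLib.HeldEnd.HeF

open CfsgLib.Coset
open scoped Pointwise
open CfsgLib.Coset.He (Lg sq_all)

attribute [local instance] finite

theorem exists_conj_mem {G : Type*} [Group G] [Finite G] {S K : Subgroup G} (hSK : S ≤ K) {k m : ℕ}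
    (hS : Nat.card S = 2 ^ k) (hK : Nat.card K = 2 ^ k * m) (hm : Odd m) {x : G} (hx : x ∈ K) {j : ℕ}
    (hxj : x ^ 2 ^ j = 1) : ∃ h ∈ K, h * x * h⁻¹ ∈ S := by
  haveI : Fact (Nat.Prime 2) := ⟨Nat.prime_two⟩
  have hfac : (Nat.card K).factorization 2 = k := by
    rw [hK, Nat.factorization_mul (by positivity) (by rintro rfl; simp at hm), Finsupp.add_apply,
      Nat.Prime.factorization_pow Nat.prime_two, Finsupp.single_eq_same,
      Nat.factorization_eq_zero_of_not_dvd (Nat.two_dvd_ne_zero.mpr (Nat.odd_iff.mp hm)), add_zero]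
  let P : Sylow 2 K := Sylow.ofCard (S.subgroupOf K)
    (by rw [hfac, Nat.card_congr (Subgroup.subgroupOfEquivOfLe hSK).toEquiv, hS])
  have hp : IsPGroup 2 (Subgroup.zpowers (⟨x, hx⟩ : K)) := by
    obtain ⟨i, -, hi⟩ := (Nat.dvd_prime_pow Nat.prime_two).mp
      (orderOf_dvd_of_pow_eq_one (show (⟨x, hx⟩ : K) ^ 2 ^ j = 1 from Subtype.ext hxj))
    exact IsPGroup.of_card (n := i) (by rw [Nat.card_zpowers, hi])
  obtain ⟨Q, hQ⟩ := hp.exists_le_sylow
  obtain ⟨h, hh⟩ := MulAction.exists_smul_eq K Q P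
  refine ⟨h, h.2, ?_⟩
  have h1 : (MulAut.conj h) (⟨x, hx⟩ : K) ∈ MulAut.conj h • (Q : Subgroup K) :=
    Subgroup.smul_mem_pointwise_smul _ _ _ (hQ (Subgroup.mem_zpowers _))
  rw [← Sylow.coe_subgroup_smul, hh] at h1
  exact h1

theorem sq_of_orderOf {G : Type*} [Group G] {x : G} (h : orderOf x = 2) : x ^ 2 ^ 1 = 1 := by
  rw [pow_one, ← h, pow_orderOf_eq_one]

theorem orderOf_conj_two {G : Type*} [Group G] {x : G} (g : G) (h : orderOf x = 2) :
    orderOf (g * x * g⁻¹) = 2 := by
  rw [CfsgLib.Invol.orderOf_conj_eq, h]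

theorem invol_word {w : List Nat} (hl : lett w = true) (h : orderOf (ev Lg w) = 2) :
    same (w ++ w) [] = true ∧ same w [] = false := by
  refine ⟨same_of_eq (lett_append hl hl) rfl ?_, ?_⟩
  · rw [ev_append, ev_nil, ← pow_two, ← h, pow_orderOf_eq_one]
  · cases hb : same w []
    · rfl
    · rw [eq_of_same hb, ev_nil, orderOf_one] at h
      omega

/-! ### Involutions of a Sylow 2-subgroup -/

/-- The word of the element `i`. -/
noncomputable def sWd (i : Nat) : List Nat := flat sGen (sI.get i)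

/-- A conjugating word for an involution. -/
noncomputable def classOK (w c : List Nat) : Bool :=
  cond (Nat.beq (c.headD 9) 0) (same (conjW c.tail [3]) w) (same (conjW c.tail [0]) w)

theorem s_group : checkGroup 10 1024 sOne sGen sI sK sN = true := by decide +kernel

theorem s_classes : allBelow 10 1024 (fun i => cond (same (sWd i ++ sWd i) [])
    (cond (same (sWd i) []) true (classOK (sWd i) (sC.get i))) true) = true := by decide +kernel

theorem classes {x : Cfsg.Spor.He} (hx : orderOf x = 2) : IsConj T x ∨ IsConj U x := by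
  obtain ⟨hcard, hW, hmem⟩ := group_of_check s_group
  obtain ⟨h, -, hh⟩ := exists_conj_mem (K := ⊤) (S := genW Lg sGen) le_top (k := 10) (m := 3935925)
    (by rw [hcard]; norm_num) (by rw [Subgroup.card_top, He.card_and_injective.1]; norm_num)
    (by decide) (Subgroup.mem_top x) (sq_of_orderOf hx)
  obtain ⟨i, hi, he⟩ := hmem _ hh
  have hxy : IsConj (h * x * h⁻¹) x := isConj_iff.mpr ⟨h⁻¹, by group⟩
  have ho := orderOf_conj_two h hx
  rw [he] at hxy ho
  obtain ⟨h1, h2⟩ := invol_word (hW i hi).1 ho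
  have hc := of_allBelow s_classes i hi
  rw [show same (sWd i ++ sWd i) [] = true from h1, cond_true,
    show same (sWd i) [] = false from h2, cond_false] at hc
  unfold classOK at hc
  cases hb : Nat.beq ((sC.get i).headD 9) 0 <;> rw [hb] at hc
  · exact Or.inr ((isConj_of_same hc).trans hxy)
  · exact Or.inl ((isConj_of_same hc).trans hxy)

/-! ### The centralizer of `T` and `U` -/

/-- The joint centralizer. -/
abbrev PTU : Subgroup Cfsg.Spor.He :=
  Subgroup.centralizer ({T} : Set Cfsg.Spor.He) ⊓ Subgroup.centralizer ({U} : Set Cfsg.Spor.He)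

theorem orb_checks : cond (allList (fun c => cond (lett c) (same (c ++ [3]) ([3] ++ c)) false) orbW)
    (allBelow 6 42 fun i => allBelow 6 42 fun j => cond (Nat.beq i j) true
      (cond (same (conjW (orbW.getD i []) [0]) (conjW (orbW.getD j []) [0])) false true))
    false = true := by decide +kernel

theorem card_PTU_le : Nat.card PTU ≤ 512 := by
  obtain ⟨hw, hd⟩ := cond_false_eq_true.mp orb_checks
  have hlen : orbW.length = 42 := by decide +kernel
  have hm : ∀ i : Fin 42, lett (orbW.getD i []) = true ∧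
      ev Lg (orbW.getD i []) ∈ Subgroup.centralizer ({T} : Set Cfsg.Spor.He) := fun i => by
    have h := allList_iff.mp hw (orbW.getD i [])
      (by rw [List.getD_eq_getElem _ _ (hlen.symm ▸ i.2)]; exact List.getElem_mem _)
    obtain ⟨h1, h2⟩ := cond_false_eq_true.mp h
    exact ⟨h1, Subgroup.mem_centralizer_singleton_iff.mpr (commute_of_same h2)⟩
  let f : Fin 42 × PTU → Subgroup.centralizer ({T} : Set Cfsg.Spor.He) :=
    fun p => ⟨ev Lg (orbW.getD p.1 []) * p.2, mul_mem (hm p.1).2 p.2.2.1⟩
  have hf : Function.Injective f := by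
    rintro ⟨i, p⟩ ⟨j, q⟩ h
    have h' : ev Lg (orbW.getD i []) * p = ev Lg (orbW.getD j []) * q := congrArg Subtype.val h
    have hij : i = j := by
      by_contra hne
      have hb := of_allBelow (of_allBelow hd i i.2) j j.2
      have hbe : Nat.beq (i : Nat) j = false := by
        cases hh : Nat.beq (i : Nat) j
        · rfl
        · exact absurd (Fin.ext (Nat.eq_of_beq_eq_true hh)) hne
      rw [hbe, cond_false] at hb
      have hs : same (conjW (orbW.getD i []) [0]) (conjW (orbW.getD j []) [0]) = false := by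
        revert hb
        cases same (conjW (orbW.getD i []) [0]) (conjW (orbW.getD j []) [0]) <;> simp
      have hl : ∀ k : Fin 42, lett (conjW (orbW.getD k []) [0]) = true := fun k =>
        lett_append (lett_append (hm k).1 rfl) (lett_reverse (hm k).1)
      refine ne_of_not_same (hl i) (hl j) hs ?_
      rw [ev_conjW, ev_conjW]
      have hc : ∀ r : PTU, (r : Cfsg.Spor.He) * U * (r : Cfsg.Spor.He)⁻¹ = U := fun r =>
        mul_inv_eq_iff_eq_mul.mpr (Subgroup.mem_centralizer_singleton_iff.mp r.2.2)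
      calc ev Lg (orbW.getD i []) * U * (ev Lg (orbW.getD i []))⁻¹
          = ev Lg (orbW.getD i []) * ((p : Cfsg.Spor.He) * U * (p : Cfsg.Spor.He)⁻¹) *
              (ev Lg (orbW.getD i []))⁻¹ := by rw [hc]
        _ = (ev Lg (orbW.getD i []) * p) * U * (ev Lg (orbW.getD i []) * p)⁻¹ := by group
        _ = (ev Lg (orbW.getD j []) * q) * U * (ev Lg (orbW.getD j []) * q)⁻¹ := by rw [h']
        _ = ev Lg (orbW.getD j []) * ((q : Cfsg.Spor.He) * U * (q : Cfsg.Spor.He)⁻¹) *
              (ev Lg (orbW.getD j []))⁻¹ := by group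
        _ = _ := by rw [hc]
    subst hij
    exact Prod.ext rfl (Subtype.ext (mul_left_cancel h'))
  have := Nat.card_le_card_of_injective f hf
  rw [Nat.card_prod, Nat.card_fin, card_cent_T] at this
  omega

theorem p_group : allBelow 9 512 (fun i => cond (lett (pW.get i))
    (cond (same (pW.get i ++ [3]) ([3] ++ pW.get i)) (cond (same (pW.get i ++ [0]) ([0] ++ pW.get i))
      (cond (wordEq (key (pW.get i)) (pK.get i))
        (cond (Nat.ble (Nat.add i 2) 512)
          (Nat.ble (Nat.add (knum (pK.get i)) 1) (knum (pK.get (Nat.add i 1)))) true)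
        false) false) false) false) = true := by decide +kernel

theorem p_elems : (∀ i < 512, lett (pW.get i) = true) ∧
    ∃ e : Fin 512 ≃ PTU, ∀ i : Fin 512, ((e i : PTU) : Cfsg.Spor.He) = ev Lg (pW.get i) := by
  have hh : ∀ i < 512, lett (pW.get i) = true ∧ ev Lg (pW.get i) ∈ PTU ∧
      key (pW.get i) = pK.get i ∧ (i + 1 < 512 → knum (pK.get i) < knum (pK.get (i + 1))) := by
    intro i hi
    have h := of_allBelow p_group i hi
    simp only [cond_false_eq_true] at h
    obtain ⟨h1, h2, h3, h4, h5⟩ := h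
    refine ⟨h1, ⟨Subgroup.mem_centralizer_singleton_iff.mpr (commute_of_same h2),
      Subgroup.mem_centralizer_singleton_iff.mpr (commute_of_same h3)⟩, eq_of_wordEq h4, fun hi' => ?_⟩
    rw [Nat.ble_eq.mpr (show Nat.add i 2 ≤ 512 by simp; omega), cond_true] at h5
    exact Nat.ble_eq.mp h5
  refine ⟨fun i hi => (hh i hi).1, ?_⟩
  let f : Fin 512 → PTU := fun i => ⟨_, (hh i i.2).2.1⟩
  have hf : Function.Injective f := fun i j he => by
    have h := key_eq_of_ev (hh i i.2).1 (hh j j.2).1 (congrArg Subtype.val he)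
    rw [(hh i i.2).2.2.1, (hh j j.2).2.2.1] at h
    by_contra hne
    have hinc : ∀ a, a + 1 < 512 → knum (pK.get a) < knum (pK.get (a + 1)) :=
      fun a ha => (hh a (by omega)).2.2.2 ha
    rcases lt_or_gt_of_ne (fun e => hne (Fin.ext e)) with h' | h'
    · exact absurd (congrArg knum h) (increasing hinc i j h' j.2).ne
    · exact absurd (congrArg knum h.symm) (increasing hinc j i h' i.2).ne
  have hb : Function.Bijective f := by
    have h1 := Nat.card_le_card_of_injective f hf
    exact (Nat.bijective_iff_injective_and_card f).mpr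
      ⟨hf, le_antisymm h1 (card_PTU_le.trans_eq (Nat.card_fin 512).symm)⟩
  exact ⟨Equiv.ofBijective f hb, fun i => rfl⟩

theorem card_PTU : Nat.card PTU = 512 := by
  obtain ⟨-, e, -⟩ := p_elems
  rw [← Nat.card_congr e, Nat.card_fin]

theorem exists_word {x : Cfsg.Spor.He} (hx : x ∈ PTU) :
    ∃ i < 512, lett (pW.get i) = true ∧ x = ev Lg (pW.get i) := by
  obtain ⟨hl, e, he⟩ := p_elems
  obtain ⟨i, hi⟩ := e.surjective ⟨x, hx⟩
  exact ⟨i, i.2, hl i i.2, by rw [← he i, hi]⟩

theorem meet {x : Cfsg.Spor.He} (hx : orderOf x = 2) (hxu : Commute x U) :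
    ∃ k : Cfsg.Spor.He, Commute k U ∧ Commute x (k * T * k⁻¹) := by
  obtain ⟨h, hh, hhx⟩ := exists_conj_mem
    (K := Subgroup.centralizer ({U} : Set Cfsg.Spor.He)) (S := PTU) inf_le_right (k := 9) (m := 315)
    (by rw [card_PTU]; norm_num) (by rw [card_cent_U]; norm_num) (by decide)
    (Subgroup.mem_centralizer_singleton_iff.mpr hxu) (sq_of_orderOf hx)
  have hhU : Commute h U := Subgroup.mem_centralizer_singleton_iff.mp hh
  refine ⟨h⁻¹, hhU.inv_left, ?_⟩
  have hc : h * x * h⁻¹ * T = T * (h * x * h⁻¹) := Subgroup.mem_centralizer_singleton_iff.mp hhx.1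
  show x * (h⁻¹ * T * h⁻¹⁻¹) = h⁻¹ * T * h⁻¹⁻¹ * x
  calc x * (h⁻¹ * T * h⁻¹⁻¹) = h⁻¹ * ((h * x * h⁻¹) * T) * h := by group
    _ = h⁻¹ * (T * (h * x * h⁻¹)) * h := by rw [hc]
    _ = _ := by group

/-- The certificate of an involution commuting with `T` and `U`. -/
noncomputable def pairOK (w c : List Nat) : Bool :=
  cond (Nat.beq (c.headD 9) 0) (same (conjW c.tail [3]) w)
    (cond (Nat.beq (c.headD 9) 1) (same (conjW c.tail [3]) (w ++ [0]))
      (cond (Nat.beq (c.headD 9) 2) (same w u2)
        (cond (Nat.beq (c.headD 9) 3) (same w ([0] ++ u2))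
          (same (conjW c.tail [0]) ([3] ++ w)))))

theorem p_pairs : allBelow 9 512 (fun i => cond (same (pW.get i ++ pW.get i) [])
    (cond (same (pW.get i) []) true (pairOK (pW.get i) (pC.get i))) true) = true := by decide +kernel

theorem pair {x : Cfsg.Spor.He} (hx : orderOf x = 2) (hxt : Commute x T) (hxu : Commute x U) :
    IsConj T x ∨ IsConj T (x * U) ∨ x = U2 ∨ x = U * U2 ∨ IsConj U (T * x) := by
  obtain ⟨i, hi, hl, rfl⟩ := exists_word (x := x)
    ⟨Subgroup.mem_centralizer_singleton_iff.mpr hxt, Subgroup.mem_centralizer_singleton_iff.mpr hxu⟩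
  obtain ⟨h1, h2⟩ := invol_word hl hx
  have hc := of_allBelow p_pairs i hi
  rw [h1, cond_true, h2, cond_false] at hc
  unfold pairOK at hc
  cases h0 : Nat.beq ((pC.get i).headD 9) 0 <;> rw [h0] at hc
  swap
  · exact Or.inl (isConj_of_same hc)
  rw [cond_false] at hc
  cases h1 : Nat.beq ((pC.get i).headD 9) 1 <;> rw [h1] at hc
  swap
  · have := isConj_of_same hc
    rw [ev_append] at this
    exact Or.inr (Or.inl this)
  rw [cond_false] at hc
  cases h2 : Nat.beq ((pC.get i).headD 9) 2 <;> rw [h2] at hc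
  swap
  · exact Or.inr (Or.inr (Or.inl (eq_of_same hc)))
  rw [cond_false] at hc
  cases h3 : Nat.beq ((pC.get i).headD 9) 3 <;> rw [h3] at hc
  swap
  · exact Or.inr (Or.inr (Or.inr (Or.inl ((eq_of_same hc).trans (ev_append Lg [0] u2)))))
  have := isConj_of_same hc
  rw [ev_append] at this
  exact Or.inr (Or.inr (Or.inr (Or.inr this)))

/-- Membership in the four group. -/
noncomputable def inV (w : List Nat) : Bool :=
  cond (same w []) true (cond (same w [0]) true (cond (same w u2) true (same w ([0] ++ u2))))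

/-- The four group. -/
abbrev V : Subgroup Cfsg.Spor.He := Subgroup.closure ({U, U2} : Set Cfsg.Spor.He)

theorem mem_V {x : Cfsg.Spor.He} : x ∈ V ↔ x = 1 ∨ x = U ∨ x = U2 ∨ x = U * U2 :=
  mem_four (CfsgLib.Invol.mul_self_eq_one orderOf_U) (CfsgLib.Invol.mul_self_eq_one orderOf_U2)
    commute_UU2

theorem mem_V_of_inV {w : List Nat} (h : inV w = true) : ev Lg w ∈ V := by
  rw [mem_V]
  unfold inV at h
  cases h0 : same w []
  · rw [h0, cond_false] at h
    cases h1 : same w [0]
    · rw [h1, cond_false] at h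
      cases h2 : same w u2
      · rw [h2, cond_false] at h
        exact Or.inr (Or.inr (Or.inr ((eq_of_same h).trans (ev_append Lg [0] u2))))
      · exact Or.inr (Or.inr (Or.inl (eq_of_same h2)))
    · exact Or.inr (Or.inl (eq_of_same h1))
  · exact Or.inl ((eq_of_same h0).trans (ev_nil Lg))

theorem inV_of_mem {w : List Nat} (hl : lett w = true) (h : ev Lg w ∈ V) : inV w = true := by
  have h0 : lett u2 = true := by decide +kernel
  unfold inV
  cases h1 : same w []
  swap
  · rfl
  cases h2 : same w [0]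
  swap
  · rfl
  cases h3 : same w u2
  swap
  · rfl
  rcases mem_V.mp h with e | e | e | e
  · exact absurd (e.trans (ev_nil Lg).symm) (ne_of_not_same hl rfl h1)
  · exact absurd e (ne_of_not_same hl rfl h2)
  · exact absurd e (ne_of_not_same hl h0 h3)
  · exact same_of_eq hl (lett_append rfl h0) (e.trans (ev_append Lg [0] u2).symm)

theorem commute_V {h : Cfsg.Spor.He} (hu : Commute h U) (hu' : Commute h U2) {e : Cfsg.Spor.He}
    (he : e ∈ V) : Commute h e := by
  rcases mem_V.mp he with rfl | rfl | rfl | rfl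
  exacts [Commute.one_right h, hu, hu', hu.mul_right hu']

theorem card_TK0 : Nat.card ↥(Subgroup.centralizer ({T} : Set Cfsg.Spor.He) ⊓ K0) = 256 := by
  obtain ⟨hl, e, he⟩ := p_elems
  let p : Nat → Bool := fun i => same (pW.get i ++ u2) (u2 ++ pW.get i)
  have h2 : lett u2 = true := by decide +kernel
  have hiff : ∀ i : Fin 512, p i = true ↔
      ((e i : PTU) : Cfsg.Spor.He) ∈ Subgroup.centralizer ({T} : Set Cfsg.Spor.He) ⊓ K0 := fun i => by
    refine ⟨fun h => ⟨(e i).2.1, mem_K0.mpr ⟨Subgroup.mem_centralizer_singleton_iff.mp (e i).2.2,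
      he i ▸ commute_of_same h⟩⟩, fun h => ?_⟩
    refine same_of_eq (lett_append (hl i i.2) h2) (lett_append h2 (hl i i.2)) ?_
    rw [ev_append, ev_append, ← he i]
    exact (mem_K0.mp h.2).2.eq
  have heq : Nat.card {i : Fin 512 // p i = true} =
      Nat.card ↥(Subgroup.centralizer ({T} : Set Cfsg.Spor.He) ⊓ K0) :=
    Nat.card_congr
      { toFun := fun i => ⟨_, (hiff i.1).mp i.2⟩
        invFun := fun x => ⟨e.symm ⟨x, x.2.1,
            Subgroup.mem_centralizer_singleton_iff.mpr (mem_K0.mp x.2.2).1⟩,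
          (hiff _).mpr (by simp only [Equiv.apply_symm_apply]; exact x.2)⟩
        left_inv := fun i => Subtype.ext (e.symm_apply_apply i.1)
        right_inv := fun x => Subtype.ext (by simp) }
  have hcnt : ∀ m, ((Finset.range m).filter fun i => p i = true).card = cnt p m := by
    intro m
    induction m with
    | zero => rfl
    | succ m ih =>
      show _ = cond (p m) (cnt p m + 1) (cnt p m)
      rw [Finset.range_add_one, Finset.filter_insert]
      cases hp : p m <;> simp [ih]
  rw [← heq, Nat.card_eq_fintype_card, Fintype.card_subtype,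
    show ((Finset.univ : Finset (Fin 512)).filter fun i : Fin 512 => p i = true) =
      (Finset.univ : Finset (Fin 512)).filter ((fun j => p j = true) ∘ Fin.valEmbedding) from rfl,
    ← Finset.card_map Fin.valEmbedding, ← Finset.filter_map,
    Fin.map_valEmbedding_univ, Nat.Iio_eq_range, hcnt]
  decide +kernel

/-- The coset certificate. -/
noncomputable def cosetOK (w c : List Nat) : Bool :=
  cond (Nat.ble (Nat.add (c.headD 9) 1) 4)
    (same (conjW c.tail [3]) (w ++ ([[], [0], u2, [0] ++ u2] : List (List Nat)).getD (c.headD 9) []))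
    false

theorem p_cosets : allBelow 9 512 (fun i => cond (same (pW.get i ++ u2) (u2 ++ pW.get i))
    (cond (inV (pW.get i)) true (cond (inV (pW.get i ++ pW.get i))
      (cosetOK (pW.get i) (pE.get i)) true)) true) = true := by decide +kernel

theorem coset {x : Cfsg.Spor.He} (hu : Commute x U) (hu' : Commute x U2) (hx : x ∉ V)
    (hx2 : x * x ∈ V) : ∃ e ∈ V, IsConj T (x * e) := by
  have hV2 : ∀ e ∈ V, e * e = 1 := fun e he => by
    rcases mem_V.mp he with rfl | rfl | rfl | rfl
    · exact one_mul 1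
    · exact CfsgLib.Invol.mul_self_eq_one orderOf_U
    · exact CfsgLib.Invol.mul_self_eq_one orderOf_U2
    · rw [mul_assoc, ← mul_assoc U2 U, ← commute_UU2.eq, mul_assoc U,
        CfsgLib.Invol.mul_self_eq_one orderOf_U2, mul_one, CfsgLib.Invol.mul_self_eq_one orderOf_U]
  obtain ⟨h, hh, hhx⟩ := exists_conj_mem (K := K0)
    (S := Subgroup.centralizer ({T} : Set Cfsg.Spor.He) ⊓ K0) inf_le_right (k := 8) (m := 315)
    (by rw [card_TK0]; norm_num) (by rw [card_K0]; norm_num) (by decide)
    (mem_K0.mpr ⟨hu, hu'⟩) (j := 2) (by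
      rw [show (2 : ℕ) ^ 2 = 2 * 2 from rfl, pow_mul, pow_two, pow_two]
      exact hV2 _ hx2)
  have hhV : ∀ e ∈ V, Commute h e := fun e => commute_V (mem_K0.mp hh).1 (mem_K0.mp hh).2
  have hback : ∀ e ∈ V, h⁻¹ * e * h = e := fun e he => by
    rw [mul_assoc, ← (hhV e he).eq, inv_mul_cancel_left]
  obtain ⟨i, hi, hl, he⟩ := exists_word (x := h * x * h⁻¹)
    ⟨hhx.1, Subgroup.mem_centralizer_singleton_iff.mpr (mem_K0.mp hhx.2).1⟩
  have hc := of_allBelow p_cosets i hi
  have h2 : lett u2 = true := by decide +kernel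
  have hyu : same (pW.get i ++ u2) (u2 ++ pW.get i) = true :=
    same_of_eq (lett_append hl h2) (lett_append h2 hl)
      (by rw [ev_append, ev_append, ← he]; exact (mem_K0.mp hhx.2).2.eq)
  have hyV : inV (pW.get i) = false := by
    cases hb : inV (pW.get i)
    · rfl
    · have h' : h * x * h⁻¹ ∈ V := he ▸ mem_V_of_inV hb
      have e1 := hback _ h'
      rw [show h⁻¹ * (h * x * h⁻¹) * h = x by group] at e1
      exact absurd (e1.symm ▸ h') hx
  have hy2 : inV (pW.get i ++ pW.get i) = true := by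
    refine inV_of_mem (lett_append hl hl) ?_
    rw [ev_append, ← he, show h * x * h⁻¹ * (h * x * h⁻¹) = h * (x * x) * h⁻¹ by group,
      (hhV _ hx2).eq, mul_inv_cancel_right]
    exact hx2
  rw [hyu, cond_true, hyV, cond_false, hy2, cond_true, cosetOK, cond_false_eq_true] at hc
  obtain ⟨hlt, hsame⟩ := hc
  set k := (pE.get i).headD 9
  have hk : k < 4 := Nat.ble_eq.mp hlt
  have heV : ev Lg (([[], [0], u2, [0] ++ u2] : List (List Nat)).getD k []) ∈ V := by
    rw [mem_V]
    interval_cases k
    exacts [Or.inl (ev_nil Lg), Or.inr (Or.inl rfl), Or.inr (Or.inr (Or.inl rfl)),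
      Or.inr (Or.inr (Or.inr (ev_append Lg [0] u2)))]
  refine ⟨_, heV, ?_⟩
  have h1 := isConj_of_same hsame
  rw [ev_append, ← he] at h1
  refine h1.trans (isConj_iff.mpr ⟨h⁻¹, ?_⟩)
  set e := ev Lg (([[], [0], u2, [0] ++ u2] : List (List Nat)).getD k [])
  calc h⁻¹ * (h * x * h⁻¹ * e) * h⁻¹⁻¹ = x * (h⁻¹ * e * h) := by group
    _ = x * e := by rw [hback e heV]

end CfsgLib.HeldEnd.HeF
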