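import Cfsg.Agent.HeldType.HeLocal

/-!
# A group with a Held subgroup containing an involution centralizer is the Held group
-/

set_option autoImplicit false
set_option maxRecDepth 100000
set_option maxHeartbeats 1000000
set_option Elab.async false

namespace CfsgLib.HeldEnd.HeF

open CfsgLib.Coset
open CfsgLib.Coset.He (Lg sq_all)

attribute [local instance] finite

theorem isConj_U2 : IsConj U U2 := isConj_of_same (c := cU2) (by decide +kernel)

theorem isConj_UU2 : IsConj U (U * U2) := by
  have h := isConj_of_same (c := cUU2) (x := [0]) (y := [0] ++ u2) (by decide +kernel)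
  rwa [ev_append] at h

theorem isConj_TU : IsConj U (T * U) := by
  have h := isConj_of_same (c := cTU) (x := [0]) (y := [3] ++ [0]) (by decide +kernel)
  rwa [ev_append] at h

theorem isConj_TU2 : IsConj T (T * U2) := by
  have h := isConj_of_same (c := cTU2) (x := [3]) (y := [3] ++ u2) (by decide +kernel)
  rwa [ev_append] at h

theorem isConj_TUU2 : IsConj T (T * (U * U2)) := by
  have h := isConj_of_same (c := cTUU2) (x := [3]) (y := [3] ++ ([0] ++ u2)) (by decide +kernel)
  rwa [ev_append, ev_append] at h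

/-! ### The subgroup of order 3840 -/

/-- The word of the element `i`. -/
noncomputable def lWd (i : Nat) : List Nat := flat lGen (lI.get i)

/-- Repeat a word. -/
def powW (n : Nat) (w : List Nat) : List Nat := (List.replicate n w).flatten

theorem l_group : checkGroup 12 3840 lOne lGen lI lK lN = true := by decide +kernel

/-- The test on the powers of an element. -/
noncomputable def lpow (i : Nat) : Bool :=
  cond (inV (powW 3 (lWd i))) true
    (cond (inV (powW 5 (lWd i))) true (cond (inV (powW 15 (lWd i))) false true))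

theorem l_powers0 : allBelow 10 640 (fun i => lpow i) = true := by decide +kernel
theorem l_powers1 : allBelow 10 640 (fun i => lpow (Nat.add 640 i)) = true := by decide +kernel
theorem l_powers2 : allBelow 10 640 (fun i => lpow (Nat.add 1280 i)) = true := by decide +kernel
theorem l_powers3 : allBelow 10 640 (fun i => lpow (Nat.add 1920 i)) = true := by decide +kernel
theorem l_powers4 : allBelow 10 640 (fun i => lpow (Nat.add 2560 i)) = true := by decide +kernel
theorem l_powers5 : allBelow 10 640 (fun i => lpow (Nat.add 3200 i)) = true := by decide +kernel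

theorem l_powers {i : Nat} (hi : i < 3840) : lpow i = true := by
  have key : ∀ k, allBelow 10 640 (fun j => lpow (Nat.add k j)) = true → k ≤ i → i < k + 640 →
      lpow i = true := fun k h h1 h2 => by
    have h3 : lpow (Nat.add k (i - k)) = true := of_allBelow h (i - k) (by omega)
    rwa [show Nat.add k (i - k) = i from Nat.add_sub_cancel' h1] at h3
  rcases Nat.lt_or_ge i 640 with h | h
  · exact of_allBelow l_powers0 i h
  rcases Nat.lt_or_ge i 1280 with h' | h'
  · exact key 640 l_powers1 h h'
  rcases Nat.lt_or_ge i 1920 with h'' | h''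
  · exact key 1280 l_powers2 h' h''
  rcases Nat.lt_or_ge i 2560 with h3 | h3
  · exact key 1920 l_powers3 h'' h3
  rcases Nat.lt_or_ge i 3200 with h4 | h4
  · exact key 2560 l_powers4 h3 h4
  · exact key 3200 l_powers5 h4 hi

theorem exists_L : ∃ L : Subgroup Cfsg.Spor.He, L ≤ K0 ∧ V ≤ L ∧ Nat.card L = 3840 ∧
    ∀ x ∈ L, x ^ 15 ∈ V → x ^ 3 ∈ V ∨ x ^ 5 ∈ V := by
  obtain ⟨hcard, hW, hmem⟩ := group_of_check l_group
  refine ⟨genW Lg lGen, ?_, ?_, hcard, fun x hx h15 => ?_⟩
  · refine (Subgroup.closure_le _).mpr ?_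
    rintro _ ⟨w, hw, rfl⟩
    have hc : allList (fun w => cond (same (w ++ [0]) ([0] ++ w)) (same (w ++ u2) (u2 ++ w)) false)
        lGen = true := by decide +kernel
    obtain ⟨h1, h2⟩ := cond_false_eq_true.mp (allList_iff.mp hc w hw)
    exact mem_K0.mpr ⟨commute_of_same h1, commute_of_same h2⟩
  · have hU : ev Lg (flat lGen [0, 1, 0, 1, 0, 1, 0, 1, 0, 1]) = U :=
      eq_of_same (by decide +kernel)
    have hU2 : ev Lg (flat lGen [0, 1, 0, 1, 0, 3, 1, 0, 1, 0, 3, 1, 0, 1, 3]) = U2 :=
      eq_of_same (by decide +kernel)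
    rw [V, Subgroup.closure_le]
    rintro y (rfl | rfl)
    · exact hU ▸ ev_flat_mem lGen _
    · exact hU2 ▸ ev_flat_mem lGen _
  · obtain ⟨i, hi, rfl⟩ := hmem x hx
    have hlp : ∀ n, lett (powW n (lWd i)) = true := by
      intro n
      induction n with
      | zero => rfl
      | succ n ih =>
        rw [powW, List.replicate_succ, List.flatten_cons]
        exact lett_append (hW i hi).1 ih
    have hpow : ∀ n, ev Lg (powW n (lWd i)) = ev Lg (lWd i) ^ n := fun n =>
      (pow_ev (L := Lg) (lWd i) n).symm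
    have h := l_powers hi
    rw [lpow] at h
    cases h3 : inV (powW 3 (lWd i))
    · rw [h3, cond_false] at h
      cases h5 : inV (powW 5 (lWd i))
      · rw [h5, cond_false, inV_of_mem (hlp 15) (by rw [hpow]; exact h15), cond_true] at h
        exact absurd h Bool.false_ne_true
      · exact Or.inr (hpow 5 ▸ mem_V_of_inV h5)
    · exact Or.inl (hpow 3 ▸ mem_V_of_inV h3)

/-! ### Transfer to a subgroup -/

variable {G : Type*} [Group G] {H : Subgroup G}

theorem card_map_subtype (e : Cfsg.Spor.He ≃* H) (A : Subgroup Cfsg.Spor.He) :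
    Nat.card ↥(A.map (H.subtype.comp e.toMonoidHom)) = Nat.card A :=
  (Nat.card_congr (A.equivMapOfInjective _ (H.subtype_injective.comp e.injective)).toEquiv).symm

theorem map_cent (e : Cfsg.Spor.He ≃* H) (a : Cfsg.Spor.He) :
    (Subgroup.centralizer ({a} : Set Cfsg.Spor.He)).map (H.subtype.comp e.toMonoidHom) =
      H ⊓ Subgroup.centralizer ({((e a : H) : G)} : Set G) := by
  ext x
  simp only [Subgroup.mem_map, Subgroup.mem_inf, Subgroup.mem_centralizer_singleton_iff]
  constructor
  · rintro ⟨y, hy, rfl⟩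
    refine ⟨(e y).2, ?_⟩
    show ((e y : H) : G) * (e a : H) = (e a : H) * (e y : H)
    rw [← Subgroup.coe_mul, ← Subgroup.coe_mul, ← map_mul, ← map_mul, hy]
  · rintro ⟨hx, hxa⟩
    refine ⟨e.symm ⟨x, hx⟩, ?_, by simp⟩
    refine e.injective (Subtype.ext ?_)
    rw [map_mul, map_mul, e.apply_symm_apply]
    exact hxa

theorem map_cent_pair (e : Cfsg.Spor.He ≃* H) :
    K0.map (H.subtype.comp e.toMonoidHom) =
      H ⊓ Subgroup.centralizer ({((e U : H) : G), ((e U2 : H) : G)} : Set G) := by
  ext x
  simp only [Subgroup.mem_map, Subgroup.mem_inf, mem_cent_pair]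
  constructor
  · rintro ⟨y, hy, rfl⟩
    obtain ⟨h1, h2⟩ := hy
    exact ⟨(e y).2, h1.map (H.subtype.comp e.toMonoidHom), h2.map (H.subtype.comp e.toMonoidHom)⟩
  · rintro ⟨hx, h1, h2⟩
    refine ⟨e.symm ⟨x, hx⟩, ⟨?_, ?_⟩, by simp⟩ <;>
      refine e.injective (Subtype.ext ?_) <;> rw [map_mul, map_mul, e.apply_symm_apply]
    exacts [h1, h2]

variable [Finite G]

theorem card_cent_conj {a b : G} (h : IsConj a b) :
    Nat.card (Subgroup.centralizer ({a} : Set G)) = Nat.card (Subgroup.centralizer ({b} : Set G)) := by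
  obtain ⟨g, rfl⟩ := isConj_iff.mp h
  refine Nat.card_congr (((MulAut.conj g).subgroupMap _).trans (MulEquiv.subgroupCongr ?_)).toEquiv
  ext x
  simp only [Subgroup.mem_map, Subgroup.mem_centralizer_singleton_iff]
  constructor
  · rintro ⟨y, hy, rfl⟩
    show g * y * g⁻¹ * (g * a * g⁻¹) = g * a * g⁻¹ * (g * y * g⁻¹)
    calc g * y * g⁻¹ * (g * a * g⁻¹) = g * (y * a) * g⁻¹ := by group
      _ = g * (a * y) * g⁻¹ := by rw [hy]
      _ = _ := by group
  · intro hx
    refine ⟨g⁻¹ * x * g, ?_, by show g * (g⁻¹ * x * g) * g⁻¹ = x; group⟩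
    calc g⁻¹ * x * g * a = g⁻¹ * (x * (g * a * g⁻¹)) * g := by group
      _ = g⁻¹ * ((g * a * g⁻¹) * x) * g := by rw [hx]
      _ = _ := by group

/-- A subgroup isomorphic to He that contains the centralizer, of order 21504, of an involution
is the whole finite group. -/
theorem eq_top_of_he_subgroup (e : Cfsg.Spor.He ≃* H) {t₀ : G}
    (ht₀ : orderOf t₀ = 2) (hle : Subgroup.centralizer ({t₀} : Set G) ≤ H)
    (hcard : Nat.card (Subgroup.centralizer ({t₀} : Set G)) = 21504) : H = ⊤ := by
  set φ := H.subtype.comp e.toMonoidHom with hφ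
  have hφH : ∀ y, φ y ∈ H := fun y => (e y).2
  have hφc : ∀ {a b}, IsConj a b → IsConj (φ a) (φ b) := fun h => φ.map_isConj h
  have hφo : ∀ y, orderOf (φ y) = orderOf y := fun y => by
    rw [show φ y = ((e y : H) : G) from rfl, Subgroup.orderOf_coe, MulEquiv.orderOf_eq]
  have hsurj : ∀ x ∈ H, ∃ y, φ y = x := fun x hx => ⟨e.symm ⟨x, hx⟩, by simp [hφ]⟩
  have hinj : Function.Injective φ := H.subtype_injective.comp e.injective
  have hcm : ∀ {a b}, Commute (φ a) (φ b) → Commute a b := fun {a b} h =>
    hinj (by rw [map_mul, map_mul]; exact h.eq)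
  have ht₀H : t₀ ∈ H := hle (Subgroup.mem_centralizer_singleton_iff.mpr rfl)
  obtain ⟨y₀, hy₀⟩ := hsurj t₀ ht₀H
  have hcy : Nat.card (Subgroup.centralizer ({y₀} : Set Cfsg.Spor.He)) = 21504 := by
    rw [← card_map_subtype e, map_cent]
    rw [show ((e y₀ : H) : G) = t₀ from hy₀, inf_eq_right.mpr hle, hcard]
  have hT : IsConj T y₀ := by
    rcases classes (x := y₀) (by rw [← hφo, hy₀, ht₀]) with h | h
    · exact h
    · have := card_cent_conj h
      rw [card_cent_U, hcy] at this
      omega
  have hct : Nat.card (Subgroup.centralizer ({φ T} : Set G)) = 21504 := by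
    rw [card_cent_conj (hφc hT), hy₀, hcard]
  have htH : Subgroup.centralizer ({φ T} : Set G) ≤ H := by
    have h1 : Nat.card ↥(H ⊓ Subgroup.centralizer ({φ T} : Set G)) = 21504 := by
      rw [show φ T = ((e T : H) : G) from rfl, ← map_cent, card_map_subtype, card_cent_T]
    have := Subgroup.eq_of_le_of_card_ge (inf_le_right (a := H)) (hct.trans h1.symm).le
    exact this ▸ inf_le_left
  have htnu : ∀ y, IsConj U y → ¬ IsConj (φ T) (φ y) := by
    intro y hy h
    have h1 := card_cent_conj h
    rw [hct, ← card_cent_conj (hφc hy)] at h1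
    have h2 : Nat.card ↥(H ⊓ Subgroup.centralizer ({φ U} : Set G)) = 161280 := by
      rw [show φ U = ((e U : H) : G) from rfl, ← map_cent, card_map_subtype, card_cent_U]
    have h3 : Nat.card ↥(H ⊓ Subgroup.centralizer ({φ U} : Set G)) ≤
        Nat.card (Subgroup.centralizer ({φ U} : Set G)) :=
      Nat.le_of_dvd Nat.card_pos (Subgroup.card_dvd_of_le inf_le_right)
    omega
  have hV : V.map φ = Subgroup.closure ({φ U, φ U2} : Set G) := by
    rw [V, MonoidHom.map_closure, Set.image_pair]
  have F : Facts H (φ T) (φ U) (φ U2) :=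
    { ht := by rw [hφo, orderOf_T]
      hu := by rw [hφo, orderOf_U]
      hu' := by rw [hφo, orderOf_U2]
      le := htH
      memu := hφH U
      memu' := hφH U2
      tu := commute_TU.map φ
      tu' := commute_TU2.map φ
      uu' := commute_UU2.map φ
      ne := fun h => U2_ne_U (hinj h)
      tnu := htnu U (IsConj.refl _)
      tnu' := htnu U2 isConj_U2
      tnuu' := by rw [← map_mul]; exact htnu _ isConj_UU2
      tntu := by rw [← map_mul]; exact htnu _ isConj_TU
      ttu' := by rw [← map_mul]; exact hφc isConj_TU2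
      ttuu' := by rw [← map_mul, ← map_mul]; exact hφc isConj_TUU2
      classes := by
        intro x hx hx2
        obtain ⟨y, rfl⟩ := hsurj x hx
        rw [hφo] at hx2
        rcases classes hx2 with h | h <;> obtain ⟨g, rfl⟩ := isConj_iff.mp h
        · exact Or.inl ⟨φ g, hφH g, by rw [← map_inv, ← map_mul, ← map_mul]⟩
        · exact Or.inr ⟨φ g, hφH g, by rw [← map_inv, ← map_mul, ← map_mul]⟩
      stable := by
        intro g hg hgu
        obtain ⟨y, rfl⟩ := hsurj g hg
        rw [← map_inv, ← map_mul, ← map_mul, ← map_mul]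
        rcases stable (hcm hgu) with h | h <;> rw [h] <;> simp
      meet := by
        intro x hx hx2 hxu
        obtain ⟨y, rfl⟩ := hsurj x hx
        rw [hφo] at hx2
        obtain ⟨k, hk1, hk2⟩ := meet hx2 (hcm hxu)
        refine ⟨φ k, hφH k, hk1.map φ, ?_⟩
        rw [← map_inv, ← map_mul, ← map_mul]
        exact hk2.map φ
      pair := by
        intro x hx hx2 hxt hxu htx
        obtain ⟨y, rfl⟩ := hsurj x hx
        rw [hφo] at hx2
        rw [← map_mul] at htx
        rcases pair hx2 (hcm hxt) (hcm hxu) with h | h | h | h | h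
        · exact Or.inl (hφc h)
        · exact Or.inr (Or.inl (by rw [← map_mul]; exact hφc h))
        · exact Or.inr (Or.inr (Or.inl (by rw [h])))
        · exact Or.inr (Or.inr (Or.inr (by rw [h, map_mul])))
        · exact absurd htx (htnu _ h)
      coset := by
        intro x hx hxu hxu' hxV hx2
        obtain ⟨y, rfl⟩ := hsurj x hx
        rw [← hV] at hxV hx2 ⊢
        rw [← map_mul, Subgroup.mem_map_iff_mem hinj] at hx2
        rw [Subgroup.mem_map_iff_mem hinj] at hxV
        obtain ⟨v, hv, h⟩ := coset (hcm hxu) (hcm hxu') hxV hx2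
        exact ⟨φ v, Subgroup.mem_map_of_mem φ hv, by rw [← map_mul]; exact hφc h⟩
      cardH := by
        rw [← card_K0, ← card_map_subtype e, map_cent_pair e]
        rfl
      cardT := by
        rw [← card_TK0, ← card_map_subtype e, ← hφ, Subgroup.map_inf _ _ φ hinj, hφ,
          map_cent, map_cent_pair,
          show H ⊓ Subgroup.centralizer ({((e T : H) : G)} : Set G) =
            Subgroup.centralizer ({φ T} : Set G) from inf_eq_right.mpr htH, ← inf_assoc,
          inf_eq_left.mpr htH]
        rfl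
      exL := by
        obtain ⟨L, hLK, hVL, hL, hLx⟩ := exists_L
        refine ⟨L.map φ, ?_, hV ▸ Subgroup.map_mono hVL, by rw [card_map_subtype, hL], ?_⟩
        · exact (Subgroup.map_mono hLK).trans_eq (map_cent_pair e)
        · rintro _ ⟨x, hx, rfl⟩ h15
          rw [← hV, ← map_pow] at h15 ⊢
          rw [Subgroup.mem_map_iff_mem hinj] at h15
          rw [← map_pow]
          exact (hLx x hx h15).imp (Subgroup.mem_map_of_mem φ) (Subgroup.mem_map_of_mem φ) }
  exact F.eq_top

/-- A finite group with such a subgroup is isomorphic to He. -/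
theorem iso_of_he_subgroup (e : Cfsg.Spor.He ≃* H) {t₀ : G}
    (ht₀ : orderOf t₀ = 2) (hle : Subgroup.centralizer ({t₀} : Set G) ≤ H)
    (hcard : Nat.card (Subgroup.centralizer ({t₀} : Set G)) = 21504) :
    Nonempty (G ≃* Cfsg.Spor.He) :=
  ⟨((e.trans (MulEquiv.subgroupCongr (eq_top_of_he_subgroup e ht₀ hle hcard))).trans
    Subgroup.topEquiv).symm⟩

end CfsgLib.HeldEnd.HeF
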